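import Cfsg.Agent.S5160
import Cfsg.Agent.Lib.FusionSystem.Inner
import Cfsg.Agent.Lib.FusionSystem.Group
import Mathlib

/-!
A simplicity criterion for the fusion system of a group: a family of normal subgroups of the Sylow subgroup
behaving like the unipotent radicals of the minimal parabolic subgroups.
-/

set_option autoImplicit false
set_option linter.style.haveILetI false

namespace CfsgLib.PGroup.FusionCriterion

open Subgroup Cfsg CfsgLib.Fsys Cfsg.FusionSystem

variable {G : Type*} [Group G] [Finite G] {p : ℕ} [Fact p.Prime]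

/-- The subgroup generated by the `p`-elements normalizing `R`. -/
def pNormalizer (p : ℕ) (R : Subgroup G) : Subgroup G :=
  closure {g : G | g ∈ normalizer (R : Set G) ∧ ∃ k : ℕ, orderOf g = p ^ k}

theorem le_pNormalizer {R S : Subgroup G} (hS : IsPGroup p S) (hn : S ≤ normalizer (R : Set G)) :
    S ≤ pNormalizer p R := fun g hg => by
  obtain ⟨k, hk⟩ := IsPGroup.iff_orderOf.1 hS ⟨g, hg⟩
  exact subset_closure ⟨hn hg, k, by rw [← Subgroup.orderOf_coe] at hk; exact hk⟩

/-- A subgroup normal in the Sylow subgroup containing its centralizer is centric. -/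
theorem isCentric_of {S : Sylow p G} {R : Subgroup G} (hle : R ≤ S)
    (hcent : centralizer (R : Set G) ≤ R) :
    (groupFusionSystem (S : Subgroup G)).IsCentric R := by
  refine ⟨hle, fun Q hQ => ?_⟩
  obtain ⟨-, -, g, rfl⟩ := group_isConj_iff.1 hQ
  intro x hx
  refine ⟨g⁻¹ * x * g, hcent ?_, by simp [mul_assoc]⟩
  rw [mem_centralizer_iff]
  intro r hr
  have h := mem_centralizer_iff.1 hx.2 (g * r * g⁻¹) ⟨r, hr, rfl⟩
  calc r * (g⁻¹ * x * g) = g⁻¹ * (g * r * g⁻¹ * x) * g := by group
    _ = g⁻¹ * (x * (g * r * g⁻¹)) * g := by rw [h]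
    _ = g⁻¹ * x * g * r := by group

/-- The radical condition. -/
theorem isRadical_of {S : Sylow p G} {R : Subgroup G} (hle : R ≤ S)
    (hnorm : (S : Subgroup G) ≤ normalizer (R : Set G)) (hcent : centralizer (R : Set G) ≤ R)
    (hw : ∃ w ∈ normalizer (R : Set G), ∀ x ∈ (S : Subgroup G), w⁻¹ * x * w ∈ (S : Subgroup G) → x ∈ R) :
    (groupFusionSystem (S : Subgroup G)).IsRadical p R := by
  obtain ⟨w, hwN, hwR⟩ := hw
  refine ⟨hle, ?_⟩
  rw [group_autGroup hle, autInducedBy_top]
  set φ := R.normalizerMonoidHom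
  set Q := (pCore p φ.range).comap φ.rangeRestrict
  have hker : IsPGroup p φ.rangeRestrict.ker := by
    rw [MonoidHom.ker_rangeRestrict, R.normalizerMonoidHom_ker]
    exact IsPGroup.comap_of_injective (S.2.to_le (hcent.trans hle)) _ Subtype.val_injective
  have hQp : IsPGroup p Q := (CfsgLib.Solvable.Cores.isPGroup_pCore p).comap_of_ker_isPGroup _ hker
  have hQS : ∀ g ∈ Q, (g : G) ∈ (S : Subgroup G) := fun g hg => by
    have := hQp.le_sylow_of_normal (S.subtype hnorm) hg
    exact this
  have hQR : ∀ g ∈ Q, (g : G) ∈ R := by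
    intro g hg
    refine hwR _ (hQS g hg) ?_
    have := hQS _ ((inferInstance : Q.Normal).conj_mem g hg ⟨w, hwN⟩⁻¹)
    simpa using this
  refine le_antisymm ?_ ?_
  · rintro _ ⟨a, ha, rfl⟩
    obtain ⟨g, rfl⟩ := φ.rangeRestrict_surjective a
    exact ⟨⟨g, hQR g ha⟩, MulEquiv.ext fun x => Subtype.ext rfl⟩
  · rintro _ ⟨r, rfl⟩
    have hrN : (r : G) ∈ normalizer (R : Set G) := R.le_normalizer r.2
    refine ⟨φ.rangeRestrict ⟨r, hrN⟩, ?_, MulEquiv.ext fun x => Subtype.ext rfl⟩
    have hn : (R.subgroupOf (normalizer (R : Set G))).Normal := Subgroup.normal_in_normalizer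
    exact @CfsgLib.Solvable.Cores.le_pCore _ _ p _ (hn.map _ φ.rangeRestrict_surjective)
      ((IsPGroup.comap_of_injective (S.2.to_le hle) _ Subtype.val_injective).map _) _
      (mem_map_of_mem _ (show (⟨r, hrN⟩ : normalizer (R : Set G)) ∈ R.subgroupOf _ from r.2))

/-- The criterion. -/
theorem isSimple_of_family (S : Sylow p G) (hS1 : (S : Subgroup G) ≠ ⊥)
    (ha : ∀ T ≤ (S : Subgroup G), T ≠ ⊥ →
      (∀ g x : G, x ∈ T → g * x * g⁻¹ ∈ (S : Subgroup G) → g * x * g⁻¹ ∈ T) → (S : Subgroup G) ≤ T)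
    {ι : Type*} [Nonempty ι] (R : ι → Subgroup G) (hle : ∀ k, R k ≤ S)
    (hnorm : ∀ k, (S : Subgroup G) ≤ normalizer (R k : Set G)) (hcent : ∀ k, centralizer (R k : Set G) ≤ R k)
    (hw : ∀ k, ∃ w ∈ normalizer (R k : Set G), ∀ x ∈ (S : Subgroup G),
      w⁻¹ * x * w ∈ (S : Subgroup G) → x ∈ R k)
    (hgen : normalizer ((S : Subgroup G) : Set G) ≤
      closure (((S : Subgroup G) : Set G) ∪
        {g | g ∈ normalizer ((S : Subgroup G) : Set G) ∧ ∃ k, g ∈ pNormalizer p (R k)})) :
    (groupFusionSystem (S : Subgroup G)).IsSimple p := by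
  refine Cfsg.Agent.S5160.result p S hS1 (fun T hT => ?_) ?_
  · refine or_iff_not_imp_left.2 fun hne => le_antisymm hT.1 (ha T hT.1 hne fun g x hx hgx => ?_)
    obtain ⟨φ, hφ, he⟩ := fn_group_conj (S := (S : Subgroup G)) (P := zpowers x)
      ((zpowers_le.2 hx).trans hT.1) g (fun y hy => by
        obtain ⟨i, rfl⟩ := mem_zpowers_iff.1 hy
        rw [← conj_zpow]
        exact zpow_mem hgx i)
    have h := hT.2 (zpowers x) (zpowers_le.2 hx) φ hφ ⟨x, mem_zpowers x⟩
    rwa [he ⟨x, mem_zpowers x⟩] at h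
  · refine le_antisymm ?_ (iSup₂_le fun P _ α hα => ?_)
    · intro α hα
      obtain ⟨g, -, hg⟩ := mem_autInducedBy.1 hα
      have hgN := mem_normalizer_of_autEq hg
      have hα' : α = conjAut (S : Subgroup G) hgN := MulEquiv.ext fun x => Subtype.ext (hg x)
      subst hα'
      clear hg hα
      set A := ⨆ (P : Subgroup G) (_ : (groupFusionSystem (S : Subgroup G)).IsFullyNormalized P ∧
        (groupFusionSystem (S : Subgroup G)).IsRadical p P ∧ (groupFusionSystem (S : Subgroup G)).IsCentric P),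
        autInducedBy (closure {g : G | g ∈ normalizer (P : Set G) ∧ ∃ k : ℕ, orderOf g = p ^ k}) (S : Subgroup G)
        with hA
      have hmem : ∀ (k : ι) (x : G) (hx : x ∈ normalizer ((S : Subgroup G) : Set G)),
          x ∈ pNormalizer p (R k) → conjAut (S : Subgroup G) hx ∈ A := by
        intro k x hx hxk
        have hfn : (groupFusionSystem (S : Subgroup G)).IsFullyNormalized (R k) := by
          refine ⟨hle k, fun Q hQ => ?_⟩
          rw [show normalizerIn (S : Subgroup G) (R k) = (S : Subgroup G) from inf_eq_left.2 (hnorm k)]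
          exact card_le_of_le inf_le_left
        rw [hA]
        exact le_iSup₂ (f := fun (P : Subgroup G) (_ : (groupFusionSystem (S : Subgroup G)).IsFullyNormalized P ∧
          (groupFusionSystem (S : Subgroup G)).IsRadical p P ∧ (groupFusionSystem (S : Subgroup G)).IsCentric P) =>
          autInducedBy (closure {g : G | g ∈ normalizer (P : Set G) ∧ ∃ k : ℕ, orderOf g = p ^ k}) (S : Subgroup G))
          (R k) ⟨hfn, isRadical_of (hle k) (hnorm k) (hcent k) (hw k), isCentric_of (hle k) (hcent k)⟩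
          (conjAut_mem_autInducedBy hx hxk)
      have hsub : closure (((S : Subgroup G) : Set G) ∪
          {g | g ∈ normalizer ((S : Subgroup G) : Set G) ∧ ∃ k, g ∈ pNormalizer p (R k)}) ≤
          (A.comap (S : Subgroup G).normalizerMonoidHom).map (normalizer ((S : Subgroup G) : Set G)).subtype := by
        rw [closure_le]
        rintro x (hx | ⟨hx, k, hk⟩)
        · obtain ⟨k⟩ := (inferInstance : Nonempty ι)
          exact ⟨⟨x, (S : Subgroup G).le_normalizer hx⟩,
            hmem k x ((S : Subgroup G).le_normalizer hx) (le_pNormalizer S.2 (hnorm k) hx), rfl⟩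
        · exact ⟨⟨x, hx⟩, hmem k x hx hk, rfl⟩
      obtain ⟨y, hy, hyg⟩ := hsub (hgen hgN)
      have : y = ⟨g, hgN⟩ := Subtype.ext hyg
      subst this
      exact hy
    · obtain ⟨g, -, hg⟩ := mem_autInducedBy.1 hα
      exact mem_autInducedBy.2 ⟨g, trivial, hg⟩

end CfsgLib.PGroup.FusionCriterion
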