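import Cfsg.Agent.Lib.PGroup.UnitriangularSL
import Cfsg.Agent.Lib.PGroup.FusionCriterion
import Cfsg.Agent.Lib.Solvable.FrattiniFitting
import Cfsg.Agent.Lib.Coprime.SchurZassenhaus
import Mathlib

/-!
The fusion system of `PSL_n(q)` in the defining characteristic is simple.
-/

set_option autoImplicit false
set_option linter.style.haveILetI false

namespace CfsgLib.PGroup.FusionPSL

open Subgroup CfsgLib.PGroup.UnitriangularSL CfsgLib.PGroup.FusionCriterion

variable {F : Type*} [Field F] [Fintype F] {n : ℕ} {p : ℕ} [Fact p.Prime] [CharP F p]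

local notation "SLn" => Matrix.SpecialLinearGroup (Fin n) F

/-- A central element of `p`-power order is trivial. -/
theorem eq_one_of_central {z : SLn} (hz : z ∈ center SLn) {k : ℕ} (hk : z ^ p ^ k = 1) : z = 1 := by
  rcases Nat.eq_zero_or_pos n with hn | hn
  · subst hn; exact Subsingleton.elim _ _
  obtain ⟨r, -, hrA⟩ := Matrix.SpecialLinearGroup.mem_center_iff.1 hz
  have h1 : (r ^ p ^ k - 1 : F) = 0 := by
    have h := congrArg (fun A : SLn => A.1 ⟨0, hn⟩ ⟨0, hn⟩) hk
    simp only [Matrix.SpecialLinearGroup.coe_pow, ← hrA, ← map_pow, Matrix.SpecialLinearGroup.coe_one] at h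
    simp [Matrix.scalar_apply] at h
    rw [h, sub_self]
  have h2 : (r - 1) ^ p ^ k = 0 := by rw [sub_pow_char_pow, one_pow, h1]
  have h3 : r = 1 := sub_eq_zero.1 (pow_eq_zero_iff (pow_ne_zero k (Fact.out : p.Prime).ne_zero) |>.1 h2)
  refine Subtype.ext ?_
  rw [← hrA, h3, map_one]
  rfl

variable {G : Type*} [Group G] [Finite G] {π : Matrix.SpecialLinearGroup (Fin n) F →* G}

/-- Lifting membership: an element of `p`-power order lying over the image of a subgroup of `U`. -/
theorem mem_of_map (hker : π.ker = center SLn) {Y : Subgroup SLn} (hY : Y ≤ U F n) {x : SLn}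
    (hx : ∃ k : ℕ, x ^ p ^ k = 1) (h : π x ∈ Y.map π) : x ∈ Y := by
  obtain ⟨u, hu, he⟩ := h
  obtain ⟨a, ha⟩ := hx
  obtain ⟨b, hb⟩ := U_isPGroup p ⟨u, hY hu⟩
  have hb' : u ^ p ^ b = 1 := congrArg Subtype.val hb
  set z := u⁻¹ * x
  have hz : z ∈ center SLn := by
    rw [← hker, MonoidHom.mem_ker, map_mul, map_inv, he, inv_mul_cancel]
  have hxz : x = u * z := (mul_inv_cancel_left u x).symm
  have hcomm : Commute u z := mem_center_iff.1 hz u
  have hzp : z ^ p ^ (a + b) = 1 := by
    have h1 : x ^ p ^ (a + b) = 1 := by rw [pow_add, pow_mul, ha, one_pow]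
    have h2 : u ^ p ^ (a + b) = 1 := by rw [add_comm, pow_add, pow_mul, hb', one_pow]
    rwa [hxz, hcomm.mul_pow, h2, one_mul] at h1
  rw [hxz, eq_one_of_central hz hzp, mul_one]
  exact hu

theorem conj_isP {u : SLn} (hu : u ∈ U F n) (A : SLn) : ∃ k : ℕ, (A * u * A⁻¹) ^ p ^ k = 1 := by
  obtain ⟨b, hb⟩ := U_isPGroup p ⟨u, hu⟩
  exact ⟨b, by rw [conj_pow, show u ^ p ^ b = 1 from congrArg Subtype.val hb, mul_one, mul_inv_cancel]⟩

/-- The image of `U` is a Sylow subgroup. -/
theorem exists_sylow (hπ : Function.Surjective π) :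
    ∃ P : Sylow p G, (P : Subgroup G) = (U F n).map π := by
  obtain ⟨P, hP⟩ := (U_isPGroup (F := F) (n := n) p).exists_le_sylow
  refine ⟨P.mapSurjective hπ, ?_⟩
  rw [Sylow.coe_mapSurjective]
  congr 1
  by_contra hne
  have hlt : U F n < (P : Subgroup SLn) := lt_of_le_of_ne hP (Ne.symm hne)
  haveI : Group.IsNilpotent (P : Subgroup SLn) := P.2.isNilpotent
  have hlt' : (U F n).subgroupOf P < ⊤ := lt_top_iff_ne_top.2 fun h => hlt.not_ge (subgroupOf_eq_top.1 h)
  obtain ⟨x, hxN, hxU⟩ := SetLike.exists_of_lt (Group.normalizerCondition_of_isNilpotent _ hlt')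
  refine hxU (show (x : SLn) ∈ U F n from ?_)
  have hnorm : ∀ u ∈ U F n, (x : SLn) * u * (x : SLn)⁻¹ ∈ U F n := fun u hu =>
    (mem_normalizer_iff.1 hxN ⟨u, hP hu⟩).1 hu
  obtain ⟨d, hd, u, hu, hAu⟩ := upper_eq (upper_of_normalizes hnorm)
  have hD : D d hd ∈ (P : Subgroup SLn) := by
    rw [← mul_inv_eq_iff_eq_mul.2 hAu]
    exact mul_mem x.2 (inv_mem (hP hu))
  obtain ⟨k, hk⟩ := P.2 ⟨_, hD⟩
  have hk' : (D d hd) ^ p ^ k = 1 := congrArg Subtype.val hk
  have hD1 : D d hd = 1 := by
    refine Subtype.ext ?_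
    show Matrix.diagonal (fun a => (d a : F)) = 1
    rw [← Matrix.diagonal_one]
    congr 1
    funext a
    have h1 : ((d a : F)) ^ p ^ k = 1 := by
      have h := congrArg (fun A : SLn => A.1 a a) hk'
      simp only [Matrix.SpecialLinearGroup.coe_pow, show (D d hd).1 = Matrix.diagonal (fun c => (d c : F)) from rfl,
        Matrix.diagonal_pow, Matrix.diagonal_apply_eq, Pi.pow_apply, Matrix.SpecialLinearGroup.coe_one,
        Matrix.one_apply_eq] at h
      exact h
    have h2 : ((d a : F) - 1) ^ p ^ k = 0 := by rw [sub_pow_char_pow, one_pow, h1, sub_self]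
    exact sub_eq_zero.1 (pow_eq_zero_iff (pow_ne_zero k (Fact.out : p.Prime).ne_zero) |>.1 h2)
  rw [hAu, hD1, one_mul]
  exact hu

theorem mem_normalizer_map {Y : Subgroup SLn} {A : SLn} (h : ∀ u ∈ Y, A * u * A⁻¹ ∈ Y) :
    π A ∈ normalizer ((Y.map π : Subgroup G) : Set G) := by
  refine CfsgLib.Coprime.mem_normalizer_of_conj_map_le ?_
  rintro _ ⟨u, hu, rfl⟩
  exact ⟨A * u * A⁻¹, h u hu, by simp⟩

/-- Simplicity. -/
theorem isSimple (hn : 3 ≤ n) (hπ : Function.Surjective π) (hker : π.ker = center SLn) (S : Sylow p G)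
    (hS : (S : Subgroup G) = (U F n).map π) : (Cfsg.groupFusionSystem (S : Subgroup G)).IsSimple p := by
  set o : Fin n := ⟨0, by omega⟩
  set L : Fin n := ⟨n - 1, by omega⟩
  have hoL : o < L := Fin.lt_def.2 (show 0 < n - 1 by omega)
  have hS1 : (S : Subgroup G) ≠ ⊥ := fun h => by
    have h1 : π (X hoL.ne (1 : F)) ∈ (S : Subgroup G) := hS ▸ mem_map_of_mem π (X_mem_U hoL 1)
    rw [h, mem_bot, ← MonoidHom.mem_ker, hker] at h1
    obtain ⟨b, hb⟩ := U_isPGroup p ⟨_, X_mem_U hoL (1 : F)⟩
    have h2 := eq_one_of_central h1 (congrArg Subtype.val hb :)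
    have h3 := congrArg (fun A : SLn => A.1 o L) h2
    simp [X_coe, Matrix.one_apply_ne hoL.ne] at h3
  let ι := {k : Fin n // (k : ℕ) + 1 < n}
  haveI : Nonempty ι := ⟨⟨o, show 0 + 1 < n by omega⟩⟩
  let nx : ι → Fin n := fun k => ⟨(k.1 : ℕ) + 1, k.2⟩
  let Y : ι → Subgroup SLn := fun k => UK k.1 (nx k) rfl
  have hYU : ∀ k, Y k ≤ U F n := fun k u hu => hu.1
  have hne : ∀ k, nx k ≠ k.1 := fun k e => by
    have := congrArg Fin.val e
    simp only [nx] at this
    omega
  refine isSimple_of_family S hS1 ?_ (fun k => (Y k).map π) (fun k => hS ▸ map_mono (hYU k)) ?_ ?_ ?_ ?_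
  · -- strongly closed subgroups
    intro T hT hT1 hcl
    rw [hS] at hT ⊢
    haveI : Group.IsNilpotent ((U F n).map π) := ((U_isPGroup p).map π).isNilpotent
    haveI : (T.subgroupOf ((U F n).map π)).Normal := ⟨fun x hx g => hcl g x hx (by
      rw [hS]; exact mul_mem (mul_mem g.2 x.2) (inv_mem g.2))⟩
    have hz := CfsgLib.Solvable.FrattiniFitting.inf_center_ne_bot (T.subgroupOf ((U F n).map π))
      (fun h => hT1 (by
        rw [subgroupOf_eq_bot] at h
        exact disjoint_self.1 (h.mono_right hT)))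
    obtain ⟨z, hz, hz1⟩ := (bot_or_exists_ne_one _).resolve_left hz
    obtain ⟨u, hu, huz⟩ := z.2
    have hcomm : ∀ v ∈ U F n, Commute u v := by
      intro v hv
      have h2 : π v * (z : G) = (z : G) * π v :=
        congrArg Subtype.val (mem_center_iff.1 hz.2 ⟨π v, mem_map_of_mem π hv⟩)
      rw [← huz, ← map_mul, ← map_mul] at h2
      have hk : (u * v)⁻¹ * (v * u) ∈ center SLn := by
        rw [← hker, MonoidHom.mem_ker, map_mul, map_inv, h2, inv_mul_cancel]
      obtain ⟨b, hb⟩ := U_isPGroup p ⟨_, mul_mem (inv_mem (mul_mem hu hv)) (mul_mem hv hu)⟩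
      exact inv_mul_eq_one.1 (eq_one_of_central hk (congrArg Subtype.val hb :))
    obtain ⟨c, hc0, hcT⟩ : ∃ c : F, c ≠ 0 ∧ π (X hoL.ne c) ∈ T := by
      have e := commute_U hu hcomm rfl (show n - 1 + 1 = n by omega) hoL
      refine ⟨u.1 o L, fun h0 => hz1 (Subtype.ext ?_), ?_⟩
      · rw [← huz, e, h0, show X hoL.ne (0 : F) = 1 from Subtype.ext (by rw [X_coe]; simp), map_one]
        rfl
      · rw [← e, huz]
        exact hz.1
    have hall : ∀ (i j : Fin n) (hij : i < j) (s : F), π (X hij.ne s) ∈ T := by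
      have hconj : ∀ (g : SLn) (i j : Fin n) (hij : i < j) (s : F) (x : SLn),
          g * x * g⁻¹ = X hij.ne s → π x ∈ T → π (X hij.ne s) ∈ T := by
        intro g i j hij s x e hx
        rw [← e, map_mul, map_mul, map_inv]
        refine hcl _ _ hx ?_
        rw [← map_inv, ← map_mul, ← map_mul, e, hS]
        exact mem_map_of_mem π (X_mem_U hij s)
      have hscale : ∀ s : F, π (X hoL.ne s) ∈ T := by
        intro s
        rcases eq_or_ne s 0 with rfl | hs
        · rw [show X hoL.ne (0 : F) = 1 from Subtype.ext (by rw [X_coe]; simp), map_one]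
          exact one_mem T
        set m : Fin n := ⟨1, by omega⟩
        have hom : o ≠ m := fun e => by have := congrArg Fin.val e; simp [o, m] at this
        have hLm : L ≠ m := fun e => by have := congrArg Fin.val e; simp [L, m] at this; omega
        set a : Fˣ := Units.mk0 (s / c) (div_ne_zero hs hc0)
        set d : Fin n → Fˣ := fun x => if x = o then a else if x = m then a⁻¹ else 1
        have hd : ∏ x, d x = 1 := by
          rw [← Finset.mul_prod_erase _ _ (Finset.mem_univ o),
            ← Finset.mul_prod_erase _ _ (Finset.mem_erase.2 ⟨hom.symm, Finset.mem_univ m⟩)]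
          rw [Finset.prod_eq_one fun x hx => by
            simp only [Finset.mem_erase] at hx
            simp [d, hx.1, hx.2.1]]
          simp [d, hom.symm]
        refine hconj (D d hd) o L hoL s _ ?_ hcT
        rw [D_conj_X]
        congr 1
        simp [d, hLm, hoL.ne', a, div_mul_cancel₀ _ hc0]
      intro i j hij s
      have hiL : i < L := Fin.lt_def.2 (show (i : ℕ) < n - 1 by omega)
      have h1 : π (X hiL.ne s) ∈ T := by
        rcases eq_or_ne o i with rfl | hoi
        · exact hscale s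
        · obtain ⟨g, hg⟩ := move_row (F := F) hoi hoL.ne hiL.ne s
          exact hconj g i L hiL s _ hg (hscale s)
      rcases eq_or_ne L j with rfl | hLj
      · exact h1
      · obtain ⟨g, hg⟩ := move_col (F := F) hiL.ne hLj hij.ne s
        exact hconj g i j hij s _ hg h1
    exact map_le_iff_le_comap.2 (U_le_of_roots _ fun i j hij s => hall i j hij s)
  · intro k
    rw [hS]
    rintro _ ⟨A, hA, rfl⟩
    exact mem_normalizer_map fun u hu => UK_conj hA hu
  · -- centralizers
    intro k g hg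
    obtain ⟨A, rfl⟩ := hπ g
    have hcomm : ∀ u ∈ Y k, Commute A u := by
      intro u hu
      have h1 := mem_centralizer_iff.1 hg (π u) (mem_map_of_mem π hu)
      have hmem : A * u * A⁻¹ ∈ zpowers u := by
        refine mem_of_map (p := p) hker ((zpowers_le.2 hu).trans (hYU k)) (conj_isP (hYU k hu) A) ?_
        rw [map_mul, map_mul, map_inv, ← h1, mul_inv_cancel_right]
        exact mem_map_of_mem π (mem_zpowers u)
      have hz : A * u * A⁻¹ * u⁻¹ ∈ center SLn := by
        rw [← hker, MonoidHom.mem_ker]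
        simp only [map_mul, map_inv, ← h1, mul_inv_cancel_right, mul_inv_cancel]
      obtain ⟨b, hb⟩ := U_isPGroup p ⟨_, mul_mem ((zpowers_le.2 (hYU k hu)) hmem) (inv_mem (hYU k hu))⟩
      exact mul_inv_eq_iff_eq_mul.1 (mul_inv_eq_one.1 (eq_one_of_central hz (congrArg Subtype.val hb :)))
    obtain ⟨z, hz, u, hu, rfl⟩ := commute_UK hn hcomm
    rw [map_mul, MonoidHom.mem_ker.1 (hker.ge hz), one_mul]
    exact mem_map_of_mem π hu
  · -- the involution-like element
    intro k
    refine ⟨π (X (hne k) (1 : F)), mem_normalizer_map fun u hu => UK_conj_lower (hne k) 1 hu, ?_⟩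
    rw [hS]
    rintro _ ⟨u, hu, rfl⟩ hconj
    refine mem_map_of_mem π (UK_of_conj_lower (hne k) hu ?_)
    rw [← map_inv, ← map_mul, ← map_mul] at hconj
    refine mem_of_map (p := p) hker le_rfl ?_ hconj
    have := conj_isP (p := p) hu (X (hne k) (1 : F))⁻¹
    rwa [inv_inv] at this
  · -- the normalizer
    intro g hg
    rw [hS] at hg ⊢
    obtain ⟨A, rfl⟩ := hπ g
    have hA : ∀ u ∈ U F n, A * u * A⁻¹ ∈ U F n := fun u hu =>
      mem_of_map (p := p) hker le_rfl (conj_isP hu A) (by
        rw [map_mul, map_mul, map_inv]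
        exact (mem_normalizer_iff.1 hg (π u)).1 (mem_map_of_mem π hu))
    obtain ⟨d, hd, u, hu, rfl⟩ := upper_eq (upper_of_normalizes hA)
    rw [map_mul]
    refine mul_mem ?_ (subset_closure (Or.inl (mem_map_of_mem π hu)))
    refine D_mem (Subgroup.comap π (closure _)) ?_ d hd
    intro k k' hk hkk c hc
    refine subset_closure (Or.inr ⟨?_, ⟨k, by omega⟩, ?_⟩)
    · refine mem_normalizer_map fun v hv a b hab => ?_
      set t := fun x => if x = k then c else if x = k' then c⁻¹ else 1
      have hinv : (Matrix.SpecialLinearGroup.diag2n hkk c hc)⁻¹ = Matrix.SpecialLinearGroup.diag2n hkk c⁻¹ (inv_ne_zero hc) := by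
        refine inv_eq_of_mul_eq_one_right (Subtype.ext ?_)
        rw [Matrix.SpecialLinearGroup.coe_mul, Matrix.SpecialLinearGroup.diag2n_coe,
          Matrix.SpecialLinearGroup.diag2n_coe, Matrix.diagonal_mul_diagonal, Matrix.SpecialLinearGroup.coe_one,
          ← Matrix.diagonal_one]
        congr 1
        funext x
        split_ifs <;> simp [hc]
      rw [hinv, Matrix.sub_apply, Matrix.SpecialLinearGroup.coe_mul, Matrix.SpecialLinearGroup.coe_mul,
        Matrix.SpecialLinearGroup.diag2n_coe, Matrix.SpecialLinearGroup.diag2n_coe, Matrix.mul_diagonal,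
        Matrix.diagonal_mul]
      rcases eq_or_ne a b with rfl | hab'
      · rw [U_diag hv, Matrix.one_apply_eq, mul_one, sub_eq_zero]
        split_ifs <;> simp [hc]
      · rw [U_below hv (Fin.lt_def.2 (by have := Fin.val_ne_of_ne hab'; omega)), mul_zero, zero_mul,
          Matrix.one_apply_ne hab', sub_zero]
    · set kk : ι := ⟨k, by omega⟩
      have hnx : nx kk = k' := Fin.ext hk.symm
      refine diag2n_mem ((pNormalizer p ((Y kk).map π)).comap π) hkk (fun c' => ?_) (fun c' => ?_) c hc
      · have hlt : k < k' := Fin.lt_def.2 (by omega)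
        refine le_pNormalizer ((U_isPGroup p).map π) ?_ (mem_map_of_mem π (X_mem_U hlt c'))
        rintro _ ⟨B, hB, rfl⟩
        exact mem_normalizer_map fun v hv => UK_conj hB hv
      · have hX : X hkk.symm c' = X (hne kk) c' := by congr 1; exact hnx.symm
        rw [hX]
        refine subset_closure ⟨mem_normalizer_map fun v hv => UK_conj_lower (hne kk) c' hv, ?_⟩
        have hp : (X (hne kk) c' : SLn) ^ p = 1 := by
          refine Subtype.ext ?_
          rw [Matrix.SpecialLinearGroup.coe_pow, X_coe, Matrix.SpecialLinearGroup.coe_one]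
          haveI : Nonempty (Fin n) := ⟨o⟩
          rw [show p = p ^ 1 from (pow_one p).symm, add_pow_char_pow_of_commute p 1 (Commute.one_left _), one_pow,
            pow_one, show p = (p - 2) + 2 by have := (Fact.out : p.Prime).two_le; omega, pow_add, sq,
            Matrix.single_mul_single_of_ne _ _ _ _ (hne kk).symm, mul_zero, add_zero]
        have hd' : orderOf (π (X (hne kk) c')) ∣ p := orderOf_dvd_of_pow_eq_one (by rw [← map_pow, hp, map_one])
        rcases (Nat.dvd_prime Fact.out).1 hd' with h | h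
        · exact ⟨0, h.trans (pow_zero p).symm⟩
        · exact ⟨1, h.trans (pow_one p).symm⟩

end CfsgLib.PGroup.FusionPSL
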