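import Cfsg.Agent.Lib.PGroup.BorelSpCentral
import Cfsg.Agent.Lib.PGroup.FusionCriterion
import Cfsg.Agent.Lib.Solvable.FrattiniFitting
import Cfsg.Agent.Lib.Coprime.SchurZassenhaus
import Mathlib

/-!
The fusion system of `PSp_{2m}(q)` in the defining characteristic is simple.
-/

set_option autoImplicit false
set_option linter.style.haveILetI false
set_option linter.unusedSectionVars false

namespace CfsgLib.PGroup.FusionSp

open Matrix CfsgLib.PGroup.UnitriangularSL CfsgLib.PGroup.BorelSp CfsgLib.PGroup.FusionCriterion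

section Transfer

variable {G₀ : Type*} [Group G₀] {G : Type*} [Group G] {p : ℕ} [Fact p.Prime] {π : G₀ →* G}

/-- Lifting membership along a central quotient without central elements of `p`-power order. -/
theorem mem_of_map (hker : π.ker = Subgroup.center G₀)
    (hz : ∀ z ∈ Subgroup.center G₀, ∀ k : ℕ, z ^ p ^ k = 1 → z = 1) {Y : Subgroup G₀} (hY : IsPGroup p Y)
    {x : G₀} (hx : ∃ k : ℕ, x ^ p ^ k = 1) (h : π x ∈ Y.map π) : x ∈ Y := by
  obtain ⟨u, hu, he⟩ := h
  obtain ⟨a, ha⟩ := hx
  obtain ⟨b, hb⟩ := hY ⟨u, hu⟩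
  have hb' : u ^ p ^ b = 1 := congrArg Subtype.val hb
  have hzc : u⁻¹ * x ∈ Subgroup.center G₀ := by
    rw [← hker, MonoidHom.mem_ker, map_mul, map_inv, he, inv_mul_cancel]
  have hxz : x = u * (u⁻¹ * x) := (mul_inv_cancel_left u x).symm
  have hcomm : Commute u (u⁻¹ * x) := Subgroup.mem_center_iff.1 hzc u
  have hzp : (u⁻¹ * x) ^ p ^ (a + b) = 1 := by
    have h1 : x ^ p ^ (a + b) = 1 := by rw [pow_add, pow_mul, ha, one_pow]
    have h2 : u ^ p ^ (a + b) = 1 := by rw [add_comm, pow_add, pow_mul, hb', one_pow]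
    rwa [hxz, hcomm.mul_pow, h2, one_mul] at h1
  rw [hxz, hz _ hzc _ hzp, mul_one]
  exact hu

theorem commute_of_centralizes (hker : π.ker = Subgroup.center G₀)
    (hz : ∀ z ∈ Subgroup.center G₀, ∀ k : ℕ, z ^ p ^ k = 1 → z = 1) {Y : Subgroup G₀} (hY : IsPGroup p Y)
    {c u : G₀} (hu : u ∈ Y) (hc : π u * π c = π c * π u) : Commute c u := by
  obtain ⟨k, hk⟩ := hY ⟨u, hu⟩
  have hk' : u ^ p ^ k = 1 := congrArg Subtype.val hk
  have hxp : (c * u * c⁻¹) ^ p ^ k = 1 := by rw [conj_pow, hk', mul_one, mul_inv_cancel]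
  have hmem : c * u * c⁻¹ ∈ Subgroup.zpowers u := by
    refine mem_of_map hker hz (hY.to_le (Subgroup.zpowers_le.2 hu)) ⟨k, hxp⟩ ?_
    rw [map_mul, map_mul, map_inv, ← hc, mul_inv_cancel_right]
    exact Subgroup.mem_map_of_mem π (Subgroup.mem_zpowers u)
  obtain ⟨i, hi⟩ := Subgroup.mem_zpowers_iff.1 hmem
  have hzc : c * u * c⁻¹ * u⁻¹ ∈ Subgroup.center G₀ := by
    rw [← hker, MonoidHom.mem_ker]
    simp only [map_mul, map_inv, ← hc, mul_inv_cancel_right, mul_inv_cancel]
  have hp1 : (c * u * c⁻¹ * u⁻¹) ^ p ^ k = 1 := by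
    have hcomm : Commute (c * u * c⁻¹) u⁻¹ := by rw [← hi]; exact ((Commute.refl u).zpow_left i).inv_right
    rw [hcomm.mul_pow, hxp, inv_pow, hk', inv_one, mul_one]
  exact mul_inv_eq_iff_eq_mul.1 (mul_inv_eq_one.1 (hz _ hzc _ hp1))

theorem mem_normalizer_map [Finite G] {Y : Subgroup G₀} {A : G₀} (h : ∀ u ∈ Y, A * u * A⁻¹ ∈ Y) :
    π A ∈ Subgroup.normalizer ((Y.map π : Subgroup G) : Set G) := by
  refine CfsgLib.Coprime.mem_normalizer_of_conj_map_le ?_
  rintro _ ⟨u, hu, rfl⟩
  exact ⟨A * u * A⁻¹, h u hu, by simp⟩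

end Transfer

variable {F : Type*} [Field F] [Fintype F] {m : ℕ} {p : ℕ} [Fact p.Prime] [CharP F p]

theorem exists_diag (g : Sp m F) (hg : b21 g = 0 ∧ ∀ a b : Fin m, b < a → b11 g a b = 0) :
    ∃ d : Fin m → Fˣ, ∃ u ∈ U0 F m, g = lev (diagGL d) * u := by
  obtain ⟨M, S, hS, he, hM⟩ := exists_lev_sy hg.1
  have h0 : ∀ a, M.1 a a ≠ 0 := fun a h => by
    have hdet := (M.isUnit.map Matrix.detMonoidHom).ne_zero
    refine hdet ?_
    show M.1.det = 0
    rw [hM, det_of_upperTriangular (fun a b (hab : b < a) => hg.2 a b hab)]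
    exact Finset.prod_eq_zero (Finset.mem_univ a) (hM ▸ h)
  refine ⟨fun a => Units.mk0 _ (h0 a), (lev (diagGL fun a => Units.mk0 _ (h0 a)))⁻¹ * g, ⟨?_, fun a b hab => ?_⟩,
    (mul_inv_cancel_left _ _).symm⟩
  · rw [← map_inv, (blocks_mul _ _).2.2.1, lev_b21, hg.1]; simp
  · rw [← map_inv, diagGL_inv, (blocks_mul _ _).1, lev_b11, lev_b12, Matrix.zero_mul, add_zero, diagGL_val,
      Matrix.sub_apply, diagonal_mul]
    rcases eq_or_ne a b with rfl | hne
    · simp [← hM, h0]
    · rw [Matrix.one_apply_ne hne, hg.2 a b (Fin.lt_def.2 (by have := Fin.val_ne_of_ne hne; omega))]; simp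

variable {G : Type*} [Group G] [Finite G] {π : ↥(Matrix.symplecticGroup (Fin m) F) →* G}

/-- The image of the unipotent subgroup is a Sylow subgroup. -/
theorem exists_sylow (hπ : Function.Surjective π) :
    ∃ P : Sylow p G, (P : Subgroup G) = (U0 F m).map π := by
  obtain ⟨P, hP⟩ := (U0_isPGroup (F := F) (m := m) p).exists_le_sylow
  refine ⟨P.mapSurjective hπ, ?_⟩
  rw [Sylow.coe_mapSurjective]
  congr 1
  by_contra hne
  have hlt : U0 F m < (P : Subgroup (Sp m F)) := lt_of_le_of_ne hP (Ne.symm hne)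
  haveI : Group.IsNilpotent (P : Subgroup (Sp m F)) := P.2.isNilpotent
  have hlt' : (U0 F m).subgroupOf P < ⊤ := lt_top_iff_ne_top.2 fun h => hlt.not_ge (Subgroup.subgroupOf_eq_top.1 h)
  obtain ⟨x, hxN, hxU⟩ := SetLike.exists_of_lt (Group.normalizerCondition_of_isNilpotent _ hlt')
  refine hxU (show (x : Sp m F) ∈ U0 F m from ?_)
  have hnorm : ∀ u ∈ U0 F m, (x : Sp m F)⁻¹ * u * (x : Sp m F) ∈ U0 F m := fun u hu => by
    have h := (Subgroup.mem_normalizer_iff.1 (inv_mem hxN) ⟨u, hP hu⟩).1 hu
    simpa [Subgroup.mem_subgroupOf] using h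
  obtain ⟨d, u, hu, hxu⟩ := exists_diag (x : Sp m F) (upper_of_normalizes hnorm)
  have hD : lev (diagGL d) ∈ (P : Subgroup (Sp m F)) := by
    rw [← mul_inv_eq_iff_eq_mul.2 hxu]
    exact mul_mem x.2 (inv_mem (hP hu))
  obtain ⟨k, hk⟩ := P.2 ⟨_, hD⟩
  have hk' : lev (diagGL d) ^ p ^ k = 1 := congrArg Subtype.val hk
  have hd1 : d = 1 := by
    funext a
    have h := congrArg (fun g : Sp m F => b11 g a a) hk'
    simp only [(b11_pow (lev_b21 _) _).1, lev_b11, diagGL_val, diagonal_pow, diagonal_apply_eq, Pi.pow_apply,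
      blocks_one.1, Matrix.one_apply_eq] at h
    have h2 : ((d a : F) - 1) ^ p ^ k = 0 := by rw [sub_pow_char_pow, one_pow, h, sub_self]
    exact Units.ext (sub_eq_zero.1 (pow_eq_zero_iff (pow_ne_zero k (Fact.out : p.Prime).ne_zero) |>.1 h2))
  rw [hxu, hd1, show diagGL (1 : Fin m → Fˣ) = 1 from Units.ext (by simp [diagGL_val]), map_one, one_mul]
  exact hu

omit [Fact p.Prime] [CharP F p] in
/-- Strongly closed subgroups. -/
theorem closed_top (hm : 2 ≤ m) (hex : m = 2 → 3 ≤ Fintype.card F) (T : Subgroup (Sp m F))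
    (hnorm : ∀ x ∈ T, ∀ u ∈ U0 F m, u * x * u⁻¹ ∈ T)
    (hcl : ∀ g x : Sp m F, x ∈ T → g * x * g⁻¹ ∈ U0 F m → g * x * g⁻¹ ∈ T)
    {z : Sp m F} (hzT : z ∈ T) (hz1 : z ≠ 1) (hzU : z ∈ U0 F m) (hzc : ∀ u ∈ U0 F m, Commute z u) :
    U0 F m ≤ T := by
  classical
  set o : Fin m := ⟨0, by omega⟩
  set o1 : Fin m := ⟨1, by omega⟩
  have ho : o < o1 := Fin.lt_def.2 (show 0 < 1 by omega)
  let SG : Matrix (Fin m) (Fin m) F → Prop := fun S => ∃ hS : Sᵀ = S, sy S hS ∈ T
  have hadd : ∀ {S R}, SG S → SG R → SG (S + R) := fun {S R} ⟨hS, h1⟩ ⟨hR, h2⟩ =>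
    ⟨by rw [transpose_add, hS, hR], by have := mul_mem h2 h1; rwa [sy_mul] at this⟩
  have hneg : ∀ {S}, SG S → SG (-S) := fun {S} ⟨hS, h1⟩ => ⟨by rw [transpose_neg, hS], by
    have h2 := inv_mem h1
    rwa [inv_eq_of_mul_eq_one_right (show sy S hS * sy (-S) (by rw [transpose_neg, hS]) = 1 by
      rw [sy_mul]; exact Subtype.ext (by show fromBlocks _ _ _ _ = 1; simp))] at h2⟩
  have hM : ∀ (M : GL (Fin m) F) {S}, SG S → SG (M.1 * S * M.1ᵀ) := fun M {S} ⟨hS, h1⟩ =>
    ⟨by simp [hS, Matrix.mul_assoc], by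
      have h := hcl (lev M) _ h1 (by rw [lev_conj_sy]; exact sy_mem_U0 _ _)
      rwa [lev_conj_sy] at h⟩
  have hsl : ∀ (N : Matrix.SpecialLinearGroup (Fin m) F) {S}, SG S → SG (N.1 * S * N.1ᵀ) := fun N {S} h =>
    hM (Matrix.SpecialLinearGroup.toGL N) h
  -- the effect of an elementary matrix
  have helem : ∀ (i j : Fin m) (t : F) (S : Matrix (Fin m) (Fin m) F),
      (1 + single i j t) * S * (1 + single i j t)ᵀ =
        S + (single i j t * S + S * single j i t + single i j t * S * single j i t) := by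
    intro i j t S
    rw [transpose_add, transpose_one, transpose_single]
    noncomm_ring
  have hdiff : ∀ {i j : Fin m} (hij : i ≠ j) (t : F) {S}, SG S →
      SG (single i j t * S + S * single j i t + single i j t * S * single j i t) := fun {i j} hij t {S} h => by
    have h1 := hadd (hsl (X hij t) h) (hneg h)
    rwa [X_coe, helem, add_neg_cancel_comm] at h1
  -- the central element
  obtain ⟨Nz, Sz, hSz, rfl, hNz, hNze⟩ := exists_levS_sy hzU
  have hA : ∀ i j : Fin m, i < j → b11 (levS Nz * sy Sz hSz) * single i j (1 : F) =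
      single i j 1 * b11 (levS Nz * sy Sz hSz) := fun i j hij => by
    have h := congrArg b11 (hzc _ (levS_mem_U0 (X_mem_U hij 1))).eq
    rw [(blocks_mul _ _).1, (blocks_mul (levS (X hij.ne (1 : F))) _).1, levS_b21, hzU.1, Matrix.mul_zero,
      Matrix.mul_zero, add_zero, add_zero, levS_b11, X_coe, Matrix.mul_add, Matrix.add_mul, Matrix.mul_one,
      Matrix.one_mul, add_right_inj] at h
    exact h
  have hN1 : Nz = 1 := by
    refine Subtype.ext (Matrix.ext fun a b => ?_)
    rcases eq_or_ne a b with rfl | hab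
    · rw [U_diag hNz]; exact (Matrix.one_apply_eq _).symm
    rw [Matrix.SpecialLinearGroup.coe_one, Matrix.one_apply_ne hab]
    rcases lt_or_gt_of_ne hab with hlt | hgt
    · by_cases ha : (a : ℕ) = 0
      · by_cases hb : (b : ℕ) + 1 = m
        · have h := (commute_sy (hzc _ (sy_mem_U0 (single b b 1) (sym_single b 1)))).2
          have h' := congrArg (fun M : Matrix (Fin m) (Fin m) F => M a b) h
          rw [hNze]
          simpa [mul_single', single_mul', hab] using h'
        · rw [hNze]
          have hbL : b < ⟨m - 1, by omega⟩ := Fin.lt_def.2 (show (b : ℕ) < m - 1 by omega)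
          exact (of_commute_single (hA b _ hbL)).1 a hab
      · rw [hNze]
        exact (of_commute_single (hA o a (Fin.lt_def.2 (show 0 < (a : ℕ) by omega)))).2.1 b hab.symm
    · exact U_below hNz hgt
  subst hN1
  rw [map_one, one_mul] at hzT hz1 hzc
  have hS0 : Sz ≠ 0 := fun h => hz1 (Subtype.ext (by show fromBlocks _ _ _ _ = 1; simp [h]))
  have hSc : ∀ (i j : Fin m) (hij : i < j) (t : F),
      single i j t * Sz + Sz * single j i t + single i j t * Sz * single j i t = 0 := fun i j hij t => by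
    have h := hzc _ (levS_mem_U0 (X_mem_U hij t))
    have h1 : lev (Matrix.SpecialLinearGroup.toGL (X hij.ne t)) * sy Sz hSz *
        (lev (Matrix.SpecialLinearGroup.toGL (X hij.ne t)))⁻¹ = sy Sz hSz := by
      rw [mul_inv_eq_iff_eq_mul]; exact h.eq.symm
    rw [lev_conj_sy] at h1
    have h2 := congrArg b12 h1
    rw [sy_b12, sy_b12] at h2
    have h3 : (X hij.ne t).1 * Sz * (X hij.ne t).1ᵀ = Sz := h2
    rw [X_coe, helem, add_eq_left] at h3
    exact h3
  have hrow : ∀ i j x : Fin m, i < j → x ≠ i → Sz j x = 0 := fun i j x hij hx => by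
    have h := congrArg (fun M : Matrix (Fin m) (Fin m) F => M i x) (hSc i j hij 1)
    simpa [single_mul', mul_single', hx, hx.symm, Matrix.add_apply, Matrix.single_apply] using h
  have hii : ∀ i j : Fin m, i < j → ∀ t : F, t * Sz j i + Sz i j * t + t * Sz j j * t = 0 := fun i j hij t => by
    have h := congrArg (fun M : Matrix (Fin m) (Fin m) F => M i i) (hSc i j hij t)
    simpa [single_mul', mul_single', Matrix.add_apply] using h
  have hsymm : ∀ x y, Sz x y = Sz y x := fun x y => by
    conv_lhs => rw [← hSz]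
    rfl
  set a₀ := Sz o o
  set b₀ := Sz o o1
  have hshape : Sz = single o o a₀ + (single o o1 b₀ + single o1 o b₀) := by
    have hz : ∀ x y : Fin m, 0 < (x : ℕ) → ((x : ℕ) ≠ 1 ∨ y ≠ o) → Sz x y = 0 := by
      intro x y hx hor
      rcases eq_or_ne y o with rfl | hy
      · have hx2 : (x : ℕ) ≠ 1 := hor.resolve_right (fun h => h rfl)
        exact hrow o1 x o (Fin.lt_def.2 (show 1 < (x : ℕ) by omega)) ho.ne
      · exact hrow o x y (Fin.lt_def.2 hx) hy
    ext x y
    simp only [Matrix.add_apply, Matrix.single_apply]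
    rcases eq_or_ne x o with rfl | hx
    · rcases eq_or_ne y o with rfl | hy
      · simp [a₀, ho.ne, ho.ne']
      · rcases eq_or_ne y o1 with rfl | hy1
        · simp [b₀, ho.ne, ho.ne']
        · have hy0 : 0 < (y : ℕ) := Nat.pos_of_ne_zero fun e => hy (Fin.ext e)
          have := hz y o hy0 (Or.inl fun e => hy1 (Fin.ext e))
          rw [hsymm, this]
          simp [Ne.symm hy, Ne.symm hy1, ho.ne']
    · have hx0 : 0 < (x : ℕ) := Nat.pos_of_ne_zero fun e => hx (Fin.ext e)
      by_cases hcase : x = o1 ∧ y = o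
      · obtain ⟨rfl, rfl⟩ := hcase
        rw [hsymm]
        simp [b₀, ho.ne, ho.ne']
      · rw [hz x y hx0 (by
          rcases eq_or_ne x o1 with rfl | hx1
          · exact Or.inr fun e => hcase ⟨rfl, e⟩
          · exact Or.inl fun e => hx1 (Fin.ext e))]
        simp [Ne.symm hx]
        exact fun h1 h2 => absurd ⟨h1.symm, h2.symm⟩ hcase
  have hSS : SG Sz := ⟨hSz, hzT⟩
  -- permutation matrices
  have hperm : ∀ (σ : Equiv.Perm (Fin m)) {S}, SG S → SG (S.submatrix σ σ) := by
    intro σ S h
    let P : GL (Fin m) F := ⟨(1 : Matrix (Fin m) (Fin m) F).submatrix σ id, (1 : Matrix (Fin m) (Fin m) F).submatrix id σ,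
      by rw [← Matrix.submatrix_mul _ _ σ id σ Function.bijective_id, Matrix.one_mul, Matrix.submatrix_one_equiv],
      by
        rw [← Matrix.submatrix_mul (1 : Matrix (Fin m) (Fin m) F) 1 id σ id σ.bijective, Matrix.one_mul,
          Matrix.submatrix_id_id]⟩
    have h1 := hM P h
    rwa [show P.1 * S * P.1ᵀ = S.submatrix σ σ from by
      show (1 : Matrix (Fin m) (Fin m) F).submatrix σ id * S * ((1 : Matrix (Fin m) (Fin m) F).submatrix σ id)ᵀ = _
      ext x y
      simp [Matrix.mul_apply, Matrix.one_apply]] at h1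
  have hswap : ∀ (i j : Fin m) {t : F}, SG (single i i t) → SG (single j j t) := by
    intro i j t h
    have := hperm (Equiv.swap i j) h
    rwa [show (single i i t).submatrix (Equiv.swap i j) (Equiv.swap i j) = single j j t from by
      ext x y
      simp only [Matrix.submatrix_apply, Matrix.single_apply]
      have key : ∀ x, (i = Equiv.swap i j x) ↔ (j = x) := fun x => by
        rw [eq_comm, Equiv.swap_apply_eq_iff, Equiv.swap_apply_left, eq_comm]
      simp only [key]] at this
  -- from a long root element to a short one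
  have hlong : ∀ a : F, a ≠ 0 → SG (single o o a) → SG (single o1 o a + single o o1 a) := by
    intro a _ h
    have h1 := hdiff ho.ne' (1 : F) h
    have h2 := hswap o o1 h
    have h3 := hadd h1 (hneg h2)
    rwa [show single o1 o (1 : F) * single o o a + single o o a * single o o1 (1 : F) +
        single o1 o (1 : F) * single o o a * single o o1 (1 : F) + -single o1 o1 a =
        single o1 o a + single o o1 a from by simp [single_mul_single_same]] at h3
  -- a short root element
  obtain ⟨i, j, b, hij, hb, hshort⟩ :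
      ∃ i j : Fin m, ∃ b : F, i ≠ j ∧ b ≠ 0 ∧ SG (single i j b + single j i b) := by
    rcases eq_or_ne b₀ 0 with hb0 | hb0
    · have ha0 : a₀ ≠ 0 := fun h => hS0 (by rw [hshape, h, hb0]; simp)
      refine ⟨o1, o, a₀, ho.ne', ha0, hlong a₀ ha0 ?_⟩
      rwa [hshape, hb0, single_zero, single_zero, add_zero, add_zero] at hSS
    rcases Nat.lt_or_ge m 3 with hm3 | hm3
    · have hm2 : m = 2 := by omega
      have h2 : (2 : F) * b₀ = 0 := by
        have h := hii o o1 ho 1
        have h11 : Sz o1 o1 = 0 := by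
          rw [hshape]; simp [ho.ne]
        rw [h11, hsymm o1 o] at h
        linear_combination h
      have hchar : (2 : F) = 0 := (mul_eq_zero.1 h2).resolve_right hb0
      obtain ⟨l, hl0, hl1⟩ : ∃ l : Fˣ, l ≠ 1 ∧ (l : F) ^ 2 ≠ 1 := by
        have h3 := hex hm2
        haveI : Fintype Fˣ := Fintype.ofFinite _
        obtain ⟨l, hl⟩ := Fintype.exists_ne_of_one_lt_card (α := Fˣ) (by rw [← Nat.card_eq_fintype_card, Nat.card_units, Nat.card_eq_fintype_card]; omega) 1
        refine ⟨l, hl, fun e => hl (Units.ext ?_)⟩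
        have e2 : ((l : F) - 1) ^ 2 = 0 := by linear_combination e - ((l : F) - 1) * hchar
        exact sub_eq_zero.1 (pow_eq_zero_iff (n := 2) (by norm_num) |>.1 e2)
      set d : Fin m → Fˣ := fun x => if x = o then l else if x = o1 then l⁻¹ else 1
      have h1 := hadd (hM (diagGL d) hSS) (hneg hSS)
      have e : (diagGL d).1 * Sz * (diagGL d).1ᵀ + -Sz = single o o (a₀ * ((l : F) ^ 2 - 1)) := by
        rw [diagGL_val, diagonal_transpose]
        ext x y
        rw [Matrix.add_apply, Matrix.neg_apply, mul_diagonal, diagonal_mul]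
        conv_lhs => rw [hshape]
        simp only [Matrix.add_apply, Matrix.single_apply, d]
        by_cases hx : x = o
        · subst hx
          by_cases hy : y = o
          · subst hy; simp [ho.ne, ho.ne']; ring
          · by_cases hy1 : y = o1
            · subst hy1; simp [ho.ne, ho.ne']
              field_simp
              ring
            · simp [Ne.symm hy, Ne.symm hy1, ho.ne']
        · by_cases hx1 : x = o1
          · subst hx1
            by_cases hy : y = o
            · subst hy; simp [ho.ne, ho.ne']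
              field_simp
              ring
            · simp [Ne.symm hy, ho.ne, ho.ne']
          · simp [Ne.symm hx, Ne.symm hx1]
      rw [e] at h1
      rcases eq_or_ne a₀ 0 with ha0 | ha0
      · refine ⟨o, o1, b₀, ho.ne, hb0, ?_⟩
        rwa [hshape, ha0, single_zero, zero_add] at hSS
      · exact ⟨o1, o, _, ho.ne', mul_ne_zero ha0 (sub_ne_zero.2 hl1),
          hlong _ (mul_ne_zero ha0 (sub_ne_zero.2 hl1)) h1⟩
    · set o2 : Fin m := ⟨2, by omega⟩
      have h12 : o1 ≠ o2 := fun e => by have := congrArg Fin.val e; simp [o1, o2] at this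
      have h02 : o ≠ o2 := fun e => by have := congrArg Fin.val e; simp [o, o2] at this
      refine ⟨o2, o, b₀, h02.symm, hb0, ?_⟩
      have h1 := hdiff h12.symm (1 : F) hSS
      rwa [show single o2 o1 (1 : F) * Sz + Sz * single o1 o2 (1 : F) +
          single o2 o1 (1 : F) * Sz * single o1 o2 (1 : F) = single o2 o b₀ + single o o2 b₀ from by
        rw [hshape]
        simp [Matrix.mul_add, Matrix.add_mul, single_mul_single_same, ho.ne, ho.ne', single_mul_single_of_ne]] at h1
  -- all short root elements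
  have hallshort : ∀ (x y : Fin m), x ≠ y → ∀ c : F, SG (single x y c + single y x c) := by
    intro x y hxy c
    rcases eq_or_ne c 0 with rfl | hc
    · have := hadd hSS (hneg hSS); simpa using this
    obtain ⟨σ, hσx, hσy⟩ : ∃ σ : Equiv.Perm (Fin m), σ x = i ∧ σ y = j := by
      refine ⟨(Equiv.swap (Equiv.swap x i y) j) * Equiv.swap x i, ?_, ?_⟩
      · rw [Equiv.Perm.mul_apply, Equiv.swap_apply_left, Equiv.swap_apply_of_ne_of_ne]
        · intro e
          have := congrArg (Equiv.swap x i) e
          rw [Equiv.swap_apply_self, Equiv.swap_apply_right] at this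
          exact hxy this
        · exact hij
      · rw [Equiv.Perm.mul_apply, Equiv.swap_apply_left]
    have h1 := hperm σ hshort
    have e1 : (single i j b + single j i b).submatrix σ σ = single x y b + single y x b := by
      ext u v
      simp only [Matrix.submatrix_apply, Matrix.add_apply, Matrix.single_apply, ← hσx, ← hσy, σ.injective.eq_iff]
    rw [e1] at h1
    set l : Fˣ := Units.mk0 (c / b) (div_ne_zero hc hb)
    have h2 := hM (diagGL (Pi.mulSingle x l)) h1
    rwa [show (diagGL (Pi.mulSingle x l)).1 * (single x y b + single y x b) * (diagGL (Pi.mulSingle x l)).1ᵀ =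
        single x y c + single y x c from by
      rw [diagGL_val, diagonal_transpose]
      ext u v
      rw [mul_diagonal, diagonal_mul]
      simp only [Matrix.add_apply, Matrix.single_apply]
      by_cases h3 : x = u ∧ y = v
      · obtain ⟨rfl, rfl⟩ := h3
        simp [hxy, hxy.symm, l]
        field_simp
      · by_cases h4 : y = u ∧ x = v
        · obtain ⟨rfl, rfl⟩ := h4
          simp [hxy, hxy.symm, l]
          field_simp
        · simp [h3, h4]] at h2
  -- the short root elements in the Levi subgroup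
  have hlevX : ∀ (x y : Fin m) (hxy : x < y) (c : F), levS (X hxy.ne c) ∈ T := by
    intro x y hxy c
    let w : Matrix.SpecialLinearGroup (Fin 2) F := ⟨!![0, 1; -1, 0], by simp [Matrix.det_fin_two]⟩
    obtain ⟨hS', hmem⟩ := hallshort x y hxy.ne c
    have e : sl2At y w * sy (single x y c + single y x c) hS' = levS (X hxy.ne c) * sl2At y w := by
      refine Subtype.ext ?_
      rw [show levS (X hxy.ne c) = lev (Matrix.SpecialLinearGroup.toGL (X hxy.ne c)) from rfl]
      show fromBlocks _ _ _ _ * fromBlocks _ _ _ _ = fromBlocks _ _ _ _ * fromBlocks _ _ _ _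
      rw [fromBlocks_multiply, fromBlocks_multiply]
      rw [show ((Matrix.SpecialLinearGroup.toGL (X hxy.ne c))⁻¹).1ᵀ = 1 + single y x (-c) by
        rw [← map_inv, X_inv]
        show (X hxy.ne (-c)).1ᵀ = _
        rw [X_coe, transpose_add, transpose_one, transpose_single]]
      rw [show (Matrix.SpecialLinearGroup.toGL (X hxy.ne c)).1 = 1 + single x y c from X_coe _ _]
      simp only [w, Matrix.of_apply, Matrix.cons_val', Matrix.cons_val_zero, Matrix.cons_val_one, Matrix.cons_val_fin_one,
        fromBlocks_inj]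
      refine ⟨?_, ?_, ?_, ?_⟩ <;>
        simp [Matrix.mul_add, Matrix.add_mul, single_mul_single_same, hxy.ne, hxy.ne', single_mul_single_of_ne,
          ← Matrix.single_neg, Matrix.single_add] <;> abel
      all_goals exact hxy.ne
    have h := hcl (sl2At y w) _ hmem (by
      rw [e, mul_inv_cancel_right]; exact levS_mem_U0 (X_mem_U hxy c))
    rwa [e, mul_inv_cancel_right] at h
  -- long root elements
  have halllong : ∀ (x : Fin m) (a : F), SG (single x x a) := by
    intro x a
    refine hswap o x ?_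
    have hX := hlevX o o1 ho 1
    have hs := sym_single o1 a
    have h1 : levS (X ho.ne (1 : F)) * sy (single o1 o1 a) hs * (levS (X ho.ne (1 : F)))⁻¹ *
        (sy (single o1 o1 a) hs)⁻¹ ∈ T := by
      rw [mul_assoc, mul_assoc]
      refine mul_mem hX ?_
      rw [← mul_assoc]
      exact hnorm _ (inv_mem hX) _ (sy_mem_U0 _ _)
    rw [show levS (X ho.ne (1 : F)) = lev (Matrix.SpecialLinearGroup.toGL (X ho.ne (1 : F))) from rfl, lev_conj_sy] at h1
    have hsum : SG ((X ho.ne (1 : F)).1 * single o1 o1 a * (X ho.ne (1 : F)).1ᵀ + -single o1 o1 a) := by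
      refine ⟨by rw [transpose_add, transpose_neg, transpose_mul, transpose_mul, transpose_transpose, sym_single, Matrix.mul_assoc], ?_⟩
      rw [inv_eq_of_mul_eq_one_right (show sy (single o1 o1 a) hs * sy (-single o1 o1 a) (by rw [transpose_neg, hs]) = 1 by
        rw [sy_mul]; exact Subtype.ext (by show fromBlocks _ _ _ _ = 1; simp)), sy_mul] at h1
      rwa [sy_congr (add_comm _ _)] 
    rw [X_coe, helem, add_neg_cancel_comm] at hsum
    have h2 := hadd hsum (hneg (hallshort o o1 ho.ne a))
    rwa [show single o o1 (1 : F) * single o1 o1 a + single o1 o1 a * single o1 o (1 : F) +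
        single o o1 (1 : F) * single o1 o1 a * single o1 o (1 : F) + -(single o o1 a + single o1 o a) = single o o a from by
      simp [single_mul_single_same]; abel] at h2
  intro u hu
  obtain ⟨N, S, hS, rfl, hN, -⟩ := exists_levS_sy hu
  refine mul_mem ?_ ?_
  · exact (U_le_of_roots (T.comap levS) fun x y hxy c => hlevX x y hxy c) hN
  · have hSGS : SG S := by
      have e : S = ∑ x, single x x (S x x) +
          ∑ q ∈ (Finset.univ : Finset (Fin m × Fin m)).filter (fun q => q.1 < q.2),
            (single q.1 q.2 (S q.1 q.2) + single q.2 q.1 (S q.1 q.2)) := by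
        ext u v
        simp only [Matrix.add_apply, Matrix.sum_apply, Finset.sum_add_distrib]
        rcases lt_trichotomy u v with h | rfl | h
        · rw [Finset.sum_eq_zero (s := Finset.univ) (fun x _ => by
            rw [Matrix.single_apply, if_neg (fun e => h.ne (e.1.symm.trans e.2))]), zero_add,
            Finset.sum_eq_single (u, v), Finset.sum_eq_zero, Matrix.single_apply, if_pos ⟨rfl, rfl⟩, add_zero]
          · intro q hq
            rw [Matrix.single_apply, if_neg]
            rintro ⟨e1, e2⟩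
            rw [Finset.mem_filter, e1, e2] at hq
            exact absurd hq.2 h.not_gt
          · intro q _ hq
            rw [Matrix.single_apply, if_neg]
            rintro ⟨e1, e2⟩
            exact hq (Prod.ext e1 e2)
          · simp [h]
        · rw [Finset.sum_eq_single u, Finset.sum_eq_zero, Finset.sum_eq_zero, Matrix.single_apply, if_pos ⟨rfl, rfl⟩,
            add_zero, add_zero]
          · intro q hq
            rw [Matrix.single_apply, if_neg]
            rintro ⟨e1, e2⟩
            rw [Finset.mem_filter, e1, e2] at hq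
            exact lt_irrefl _ hq.2
          · intro q hq
            rw [Matrix.single_apply, if_neg]
            rintro ⟨e1, e2⟩
            rw [Finset.mem_filter, e1, e2] at hq
            exact lt_irrefl _ hq.2
          · intro x _ hx
            rw [Matrix.single_apply, if_neg (fun e => hx e.1)]
          · simp
        · rw [Finset.sum_eq_zero (s := Finset.univ) (fun x _ => by
            rw [Matrix.single_apply, if_neg (fun e => h.ne' (e.1.symm.trans e.2))]), zero_add,
            Finset.sum_eq_zero, zero_add, Finset.sum_eq_single (v, u), Matrix.single_apply, if_pos ⟨rfl, rfl⟩]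
          · conv_lhs => rw [← hS]
            rfl
          · intro q _ hq
            rw [Matrix.single_apply, if_neg]
            rintro ⟨e1, e2⟩
            exact hq (Prod.ext e2 e1)
          · simp [h]
          · intro q hq
            rw [Matrix.single_apply, if_neg]
            rintro ⟨e1, e2⟩
            rw [Finset.mem_filter, e1, e2] at hq
            exact absurd hq.2 h.not_gt
      have h0 : SG 0 := by simpa using hadd hSS (hneg hSS)
      rw [e]
      exact hadd (Finset.sum_induction _ SG (fun _ _ => hadd) h0 fun x _ => halllong x _)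
        (Finset.sum_induction _ SG (fun _ _ => hadd) h0 fun q hq =>
          hallshort q.1 q.2 (Finset.mem_filter.1 hq).2.ne _)
    exact hSGS.2

/-- Simplicity. -/
theorem isSimple (hm : 2 ≤ m) (hex : m = 2 → 3 ≤ Fintype.card F) (hπ : Function.Surjective π)
    (hker : π.ker = Subgroup.center ↥(Matrix.symplecticGroup (Fin m) F)) (S : Sylow p G)
    (hS : (S : Subgroup G) = (U0 F m).map π) : (Cfsg.groupFusionSystem (S : Subgroup G)).IsSimple p := by
  have hz : ∀ z ∈ Subgroup.center (Sp m F), ∀ k : ℕ, z ^ p ^ k = 1 → z = 1 := fun z hz k => eq_one_of_central hz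
  have hUp : IsPGroup p (U0 F m) := U0_isPGroup p
  set L : Fin m := ⟨m - 1, by omega⟩
  have hL : (L : ℕ) + 1 = m := show m - 1 + 1 = m by omega
  let ι := Option {k : Fin m // (k : ℕ) + 1 < m}
  let nx : {k : Fin m // (k : ℕ) + 1 < m} → Fin m := fun k => ⟨(k.1 : ℕ) + 1, k.2⟩
  have hne : ∀ k, nx k ≠ k.1 := fun k e => by have := congrArg Fin.val e; simp only [nx] at this; omega
  let Y : ι → Subgroup (Sp m F) := fun i => i.elim (RL L hL) (fun k => RS k.1 (nx k) rfl)
  have hY : ∀ i, Y i ≤ U0 F m := by rintro (_ | k) u hu <;> exact hu.1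
  have hS1 : (S : Subgroup G) ≠ ⊥ := fun h => by
    have h1 : π (sy (single L L (1 : F)) (sym_single L 1)) ∈ (S : Subgroup G) :=
      hS ▸ Subgroup.mem_map_of_mem π (sy_mem_U0 _ _)
    rw [h, Subgroup.mem_bot, ← MonoidHom.mem_ker, hker] at h1
    obtain ⟨b, hb⟩ := hUp ⟨_, sy_mem_U0 (single L L (1 : F)) (sym_single L 1)⟩
    have h2 := congrArg (fun g : Sp m F => b12 g L L) (hz _ h1 _ (congrArg Subtype.val hb :))
    simp [blocks_one.2.1] at h2
  have hconjU : ∀ u ∈ U0 F m, ∀ g : Sp m F, ∃ k : ℕ, (g * u * g⁻¹) ^ p ^ k = 1 := fun u hu g => by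
    obtain ⟨b, hb⟩ := hUp ⟨u, hu⟩
    exact ⟨b, by rw [conj_pow, show u ^ p ^ b = 1 from congrArg Subtype.val hb, mul_one, mul_inv_cancel]⟩
  refine isSimple_of_family S hS1 ?_ (fun i => (Y i).map π) (fun i => hS ▸ Subgroup.map_mono (hY i)) ?_ ?_ ?_ ?_
  · intro T hT hT1 hcl
    rw [hS] at hT ⊢
    haveI : Group.IsNilpotent ((U0 F m).map π) := (hUp.map π).isNilpotent
    haveI : (T.subgroupOf ((U0 F m).map π)).Normal := ⟨fun x hx g => hcl g x hx (by
      rw [hS]; exact mul_mem (mul_mem g.2 x.2) (inv_mem g.2))⟩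
    have hne' := CfsgLib.Solvable.FrattiniFitting.inf_center_ne_bot (T.subgroupOf ((U0 F m).map π))
      (fun h => hT1 (by
        rw [Subgroup.subgroupOf_eq_bot] at h
        exact disjoint_self.1 (h.mono_right hT)))
    obtain ⟨z, hzm, hz1⟩ := (Subgroup.bot_or_exists_ne_one _).resolve_left hne'
    obtain ⟨u, hu, huz⟩ := z.2
    refine Subgroup.map_le_iff_le_comap.2 ?_
    have hmain := closed_top hm hex ((T.comap π) ⊓ U0 F m) ?_ ?_ (z := u)
      ⟨show π u ∈ T by rw [huz]; exact hzm.1, hu⟩ ?_ hu ?_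
    · exact hmain.trans inf_le_left
    · rintro x ⟨hx, hxU⟩ v hv
      refine ⟨?_, (U0 F m).mul_mem ((U0 F m).mul_mem hv hxU) ((U0 F m).inv_mem hv)⟩
      show π (v * x * v⁻¹) ∈ T
      rw [map_mul, map_mul, map_inv]
      exact hcl _ _ hx (by rw [hS, ← map_inv, ← map_mul, ← map_mul]; exact Subgroup.mem_map_of_mem π (mul_mem (mul_mem hv hxU) (inv_mem hv)))
    · rintro g x ⟨hx, -⟩ hgx
      refine ⟨?_, hgx⟩
      show π (g * x * g⁻¹) ∈ T
      rw [map_mul, map_mul, map_inv]
      exact hcl _ _ hx (by rw [hS, ← map_inv, ← map_mul, ← map_mul]; exact Subgroup.mem_map_of_mem π hgx)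
    · intro h
      exact hz1 (Subtype.ext (by rw [← huz, h, map_one]; rfl))
    · intro v hv
      refine commute_of_centralizes hker hz hUp hv ?_
      rw [huz]
      exact (congrArg Subtype.val (Subgroup.mem_center_iff.1 hzm.2 ⟨π v, Subgroup.mem_map_of_mem π hv⟩) :)
  · intro i
    rw [hS]
    rintro _ ⟨A, hA, rfl⟩
    refine mem_normalizer_map fun u hu => ?_
    rcases i with _ | k
    · refine ⟨mul_mem (mul_mem hA hu.1) (inv_mem hA), ?_⟩
      rw [b12_entry_mul (mul_mem hA hu.1) (inv_mem hA) hL, b12_entry_mul hA hu.1 hL, hu.2, add_zero,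
        ← b12_entry_mul hA (inv_mem hA) hL, mul_inv_cancel, blocks_one.2.1]
      rfl
    · refine ⟨mul_mem (mul_mem hA hu.1) (inv_mem hA), ?_⟩
      have hne' : k.1 ≠ nx k := (hne k).symm
      obtain ⟨N, S₁, hS₁, rfl, hN, hNe⟩ := exists_levS_sy hA
      obtain ⟨N', S₂, hS₂, rfl, hN', hNe'⟩ := exists_levS_sy hu.1
      have h0 : N'.1 k.1 (nx k) = 0 := hNe' ▸ hu.2
      have hUK := UK_conj (hk := (rfl : ((nx k : Fin m) : ℕ) = k.1 + 1)) hN ⟨hN', h0⟩
      have e : b11 (levS N * sy S₁ hS₁ * (levS N' * sy S₂ hS₂) * (levS N * sy S₁ hS₁)⁻¹) = (N * N' * N⁻¹).1 := by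
        have hi : (levS N * sy S₁ hS₁)⁻¹ = sy (-S₁) (by rw [transpose_neg, hS₁]) * levS N⁻¹ := by
          rw [_root_.mul_inv_rev, map_inv, inv_eq_of_mul_eq_one_right (show sy S₁ hS₁ * sy (-S₁) (by rw [transpose_neg, hS₁]) = 1 by
            rw [sy_mul]; exact Subtype.ext (by show fromBlocks _ _ _ _ = 1; simp))]
        rw [hi]
        simp only [(blocks_mul _ _).1, (blocks_mul _ _).2.1, (blocks_mul _ _).2.2.1, (blocks_mul _ _).2.2.2, levS_b11, levS_b12,
          levS_b21, sy_b11, sy_b12, sy_b21, sy_b22, Matrix.mul_zero, Matrix.zero_mul, add_zero, zero_add, Matrix.mul_one,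
          Matrix.one_mul, Matrix.SpecialLinearGroup.coe_mul]
      rw [e]
      exact hUK.2
  · intro i g hg
    obtain ⟨c, rfl⟩ := hπ g
    have hcomm : ∀ u ∈ Y i, Commute c u := fun u hu =>
      commute_of_centralizes hker hz (hUp.to_le (hY i)) hu
        (Subgroup.mem_centralizer_iff.1 hg (π u) (Subgroup.mem_map_of_mem π hu))
    obtain ⟨z, hzc, u, hu, rfl⟩ : ∃ z ∈ Subgroup.center (Sp m F), ∃ u ∈ Y i, c = z * u := by
      rcases i with _ | k
      · exact commute_RL (hL := hL) hm hcomm
      · exact commute_RS (hk := rfl) hcomm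
    rw [map_mul, MonoidHom.mem_ker.1 (hker.ge hzc), one_mul]
    exact Subgroup.mem_map_of_mem π hu
  · rintro (_ | k)
    · refine ⟨π (syl (single L L (-1 : F)) (sym_single L (-1))), mem_normalizer_map fun u hu => RL_conj_lower (hL := hL) (-1) hu, ?_⟩
      rw [hS]
      rintro _ ⟨u, hu, rfl⟩ hconj
      refine Subgroup.mem_map_of_mem π (RL_of_conj_lower (hL := hL) hu ?_)
      rw [← map_inv, ← map_mul, ← map_mul] at hconj
      have e : (syl (single L L (-1 : F)) (sym_single L (-1)))⁻¹ = syl (single L L 1) (sym_single L 1) := by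
        rw [syl_inv]; exact Subtype.ext (by show fromBlocks _ _ _ _ = fromBlocks _ _ _ _; simp [← Matrix.single_neg])
      have e' : syl (single L L (-1 : F)) (sym_single L (-1)) = (syl (single L L 1) (sym_single L 1))⁻¹ := by
        rw [← e, inv_inv]
      rw [e, e'] at hconj
      exact mem_of_map hker hz hUp (hconjU u hu _) hconj
    · refine ⟨π (levS (X (hne k) (1 : F))), mem_normalizer_map fun u hu => RS_conj_lower (hk := rfl) (hne k) 1 hu, ?_⟩
      rw [hS]
      rintro _ ⟨u, hu, rfl⟩ hconj
      refine Subgroup.mem_map_of_mem π (RS_of_conj_lower (hk := rfl) (hne k) hu ?_)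
      rw [← map_inv, ← map_mul, ← map_mul] at hconj
      refine mem_of_map hker hz hUp ?_ hconj
      have := hconjU u hu (levS (X (hne k) (1 : F)))⁻¹
      rwa [inv_inv] at this
  · intro g hg
    rw [hS] at hg ⊢
    obtain ⟨A, rfl⟩ := hπ g
    have hA : ∀ u ∈ U0 F m, A⁻¹ * u * A ∈ U0 F m := fun u hu => by
      have h := (Subgroup.mem_normalizer_iff.1 (inv_mem hg) (π u)).1 (Subgroup.mem_map_of_mem π hu)
      rw [inv_inv, ← map_inv, ← map_mul, ← map_mul] at h
      refine mem_of_map hker hz hUp ?_ h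
      have := hconjU u hu A⁻¹
      rwa [inv_inv] at this
    obtain ⟨d, u, hu, rfl⟩ := exists_diag A (upper_of_normalizes hA)
    rw [map_mul]
    refine mul_mem ?_ (Subgroup.subset_closure (Or.inl (Subgroup.mem_map_of_mem π hu)))
    -- the torus
    set C := Subgroup.closure (((U0 F m).map π : Set G) ∪ {g | g ∈ Subgroup.normalizer (((U0 F m).map π : Subgroup G) : Set G) ∧
      ∃ i, g ∈ pNormalizer p ((Y i).map π)})
    have hroot : ∀ i, ∀ x : Sp m F, x ∈ U0 F m → π x ∈ pNormalizer p ((Y i).map π) := fun i x hx => by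
      refine le_pNormalizer (hUp.map π) ?_ (Subgroup.mem_map_of_mem π hx)
      rintro _ ⟨B, hB, rfl⟩
      refine mem_normalizer_map fun v hv => ?_
      rcases i with _ | k
      · refine ⟨mul_mem (mul_mem hB hv.1) (inv_mem hB), ?_⟩
        rw [b12_entry_mul (mul_mem hB hv.1) (inv_mem hB) hL, b12_entry_mul hB hv.1 hL, hv.2, add_zero,
          ← b12_entry_mul hB (inv_mem hB) hL, mul_inv_cancel, blocks_one.2.1]
        rfl
      · refine ⟨mul_mem (mul_mem hB hv.1) (inv_mem hB), ?_⟩
        obtain ⟨N, S₁, hS₁, rfl, hN, hNe⟩ := exists_levS_sy hB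
        obtain ⟨N', S₂, hS₂, rfl, hN', hNe'⟩ := exists_levS_sy hv.1
        have h0 : N'.1 k.1 (nx k) = 0 := hNe' ▸ hv.2
        have hUK := UK_conj (hk := (rfl : ((nx k : Fin m) : ℕ) = k.1 + 1)) hN ⟨hN', h0⟩
        have hi : (levS N * sy S₁ hS₁)⁻¹ = sy (-S₁) (by rw [transpose_neg, hS₁]) * levS N⁻¹ := by
          rw [_root_.mul_inv_rev, map_inv, inv_eq_of_mul_eq_one_right (show sy S₁ hS₁ * sy (-S₁) (by rw [transpose_neg, hS₁]) = 1 by
            rw [sy_mul]; exact Subtype.ext (by show fromBlocks _ _ _ _ = 1; simp))]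
        rw [hi]
        simp only [(blocks_mul _ _).1, (blocks_mul _ _).2.1, (blocks_mul _ _).2.2.1, (blocks_mul _ _).2.2.2, levS_b11, levS_b12,
          levS_b21, sy_b11, sy_b12, sy_b21, sy_b22, Matrix.mul_zero, Matrix.zero_mul, add_zero, zero_add, Matrix.mul_one,
          Matrix.one_mul, ← Matrix.SpecialLinearGroup.coe_mul]
        exact hUK.2
    have hporder : ∀ x : Sp m F, (∃ k : ℕ, x ^ p ^ k = 1) → ∃ k : ℕ, orderOf (π x) = p ^ k := by
      rintro x ⟨k, hk⟩
      obtain ⟨j, -, hj⟩ := (Nat.dvd_prime_pow Fact.out).1 (orderOf_dvd_of_pow_eq_one (by rw [← map_pow, hk, map_one] : π x ^ p ^ k = 1))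
      exact ⟨j, hj⟩
    have htor : ∀ d' : Fin m → Fˣ, π (lev (diagGL d')) ∈ Subgroup.normalizer (((U0 F m).map π : Subgroup G) : Set G) :=
      fun d' => mem_normalizer_map fun v hv => diag_conj_U0 d' hv
    have hsl : ∀ (d' : Fin m → Fˣ), ∏ a, d' a = 1 → π (lev (diagGL d')) ∈ C := by
      intro d' hd'
      have e : lev (diagGL d') = levS (D d' hd') := by
        rw [levS, MonoidHom.comp_apply]
        exact congrArg lev (Units.ext rfl)
      rw [e]
      refine D_mem (Subgroup.comap (π.comp levS) C) ?_ d' hd'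
      intro k k' hk hkk c hc
      set kk : {k : Fin m // (k : ℕ) + 1 < m} := ⟨k, by omega⟩
      have hnx : nx kk = k' := Fin.ext hk.symm
      refine Subgroup.subset_closure (Or.inr ⟨?_, some kk, ?_⟩)
      · have := htor (fun x => if x = k then Units.mk0 c hc else if x = k' then (Units.mk0 c hc)⁻¹ else 1)
        convert this using 1
        show π (lev _) = π (lev _)
        congr 2
        refine Units.ext ?_
        show (Matrix.SpecialLinearGroup.diag2n hkk c hc).1 = _
        rw [Matrix.SpecialLinearGroup.diag2n_coe, diagGL_val]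
        congr 1
        funext x
        split_ifs <;> simp
      · refine diag2n_mem ((pNormalizer p ((Y (some kk)).map π)).comap (π.comp levS)) hkk (fun c' => ?_) (fun c' => ?_) c hc
        · exact hroot (some kk) _ (levS_mem_U0 (X_mem_U (Fin.lt_def.2 (by omega)) c'))
        · have hX : X hkk.symm c' = X (hne kk) c' := by congr 1; exact hnx.symm
          rw [hX]
          refine Subgroup.subset_closure ⟨mem_normalizer_map fun v hv => RS_conj_lower (hk := rfl) (hne kk) c' hv, hporder _ ⟨1, ?_⟩⟩
          rw [← map_pow, pow_one, show (X (hne kk) c') ^ p = 1 from ?_, map_one]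
          refine Subtype.ext ?_
          rw [Matrix.SpecialLinearGroup.coe_pow, X_coe, Matrix.SpecialLinearGroup.coe_one]
          haveI : Nonempty (Fin m) := ⟨L⟩
          rw [show p = p ^ 1 from (pow_one p).symm, add_pow_char_pow_of_commute p 1 (Commute.one_left _), one_pow,
            pow_one, show p = (p - 2) + 2 by have := (Fact.out : p.Prime).two_le; omega, pow_add, sq,
            Matrix.single_mul_single_of_ne _ _ _ _ (hne kk).symm, mul_zero, add_zero]
    set c := ∏ a, d a
    have hd' : ∏ a, (d * (Pi.mulSingle L c)⁻¹ : Fin m → Fˣ) a = 1 := by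
      simp only [Pi.mul_apply, Pi.inv_apply, Finset.prod_mul_distrib, Finset.prod_inv_distrib]
      rw [Fintype.prod_eq_single (f := fun x => (Pi.mulSingle L c : Fin m → Fˣ) x) L (fun x hx => Pi.mulSingle_eq_of_ne hx _), Pi.mulSingle_eq_same, mul_inv_cancel]
    have e : diagGL d = diagGL (d * (Pi.mulSingle L c)⁻¹) * diagGL (Pi.mulSingle L c) := by
      rw [diagGL_mul, inv_mul_cancel_right]
    rw [e, map_mul, map_mul]
    refine mul_mem (hsl _ hd') (Subgroup.subset_closure (Or.inr ⟨htor _, none, ?_⟩))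
    rw [lev_diag_single]
    set P := pNormalizer p ((Y none).map π)
    show Matrix.SpecialLinearGroup.diag2 (c : F) c.ne_zero ∈ Subgroup.comap (π.comp (sl2At L)) P
    rw [show Matrix.SpecialLinearGroup.diag2 (c : F) c.ne_zero = Matrix.SpecialLinearGroup.diag2n zero_ne_one (c : F) c.ne_zero from rfl]
    refine diag2n_mem _ (zero_ne_one : (0 : Fin 2) ≠ 1) (fun t => ?_) (fun t => ?_) _ _
    · show π (sl2At L _) ∈ P
      rw [sl2At_transvection_upper]
      exact hroot none _ (sy_mem_U0 _ _)
    · show π (sl2At L _) ∈ P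
      rw [sl2At_transvection_lower]
      refine Subgroup.subset_closure ⟨mem_normalizer_map fun v hv => RL_conj_lower (hL := hL) t hv, hporder _ ⟨1, ?_⟩⟩
      rw [pow_one]
      have hpow : ∀ j : ℕ, (syl (single L L t) (sym_single L t)) ^ j = syl (single L L ((j : F) * t)) (sym_single L _) := by
        intro j
        induction j with
        | zero => exact Subtype.ext (by show _ = fromBlocks _ _ _ _; simp)
        | succ j ih =>
          rw [pow_succ, ih]
          refine Subtype.ext ?_
          show fromBlocks _ _ _ _ * fromBlocks _ _ _ _ = fromBlocks _ _ _ _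
          rw [fromBlocks_multiply]
          simp [← Matrix.single_add, add_mul, add_comm]
      rw [hpow, CharP.cast_eq_zero, zero_mul]
      exact Subtype.ext (by show fromBlocks _ _ _ _ = 1; simp)

end CfsgLib.PGroup.FusionSp
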