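import Mathlib

/-!
Monomial and triangular matrices for an ordering of the indices given by a rank function: the combinatorics of
split (B,N)-pairs of classical groups.
-/

set_option autoImplicit false
set_option linter.unusedSectionVars false

namespace CfsgLib.PGroup.SplitMonomial

open Matrix

variable {α : Type*} [Fintype α] [DecidableEq α] {F : Type*} [Field F]

/-- A monomial matrix with the given permutation. -/
def Monom (A : Matrix α α F) (σ : Equiv.Perm α) : Prop := ∀ i j, i ≠ σ j → A i j = 0

/-- An upper triangular matrix for a rank function. -/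
def Upper (r : α → ℕ) (A : Matrix α α F) : Prop := ∀ a b, r b < r a → A a b = 0

theorem monom_one : Monom (1 : Matrix α α F) 1 := fun i j h => Matrix.one_apply_ne (by simpa using h)

theorem Monom.mul {A B : Matrix α α F} {σ τ : Equiv.Perm α} (hA : Monom A σ) (hB : Monom B τ) :
    Monom (A * B) (σ * τ) := fun i j h => by
  rw [Matrix.mul_apply]
  refine Finset.sum_eq_zero fun k _ => ?_
  rcases eq_or_ne k (τ j) with rfl | hk
  · rw [hA i (τ j) (by simpa using h), zero_mul]
  · rw [hB k j hk, mul_zero]

theorem Monom.entry_ne_zero {A : Matrix α α F} {σ : Equiv.Perm α} (hA : Monom A σ) (hdet : A.det ≠ 0) (j : α) :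
    A (σ j) j ≠ 0 := fun h => hdet (Matrix.det_eq_zero_of_column_eq_zero j fun i => by
  rcases eq_or_ne i (σ j) with rfl | hi
  · exact h
  · exact hA i j hi)

theorem Monom.mul_apply_perm {A : Matrix α α F} {σ : Equiv.Perm α} (hA : Monom A σ) (B : Matrix α α F) (i j : α) :
    (A * B) (σ i) j = A (σ i) i * B i j := by
  rw [Matrix.mul_apply, Finset.sum_eq_single i]
  · intro k _ hk
    rw [hA (σ i) k (fun e => hk (σ.injective e).symm), zero_mul]
  · intro h; exact absurd (Finset.mem_univ i) h

theorem Monom.apply_mul_perm {A : Matrix α α F} {σ : Equiv.Perm α} (hA : Monom A σ) (B : Matrix α α F) (a j : α) :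
    (B * A) a j = B a (σ j) * A (σ j) j := by
  rw [Matrix.mul_apply, Finset.sum_eq_single (σ j)]
  · intro k _ hk
    rw [hA k j hk, mul_zero]
  · intro h; exact absurd (Finset.mem_univ _) h

theorem Monom.of_inv {A A' : Matrix α α F} {σ : Equiv.Perm α} (hA : Monom A σ) (hdet : A.det ≠ 0)
    (h : A * A' = 1) : Monom A' σ⁻¹ := fun i j hij => by
  have h1 := hA.mul_apply_perm A' i j
  rw [h, Matrix.one_apply_ne (fun e => hij (by rw [← e]; simp))] at h1
  exact (mul_eq_zero.1 h1.symm).resolve_left (hA.entry_ne_zero hdet i)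

theorem Monom.mul_single {A : Matrix α α F} {σ : Equiv.Perm α} (hA : Monom A σ) (hdet : A.det ≠ 0)
    (i j : α) (c : F) :
    A * Matrix.single i j c = Matrix.single (σ i) (σ j) (A (σ i) i * c / A (σ j) j) * A := by
  ext a b
  obtain ⟨a, rfl⟩ := σ.surjective a
  rw [hA.mul_apply_perm, hA.apply_mul_perm, Matrix.single_apply, Matrix.single_apply]
  have := hA.entry_ne_zero hdet j
  by_cases h : i = a ∧ j = b
  · obtain ⟨rfl, rfl⟩ := h
    simp only [and_self, if_true]
    field_simp
  · rw [if_neg h, if_neg (fun e => h ⟨σ.injective e.1, σ.injective e.2⟩), mul_zero, zero_mul]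

theorem monom_one_upper {A : Matrix α α F} (hA : Monom A 1) (r : α → ℕ) : Upper r A :=
  fun a b h => hA a b (by rintro rfl; simp at h)

theorem Monom.perm_eq_one {A : Matrix α α F} {σ : Equiv.Perm α} (hA : Monom A σ) (hdet : A.det ≠ 0)
    {r : α → ℕ} (hr : Function.Injective r) (hup : Upper r A) : σ = 1 := by
  have hle : ∀ j, r (σ j) ≤ r j := fun j => by
    by_contra h
    exact hA.entry_ne_zero hdet j (hup _ _ (not_le.1 h))
  suffices h : ∀ m j, r j = m → σ j = j from Equiv.ext fun j => h _ j rfl
  intro m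
  induction m using Nat.strong_induction_on with
  | _ m ih =>
    intro j hj
    rcases (hle j).lt_or_eq with h | h
    · have h1 := ih _ (hj ▸ h) (σ j) rfl
      exact σ.injective h1
    · exact hr h

/-- The opposite unipotent group meets each translate of the Borel subgroup at most once. -/
theorem big_cell {r : α → ℕ} (hr : Function.Injective r) {w₀ σ : Equiv.Perm α}
    (hw : ∀ a b, r a < r b → r (w₀ b) < r (w₀ a)) {v n n₀ b : Matrix α α F}
    (hv1 : ∀ a, v a a = 1) (hv : Upper r v) (hn : Monom n σ) (hn₀ : Monom n₀ w₀) (hdet : n.det ≠ 0)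
    (hdet₀ : n₀.det ≠ 0) (hb : Upper r b) (he : v * n₀ = n * b) : σ = w₀ ∧ v = 1 := by
  have hz : ∀ i j, r j < r i → v (σ i) (w₀ j) = 0 := by
    intro i j hij
    have h1 := congrFun (congrFun he (σ i)) j
    rw [hn₀.apply_mul_perm, hn.mul_apply_perm, hb i j hij, mul_zero] at h1
    exact (mul_eq_zero.1 h1).resolve_right (hn₀.entry_ne_zero hdet₀ j)
  have hσ : σ = w₀ := by
    refine Equiv.ext fun j => ?_
    suffices h : ∀ m j, r j = m → σ j = w₀ j from h _ j rfl
    intro m
    induction m using Nat.strong_induction_on with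
    | _ m ih =>
      intro j hj
      obtain ⟨i, hi⟩ := σ.surjective (w₀ j)
      rcases lt_trichotomy (r i) (r j) with h | h | h
      · have h1 := ih _ (hj ▸ h) i rfl
        rw [hi] at h1
        exact absurd (congrArg r (w₀.injective h1)) h.ne'
      · rw [← hr h, hi, hr h]
      · exact absurd ((hv1 _).symm.trans (by have := hz i j h; rwa [hi] at this)) one_ne_zero
  refine ⟨hσ, ?_⟩
  ext a c
  obtain ⟨i, rfl⟩ := w₀.surjective a
  obtain ⟨j, rfl⟩ := w₀.surjective c
  rcases eq_or_ne i j with rfl | hne
  · rw [hv1, Matrix.one_apply_eq]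
  · rw [Matrix.one_apply_ne (w₀.injective.ne hne)]
    rcases lt_or_gt_of_ne (hr.ne hne) with h | h
    · exact hv _ _ (hw _ _ h)
    · exact hσ ▸ hz i j h

end CfsgLib.PGroup.SplitMonomial
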