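import Cfsg.Agent.Lib.PGroup.SteinbergModule
import Cfsg.Agent.Lib.PGroup.SplitMonomial
import Cfsg.Agent.Lib.PGroup.FusionPSL

/-!
The split (B,N)-pair of `SL_n` over a finite field in the form needed for the Steinberg module.
-/

set_option autoImplicit false
set_option linter.unusedSectionVars false

namespace CfsgLib.PGroup.SteinbergSL

open Matrix CfsgLib.PGroup.UnitriangularSL CfsgLib.PGroup.SplitMonomial CfsgLib.Classical

variable {F : Type*} [Field F] [Fintype F] {n : ℕ}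

/-- The upper triangular subgroup. -/
def B (F : Type*) [Field F] [Fintype F] (n : ℕ) : Subgroup (Matrix.SpecialLinearGroup (Fin n) F) where
  carrier := {A | A.1.BlockTriangular id}
  mul_mem' {a b} ha hb := by
    show (a * b).1.BlockTriangular id
    rw [Matrix.SpecialLinearGroup.coe_mul]
    exact Matrix.BlockTriangular.mul ha hb
  one_mem' := by
    show (1 : Matrix.SpecialLinearGroup (Fin n) F).1.BlockTriangular id
    rw [Matrix.SpecialLinearGroup.coe_one]
    exact Matrix.blockTriangular_one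
  inv_mem' {a} ha := by
    classical
    have hf : IsOfFinOrder a := isOfFinOrder_of_finite a
    have e : a⁻¹ = a ^ (orderOf a - 1) := by
      rw [inv_eq_iff_mul_eq_one, ← pow_succ', Nat.sub_add_cancel hf.orderOf_pos, pow_orderOf_eq_one]
    show a⁻¹.1.BlockTriangular id
    rw [e, Matrix.SpecialLinearGroup.coe_pow]
    exact ha.pow _

theorem mem_B {A : Matrix.SpecialLinearGroup (Fin n) F} :
    A ∈ B F n ↔ ∀ a b : Fin n, b < a → A.1 a b = 0 := Iff.rfl

/-- The monomial group, with the permutation recorded. -/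
def N (F : Type*) [Field F] [Fintype F] (n : ℕ) :
    Subgroup (Equiv.Perm (Fin n) × Matrix.SpecialLinearGroup (Fin n) F) where
  carrier := {p | Monom p.2.1 p.1}
  mul_mem' {a b} ha hb := by
    show Monom (a.2 * b.2).1 (a.1 * b.1)
    rw [Matrix.SpecialLinearGroup.coe_mul]
    exact Monom.mul ha hb
  one_mem' := by
    show Monom (1 : Matrix.SpecialLinearGroup (Fin n) F).1 1
    rw [Matrix.SpecialLinearGroup.coe_one]
    exact monom_one
  inv_mem' {a} ha := by
    refine Monom.of_inv ha (by rw [a.2.2]; exact one_ne_zero) ?_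
    rw [← Matrix.SpecialLinearGroup.coe_mul]
    show (a.2 * a.2⁻¹).1 = _
    rw [mul_inv_cancel, Matrix.SpecialLinearGroup.coe_one]

/-- The matrix of a monomial element. -/
def ν : N F n →* Matrix.SpecialLinearGroup (Fin n) F := (MonoidHom.snd _ _).comp (N F n).subtype

/-- The sign of a monomial element. -/
def ε : N F n →* ℤˣ := (Equiv.Perm.sign.comp (MonoidHom.fst _ _)).comp (N F n).subtype

theorem det_ne (A : Matrix.SpecialLinearGroup (Fin n) F) : A.1.det ≠ 0 := by rw [A.2]; exact one_ne_zero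

theorem val_injective : Function.Injective (fun a : Fin n => (a : ℕ)) := Fin.val_injective

theorem torus_perm {t : N F n} (ht : ν t ∈ B F n) : t.1.1 = 1 :=
  t.2.perm_eq_one (det_ne _) val_injective fun a b h => ht (Fin.lt_def.2 h)

theorem mem_B_of_perm {t : N F n} (ht : t.1.1 = 1) : ν t ∈ B F n := fun a b h => by
  have h1 : Monom (ν t).1 1 := ht ▸ t.2
  exact monom_one_upper h1 (fun a : Fin n => (a : ℕ)) a b (Fin.lt_def.1 h)

theorem U_le_B : U F n ≤ B F n := fun _ hu _ _ h => U_below hu h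

theorem D_conj_U (d : Fin n → Fˣ) (hd : ∏ a, d a = 1) {u : Matrix.SpecialLinearGroup (Fin n) F} (hu : u ∈ U F n) :
    D d hd * u * (D d hd)⁻¹ ∈ U F n := by
  have := U_le_of_roots ((U F n).comap (MulAut.conj (D d hd)).toMonoidHom) (fun i j hij c => ?_) hu
  · exact this
  · show D d hd * X hij.ne c * (D d hd)⁻¹ ∈ U F n
    rw [D_conj_X]
    exact X_mem_U hij _

/-- The indices of the simple roots. -/
abbrev ι (n : ℕ) : Type := {k : Fin n // (k : ℕ) + 1 < n}

/-- The successor index. -/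
def nx (k : ι n) : Fin n := ⟨(k.1 : ℕ) + 1, k.2⟩

theorem ne_nx (k : ι n) : k.1 ≠ nx k := fun h => by simpa [nx] using congrArg Fin.val h

/-- The root `SL₂`. -/
noncomputable def emb (k : ι n) : Matrix.SpecialLinearGroup (Fin 2) F →* Matrix.SpecialLinearGroup (Fin n) F :=
  slEmbed (pairFun k.1 (nx k)) (pairFun_injective (ne_nx k))

/-- The Weyl element of `SL₂`. -/
noncomputable def w2 : Matrix.SpecialLinearGroup (Fin 2) F :=
  Matrix.SpecialLinearGroup.transvection (zero_ne_one : (0 : Fin 2) ≠ 1) 1 *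
    Matrix.SpecialLinearGroup.transvection (one_ne_zero : (1 : Fin 2) ≠ 0) (-1) *
    Matrix.SpecialLinearGroup.transvection (zero_ne_one : (0 : Fin 2) ≠ 1) 1

theorem w2_coe : (w2 : Matrix.SpecialLinearGroup (Fin 2) F).1 = !![0, 1; -1, 0] := by
  simp only [w2, Matrix.SpecialLinearGroup.coe_mul, Matrix.SpecialLinearGroup.transvection_coe]
  ext a b
  fin_cases a <;> fin_cases b <;> simp [Matrix.mul_apply, Fin.sum_univ_two]

theorem rank_one_sl2 {c : F} (hc : c ≠ 0) :
    w2 * Matrix.SpecialLinearGroup.transvection (zero_ne_one : (0 : Fin 2) ≠ 1) c * w2 =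
      Matrix.SpecialLinearGroup.transvection (zero_ne_one : (0 : Fin 2) ≠ 1) (-c⁻¹) *
        Matrix.SpecialLinearGroup.diag2 (-c⁻¹) (neg_ne_zero.2 (inv_ne_zero hc)) * w2 *
        Matrix.SpecialLinearGroup.transvection (zero_ne_one : (0 : Fin 2) ≠ 1) (-c⁻¹) := by
  have hX : ∀ t : F, 1 + Matrix.single (0 : Fin 2) 1 t = !![1, t; 0, 1] := fun t => by
    ext a b; fin_cases a <;> fin_cases b <;> simp
  refine Subtype.ext ?_
  simp only [Matrix.SpecialLinearGroup.coe_mul, Matrix.SpecialLinearGroup.transvection_coe, w2_coe,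
    Matrix.SpecialLinearGroup.diag2_coe', hX]
  ext a b
  fin_cases a <;> fin_cases b <;> simp [Matrix.mul_apply, Fin.sum_univ_two, hc]

theorem emb_upper (k : ι n) (c : F) :
    emb k (Matrix.SpecialLinearGroup.transvection (zero_ne_one : (0 : Fin 2) ≠ 1) c) = X (ne_nx k) c := by
  rw [emb, slEmbed_transvection (ne_nx k)]
  rfl

theorem emb_lower (k : ι n) (c : F) :
    emb k (Matrix.SpecialLinearGroup.transvection (one_ne_zero : (1 : Fin 2) ≠ 0) c) = X (ne_nx k).symm c := by
  rw [emb, slEmbed_transvection (ne_nx k)]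
  rfl

theorem emb_w2_monom (k : ι n) : Monom (emb k (w2 : Matrix.SpecialLinearGroup (Fin 2) F)).1 (Equiv.swap k.1 (nx k)) := by
  have hw : ((w2 : Matrix.SpecialLinearGroup (Fin 2) F).1 - 1) =
      Matrix.single 0 0 (-1) + Matrix.single 0 1 1 + Matrix.single 1 0 (-1) + Matrix.single 1 1 (-1) := by
    rw [w2_coe]
    ext a b; fin_cases a <;> fin_cases b <;> simp
  rw [emb, slEmbed_coe, hw]
  simp only [Matrix.mul_add, Matrix.add_mul, incMat_mul_single_mul]
  intro i j hij
  simp only [pairFun, Matrix.cons_val_zero, Matrix.cons_val_one, Matrix.add_apply, Matrix.one_apply,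
    Matrix.single_apply]
  have hne := ne_nx k
  rcases eq_or_ne j k.1 with rfl | h1
  · rw [Equiv.swap_apply_left] at hij
    by_cases hi : i = k.1
    · subst hi; simp [hne, hne.symm]
    · simp [hi, Ne.symm hi, hij, Ne.symm hij, hne, hne.symm]
  · rcases eq_or_ne j (nx k) with rfl | h2
    · rw [Equiv.swap_apply_right] at hij
      by_cases hi : i = nx k
      · subst hi; simp [hne, hne.symm]
      · simp [hi, Ne.symm hi, hij, Ne.symm hij, hne, hne.symm]
    · rw [Equiv.swap_apply_of_ne_of_ne h1 h2] at hij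
      simp [hij, Ne.symm h1, Ne.symm h2]

/-- The simple reflections. -/
noncomputable def s (k : ι n) : N F n := ⟨(Equiv.swap k.1 (nx k), emb k w2), emb_w2_monom k⟩

theorem ν_s (k : ι n) : ν (s (F := F) k) = X (ne_nx k) 1 * X (ne_nx k).symm (-1) * X (ne_nx k) 1 := by
  show emb k w2 = _
  rw [w2, map_mul, map_mul, emb_upper, emb_lower]

/-- The root groups. -/
def R (k : ι n) : Set (Matrix.SpecialLinearGroup (Fin n) F) := Set.range fun c : F => X (ne_nx k) c

theorem X_mem_B_iff {i j : Fin n} (h : i ≠ j) {c : F} (hc : c ≠ 0) :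
    (X h c : Matrix.SpecialLinearGroup (Fin n) F) ∈ B F n ↔ i < j := by
  refine ⟨fun hm => ?_, fun hij => U_le_B (X_mem_U hij c)⟩
  by_contra hij
  have hji : j < i := lt_of_le_of_ne (not_lt.1 hij) h.symm
  have := (mem_B.1 hm) i j hji
  rw [X_coe] at this
  simp [h, hc] at this

theorem conj_root (m : N F n) (k : ι n) (c : F) :
    ∃ (h : m.1.1.symm k.1 ≠ m.1.1.symm (nx k)) (c' : F), (c ≠ 0 → c' ≠ 0) ∧
      (ν m)⁻¹ * X (ne_nx k) c * ν m = X h c' := by
  have hm : Monom (m⁻¹ : N F n).1.2.1 m.1.1⁻¹ := (m⁻¹).2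
  have hne : m.1.1.symm k.1 ≠ m.1.1.symm (nx k) := fun e => ne_nx k (m.1.1.symm.injective e)
  have he := hm.mul_single (det_ne _) k.1 (nx k) c
  set c' := (m⁻¹ : N F n).1.2.1 (m.1.1⁻¹ k.1) k.1 * c / (m⁻¹ : N F n).1.2.1 (m.1.1⁻¹ (nx k)) (nx k)
  refine ⟨hne, c', fun hc => div_ne_zero (mul_ne_zero (hm.entry_ne_zero (det_ne _) _) hc)
    (hm.entry_ne_zero (det_ne _) _), ?_⟩
  have h1 : (ν m)⁻¹ * X (ne_nx k) c = X hne c' * (ν m)⁻¹ := by
    refine Subtype.ext ?_
    rw [Matrix.SpecialLinearGroup.coe_mul, Matrix.SpecialLinearGroup.coe_mul, X_coe, X_coe, mul_add, add_mul,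
      mul_one, one_mul]
    exact congrArg _ he
  rw [h1, inv_mul_cancel_right]

theorem fix_iff (m : N F n) (k : ι n) :
    (∀ x ∈ R (F := F) k, (ν m)⁻¹ * x * ν m ∈ B F n) ↔ m.1.1.symm k.1 < m.1.1.symm (nx k) := by
  constructor
  · intro h
    obtain ⟨hne, c', hc', he⟩ := conj_root m k 1
    have := h _ ⟨1, rfl⟩
    rw [he, X_mem_B_iff hne (hc' one_ne_zero)] at this
    exact this
  · rintro h _ ⟨c, rfl⟩
    obtain ⟨hne, c', -, he⟩ := conj_root m k c
    rw [he]
    exact U_le_B (X_mem_U h c')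

theorem exists_monom_mem (H : Subgroup (Matrix.SpecialLinearGroup (Fin n) F))
    (hH : ∀ k : ι n, ν (s k) ∈ H) (σ : Equiv.Perm (Fin n)) : ∃ m : N F n, m.1.1 = σ ∧ ν m ∈ H := by
  let P : Submonoid (Equiv.Perm (Fin n)) :=
    { carrier := {σ | ∃ m : N F n, m.1.1 = σ ∧ ν m ∈ H}
      one_mem' := ⟨1, rfl, by rw [map_one]; exact one_mem H⟩
      mul_mem' := by
        rintro a b ⟨x, rfl, hx⟩ ⟨y, rfl, hy⟩
        exact ⟨x * y, rfl, by rw [map_mul]; exact mul_mem hx hy⟩ }
  suffices P = ⊤ by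
    have : σ ∈ P := this ▸ Submonoid.mem_top σ
    exact this
  rcases n with _ | n
  · exact eq_top_iff.2 fun σ _ => by rw [Subsingleton.elim σ 1]; exact P.one_mem
  rw [eq_top_iff, ← Equiv.Perm.mclosure_swap_castSucc_succ, Submonoid.closure_le]
  rintro _ ⟨i, rfl⟩
  let k : ι (n + 1) := ⟨i.castSucc, by simp⟩
  exact ⟨s k, congrArg (Equiv.swap i.castSucc) (Fin.ext (by simp [k, nx])), hH k⟩

/-- The split pair. -/
theorem splitData : SteinbergModule.SplitData (ν (F := F) (n := n)) ε (B F n) (U F n) s R where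
  U_le := U_le_B
  U_conj b hb u hu := by
    obtain ⟨d, hd, v, hv, rfl⟩ := upper_eq (mem_B.1 hb)
    have := D_conj_U d hd (mul_mem (mul_mem hv hu) (inv_mem hv))
    convert this using 1
    group
  B_dec b hb := by
    obtain ⟨d, hd, v, hv, rfl⟩ := upper_eq (mem_B.1 hb)
    have hD : Monom (D d hd).1 1 := fun i j h => Matrix.diagonal_apply_ne _ (by simpa using h)
    refine ⟨_, D_conj_U d hd hv, ⟨(1, D d hd), hD⟩, mem_B_of_perm rfl, ?_⟩
    show _ = D d hd * v * (D d hd)⁻¹ * D d hd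
    group
  torus t ht := ⟨by simp [ε, torus_perm ht], fun m => by
    rw [← map_inv, ← map_mul, ← map_mul]
    refine mem_B_of_perm ?_
    show (m⁻¹ * t * m : N F n).1.1 = 1
    simp [torus_perm ht]⟩
  sign k := by simp [ε, s, Equiv.Perm.sign_swap (ne_nx k)]
  sq k := by
    rw [← map_mul]
    exact mem_B_of_perm (Equiv.swap_mul_self _ _)
  root_le k := by
    rintro _ ⟨c, rfl⟩
    exact X_mem_U (Fin.lt_def.2 (show (k.1 : ℕ) < k.1 + 1 by omega)) c
  split k u hu := by
    have hlt : k.1 < nx k := Fin.lt_def.2 (show (k.1 : ℕ) < k.1 + 1 by omega)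
    refine ⟨u * X (ne_nx k) (-(u.1 k.1 (nx k))), X (ne_nx k) (u.1 k.1 (nx k)), ⟨_, rfl⟩, ?_, ?_⟩
    · rw [← X_inv, inv_mul_cancel_right]
    have hk : ((nx k : Fin n) : ℕ) = k.1 + 1 := rfl
    have hy : u * X (ne_nx k) (-(u.1 k.1 (nx k))) ∈ UK k.1 (nx k) hk := by
      refine ⟨mul_mem hu (X_mem_U hlt _), ?_⟩
      rw [U_entry_mul hu (X_mem_U hlt _) hk, X_coe]
      simp [ne_nx k]
    rw [ν_s]
    have h1 := UK_conj (X_mem_U hlt (1 : F)) (UK_conj_lower (hk := hk) (ne_nx k).symm (-1)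
      (UK_conj (X_mem_U hlt (1 : F)) hy))
    convert h1.1 using 1
    group
  side k m := by
    rw [fix_iff, fix_iff, show (s (F := F) k * m).1.1 = Equiv.swap k.1 (nx k) * m.1.1 from rfl]
    simp only [Equiv.Perm.mul_def, Equiv.symm_trans_apply, Equiv.symm_swap, Equiv.swap_apply_left,
      Equiv.swap_apply_right, not_lt]
    exact ⟨le_of_lt, fun h => lt_of_le_of_ne h (m.1.1.symm.injective.ne (ne_nx k))⟩
  rank_one k := by
    rintro _ ⟨c, rfl⟩ hx
    have hc : c ≠ 0 := fun h => hx (by rw [h]; exact Matrix.SpecialLinearGroup.transvection_coeff_zero _)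
    let t : Matrix.SpecialLinearGroup (Fin n) F :=
      emb k (Matrix.SpecialLinearGroup.diag2 (-c⁻¹) (neg_ne_zero.2 (inv_ne_zero hc)))
    have ht : Monom t.1 1 := by
      intro i j h
      show (emb k _).1 i j = 0
      rw [emb, slEmbed_diag2 (ne_nx k), Matrix.SpecialLinearGroup.diag2n_coe]
      exact Matrix.diagonal_apply_ne _ (by simpa using h)
    refine ⟨_, ⟨-c⁻¹, rfl⟩, ⟨(1, t), ht⟩, mem_B_of_perm rfl, _, ⟨-c⁻¹, rfl⟩, ?_⟩
    show emb k w2 * X (ne_nx k) c * emb k w2 = X (ne_nx k) (-c⁻¹) * t * emb k w2 * X (ne_nx k) (-c⁻¹)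
    rw [← emb_upper, ← emb_upper, ← map_mul, ← map_mul, rank_one_sl2 hc, map_mul, map_mul, map_mul]
  gen := by
    set H := Subgroup.closure ((B F n : Set _) ∪ Set.range (ν ∘ s (F := F) (n := n)))
    have hB : B F n ≤ H := fun x hx => Subgroup.subset_closure (Or.inl hx)
    refine sl_subgroup_eq_top H fun i j h c => ?_
    rcases lt_or_gt_of_ne h with hij | hji
    · exact hB (U_le_B (X_mem_U hij c))
    obtain ⟨m, hm, hmH⟩ := exists_monom_mem H (fun k => Subgroup.subset_closure (Or.inr ⟨k, rfl⟩)) (Equiv.swap j i)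
    have hmon : Monom (ν m).1 (Equiv.swap j i) := hm ▸ m.2
    set c' := c * (ν m).1 j i / (ν m).1 i j
    have h1 : ν m * X hji.ne c' = X h c * ν m := by
      refine Subtype.ext ?_
      rw [Matrix.SpecialLinearGroup.coe_mul, Matrix.SpecialLinearGroup.coe_mul, X_coe, X_coe, mul_add, add_mul,
        mul_one, one_mul, hmon.mul_single (det_ne _), Equiv.swap_apply_left, Equiv.swap_apply_right]
      have h2 : (ν m).1 j i ≠ 0 := by simpa using hmon.entry_ne_zero (det_ne _) i
      have h3 : (ν m).1 i j ≠ 0 := by simpa using hmon.entry_ne_zero (det_ne _) j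
      congr 3
      simp only [c']
      field_simp
    show (X h c : Matrix.SpecialLinearGroup (Fin n) F) ∈ H
    rw [show (X h c : Matrix.SpecialLinearGroup (Fin n) F) = ν m * X hji.ne c' * (ν m)⁻¹ by
      rw [h1, mul_inv_cancel_right]]
    exact mul_mem (mul_mem hmH (hB (U_le_B (X_mem_U hji c')))) (inv_mem hmH)
  big := by
    obtain ⟨n₀, hn₀, -⟩ := exists_monom_mem (F := F) ⊤ (fun k => Subgroup.mem_top _) (Fin.revPerm (n := n))
    refine ⟨n₀, fun v hv m h => ?_⟩
    have he : v.1 * (ν n₀).1 = (ν m).1 * ((ν m)⁻¹ * v * ν n₀).1 := by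
      rw [← Matrix.SpecialLinearGroup.coe_mul, ← Matrix.SpecialLinearGroup.coe_mul, mul_assoc, mul_inv_cancel_left]
    obtain ⟨hσ, hv1⟩ := big_cell val_injective (w₀ := Fin.revPerm)
      (fun a b hab => Fin.lt_def.1 (Fin.rev_lt_rev.2 (Fin.lt_def.2 hab))) (fun a => U_diag hv a)
      (fun a b hab => U_below hv (Fin.lt_def.2 hab)) m.2 (hn₀ ▸ n₀.2) (det_ne _) (det_ne _)
      (fun a b hab => (mem_B.1 h) a b (Fin.lt_def.2 hab)) he
    refine ⟨Subtype.ext hv1, ?_⟩
    rw [← map_inv, ← map_mul]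
    refine mem_B_of_perm ?_
    show (n₀⁻¹ * m : N F n).1.1 = 1
    simp [hn₀, hσ]

end CfsgLib.PGroup.SteinbergSL
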