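import Cfsg.Agent.Lib.PGroup.SteinbergModule

/-!
The Bruhat decomposition for a split (B,N)-pair and the normaliser of the unipotent radical.
-/

set_option autoImplicit false
set_option linter.unusedSectionVars false

namespace CfsgLib.PGroup.SplitBruhat

open CfsgLib.PGroup.SteinbergModule

variable {G : Type*} [Group G] [Finite G] {N : Type*} [Group N] {ν : N →* G} {ε : N →* ℤˣ}
  {B U : Subgroup G} {ι : Type*} {s : ι → N} {R : ι → Set G}

theorem bruhat (hd : SplitData ν ε B U s R) (g : G) : ∃ b ∈ B, ∃ n : N, ∃ b' ∈ B, g = b * ν n * b' := by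
  suffices key : ∀ h ∈ Subgroup.closure ((B : Set G) ∪ Set.range (ν ∘ s)), ∀ w : G,
      (∃ b ∈ B, ∃ n : N, ∃ b' ∈ B, w = b * ν n * b') → ∃ b ∈ B, ∃ n : N, ∃ b' ∈ B, h * w = b * ν n * b' by
    obtain ⟨b, hb, n, b', hb', he⟩ := key g (hd.gen ▸ Subgroup.mem_top g) 1
      ⟨1, one_mem _, 1, 1, one_mem _, by simp⟩
    exact ⟨b, hb, n, b', hb', by rwa [mul_one] at he⟩
  intro h hh
  rw [← Subgroup.mem_toSubmonoid, Subgroup.closure_toSubmonoid_of_finite] at hh
  induction hh using Submonoid.closure_induction with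
  | one => intro w hw; rwa [one_mul]
  | mul a c _ _ iha ihc => intro w hw; rw [mul_assoc]; exact iha _ (ihc w hw)
  | mem h hh =>
    rintro w ⟨b, hb, n, b', hb', rfl⟩
    rcases hh with hh | ⟨i, rfl⟩
    · exact ⟨h * b, mul_mem hh hb, n, b', hb', by simp only [mul_assoc]⟩
    obtain ⟨u, hu, t, ht, rfl⟩ := hd.B_dec b hb
    obtain ⟨y, x, hx, rfl, hy⟩ := hd.split i u hu
    have hy' := hd.U_le hy
    set S := ν (s i) with hS
    by_cases hfix : Fix ν B R i (t * n)
    · refine ⟨S * y * S⁻¹, hy', s i * (t * n), (ν (t * n))⁻¹ * x * ν (t * n) * b', mul_mem (hfix x hx) hb', ?_⟩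
      simp only [Function.comp_apply, map_mul, ← hS]
      group
    rcases eq_or_ne x 1 with rfl | hx1
    · refine ⟨S * y * S⁻¹, hy', s i * (t * n), b', hb', ?_⟩
      simp only [Function.comp_apply, map_mul, ← hS]
      group
    set k := (s i)⁻¹ * (t * n) with hk
    have hfixk : Fix ν B R i k := (hd.side i k).2 (by rwa [hk, mul_inv_cancel_left])
    obtain ⟨x', hx', t', ht', x'', hx'', he⟩ := hd.rank_one i x hx hx1
    refine ⟨S * y * S⁻¹ * x', mul_mem hy' (hd.U_le (hd.root_le i x' hx')), t' * (s i * k),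
      (ν k)⁻¹ * x'' * ν k * b', mul_mem (hfixk x'' hx'') hb', ?_⟩
    rw [← hS] at he
    have e : S * x = x' * ν t' * S * x'' * S⁻¹ := by
      rw [← he, mul_inv_cancel_right]
    calc (ν ∘ s) i * (y * x * ν t * ν n * b')
        = S * y * S⁻¹ * (S * x) * ν (t * n) * b' := by simp only [Function.comp_apply, map_mul, ← hS]; group
      _ = _ := by
        rw [e, hk]
        simp only [map_mul, map_inv, ← hS]
        group

theorem mem_B_of_normalizes (hd : SplitData ν ε B U s R)
    (hpos : ∀ n : N, (∀ i, Fix ν B R i n) → ν n ∈ B) {g : G} (hg : ∀ u ∈ U, g⁻¹ * u * g ∈ U) : g ∈ B := by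
  obtain ⟨b, hb, n, b', hb', rfl⟩ := bruhat hd g
  refine mul_mem (mul_mem hb (hpos n fun i x hx => ?_)) hb'
  have h := hd.U_conj b' hb' _ (hg _ (hd.U_conj b hb x (hd.root_le i x hx)))
  refine hd.U_le ?_
  convert h using 1
  group

end CfsgLib.PGroup.SplitBruhat
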