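import Cfsg.Agent.Lib.PGroup.SURoots
import Cfsg.Agent.Lib.PGroup.SplitBruhat

/-!
The split (B,N)-pair of `SU_n` over a finite field, generation, and the normaliser of the unitriangular subgroup.
-/

set_option autoImplicit false
set_option linter.unusedSectionVars false

namespace CfsgLib.PGroup.SteinbergSU

open Matrix CfsgLib.Classical CfsgLib.PGroup.UnitriangularSL CfsgLib.PGroup.SplitMonomial CfsgLib.PGroup.SUModel
  CfsgLib.PGroup.SURoots

variable {F : Type*} [Field F] [Fintype F] {σ : F →+* F} {n : ℕ} (D : Datum σ)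

theorem mem_B_of_perm {t : N σ n} (ht : t.1.1.1 = 1) : ν t ∈ B σ n := mem_B_of_monom (ht ▸ monom_ν t)

theorem torus_perm {t : N σ n} (ht : ν t ∈ B σ n) : t.1.1 = 1 := by
  have h1 : t.1.1.1 = 1 := (monom_ν t).perm_eq_one (det_ne _) (r := fun a : Fin n => (a : ℕ)) Fin.val_injective
    fun a b h => mem_B.1 ht a b (Fin.lt_def.2 h)
  refine Prod.ext h1 (Equiv.ext fun x => ?_)
  obtain ⟨y, rfl⟩ := proj_surjective x
  have := t.2.2 y
  rw [h1] at this
  exact this.symm

theorem conj_entry (t : N σ n) (x : SUJ σ n) (a b : Fin n) :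
    ((ν t)⁻¹ * x * ν t).1.1 (t.1.1.1.symm a) (t.1.1.1.symm b) =
      ((ν t)⁻¹).1.1 (t.1.1.1.symm a) a * (x.1.1 a b * (ν t).1.1 b (t.1.1.1.symm b)) := by
  have hinv : Monom ((ν t)⁻¹).1.1 t.1.1.1⁻¹ := (t⁻¹).2.1
  show _ = _
  rw [coe_mul, coe_mul, Matrix.mul_assoc, show t.1.1.1.symm a = t.1.1.1⁻¹ a from rfl, hinv.mul_apply_perm,
    (monom_ν t).apply_mul_perm x.1.1]
  simp

theorem fix_iff (t : N σ n) (i : ι n) :
    (∀ x ∈ R D i, (ν t)⁻¹ * x * ν t ∈ B σ n) ↔ t.1.1.1.symm (posI i) < t.1.1.1.symm (posJ i) := by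
  constructor
  · intro h
    refine lt_of_le_of_ne ?_ (fun e => (posI_lt_posJ i).ne (t.1.1.1.symm.injective e))
    by_contra hlt
    obtain ⟨x, hx, hx0⟩ := root_witness D i
    have h0 := mem_B.1 (h x hx) _ _ (not_le.1 hlt)
    rw [conj_entry] at h0
    refine mul_ne_zero ?_ (mul_ne_zero hx0 ?_) h0
    · have hinv : Monom ((ν t)⁻¹).1.1 t.1.1.1⁻¹ := (t⁻¹).2.1
      exact hinv.entry_ne_zero (det_ne _) (posI i)
    · have := (monom_ν t).entry_ne_zero (det_ne _) (t.1.1.1.symm (posJ i))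
      simpa using this
  · intro h x hx
    refine mem_B.2 fun a b hab => ?_
    obtain ⟨a, rfl⟩ := t.1.1.1.symm.surjective a
    obtain ⟨b, rfl⟩ := t.1.1.1.symm.surjective b
    rw [conj_entry]
    rcases eq_or_ne (x.1.1 a b) 0 with h0 | h0
    · rw [h0, zero_mul, mul_zero]
    · rcases eq_or_ne a b with rfl | hne
      · exact absurd hab (lt_irrefl _)
      · exact absurd hab ((root_pairs D hx h0 hne).2 _ (N_symm_rev t) h).not_gt

theorem exists_move (H : Subgroup (SUJ σ n)) (hs : ∀ i, ν (s D i) ∈ H) (k : Fin n) :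
    ∀ (d : ℕ) (c : Fin n), n - ((k : ℕ) + 1) - c = d → (k : ℕ) ≤ c → (c : ℕ) + k + 1 ≤ n → 2 * (c : ℕ) + 1 ≠ n →
      ∃ t : N σ n, ν t ∈ H ∧ (∀ j, j < k → t.1.1.1 j = j) ∧ t.1.1.1 c = Fin.rev k := by
  intro d
  induction d using Nat.strong_induction_on with
  | _ d ih =>
    intro c hd hkc hck hmid
    by_cases hend : (c : ℕ) + k + 1 = n
    · exact ⟨1, by rw [map_one]; exact one_mem H, fun j _ => rfl, Fin.ext (by simp [Fin.val_rev]; omega)⟩
    suffices h : ∃ i : ι n, (∀ j : Fin n, j < k → sperm i j = j) ∧ (c : ℕ) < sperm i c ∧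
        (sperm i c : ℕ) + k + 1 ≤ n ∧ 2 * (sperm i c : ℕ) + 1 ≠ n by
      obtain ⟨i, hfix, hlt, hle, hm⟩ := h
      obtain ⟨t, ht, htfix, htc⟩ := ih _ (by omega) (sperm i c) rfl (by omega) hle hm
      refine ⟨t * s D i, by rw [map_mul]; exact mul_mem ht (hs i), fun j hj => ?_, ?_⟩
      · show t.1.1.1 ((s D i).1.1.1 j) = j
        rw [s_perm, hfix j hj, htfix j hj]
      · show t.1.1.1 ((s D i).1.1.1 c) = _
        rw [s_perm, htc]
    have hcn := c.2
    have hkn := k.2
    rcases lt_trichotomy (2 * (c : ℕ) + 3) n with hlt | heq | hgt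
    · let i : Short n := ⟨c, by omega⟩
      refine ⟨.inl i, fun j hj => Fin.ext ?_, ?_⟩
      · have := sperm_short_val i j
        rw [Fin.lt_def] at hj
        have : (i.1 : ℕ) = c := rfl
        omega
      · have := sperm_short_val i c
        have : (i.1 : ℕ) = c := rfl
        refine ⟨?_, ?_, ?_⟩ <;> omega
    · let i : Mid3 n := ⟨c, by omega⟩
      refine ⟨.inr (.inr i), fun j hj => Fin.ext ?_, ?_⟩
      · have := sperm_mid_val (.inr i) j
        rw [Fin.lt_def] at hj
        simp only [posI] at this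
        have : (i.1 : ℕ) = c := rfl
        omega
      · have := sperm_mid_val (.inr i) c
        simp only [posI] at this
        have : (i.1 : ℕ) = c := rfl
        refine ⟨?_, ?_, ?_⟩ <;> omega
    · by_cases h2 : 2 * ((c : ℕ) + 1) = n
      · let i : Mid2 n := ⟨c, h2⟩
        refine ⟨.inr (.inl i), fun j hj => Fin.ext ?_, ?_⟩
        · have := sperm_mid_val (.inl i) j
          rw [Fin.lt_def] at hj
          simp only [posI] at this
          have : (i.1 : ℕ) = c := rfl
          omega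
        · have := sperm_mid_val (.inl i) c
          simp only [posI] at this
          have : (i.1 : ℕ) = c := rfl
          refine ⟨?_, ?_, ?_⟩ <;> omega
      let i : Short n := ⟨⟨n - (c + 2), by omega⟩, by simp only; omega⟩
      refine ⟨.inl i, fun j hj => Fin.ext ?_, ?_⟩
      · have := sperm_short_val i j
        rw [Fin.lt_def] at hj
        have : (i.1 : ℕ) = n - (c + 2) := rfl
        omega
      · have := sperm_short_val i c
        have : (i.1 : ℕ) = n - (c + 2) := rfl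
        refine ⟨?_, ?_, ?_⟩ <;> omega

/-- The first `k` columns are diagonal. -/
def Cleared (k : ℕ) (g : SUJ σ n) : Prop := ∀ j : Fin n, (j : ℕ) < k → ∀ i, i ≠ j → g.1.1 i j = 0

theorem Cleared.rows {k : ℕ} {g : SUJ σ n} (hg : Cleared k g) {j : Fin n} (hj : (j : ℕ) < k) {b : Fin n}
    (hb : b ≠ Fin.rev j) : g.1.1 (Fin.rev j) b = 0 := by
  have h0 : g.1.1 j j ≠ 0 := fun h => det_ne g (Matrix.det_eq_zero_of_column_eq_zero j fun i => by
    rcases eq_or_ne i j with rfl | hi
    · exact h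
    · exact hg j hj i hi)
  have h := uni_iff.1 g.2 b j
  rw [if_neg hb, Finset.sum_eq_single (Fin.rev j), Fin.rev_rev, mul_eq_zero, map_eq_zero] at h
  · exact h.resolve_right h0
  · intro i _ hi
    rw [hg j hj (Fin.rev i) (fun e => hi (by rw [← e, Fin.rev_rev])), map_zero, mul_zero]
  · simp

theorem monom_mul_apply {t : N σ n} (g : SUJ σ n) (i j : Fin n) :
    (ν t * g).1.1 (t.1.1.1 i) j = (ν t).1.1 (t.1.1.1 i) i * g.1.1 i j := by
  rw [coe_mul, (monom_ν t).mul_apply_perm]

theorem Cleared.monom {k : ℕ} {g : SUJ σ n} (hg : Cleared k g) {t : N σ n}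
    (ht : ∀ j : Fin n, (j : ℕ) < k → t.1.1.1 j = j) : Cleared k (ν t * g) := by
  intro j hj i hij
  obtain ⟨i, rfl⟩ := t.1.1.1.surjective i
  rw [monom_mul_apply, hg j hj i (fun e => hij (by rw [e, ht j hj])), mul_zero]

include D in
theorem exists_unipotent {g : SUJ σ n} {k : Fin n} (hk : 2 * ((k : ℕ) + 1) ≤ n) (hg : Cleared k g)
    (ha : g.1.1 (Fin.rev k) k ≠ 0) :
    ∃ u ∈ U σ n, (∀ j : Fin n, j < k → ∀ i, u.1.1 i j = if i = j then 1 else 0) ∧
      ∀ i, g.1.1 i k = u.1.1 i (Fin.rev k) * g.1.1 (Fin.rev k) k := by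
  classical
  set r := Fin.rev k with hr
  set a := g.1.1 r k
  have hkr : k < r := by rw [hr, Fin.lt_def, Fin.val_rev]; omega
  have hrk : Fin.rev r = k := Fin.rev_rev k
  let w : Fin n → F := fun i => if i = k ∨ i = r then 0 else g.1.1 i k / a
  set β := g.1.1 k k / a
  have hwk : w k = 0 := if_pos (Or.inl rfl)
  have hwr : w r = 0 := if_pos (Or.inr rfl)
  have hbig : ∀ i, r < i → g.1.1 i k = 0 := fun i hi => by
    have hj : (Fin.rev i : ℕ) < k := by rw [hr, Fin.lt_def, Fin.val_rev] at hi; rw [Fin.val_rev]; omega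
    have := hg.rows hj (b := k) (fun e => by rw [Fin.rev_rev] at e; exact absurd (e ▸ hi) (lt_asymm hkr))
    rwa [Fin.rev_rev] at this
  have hwbig : ∀ i, r < i → w i = 0 := fun i hi => by simp [w, hbig i hi]
  have hiso : β + σ β + ∑ i, w i * σ (w (Fin.rev i)) = 0 := by
    have h := uni_iff.1 g.2 k k
    rw [if_neg hkr.ne, ← Finset.sum_sdiff (Finset.subset_univ ({k, r} : Finset (Fin n))),
      Finset.sum_pair hkr.ne, ← hr, hrk] at h
    rw [← Finset.sum_sdiff (s₁ := ({k, r} : Finset (Fin n))) (Finset.subset_univ _),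
      Finset.sum_pair hkr.ne, hwk, hwr, zero_mul, zero_mul, add_zero, add_zero]
    have hσa : σ a ≠ 0 := (map_ne_zero σ).2 ha
    have e : ∀ i ∈ Finset.univ \ ({k, r} : Finset (Fin n)),
        w i * σ (w (Fin.rev i)) = g.1.1 i k * σ (g.1.1 (Fin.rev i) k) / (a * σ a) := by
      intro i hi
      simp only [Finset.mem_sdiff, Finset.mem_univ, true_and, Finset.mem_insert, Finset.mem_singleton, not_or] at hi
      have h1 : Fin.rev i ≠ k := fun e => hi.2 (by rw [hr, ← e, Fin.rev_rev])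
      have h2 : Fin.rev i ≠ r := fun e => hi.1 (Fin.rev_injective e)
      simp only [w, hi.1, hi.2, h1, h2, or_self, if_false, map_div₀]
      rw [div_mul_div_comm]
    rw [Finset.sum_congr rfl e, ← Finset.sum_div, show β = g.1.1 k k / a from rfl, map_div₀]
    field_simp
    linear_combination h
  let γ : Fin n → F := fun x => -σ (w (Fin.rev x)) + if x = r then β else 0
  let u₀ : Matrix (Fin n) (Fin n) F := Matrix.of fun i x =>
    (if i = x then 1 else 0) + (if x = r then w i else 0) + (if i = k then γ x else 0)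
  have hdiag : ∀ i, u₀ i i = 1 := fun i => by
    simp only [u₀, Matrix.of_apply, if_true]
    have h1 : (if i = r then w i else 0) = 0 := by split_ifs with h; exacts [h ▸ hwr, rfl]
    have h2 : (if i = k then γ i else 0) = 0 := by
      split_ifs with h
      · subst h; simp [γ, ← hr, hwr, hkr.ne]
      · rfl
    rw [h1, h2, add_zero, add_zero]
  have hupper : ∀ i x, x < i → u₀ i x = 0 := fun i x hxi => by
    simp only [u₀, Matrix.of_apply, if_neg hxi.ne']
    have h1 : (if x = r then w i else 0) = 0 := by split_ifs with h; exacts [hwbig i (h ▸ hxi), rfl]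
    have h2 : (if i = k then γ x else 0) = 0 := by
      split_ifs with h
      · subst h
        have h3 : r < Fin.rev x := Fin.rev_lt_rev.2 hxi
        simp [γ, hwbig _ h3, (hxi.trans hkr).ne]
      · rfl
    rw [h1, h2, add_zero, add_zero]
  have hdet : u₀.det = 1 := by
    rw [Matrix.det_of_upperTriangular (fun i x h => hupper i x h)]
    exact Finset.prod_eq_one fun i _ => hdiag i
  have hP : ∀ i y, σ (u₀ (Fin.rev i) y) = (if i = Fin.rev y then 1 else 0) + (if y = r then σ (w (Fin.rev i)) else 0)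
      + (if i = r then σ (γ y) else 0) := by
    intro i y
    simp only [u₀, Matrix.of_apply, map_add, apply_ite σ, map_one, map_zero, Fin.rev_eq_iff, hr]
  have huni : Uni σ u₀ := by
    rw [uni_iff]
    intro x y
    have e1 : ∑ i, u₀ i x * σ (u₀ (Fin.rev i) y) = σ (u₀ (Fin.rev x) y) +
        (if x = r then ∑ i, w i * σ (u₀ (Fin.rev i) y) else 0) + γ x * σ (u₀ r y) := by
      simp only [u₀, Matrix.of_apply, add_mul, Finset.sum_add_distrib, ite_mul, one_mul, zero_mul,
        Finset.sum_ite_eq', Finset.mem_univ, if_true, hr]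
      split_ifs <;> simp
    have e2 : ∑ i, w i * σ (u₀ (Fin.rev i) y) =
        w (Fin.rev y) + if y = r then ∑ i, w i * σ (w (Fin.rev i)) else 0 := by
      simp only [hP, mul_add, Finset.sum_add_distrib, mul_ite, mul_one, mul_zero, Finset.sum_ite_eq',
        Finset.mem_univ, if_true, hwr, zero_mul, add_zero]
      split_ifs <;> simp
    have e3 : σ (u₀ r y) = if y = r then 1 else 0 := by
      have := hP k y
      rw [← hr, hwr, map_zero, if_neg hkr.ne] at this
      rw [this, ite_self, add_zero, add_zero]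
      exact if_congr ⟨fun h => by rw [hr, h, Fin.rev_rev], fun h => by rw [h, hrk]⟩ rfl rfl
    rw [e1, e2, e3, hP]
    have hσγ : σ (γ y) = -w (Fin.rev y) + if y = r then σ β else 0 := by
      simp only [γ, map_add, map_neg, apply_ite σ, map_zero, D.conj.invol]
    rw [hσγ]
    by_cases hy : y = r <;> by_cases hx : x = r <;> simp only [γ, hy, hx, if_true, if_false]
    · linear_combination hiso
    all_goals ring
  refine ⟨⟨⟨u₀, hdet⟩, huni⟩, mem_U_iff.2 ⟨hdiag, fun i x h => hupper i x h⟩, fun j hj i => ?_, fun i => ?_⟩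
  · show u₀ i j = _
    simp only [u₀, Matrix.of_apply]
    have h3 : r < Fin.rev j := Fin.rev_lt_rev.2 hj
    simp [γ, hwbig _ h3, (hj.trans hkr).ne]
  · show _ = u₀ i r * a
    simp only [u₀, Matrix.of_apply, if_true, γ, hrk, hwk, map_zero, neg_zero, zero_add]
    rcases eq_or_ne i r with rfl | h1
    · simp [hwr, hkr.ne', a]
    rcases eq_or_ne i k with rfl | h2
    · simp [hwk, hkr.ne, β, div_mul_cancel₀ _ ha]
    · simp [w, h1, h2, div_mul_cancel₀ _ ha]

theorem exists_clear_step (H : Subgroup (SUJ σ n)) (hs : ∀ i, ν (s D i) ∈ H) (hU : U σ n ≤ H) {g : SUJ σ n}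
    {k : Fin n} (hk : 2 * ((k : ℕ) + 1) ≤ n) (hg : Cleared k g) : ∃ h ∈ H, Cleared ((k : ℕ) + 1) (h * g) := by
  classical
  obtain ⟨c₀, hc₀, hc₀'⟩ : ∃ c, g.1.1 c k ≠ 0 ∧ k ≤ c := by
    have h := uni_iff.1 g.2 k (Fin.rev k)
    rw [Fin.rev_rev, if_pos rfl] at h
    obtain ⟨i, -, hi⟩ := Finset.exists_ne_zero_of_sum_ne_zero (show
      ∑ i, g.1.1 i k * σ (g.1.1 (Fin.rev i) (Fin.rev k)) ≠ 0 by rw [h]; exact one_ne_zero)
    refine ⟨i, left_ne_zero_of_mul hi, not_lt.1 fun hik => right_ne_zero_of_mul hi ?_⟩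
    rw [hg.rows hik (fun e => hik.ne (Fin.rev_injective e).symm), map_zero]
  have hle : ∀ c, g.1.1 c k ≠ 0 → (c : ℕ) + k + 1 ≤ n := by
    intro c hc
    by_contra hcon
    have hj : (Fin.rev c : ℕ) < k := by rw [Fin.val_rev]; omega
    have h := hg.rows hj (b := k) (fun e => by
      have := congrArg Fin.val e; simp only [Fin.val_rev] at this; omega)
    rw [Fin.rev_rev] at h
    exact hc h
  obtain ⟨c, hc, hmax⟩ := Finset.exists_max_image (Finset.univ.filter fun i => g.1.1 i k ≠ 0) id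
    ⟨c₀, by simpa using hc₀⟩
  rw [Finset.mem_filter] at hc
  have hkc : k ≤ c := hc₀'.trans (hmax c₀ (by simpa using hc₀))
  have hmid : 2 * (c : ℕ) + 1 ≠ n := fun hm => by
    have hrc : Fin.rev c = c := Fin.ext (by rw [Fin.val_rev]; omega)
    have h := uni_iff.1 g.2 k k
    rw [if_neg (fun e => by have := congrArg Fin.val e; rw [Fin.val_rev] at this; omega),
      Finset.sum_eq_single c, hrc, mul_eq_zero, map_eq_zero, or_self] at h
    · exact hc.2 h
    · intro i _ hi
      rcases lt_or_gt_of_ne hi with hlt | hgt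
      · have : c < Fin.rev i := by rw [← hrc]; exact Fin.rev_lt_rev.2 hlt
        by_contra hne
        exact absurd (hmax (Fin.rev i) (by simpa using ((map_ne_zero σ).1 (right_ne_zero_of_mul hne)))) this.not_ge
      · by_contra hne
        exact absurd (hmax i (by simpa using left_ne_zero_of_mul hne)) hgt.not_ge
    · simp
  obtain ⟨t, ht, htfix, htc⟩ := exists_move D H hs k _ c rfl hkc (hle c hc.2) hmid
  set g₁ := ν t * g
  have hg₁ : Cleared k g₁ := hg.monom fun j hj => htfix j hj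
  have ha : g₁.1.1 (Fin.rev k) k ≠ 0 := by
    rw [← htc, monom_mul_apply]
    exact mul_ne_zero ((monom_ν t).entry_ne_zero (det_ne _) c) hc.2
  obtain ⟨u, hu, hucol, huk⟩ := exists_unipotent D hk hg₁ ha
  obtain ⟨t', ht', htfix', htk⟩ := exists_move D H hs k _ k rfl le_rfl (by omega) (by omega)
  refine ⟨ν t'⁻¹ * (u⁻¹ * ν t), mul_mem (by rw [map_inv]; exact inv_mem ht') (mul_mem (inv_mem (hU hu)) ht), ?_⟩
  rw [mul_assoc, mul_assoc]
  have hcol : ∀ (j j' : Fin n) (x : F), (∀ l, g₁.1.1 l j = u.1.1 l j' * x) →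
      ∀ i, (u⁻¹ * g₁).1.1 i j = (1 : Matrix (Fin n) (Fin n) F) i j' * x := by
    intro j j' x hl i
    rw [coe_mul, Matrix.mul_apply]
    simp only [hl, ← mul_assoc]
    rw [← Finset.sum_mul, ← Matrix.mul_apply, ← coe_mul, inv_mul_cancel]
    rfl
  intro j hj i hij
  obtain ⟨i, rfl⟩ := t'⁻¹.1.1.1.surjective i
  rw [monom_mul_apply]
  refine mul_eq_zero_of_right _ ?_
  have hinv : t'⁻¹.1.1.1 = t'.1.1.1⁻¹ := rfl
  rcases Nat.lt_or_ge (j : ℕ) k with hjk | hjk
  · have hij' : i ≠ j := fun e => hij (by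
      rw [e, hinv]
      exact Equiv.Perm.inv_eq_iff_eq.2 (htfix' j hjk).symm)
    rw [hcol j j (g₁.1.1 j j) (fun l => ?_), Matrix.one_apply_ne hij', zero_mul]
    rw [hucol j hjk l]
    split_ifs with h
    · rw [h, one_mul]
    · rw [zero_mul, hg₁ j hjk l h]
  · obtain rfl : j = k := Fin.ext (by omega)
    have hij' : i ≠ Fin.rev j := fun e => hij (by
      rw [e, hinv]
      exact Equiv.Perm.inv_eq_iff_eq.2 htk.symm)
    rw [hcol j (Fin.rev j) _ huk, Matrix.one_apply_ne hij', zero_mul]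

theorem closure_eq_top : Subgroup.closure ((B σ n : Set (SUJ σ n)) ∪ Set.range (ν ∘ s D)) = ⊤ := by
  set H := Subgroup.closure ((B σ n : Set (SUJ σ n)) ∪ Set.range (ν ∘ s D (n := n)))
  have hB : B σ n ≤ H := fun x hx => Subgroup.subset_closure (Or.inl hx)
  have hs : ∀ i, ν (s D i) ∈ H := fun i => Subgroup.subset_closure (Or.inr ⟨i, rfl⟩)
  rw [eq_top_iff]
  intro g _
  suffices key : ∀ k : ℕ, 2 * k ≤ n → ∃ h ∈ H, Cleared k (h * g) by
    obtain ⟨h, hh, hc⟩ := key (n / 2) (by omega)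
    suffices hb : h * g ∈ B σ n by
      have := mul_mem (inv_mem hh) (hB hb)
      rwa [inv_mul_cancel_left] at this
    refine mem_B.2 fun a b hab => ?_
    rw [Fin.lt_def] at hab
    by_cases hb : (b : ℕ) < n / 2
    · exact hc b hb a (Fin.ne_of_gt hab)
    · have hj : (Fin.rev a : ℕ) < n / 2 := by rw [Fin.val_rev]; omega
      have := hc.rows hj (b := b) (by rw [Fin.rev_rev]; exact Fin.ne_of_lt hab)
      rwa [Fin.rev_rev] at this
  intro k
  induction k with
  | zero => exact fun _ => ⟨1, one_mem H, fun j hj => absurd hj (Nat.not_lt_zero _)⟩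
  | succ k ih =>
    intro hk
    obtain ⟨h, hh, hc⟩ := ih (by omega)
    obtain ⟨h', hh', hc'⟩ := exists_clear_step D H hs (U_le_B.trans hB) (k := ⟨k, by omega⟩)
      (show 2 * (k + 1) ≤ n from hk) hc
    exact ⟨h' * h, mul_mem hh' hh, by rwa [mul_assoc]⟩

/-- The split pair. -/
theorem splitData : SteinbergModule.SplitData (ν (σ := σ) (n := n)) ε (B σ n) (U σ n) (s D) (R D) where
  U_le := U_le_B
  U_conj := B_conj_U
  B_dec b hb := by
    obtain ⟨d, hd, hconj, v, hv, rfl⟩ := exists_decomp hb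
    refine ⟨_, hconj v hv, ⟨((1, 1), d), hd, fun _ => rfl⟩, mem_B_of_monom hd, ?_⟩
    show _ = d * v * d⁻¹ * d
    group
  torus t ht := ⟨by simp [ε, torus_perm ht], fun m => by
    rw [← map_inv, ← map_mul, ← map_mul]
    refine mem_B_of_perm ?_
    show (m⁻¹ * t * m : N σ n).1.1.1 = 1
    simp [torus_perm ht]⟩
  sign i := by
    have h : ε (s D i) = Equiv.Perm.sign (sperm i) * Equiv.Perm.sign (tperm i) := by
      rw [show sperm i = (s D i).1.1.1 by rw [s_perm], show tperm i = (s D i).1.1.2 by rw [s_perm]]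
      rfl
    rw [h]
    rcases i with k | a | a
    · have hk := k.2
      have h1 : k.1 ≠ k1 k := Fin.ne_of_val_ne (by rw [k1_val]; omega)
      have h2 : Fin.rev (k1 k) ≠ Fin.rev k.1 := Fin.rev_injective.ne h1.symm
      have h3 : proj k.1 ≠ proj (k1 k) := Fin.ne_of_val_ne (by simp only [proj, k1_val]; omega)
      simp [sperm, tperm, Equiv.Perm.sign_swap h1, Equiv.Perm.sign_swap h2, Equiv.Perm.sign_swap h3]
    · have h1 : a.1 ≠ Fin.rev a.1 := (posI_lt_posJ (.inr (.inl a) : ι n)).ne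
      simp [sperm, tperm, Equiv.Perm.sign_swap h1]
    · have h1 : a.1 ≠ Fin.rev a.1 := (posI_lt_posJ (.inr (.inr a) : ι n)).ne
      simp [sperm, tperm, Equiv.Perm.sign_swap h1]
  sq i := by
    rw [← map_mul]
    refine mem_B_of_perm ?_
    show (s D i).1.1.1 * (s D i).1.1.1 = 1
    rw [s_perm]
    exact sperm_sq i
  root_le i x hx := root_mem_U D hx
  split := split_root D
  side i t := by
    rw [fix_iff, fix_iff, show (s D i * t).1.1.1 = sperm i * t.1.1.1 by
      show (s D i).1.1.1 * t.1.1.1 = _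
      rw [s_perm]]
    have h1 : (sperm i).symm (posI i) = posJ i := by rw [Equiv.symm_apply_eq]; exact (sperm_swap i).2.symm
    have h2 : (sperm i).symm (posJ i) = posI i := by rw [Equiv.symm_apply_eq]; exact (sperm_swap i).1.symm
    simp only [Equiv.Perm.mul_def, Equiv.symm_trans_apply, h1, h2, not_lt]
    exact ⟨le_of_lt, fun h => lt_of_le_of_ne h (t.1.1.1.symm.injective.ne (posI_lt_posJ i).ne)⟩
  rank_one := rank_one D
  gen := closure_eq_top D
  big := by
    rcases Nat.eq_zero_or_pos n with hn | hn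
    · subst hn
      refine ⟨1, fun v _ t _ => ⟨ext' (Matrix.ext fun a => a.elim0), ?_⟩⟩
      exact mem_B.2 fun a => a.elim0
    obtain ⟨J, hJ⟩ := exists_monom D.conj hn (Fin.revPerm (n := n)) (fun j => rfl)
    let n₀ : N σ n := ⟨((Fin.revPerm, 1), J), hJ, fun x => by simpa using proj_rev x⟩
    refine ⟨n₀, fun v hv t h => ?_⟩
    have he : v.1.1 * (ν n₀).1.1 = (ν t).1.1 * ((ν t)⁻¹ * v * ν n₀).1.1 := by
      rw [← coe_mul, ← coe_mul, mul_assoc, mul_inv_cancel_left]
    obtain ⟨hσ, hv1⟩ := big_cell (r := fun a : Fin n => (a : ℕ)) Fin.val_injective (w₀ := Fin.revPerm)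
      (fun a b hab => Fin.lt_def.1 (Fin.rev_lt_rev.2 (Fin.lt_def.2 hab))) (mem_U_iff.1 hv).1
      (fun a b hab => (mem_U_iff.1 hv).2 a b (Fin.lt_def.2 hab)) (monom_ν t) (monom_ν n₀) (det_ne _) (det_ne _)
      (fun a b hab => mem_B.1 h a b (Fin.lt_def.2 hab)) he
    refine ⟨ext' hv1, ?_⟩
    rw [← map_inv, ← map_mul]
    refine mem_B_of_perm ?_
    show (n₀⁻¹ * t : N σ n).1.1.1 = 1
    simp [n₀, hσ]

/-- An element of the monomial group keeping every simple root positive is in the torus. -/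
theorem perm_eq_one_of_fix (t : N σ n) (hfix : ∀ i, t.1.1.1.symm (posI i) < t.1.1.1.symm (posJ i)) :
    t.1.1.1 = 1 := by
  set ρ := t.1.1.1.symm with hρ
  have hpos : ∀ i, ρ (posI i) < ρ (posJ i) := hfix
  have hsucc : ∀ x y : Fin n, (y : ℕ) = x + 1 → ρ x < ρ y := by
    intro x y hxy
    have hy := y.2
    rcases Nat.lt_or_ge (2 * (x : ℕ) + 3) n with hlt | hge
    · have := hpos (.inl ⟨x, by omega⟩)
      rwa [show posJ (.inl (⟨x, by omega⟩ : Short n) : ι n) = y from Fin.ext hxy.symm] at this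
    have hmid : ∀ a : Mid3 n, ρ a.1 < ρ (m1 a) ∧ ρ (m1 a) < ρ (Fin.rev a.1) := fun a => by
      have h : ρ a.1 < ρ (Fin.rev a.1) := hpos (.inr (.inr a))
      have h1 := congrArg Fin.val (N_symm_rev t (m1 a))
      rw [m1_rev, Fin.val_rev] at h1
      have h2 := N_symm_rev t a.1
      rw [← hρ] at h1 h2
      rw [h2, Fin.lt_def, Fin.val_rev] at h
      rw [h2, Fin.lt_def, Fin.lt_def, Fin.val_rev]
      omega
    by_cases h3 : 2 * ((x : ℕ) + 1) + 1 = n
    · rw [show y = m1 ⟨x, h3⟩ from Fin.ext hxy]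
      exact (hmid ⟨x, h3⟩).1
    by_cases h2 : 2 * ((x : ℕ) + 1) = n
    · have := hpos (.inr (.inl ⟨x, h2⟩))
      rwa [show posJ (.inr (.inl (⟨x, h2⟩ : Mid2 n)) : ι n) = y from
        Fin.ext (by simp [posJ, Fin.val_rev]; omega)] at this
    by_cases h1 : 2 * (x : ℕ) + 1 = n
    · let a : Mid3 n := ⟨⟨x - 1, by omega⟩, by simp only; omega⟩
      have e1 : x = m1 a := Fin.ext (by simp [m1_val, a]; omega)
      have e2 : y = Fin.rev a.1 := Fin.ext (by simp [a, Fin.val_rev]; omega)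
      rw [e1, e2]
      exact (hmid a).2
    let k : Short n := ⟨⟨n - (y + 1), by omega⟩, by simp only; omega⟩
    have := hpos (.inl k)
    have e1 : x = Fin.rev (k1 k) := Fin.ext (by simp [k, k1_val, Fin.val_rev]; omega)
    have e2 : y = Fin.rev k.1 := Fin.ext (by simp [k, Fin.val_rev]; omega)
    rw [e1, e2, hρ, N_symm_rev, N_symm_rev]
    exact Fin.rev_lt_rev.2 this
  have hmono : StrictMono ρ := by
    rcases n with _ | m
    · exact fun a => a.elim0
    · exact Fin.strictMono_iff_lt_succ.2 fun i => hsucc _ _ (by simp)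
  have hid : (ρ : Fin n → Fin n) = id :=
    (hmono.range_inj strictMono_id).1 (by simp [ρ.range_eq_univ])
  refine Equiv.ext fun x => ?_
  have := congrFun hid (t.1.1.1 x)
  simpa [hρ] using this.symm

include D in
theorem mem_B_of_normalizes {g : SUJ σ n} (hg : ∀ u ∈ U σ n, g⁻¹ * u * g ∈ U σ n) : g ∈ B σ n :=
  SplitBruhat.mem_B_of_normalizes (splitData D)
    (fun t ht => mem_B_of_perm (perm_eq_one_of_fix t fun i => (fix_iff D t i).1 (ht i))) hg

variable {p : ℕ} [Fact p.Prime] [CharP F p] {G : Type*} [Group G] [Finite G] {π : SUJ σ n →* G}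

include D in
/-- The image of the unitriangular subgroup is a Sylow subgroup. -/
theorem exists_sylow (hπ : Function.Surjective π) :
    ∃ P : Sylow p G, (P : Subgroup G) = (U σ n).map π := by
  obtain ⟨P, hP⟩ := ((UnitriangularSL.U_isPGroup (F := F) (n := n) p).comap_of_injective (SUJ σ n).subtype
    (SUJ σ n).subtype_injective : IsPGroup p (U σ n)).exists_le_sylow
  refine ⟨P.mapSurjective hπ, ?_⟩
  rw [Sylow.coe_mapSurjective]
  congr 1
  by_contra hne
  have hlt : U σ n < (P : Subgroup (SUJ σ n)) := lt_of_le_of_ne hP (Ne.symm hne)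
  haveI : Group.IsNilpotent (P : Subgroup (SUJ σ n)) := P.2.isNilpotent
  have hlt' : (U σ n).subgroupOf P < ⊤ := lt_top_iff_ne_top.2 fun h => hlt.not_ge (Subgroup.subgroupOf_eq_top.1 h)
  obtain ⟨x, hxN, hxU⟩ := SetLike.exists_of_lt (Group.normalizerCondition_of_isNilpotent _ hlt')
  refine hxU (show (x : SUJ σ n) ∈ U σ n from ?_)
  have hnorm : ∀ u ∈ U σ n, (x : SUJ σ n)⁻¹ * u * (x : SUJ σ n) ∈ U σ n := fun u hu => by
    have h := (Subgroup.mem_normalizer_iff.1 (inv_mem hxN) ⟨u, hP hu⟩).1 hu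
    simpa [Subgroup.mem_subgroupOf] using h
  obtain ⟨d, hd, -, u, hu, hxu⟩ := exists_decomp (mem_B_of_normalizes D hnorm)
  have hD : d ∈ (P : Subgroup (SUJ σ n)) := by
    rw [← mul_inv_eq_iff_eq_mul.2 hxu]
    exact mul_mem x.2 (inv_mem (hP hu))
  obtain ⟨k, hk⟩ := P.2 ⟨_, hD⟩
  have hk' : d ^ p ^ k = 1 := congrArg Subtype.val hk
  have hd1 : d = 1 := by
    have hdg : d.1.1 = Matrix.diagonal fun a => d.1.1 a a := by
      ext a b
      rcases eq_or_ne a b with rfl | hab
      · rw [Matrix.diagonal_apply_eq]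
      · rw [Matrix.diagonal_apply_ne _ hab, hd a b (by simpa using hab)]
    refine ext' ?_
    rw [hdg]
    show _ = (1 : Matrix.SpecialLinearGroup (Fin n) F).1
    rw [Matrix.SpecialLinearGroup.coe_one, ← Matrix.diagonal_one]
    congr 1
    funext a
    have h1 : d.1.1 a a ^ p ^ k = 1 := by
      have h := congrArg (fun g : SUJ σ n => g.1.1 a a) hk'
      simp only [SubmonoidClass.coe_pow, Matrix.SpecialLinearGroup.coe_pow, OneMemClass.coe_one,
        Matrix.SpecialLinearGroup.coe_one, Matrix.one_apply_eq] at h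
      rwa [hdg, Matrix.diagonal_pow, Matrix.diagonal_apply_eq, Pi.pow_apply] at h
    have h2 : (d.1.1 a a - 1) ^ p ^ k = 0 := by rw [sub_pow_char_pow, one_pow, h1, sub_self]
    exact sub_eq_zero.1 (pow_eq_zero_iff (pow_ne_zero k (Fact.out : p.Prime).ne_zero) |>.1 h2)
  rw [hxu, hd1, one_mul]
  exact hu

include D in
theorem center_le_B {z : SUJ σ n} (hz : z ∈ Subgroup.center (SUJ σ n)) : z ∈ B σ n :=
  mem_B_of_normalizes D fun u hu => by
    rw [mul_assoc, Subgroup.mem_center_iff.1 hz u, inv_mul_cancel_left]; exact hu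

end CfsgLib.PGroup.SteinbergSU
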