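import Cfsg.Prelude.Def_Characters
import Mathlib

/-!
The Steinberg module of a group with a split (B,N)-pair, realised inside the functions on `G/B`: it has a basis
permuted regularly by `U`, and it is irreducible. The Bruhat decomposition is not used.
-/

set_option autoImplicit false
set_option linter.unusedSectionVars false

namespace CfsgLib.PGroup.SteinbergModule

open scoped Classical

/-- The data of a split (B,N)-pair used in the construction. -/
structure SplitData {G : Type*} [Group G] {N : Type*} [Group N] (ν : N →* G) (ε : N →* ℤˣ) (B U : Subgroup G)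
    {ι : Type*} (s : ι → N) (R : ι → Set G) : Prop where
  U_le : U ≤ B
  U_conj : ∀ b ∈ B, ∀ u ∈ U, b * u * b⁻¹ ∈ U
  B_dec : ∀ b ∈ B, ∃ u ∈ U, ∃ t : N, ν t ∈ B ∧ b = u * ν t
  torus : ∀ t : N, ν t ∈ B → ε t = 1 ∧ ∀ n : N, (ν n)⁻¹ * ν t * ν n ∈ B
  sign : ∀ i, ε (s i) = -1
  sq : ∀ i, ν (s i) * ν (s i) ∈ B
  root_le : ∀ i, ∀ x ∈ R i, x ∈ U
  split : ∀ i, ∀ u ∈ U, ∃ y, ∃ x ∈ R i, u = y * x ∧ ν (s i) * y * (ν (s i))⁻¹ ∈ U
  side : ∀ i n, (∀ x ∈ R i, (ν n)⁻¹ * x * ν n ∈ B) ↔ ¬ ∀ x ∈ R i, (ν (s i * n))⁻¹ * x * ν (s i * n) ∈ B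
  rank_one : ∀ i, ∀ x ∈ R i, x ≠ 1 → ∃ x' ∈ R i, ∃ t : N, ν t ∈ B ∧ ∃ x'' ∈ R i,
    ν (s i) * x * ν (s i) = x' * ν t * ν (s i) * x''
  gen : Subgroup.closure ((B : Set G) ∪ Set.range (ν ∘ s)) = ⊤
  big : ∃ n₀ : N, ∀ v ∈ U, ∀ n : N, (ν n)⁻¹ * v * ν n₀ ∈ B → v = 1 ∧ (ν n₀)⁻¹ * ν n ∈ B

variable {G : Type*} [Group G] [Fintype G] {N : Type*} [Group N] [Fintype N] {ν : N →* G} {ε : N →* ℤˣ}
  {B U : Subgroup G} {ι : Type*} {s : ι → N} {R : ι → Set G}

/-- The permutation representation on the functions on `G/B`. -/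
def perm (B : Subgroup G) : Representation ℂ G (G ⧸ B → ℂ) where
  toFun g := LinearMap.funLeft ℂ ℂ fun x : G ⧸ B => g⁻¹ • x
  map_one' := by ext f x; simp [LinearMap.funLeft_apply]
  map_mul' g h := by ext f x; simp [LinearMap.funLeft_apply, mul_smul]

theorem perm_apply (g : G) (f : G ⧸ B → ℂ) (x : G ⧸ B) : perm B g f x = f (g⁻¹ • x) := rfl

/-- The characteristic function of a coset. -/
noncomputable def delta (B : Subgroup G) (g : G) : G ⧸ B → ℂ := Pi.single (g : G ⧸ B) 1

theorem perm_delta (g h : G) : perm B g (delta B h) = delta B (g * h) := by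
  funext x
  simp only [perm_apply, delta, Pi.single_apply, inv_smul_eq_iff]
  rfl

theorem delta_eq {g h : G} (hgh : g⁻¹ * h ∈ B) : delta B g = delta B h := by
  rw [delta, delta, QuotientGroup.eq.2 hgh]

/-- The generator of the Steinberg module. -/
noncomputable def v0 (ν : N →* G) (ε : N →* ℤˣ) (B : Subgroup G) : G ⧸ B → ℂ :=
  ∑ n : N, ((ε n : ℤ) : ℂ) • delta B (ν n)

variable (hd : SplitData ν ε B U s R)
include hd

theorem fix_torus {t : N} (ht : ν t ∈ B) (n : N) : delta B (ν t * ν n) = delta B (ν n) := by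
  refine (delta_eq ?_).symm
  rw [← mul_assoc]
  exact (hd.torus t ht).2 n

theorem v0_torus {t : N} (ht : ν t ∈ B) : perm B (ν t) (v0 ν ε B) = v0 ν ε B := by
  simp only [v0, map_sum, map_smul, perm_delta, fix_torus hd ht]

theorem v0_s (i : ι) : perm B (ν (s i)) (v0 ν ε B) = -v0 ν ε B := by
  simp only [v0, map_sum, map_smul, perm_delta, ← map_mul]
  rw [← Finset.sum_neg_distrib]
  refine Fintype.sum_equiv (Equiv.mulLeft (s i)) _ _ fun n => ?_
  simp [hd.sign i]

/-- Whether the root group fixes a coset. -/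
def Fix (ν : N →* G) (B : Subgroup G) (R : ι → Set G) (i : ι) (n : N) : Prop :=
  ∀ x ∈ R i, (ν n)⁻¹ * x * ν n ∈ B

theorem v0_eq (i : ι) : v0 ν ε B = ∑ n ∈ Finset.univ.filter (fun n => Fix ν B R i n),
    ((ε n : ℤ) : ℂ) • (delta B (ν n) - delta B (ν (s i) * ν n)) := by
  rw [v0, ← Finset.sum_filter_add_sum_filter_not Finset.univ (fun n => Fix ν B R i n)]
  simp only [smul_sub, Finset.sum_sub_distrib]
  rw [sub_eq_add_neg, ← Finset.sum_neg_distrib, add_right_inj]
  refine (Finset.sum_bij (fun n _ => s i * n) ?_ ?_ ?_ ?_).symm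
  · intro n hn
    simp only [Finset.mem_filter, Finset.mem_univ, true_and] at hn ⊢
    exact (hd.side i n).1 hn
  · intro a _ b _ hab
    exact mul_left_cancel hab
  · intro n hn
    simp only [Finset.mem_filter, Finset.mem_univ, true_and] at hn
    refine ⟨(s i)⁻¹ * n, ?_, mul_inv_cancel_left _ _⟩
    simp only [Finset.mem_filter, Finset.mem_univ, true_and]
    refine (hd.side i _).2 ?_
    rwa [mul_inv_cancel_left]
  · intro n _
    simp [hd.sign i]

theorem v0_rank_one (i : ι) {x : G} (hx : x ∈ R i) (hx1 : x ≠ 1) :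
    ∃ x' ∈ R i, perm B (ν (s i)) (perm B x (v0 ν ε B)) = perm B x' (v0 ν ε B) - v0 ν ε B := by
  obtain ⟨x', hx', t, ht, x'', hx'', he⟩ := hd.rank_one i x hx hx1
  refine ⟨x', hx', ?_⟩
  rw [v0_eq hd i]
  simp only [map_sum, map_smul, map_sub, perm_delta, ← Finset.sum_sub_distrib, ← smul_sub]
  refine Finset.sum_congr rfl fun n hn => ?_
  have hn' : Fix ν B R i n := (Finset.mem_filter.1 hn).2
  congr 1
  have hfix : ∀ y ∈ R i, ∀ g : G, delta B (g * (y * ν n)) = delta B (g * ν n) := fun y hy g =>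
    (delta_eq (by simpa [mul_assoc] using hn' y hy)).symm
  have h1 : delta B (ν (s i) * (x * ν n)) = delta B (ν (s i) * ν n) := hfix x hx _
  have h2 : delta B (ν (s i) * (x * (ν (s i) * ν n))) = delta B (x' * (ν (s i) * ν n)) := by
    have : ν (s i) * (x * (ν (s i) * ν n)) = x' * ν t * ν (s i) * (x'' * ν n) := by
      rw [← mul_assoc _ x'' (ν n), ← he]; simp only [mul_assoc]
    rw [this, hfix x'' hx'' _, mul_assoc (x' * ν t), ← map_mul, mul_assoc x']
    exact delta_eq (by
      have := (hd.torus t ht).2 (s i * n)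
      rw [mul_inv_rev, mul_inv_rev, mul_assoc, mul_assoc, ← mul_assoc x'⁻¹, inv_mul_cancel, one_mul]
      have h3 := inv_mem this
      simpa [mul_assoc] using h3)
  have h4 : delta B (x' * ν n) = delta B (ν n) := by
    have := hfix x' hx' 1
    rwa [one_mul, one_mul] at this
  rw [h1, h2, h4]
  abel

/-- The Steinberg module. -/
noncomputable def M (_hd : SplitData ν ε B U s R) : Submodule ℂ (G ⧸ B → ℂ) :=
  Submodule.span ℂ (Set.range fun u : U => perm B (u : G) (v0 ν ε B))

theorem gen_mem {u : G} (hu : u ∈ U) : perm B u (v0 ν ε B) ∈ M hd :=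
  Submodule.subset_span ⟨⟨u, hu⟩, rfl⟩

theorem M_invariant (g : G) : ∀ f ∈ M hd, perm B g f ∈ M hd := by
  have hclos : ∀ g ∈ Subgroup.closure ((B : Set G) ∪ Set.range (ν ∘ s)), ∀ f ∈ M hd, perm B g f ∈ M hd := by
    intro g hg
    rw [← Subgroup.mem_toSubmonoid, Subgroup.closure_toSubmonoid_of_finite] at hg
    induction hg using Submonoid.closure_induction with
    | one => intro f hf; rwa [map_one]
    | mul a b _ _ iha ihb => intro f hf; rw [map_mul]; exact iha _ (ihb f hf)
    | mem g hg =>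
      intro f hf
      induction hf using Submodule.span_induction with
      | zero => rw [map_zero]; exact zero_mem _
      | add a b _ _ iha ihb => rw [map_add]; exact add_mem iha ihb
      | smul c a _ iha => rw [map_smul]; exact Submodule.smul_mem _ c iha
      | mem f hf =>
        obtain ⟨⟨u, hu⟩, rfl⟩ := hf
        rcases hg with hg | ⟨i, rfl⟩
        · obtain ⟨u', hu', t, ht, hgt⟩ := hd.B_dec g hg
          have e : g * u = g * u * g⁻¹ * u' * ν t := by
            rw [mul_assoc _ u', ← hgt, inv_mul_cancel_right]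
          show perm B g (perm B u _) ∈ _
          rw [← Module.End.mul_apply, ← map_mul, e, map_mul, Module.End.mul_apply, v0_torus hd ht]
          exact gen_mem hd (mul_mem (hd.U_conj g hg u hu) hu')
        · obtain ⟨y, x, hx, rfl, hy⟩ := hd.split i u hu
          show perm B (ν (s i)) (perm B (y * x) _) ∈ _
          have e : ν (s i) * (y * x) = ν (s i) * y * (ν (s i))⁻¹ * (ν (s i) * x) := by group
          rw [← Module.End.mul_apply, ← map_mul, e, map_mul (perm B) (ν (s i) * y * (ν (s i))⁻¹),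
            Module.End.mul_apply, map_mul (perm B) (ν (s i)) x, Module.End.mul_apply]
          rcases eq_or_ne x 1 with rfl | hx1
          · rw [map_one, Module.End.one_apply, v0_s hd i, map_neg]
            exact neg_mem (gen_mem hd hy)
          · obtain ⟨x', hx', he⟩ := v0_rank_one hd i hx hx1
            rw [he, map_sub, ← Module.End.mul_apply, ← map_mul]
            exact sub_mem (gen_mem hd (mul_mem hy (hd.root_le i x' hx'))) (gen_mem hd hy)
  exact hclos g (by rw [hd.gen]; exact Subgroup.mem_top g)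

theorem exists_coord : ∃ (z : U → G ⧸ B) (c : ℂ), c ≠ 0 ∧ (∀ u u' : U,
    perm B (u' : G) (v0 ν ε B) (z u) = if u = u' then c else 0) ∧ ∀ u : U, z u = (u : G) • z 1 := by
  obtain ⟨n₀, hbig⟩ := hd.big
  refine ⟨fun u => (((u : G) * ν n₀ : G) : G ⧸ B),
    ∑ n ∈ Finset.univ.filter (fun n => (ν n₀)⁻¹ * ν n ∈ B), ((ε n : ℤ) : ℂ), ?_, fun u u' => ?_, fun u => by simp⟩
  · rw [Finset.sum_congr rfl (fun n hn => show ((ε n : ℤ) : ℂ) = ((ε n₀ : ℤ) : ℂ) from ?_), Finset.sum_const,
      nsmul_eq_mul]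
    · refine mul_ne_zero (Nat.cast_ne_zero.2 (Finset.card_ne_zero.2 ⟨n₀, by simp⟩)) ?_
      exact_mod_cast Units.ne_zero (ε n₀)
    · have h := (hd.torus (n₀⁻¹ * n) (by rw [map_mul, map_inv]; exact (Finset.mem_filter.1 hn).2)).1
      rw [map_mul, map_inv, inv_mul_eq_one] at h
      rw [h]
  · simp only [v0, map_sum, map_smul, perm_delta]
    simp only [delta, Finset.sum_apply, Pi.smul_apply, Pi.single_apply, QuotientGroup.eq, smul_eq_mul, mul_ite,
      mul_one, mul_zero]
    by_cases h : u = u'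
    · subst h
      rw [if_pos rfl, ← Finset.sum_filter]
      refine Finset.sum_congr (Finset.filter_congr fun n _ => ?_) fun _ _ => rfl
      rw [mul_inv_rev, mul_assoc, inv_mul_cancel_left]
    · rw [if_neg h]
      refine Finset.sum_eq_zero fun n _ => if_neg fun hn => h ?_
      have hv := hbig ((u' : G)⁻¹ * u) (mul_mem (inv_mem u'.2) u.2) n (by
        have h2 := inv_mem hn
        simpa [mul_assoc] using h2)
      exact (Subtype.ext (inv_mul_eq_one.1 hv.1)).symm

theorem gen_linearIndependent : LinearIndependent ℂ fun u : U => perm B (u : G) (v0 ν ε B) := by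
  obtain ⟨z, c, hc, hz, -⟩ := exists_coord hd
  rw [Fintype.linearIndependent_iff]
  intro a ha u
  have := congrFun ha (z u)
  simp only [Finset.sum_apply, Pi.smul_apply, hz, smul_eq_mul, mul_ite, mul_zero, Finset.sum_ite_eq,
    Finset.mem_univ, if_true, Pi.zero_apply] at this
  exact (mul_eq_zero.1 this).resolve_right hc

/-- The representation on the Steinberg module. -/
noncomputable def rep (hd : SplitData ν ε B U s R) : Representation ℂ G (M hd) :=
  Subrepresentation.toRepresentation ⟨M hd, fun g _ hf => M_invariant hd g _ hf⟩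

theorem rep_coe (g : G) (f : M hd) : (rep hd g f : G ⧸ B → ℂ) = perm B g f := rfl

/-- The basis of the Steinberg module. -/
noncomputable def basis (hd : SplitData ν ε B U s R) : Module.Basis U ℂ (M hd) :=
  Module.Basis.span (gen_linearIndependent hd)

theorem basis_coe (u : U) : (basis hd u : G ⧸ B → ℂ) = perm B (u : G) (v0 ν ε B) :=
  congrArg Subtype.val (Module.Basis.span_apply (gen_linearIndependent hd) u)

theorem rep_basis (u u' : U) : rep hd (u : G) (basis hd u') = basis hd (u * u') := by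
  refine Subtype.ext ?_
  rw [rep_coe, basis_coe, basis_coe, Subgroup.coe_mul, map_mul, Module.End.mul_apply]

theorem char_apply {u : U} (hu : u ≠ 1) : (rep hd).character (u : G) = 0 := by
  rw [Representation.character, LinearMap.trace_eq_matrix_trace ℂ (basis hd), Matrix.trace]
  refine Finset.sum_eq_zero fun v _ => ?_
  rw [Matrix.diag_apply, LinearMap.toMatrix_apply, rep_basis, Module.Basis.repr_self, Finsupp.single_apply,
    if_neg]
  exact fun h => hu (mul_eq_right.1 h)

theorem char_one : (rep hd).character 1 = Nat.card U := by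
  rw [Representation.character, map_one, LinearMap.trace_one,
    Module.finrank_eq_card_basis (basis hd), Nat.card_eq_fintype_card]

theorem invariant_contains (W : Subrepresentation (rep hd)) (hW : W.toSubmodule ≠ ⊥) :
    (∑ u : U, basis hd u) ∈ W.toSubmodule := by
  obtain ⟨f, hf, hf0⟩ := Submodule.exists_mem_ne_zero_of_ne_bot hW
  obtain ⟨x, hx⟩ : ∃ x, (f : G ⧸ B → ℂ) x ≠ 0 := by
    by_contra h
    push Not at h
    exact hf0 (Subtype.ext (funext h))
  obtain ⟨g, rfl⟩ := QuotientGroup.mk_surjective x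
  set f₁ := rep hd g⁻¹ f
  have hf1 : (f₁ : G ⧸ B → ℂ) ((1 : G) : G ⧸ B) ≠ 0 := by
    simpa [f₁, rep_coe, perm_apply] using hx
  set f₂ := ∑ b : B, rep hd (b : G) f₁ with hf₂
  have hf2W : f₂ ∈ W.toSubmodule :=
    Submodule.sum_mem _ fun b _ => W.apply_mem_toSubmodule _ (W.apply_mem_toSubmodule _ hf)
  have hf2ne : (f₂ : G ⧸ B → ℂ) ((1 : G) : G ⧸ B) ≠ 0 := by
    have e : ∀ b : B, (rep hd (b : G) f₁ : G ⧸ B → ℂ) ((1 : G) : G ⧸ B) = (f₁ : G ⧸ B → ℂ) ((1 : G) : G ⧸ B) := by
      intro b
      rw [rep_coe, perm_apply]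
      refine congrArg _ ?_
      show ((((b : G)⁻¹ * 1 : G)) : G ⧸ B) = ((1 : G) : G ⧸ B)
      rw [QuotientGroup.eq]
      simp
    rw [hf₂]
    simp only [Submodule.coe_sum, Finset.sum_apply, e, Finset.sum_const, Finset.card_univ, nsmul_eq_mul]
    exact mul_ne_zero (Nat.cast_ne_zero.2 Fintype.card_ne_zero) hf1
  have hinv : ∀ u : U, rep hd (u : G) f₂ = f₂ := by
    intro u
    rw [hf₂, map_sum]
    refine Fintype.sum_equiv (Equiv.mulLeft (⟨u, hd.U_le u.2⟩ : B)) _ _ fun b => ?_
    show rep hd _ (rep hd _ f₁) = rep hd ((u : G) * (b : G)) f₁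
    rw [map_mul, Module.End.mul_apply]
  obtain ⟨z, c, hc, hz, hz1⟩ := exists_coord hd
  set a := fun u : U => (basis hd).repr f₂ u with ha
  have hcoord : ∀ u : U, (f₂ : G ⧸ B → ℂ) (z u) = a u * c := by
    intro u
    conv_lhs => rw [← (basis hd).sum_repr f₂]
    simp only [Submodule.coe_sum, Finset.sum_apply, Submodule.coe_smul, Pi.smul_apply, basis_coe, hz, smul_eq_mul,
      mul_ite, mul_zero, Finset.sum_ite_eq, Finset.mem_univ, if_true, ha]
  have hconst : ∀ u : U, a u = a 1 := by
    intro u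
    refine mul_right_cancel₀ hc ?_
    rw [← hcoord u, ← hcoord 1]
    conv_rhs => rw [← hinv u⁻¹]
    rw [rep_coe, perm_apply, hz1 u]
    simp
  have hf2 : f₂ = a 1 • ∑ u : U, basis hd u := by
    conv_lhs => rw [← (basis hd).sum_repr f₂]
    rw [Finset.smul_sum]
    exact Finset.sum_congr rfl fun u _ => by rw [← hconst u]
  have ha1 : a 1 ≠ 0 := fun h => hf2ne (by rw [hf2, h, zero_smul]; rfl)
  rw [show (∑ u : U, basis hd u) = (a 1)⁻¹ • f₂ by rw [hf2, smul_smul, inv_mul_cancel₀ ha1, one_smul]]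
  exact Submodule.smul_mem _ _ hf2W

theorem rep_irreducible : (rep hd).IsIrreducible := by
  have hne : (∑ u : U, basis hd u) ≠ 0 := by
    intro h
    have := congrArg (fun v => (basis hd).repr v 1) h
    simp [Finsupp.single_apply] at this
  haveI : Nontrivial (Subrepresentation (rep hd)) := by
    refine ⟨⟨⊥, ⊤, fun h => hne ?_⟩⟩
    have hm : (∑ u : U, basis hd u) ∈ (⊤ : Subrepresentation (rep hd)).toSubmodule := Submodule.mem_top
    rw [← h] at hm
    exact (Submodule.mem_bot ℂ).1 hm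
  haveI : IsSimpleOrder (Subrepresentation (rep hd)) := by
    refine ⟨fun W => ?_⟩
    by_contra hW
    push Not at hW
    obtain ⟨W', hW'⟩ : ∃ W', IsCompl W W' := exists_isCompl W
    have h1 : W.toSubmodule ≠ ⊥ := fun h => hW.1 (Subrepresentation.toSubmodule_injective h)
    have h2 : W'.toSubmodule ≠ ⊥ := fun h => hW.2 (by
      have : W' = ⊥ := Subrepresentation.toSubmodule_injective h
      simpa [this] using hW'.sup_eq_top)
    have h3 : (∑ u : U, basis hd u) ∈ (W ⊓ W').toSubmodule :=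
      ⟨invariant_contains hd W h1, invariant_contains hd W' h2⟩
    rw [hW'.inf_eq_bot] at h3
    exact hne ((Submodule.mem_bot ℂ).1 h3)
  exact this

theorem rep_ker {H : Type*} [Group H] {π : G →* H} (hker : ∀ z ∈ π.ker, ∀ g : G, g⁻¹ * z * g ∈ B)
    {z : G} (hz : z ∈ π.ker) : rep hd z = 1 := by
  refine LinearMap.ext fun f => Subtype.ext ?_
  rw [rep_coe, Module.End.one_apply]
  funext x
  obtain ⟨g, rfl⟩ := QuotientGroup.mk_surjective x
  rw [perm_apply]
  refine congrArg _ ?_
  show ((z⁻¹ * g : G) : G ⧸ B) = (g : G ⧸ B)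
  rw [QuotientGroup.eq, mul_inv_rev, inv_inv]
  exact hker z hz g

theorem eq_one_of_ker {H : Type*} [Group H] {π : G →* H} (hker : ∀ z ∈ π.ker, ∀ g : G, g⁻¹ * z * g ∈ B)
    {u : G} (hu : u ∈ U) (huk : π u = 1) : u = 1 := by
  have h := rep_basis hd ⟨u, hu⟩ 1
  rw [rep_ker hd hker (MonoidHom.mem_ker.2 huk), Module.End.one_apply, mul_one] at h
  exact congrArg Subtype.val ((basis hd).injective h.symm)

/-- The Steinberg character of a quotient by a subgroup acting trivially on `G/B`. -/
theorem exists_char {H : Type*} [Group H] [Finite H] {π : G →* H} (hπ : Function.Surjective π)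
    (hker : ∀ z ∈ π.ker, ∀ g : G, g⁻¹ * z * g ∈ B) {p : ℕ} [Fact p.Prime] (P₀ : Sylow p H)
    (hP₀ : (P₀ : Subgroup H) = U.map π) :
    ∃ χ : H → ℂ, Cfsg.IsIrrCharacter H χ ∧
      ∀ P : Sylow p H, χ 1 = Nat.card P ∧ ∀ x : H, x ∈ P → x ≠ 1 → χ x = 0 := by
  have hwell : ∀ a b : G, π a = π b → rep hd a = rep hd b := fun a b h => by
    rw [show a = b * (b⁻¹ * a) by group, map_mul, rep_ker hd hker (z := b⁻¹ * a) (by
      rw [MonoidHom.mem_ker, map_mul, map_inv, h, inv_mul_cancel]), mul_one]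
  let ρH : Representation ℂ H (M hd) :=
    { toFun := fun h => rep hd (Function.surjInv hπ h)
      map_one' := (hwell _ 1 (by rw [Function.surjInv_eq hπ, map_one])).trans (map_one _)
      map_mul' := fun a b => (hwell _ (Function.surjInv hπ a * Function.surjInv hπ b)
        (by rw [Function.surjInv_eq hπ, map_mul, Function.surjInv_eq hπ, Function.surjInv_eq hπ])).trans (map_mul _ _ _) }
  have hρ : ∀ g, ρH (π g) = rep hd g := fun g => hwell _ _ (Function.surjInv_eq hπ _)
  set n := Fintype.card U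
  let e : M hd ≃ₗ[ℂ] (Fin n → ℂ) := ((basis hd).reindex (Fintype.equivFin U)).equivFun
  let ρ : Representation ℂ H (Fin n → ℂ) := e.conjRingEquiv.toMonoidHom.comp ρH
  have hρe : ∀ h f, ρ h (e f) = e (ρH h f) := fun h f => by
    show e (ρH h (e.symm (e f))) = _
    rw [e.symm_apply_apply]
  have hchar : ∀ g : G, ρ.character (π g) = (rep hd).character g := by
    intro g
    show LinearMap.trace ℂ _ (e.conj (ρH (π g))) = LinearMap.trace ℂ _ (rep hd g)
    rw [LinearMap.trace_conj', hρ]
  have hirr : ρ.IsIrreducible := by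
    haveI hs : IsSimpleOrder (Subrepresentation (rep hd)) := rep_irreducible hd
    obtain ⟨f0, hf0⟩ : ∃ f : M hd, f ≠ 0 := ⟨basis hd 1, (basis hd).ne_zero 1⟩
    haveI : Nontrivial (Subrepresentation ρ) := ⟨⟨⊥, ⊤, fun h => hf0 (by
      have hm : e f0 ∈ (⊤ : Subrepresentation ρ).toSubmodule := Submodule.mem_top
      rw [← h] at hm
      exact e.map_eq_zero_iff.1 ((Submodule.mem_bot ℂ).1 hm))⟩⟩
    haveI : IsSimpleOrder (Subrepresentation ρ) := ⟨fun W => by
      let W' : Subrepresentation (rep hd) := ⟨W.toSubmodule.comap e.toLinearMap, fun g f hf => by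
        have := W.apply_mem_toSubmodule (π g) hf
        simp only [Submodule.mem_comap, LinearEquiv.coe_coe] at this ⊢
        rwa [hρe, hρ] at this⟩
      rcases hs.eq_bot_or_eq_top W' with h | h
      · left
        refine Subrepresentation.toSubmodule_injective ((Submodule.eq_bot_iff _).2 fun v hv => ?_)
        have : e.symm v ∈ W'.toSubmodule := by simpa [W'] using hv
        rw [h] at this
        simpa using (Submodule.mem_bot ℂ).1 this
      · right
        refine Subrepresentation.toSubmodule_injective (Submodule.eq_top_iff'.2 fun v => ?_)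
        have : e.symm v ∈ W'.toSubmodule := by rw [h]; exact Submodule.mem_top
        simpa [W'] using this⟩
    exact this
  refine ⟨ρ.character, ⟨n, ρ, hirr, rfl⟩, fun P => ?_⟩
  have hone : ρ.character 1 = Nat.card U := by
    rw [← map_one π, hchar, char_one]
  have hcardP : Nat.card (P : Subgroup H) = Nat.card U := by
    obtain ⟨g, rfl⟩ := MulAction.exists_smul_eq H P₀ P
    rw [Sylow.coe_subgroup_smul, ← Nat.card_congr (Subgroup.equivSMul (MulAut.conj g) (P₀ : Subgroup H)).toEquiv, hP₀]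
    refine (Nat.card_congr (Equiv.ofBijective (fun u : U => (⟨π u, Subgroup.mem_map_of_mem π u.2⟩ : U.map π))
      ⟨fun a b hab => ?_, fun ⟨_, u, hu, rfl⟩ => ⟨⟨u, hu⟩, rfl⟩⟩)).symm
    refine Subtype.ext (inv_mul_eq_one.1 (eq_one_of_ker hd hker (mul_mem (inv_mem a.2) b.2) ?_))
    rw [map_mul, map_inv, show π (a : G) = π (b : G) from congrArg Subtype.val hab, inv_mul_cancel]
  refine ⟨?_, fun x hx hx1 => ?_⟩
  · rw [hone]
    exact congrArg _ hcardP.symm
  · obtain ⟨g, rfl⟩ := MulAction.exists_smul_eq H P₀ P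
    change x ∈ ((g • P₀ : Sylow p H) : Subgroup H) at hx
    rw [Sylow.coe_subgroup_smul, Subgroup.mem_pointwise_smul_iff_inv_smul_mem] at hx
    have hx' : (MulAut.conj g)⁻¹ • x ∈ U.map π := hP₀ ▸ hx
    obtain ⟨u, hu, hux⟩ := hx'
    have hxu : x = g * π u * g⁻¹ := by
      rw [hux]; simp [MulAut.smul_def, mul_assoc]
    obtain ⟨g', rfl⟩ := hπ g
    rw [hxu, ← map_inv, ← map_mul, ← map_mul, hchar, Representation.char_conj,
      char_apply hd (u := ⟨u, hu⟩) (fun h => hx1 ?_)]
    rw [hxu, show u = 1 from congrArg Subtype.val h, map_one, mul_one, mul_inv_cancel]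

end CfsgLib.PGroup.SteinbergModule
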