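import Cfsg.Agent.Lib.Blocks.TrivialIntersection

/-!
A defect group is an intersection of two Sylow subgroups; a block idempotent lives on centralizers of
normal `p`-subgroups of `p`-centralizers.
-/

set_option autoImplicit false
set_option linter.style.haveILetI false

namespace CfsgLib.PGroup.GreenInter

open Cfsg CfsgLib.Blocks
open scoped Classical

variable {G : Type*} [Group G] [Fintype G] {p : ℕ} {M : Ideal AlgInt} {B : Set (IrrCharacter G)}

/-- A point of `C_G(P)` with unit coefficient centralizes every normal `p`-subgroup of `C_G(P)`. -/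
theorem mem_centralizer_of_coeff (hM : IsPModular p M) (hB : IsPBlock M B) {P Q : Subgroup G}
    (hP : IsPGroup p P) (hQ : IsPGroup p Q) (hQP : Q ≤ Subgroup.centralizer (P : Set G))
    (hPQ : Subgroup.centralizer (P : Set G) ≤ Subgroup.normalizer (Q : Set G)) {c : G}
    (hc : c ∈ Subgroup.centralizer (P : Set G)) (hne : ¬ MemLocalIdeal M (blockCoeff B c)) :
    c ∈ Subgroup.centralizer (Q : Set G) := by
  haveI := Fact.mk hM.1
  set K := Subgroup.centralizer (P : Set G)
  obtain ⟨S, -, hsat, hS⟩ := isLocalZero_trunc_sub hM hB hP (le_refl K) (centralizer_le_normalizer P)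
  haveI := normal_subgroupOf_of_le_normalizer hQP hPQ
  have hQ' : IsPGroup p (Q.subgroupOf K) := hQ.of_injective
    (Subgroup.subgroupOfEquivOfLe hQP).toMonoidHom (Subgroup.subgroupOfEquivOfLe hQP).injective
  have hloc : IsLocalOn M (Subgroup.centralizer (Q.subgroupOf K : Set K)) (blockInd S) :=
    IsLocalOn.blockInd_of_separated hM fun χ hχ φ hφ => by
      by_contra h
      push Not at h
      exact hφ (hsat χ hχ φ (sameBlock_of_congr_centralizer hM hQ' h))
  by_contra hcQ
  refine hne ?_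
  have h := hS ⟨c, hc⟩
  rwa [(hloc ⟨c, hc⟩).2 fun h' => hcQ ((mem_centralizer_subgroupOf hQP _).1 h'), sub_zero,
    show brTrunc P K (fun g => blockCoeff B g) ⟨c, hc⟩ = blockCoeff B c from if_pos hc] at h

/-- Green: a defect group is the intersection of two Sylow subgroups. -/
theorem exists_sylow_inter (hM : IsPModular p M) (hB : IsPBlock M B) {D : Subgroup G}
    (hD : IsDefectGroup p M B D) :
    ∃ (P : Sylow p G) (y : G), D = (P : Subgroup G) ⊓ (P : Subgroup G).map (MulAut.conj y).toMonoidHom := by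
  haveI := Fact.mk hM.1
  set N := Subgroup.normalizer (D : Set G)
  haveI : (D.subgroupOf N).Normal := normal_subgroupOf_of_le_normalizer Subgroup.le_normalizer le_rfl
  obtain ⟨b, ⟨hb, hbD, -⟩, -⟩ := existsUnique_correspondent hM hB hD
  obtain ⟨S⟩ : Nonempty (Sylow p N) := inferInstance
  obtain ⟨y, -, -, -, hy⟩ := exists_sylow_inter_eq hM hb hbD S
  obtain ⟨P, hP⟩ := (S.isPGroup'.map N.subtype).exists_le_sylow
  have hPS : (P : Subgroup G).subgroupOf N = (S : Subgroup N) :=
    S.is_maximal' P.isPGroup'.comap_subtype fun x hx => hP ⟨x, hx, rfl⟩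
  refine ⟨P, y, ?_⟩
  set Q := (P : Subgroup G) ⊓ (P : Subgroup G).map (MulAut.conj (y : G)).toMonoidHom
  have hQN : ∀ x : G, x ∈ Q → x ∈ N → x ∈ D := by
    rintro x ⟨hxP, z, hz, hzx⟩ hxN
    change (y : G) * z * (y : G)⁻¹ = x at hzx
    have hzN : z ∈ N := by
      rw [show z = (y : G)⁻¹ * x * y by rw [← hzx]; group]
      exact N.mul_mem (N.mul_mem (N.inv_mem y.2) hxN) y.2
    have h1 : (⟨x, hxN⟩ : N) ∈ (S : Subgroup N) ⊓ (S : Subgroup N).map (MulAut.conj y).toMonoidHom :=
      ⟨hPS ▸ hxP, ⟨z, hzN⟩, hPS ▸ hz, Subtype.ext hzx⟩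
    rw [hy] at h1
    exact h1
  have hDQ : D ≤ Q := by
    intro x hx
    have hxN : x ∈ N := Subgroup.le_normalizer hx
    have h1 : (⟨x, hxN⟩ : N) ∈ (S : Subgroup N) ⊓ (S : Subgroup N).map (MulAut.conj y).toMonoidHom := by
      rw [hy]; exact hx
    obtain ⟨h2, z, hz, hzx⟩ := h1
    exact ⟨hP ⟨_, h2, rfl⟩, z, hP ⟨z, hz, rfl⟩, congrArg Subtype.val hzx⟩
  refine le_antisymm hDQ ?_
  by_contra hne
  haveI : Group.IsNilpotent Q := (P.isPGroup'.to_le inf_le_left : IsPGroup p Q).isNilpotent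
  have hlt : D.subgroupOf Q < ⊤ := lt_top_iff_ne_top.2 fun h => hne (Subgroup.subgroupOf_eq_top.1 h)
  obtain ⟨x, hxN, hxD⟩ := SetLike.exists_of_lt (Group.normalizerCondition_of_isNilpotent _ hlt)
  refine hxD (hQN x x.2 (Subgroup.mem_normalizer_iff.2 fun d => ⟨fun hd => ?_, fun hd => ?_⟩))
  · exact (Subgroup.mem_normalizer_iff.1 hxN ⟨d, hDQ hd⟩).1 hd
  · have hdQ : d ∈ Q := by
      have h := mul_mem (mul_mem (inv_mem x.2) (hDQ hd)) x.2
      simpa [mul_assoc] using h
    exact (Subgroup.mem_normalizer_iff.1 hxN ⟨d, hdQ⟩).2 hd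

end CfsgLib.PGroup.GreenInter
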