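import Mathlib

set_option autoImplicit false

namespace CfsgLib.PGroup.Frattini

open scoped commutatorElement

variable {p : ℕ} [Fact p.Prime] {P : Type*} [Group P] [Finite P]

theorem normal_of_isCoatom (hP : IsPGroup p P) {M : Subgroup P} (hM : IsCoatom M) : M.Normal := by
  have := hP.isNilpotent
  exact Subgroup.NormalizerCondition.normal_of_coatom M Group.normalizerCondition_of_isNilpotent hM

theorem index_of_isCoatom (hP : IsPGroup p P) {M : Subgroup P} (hM : IsCoatom M) : M.index = p := by
  have := normal_of_isCoatom hP hM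
  have hne : Nat.card (P ⧸ M) ≠ 1 := fun h => hM.1 (Subgroup.index_eq_one.1 h)
  obtain ⟨z, hz⟩ := exists_prime_orderOf_dvd_card' (G := P ⧸ M) p
    (((hP.to_quotient M).card_eq_or_dvd).resolve_left hne)
  have htop : (Subgroup.zpowers z).comap (QuotientGroup.mk' M) = ⊤ := by
    refine hM.2 _ (lt_of_le_of_ne ?_ ?_)
    · intro x hx
      rw [Subgroup.mem_comap, QuotientGroup.mk'_apply, (QuotientGroup.eq_one_iff x).2 hx]
      exact one_mem _
    · intro h
      obtain ⟨w, rfl⟩ := QuotientGroup.mk'_surjective M z
      have : w ∈ M := by rw [h]; exact Subgroup.mem_zpowers _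
      rw [QuotientGroup.mk'_apply, (QuotientGroup.eq_one_iff w).2 this, orderOf_one] at hz
      exact (Fact.out : p.Prime).one_lt.ne hz
  have : Subgroup.zpowers z = ⊤ := by
    rw [← Subgroup.map_comap_eq_self_of_surjective (QuotientGroup.mk'_surjective M) (Subgroup.zpowers z),
      htop, Subgroup.map_top_of_surjective _ (QuotientGroup.mk'_surjective M)]
  rw [Subgroup.index, ← Subgroup.card_top (G := P ⧸ M), ← this, Nat.card_zpowers, hz]

theorem pow_mem_frattini (hP : IsPGroup p P) (x : P) : x ^ p ∈ frattini P := by
  rw [frattini, Order.radical]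
  simp only [Subgroup.mem_iInf]
  intro M hM
  have := normal_of_isCoatom hP hM
  have := M.pow_index_mem x
  rwa [index_of_isCoatom hP hM] at this

theorem commutatorElement_mem_frattini (hP : IsPGroup p P) (x y : P) : ⁅x, y⁆ ∈ frattini P := by
  rw [frattini, Order.radical]
  simp only [Subgroup.mem_iInf]
  intro M hM
  have := normal_of_isCoatom hP hM
  have hc : Nat.card (P ⧸ M) = p := index_of_isCoatom hP hM
  have := isCyclic_of_prime_card hc
  rw [← QuotientGroup.eq_one_iff, ← QuotientGroup.mk'_apply, map_commutatorElement,
    commutatorElement_eq_one_iff_mul_comm]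
  exact Std.Commutative.comm (op := (· * ·)) _ _

theorem quotient_mul_comm (hP : IsPGroup p P) (a b : P ⧸ frattini P) : a * b = b * a := by
  obtain ⟨x, rfl⟩ := QuotientGroup.mk'_surjective _ a
  obtain ⟨y, rfl⟩ := QuotientGroup.mk'_surjective _ b
  rw [← commutatorElement_eq_one_iff_mul_comm, ← map_commutatorElement, QuotientGroup.mk'_apply,
    QuotientGroup.eq_one_iff]
  exact commutatorElement_mem_frattini hP x y

theorem quotient_pow_eq_one (hP : IsPGroup p P) (a : P ⧸ frattini P) : a ^ p = 1 := by
  obtain ⟨x, rfl⟩ := QuotientGroup.mk'_surjective _ a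
  rw [← map_pow, QuotientGroup.mk'_apply, QuotientGroup.eq_one_iff]
  exact pow_mem_frattini hP x

/-- A tuple generates iff its image modulo the Frattini subgroup generates. -/
theorem closure_range_eq_top_iff {G : Type*} [Group G] [Finite G] {ι : Type*} (s : ι → G) :
    Subgroup.closure (Set.range s) = ⊤ ↔
      Subgroup.closure (Set.range (fun i => (s i : G ⧸ frattini G))) = ⊤ := by
  have hr : Set.range (fun i => (s i : G ⧸ frattini G)) =
      QuotientGroup.mk' (frattini G) '' Set.range s := by
    rw [← Set.range_comp]; rfl
  rw [hr, ← MonoidHom.map_closure]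
  constructor
  · intro h
    rw [h]; exact Subgroup.map_top_of_surjective _ (QuotientGroup.mk'_surjective _)
  · intro h
    apply frattini_nongenerating
    rw [← QuotientGroup.ker_mk' (frattini G), ← Subgroup.comap_map_eq, h, Subgroup.comap_top]

theorem card_span_eq_top {V : Type*} [AddCommGroup V] [Module (ZMod p) V] [Finite V] {r : ℕ}
    (hV : Nat.card V = p ^ r) :
    Nat.card {s : Fin r → V // AddSubgroup.closure (Set.range s) = ⊤} =
      ∏ i ∈ Finset.range r, (p ^ r - p ^ i) := by
  have := Fintype.ofFinite V
  have : Module.Finite (ZMod p) V := Module.Finite.of_finite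
  have hfr : Module.finrank (ZMod p) V = r := by
    have h := Module.card_eq_pow_finrank (K := ZMod p) (V := V)
    rw [ZMod.card, ← Nat.card_eq_fintype_card, hV] at h
    exact (Nat.pow_right_injective (Fact.out : p.Prime).two_le h).symm
  have key := card_linearIndependent (K := ZMod p) (V := V) (k := r) hfr.ge
  simp only [ZMod.card, hfr] at key
  rw [Fin.prod_univ_eq_prod_range (fun i => p ^ r - p ^ i) r] at key
  rw [← key]
  refine Nat.card_congr (Equiv.subtypeEquivRight fun s => ?_)
  rw [linearIndependent_iff_card_eq_finrank_span, Fintype.card_fin, Set.finrank]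
  constructor
  · intro h
    have htop : Submodule.span (ZMod p) (Set.range s) = ⊤ := by
      rw [eq_top_iff]
      rintro x -
      have hx : x ∈ AddSubgroup.closure (Set.range s) := by rw [h]; exact AddSubgroup.mem_top x
      exact (AddSubgroup.closure_le (Submodule.span (ZMod p) (Set.range s)).toAddSubgroup).2
        Submodule.subset_span hx
    rw [htop, finrank_top, hfr]
  · intro h
    have htop : Submodule.span (ZMod p) (Set.range s) = ⊤ :=
      Submodule.eq_top_of_finrank_eq (h.symm.trans hfr.symm)
    rw [eq_top_iff]
    rintro x -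
    have hx : x ∈ Submodule.span (ZMod p) (Set.range s) := by rw [htop]; exact Submodule.mem_top
    induction hx using Submodule.span_induction with
    | mem y hy => exact AddSubgroup.subset_closure hy
    | zero => exact AddSubgroup.zero_mem _
    | add a b _ _ ha hb => exact AddSubgroup.add_mem _ ha hb
    | smul c a _ ha =>
      rw [← ZMod.natCast_zmod_val c, Nat.cast_smul_eq_nsmul]
      exact AddSubgroup.nsmul_mem _ ha _

/-- Number of generating `r`-tuples of an elementary abelian group of order `p ^ r`. -/
theorem card_generating_tuples {Q : Type*} [Group Q] [Finite Q] {r : ℕ}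
    (hcard : Nat.card Q = p ^ r) (hcomm : ∀ a b : Q, a * b = b * a) (hexp : ∀ a : Q, a ^ p = 1) :
    Nat.card {s : Fin r → Q // Subgroup.closure (Set.range s) = ⊤} =
      ∏ i ∈ Finset.range r, (p ^ r - p ^ i) := by
  letI : CommGroup Q := { ‹Group Q› with mul_comm := hcomm }
  letI : Module (ZMod p) (Additive Q) :=
    AddCommGroup.zmodModule (n := p) (fun a => by
      rw [← toMul_eq_one, toMul_nsmul]; exact hexp _)
  rw [← card_span_eq_top (p := p) (V := Additive Q) (r := r)
    ((Nat.card_congr (Additive.toMul (α := Q))).trans hcard)]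
  refine Nat.card_congr (Equiv.subtypeEquiv
    (Equiv.arrowCongr (Equiv.refl _) Additive.ofMul) (fun s => ?_))
  rw [← Subgroup.toAddSubgroup.injective.eq_iff, Subgroup.toAddSubgroup_closure]
  constructor <;> intro h <;> convert h using 1 <;>
    first | rfl | (congr 1; ext x; simp [Set.mem_range, eq_comm])

/-- A free action makes the order of the group divide the size of the set. -/
theorem card_dvd_of_free {A X : Type*} [Group A] [Finite A] [MulAction A X] [Finite X]
    (hfree : ∀ (a : A) (x : X), a • x = x → a = 1) : Nat.card A ∣ Nat.card X := by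
  classical
  have e := MulAction.selfEquivSigmaOrbitsQuotientStabilizer A X
  have := Fintype.ofFinite (Quotient (MulAction.orbitRel A X))
  rw [Nat.card_congr e, Nat.card_sigma]
  refine Finset.dvd_sum fun ω _ => ?_
  have hb : MulAction.stabilizer A (Quotient.out ω) = ⊥ :=
    (Subgroup.eq_bot_iff_forall _).2 fun a ha => hfree a _ ha
  rw [← Subgroup.index, hb, Subgroup.index_bot]

/-- Lifts of a tuple of the quotient: there are `card N ^ card ι` of them. -/
theorem card_fiber_tuples {G ι : Type*} [Group G] [Finite G] [Fintype ι] (N : Subgroup G) [N.Normal]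
    (t : ι → G ⧸ N) : Nat.card {s : ι → G // ∀ i, (s i : G ⧸ N) = t i} = Nat.card N ^ Fintype.card ι := by
  choose u hu using fun i => QuotientGroup.mk'_surjective N (t i)
  let e : {s : ι → G // ∀ i, (s i : G ⧸ N) = t i} ≃ (ι → N) :=
    { toFun := fun s i => ⟨(u i)⁻¹ * s.1 i, by
        rw [← QuotientGroup.eq]; exact (hu i).trans (s.2 i).symm⟩
      invFun := fun f => ⟨fun i => u i * f i, fun i => by
        rw [QuotientGroup.mk_mul, (QuotientGroup.eq_one_iff _).2 (f i).2, mul_one]; exact hu i⟩
      left_inv := fun s => by ext i; simp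
      right_inv := fun f => by ext i; simp }
  rw [Nat.card_congr e, Nat.card_fun, Nat.card_eq_fintype_card (α := ι)]

end CfsgLib.PGroup.Frattini
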