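import Mathlib

set_option autoImplicit false

namespace CfsgLib.PGroup.Basic

theorem conj_card_eq_index {G : Type*} [Group G] (g : G) :
    Nat.card {y : G // IsConj g y} = (Subgroup.centralizer ({g} : Set G)).index := by
  have h : {y : G | IsConj g y} = MulAction.orbit (ConjAct G) g := by
    rw [ConjAct.orbit_eq_carrier_conjClasses]
    ext y
    rw [ConjClasses.mem_carrier_iff_mk_eq, ConjClasses.mk_eq_mk_iff_isConj]
    exact isConj_comm
  have h2 := MulAction.index_stabilizer (ConjAct G) g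
  rw [ConjAct.stabilizer_eq_centralizer, ← h] at h2
  exact (Nat.card_coe_set_eq {y : G | IsConj g y}).trans h2.symm

theorem conj_card_dvd_card {G : Type*} [Group G] [Finite G] (g : G) :
    Nat.card {y : G // IsConj g y} ∣ Nat.card G := by
  rw [conj_card_eq_index]; exact Subgroup.index_dvd_card _

/-- A real element with a class of odd size squares to one. -/
theorem sq_eq_one_of_real_of_odd {G : Type*} [Group G] [Finite G] {x : G} (hreal : IsConj x x⁻¹)
    (hodd : ¬ 2 ∣ (Subgroup.centralizer ({x} : Set G)).index) : x ^ 2 = 1 := by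
  classical
  have := Fintype.ofFinite G
  by_contra hx
  apply hodd
  rw [← conj_card_eq_index]
  have hc : ∀ y : G, IsConj x y → IsConj x y⁻¹ := by
    intro y hy
    refine hreal.trans ?_
    obtain ⟨c, hc⟩ := isConj_iff.1 hy
    exact isConj_iff.2 ⟨c, by rw [← hc]; group⟩
  let σ : Equiv.Perm {y : G // IsConj x y} :=
    Function.Involutive.toPerm (fun y => ⟨y.1⁻¹, hc y.1 y.2⟩)
      (fun y => Subtype.ext (inv_inv y.1))
  have hσ : σ ^ 2 = 1 := by
    ext y; simp [σ, pow_two, Function.Involutive.toPerm]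
  have hsupp : σ.support = Finset.univ := by
    rw [Finset.eq_univ_iff_forall]
    intro y
    rw [Equiv.Perm.mem_support]
    intro h
    have hy : y.1⁻¹ = y.1 := congrArg Subtype.val h
    apply hx
    obtain ⟨c, hc'⟩ := isConj_iff.1 y.2
    have : (c * x * c⁻¹) ^ 2 = 1 := by
      rw [hc', pow_two]; exact mul_eq_one_iff_eq_inv.2 hy.symm
    rwa [conj_pow, conj_eq_one_iff] at this
  have := Equiv.Perm.two_dvd_card_support hσ
  rw [hsupp, Finset.card_univ] at this
  rwa [Nat.card_eq_fintype_card]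

/-- A Sylow subgroup inside a subgroup makes its index prime to `p`. -/
theorem not_dvd_index_of_sylow_le {G : Type*} [Group G] [Finite G] {p : ℕ} [Fact p.Prime]
    {P : Sylow p G} {H : Subgroup G} (h : (P : Subgroup G) ≤ H) : ¬ p ∣ H.index := fun hd =>
  P.not_dvd_index (hd.trans (Subgroup.index_dvd_of_le h))

theorem isPGroup_zpowers {G : Type*} [Group G] {p : ℕ} {x : G} {k : ℕ}
    (hx : orderOf x ∣ p ^ k) : IsPGroup p (Subgroup.zpowers x) :=
  IsPGroup.of_card_dvd_pow (n := k) (by rwa [Nat.card_zpowers])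

theorem exists_orderOf_eq_pow_of_mem {G : Type*} [Group G] {p : ℕ} [Fact p.Prime] {H : Subgroup G}
    (hH : IsPGroup p H) {x : G} (hx : x ∈ H) : ∃ k, orderOf x = p ^ k := by
  obtain ⟨k, hk⟩ := IsPGroup.iff_orderOf.1 hH ⟨x, hx⟩
  exact ⟨k, by rwa [← Subgroup.orderOf_coe] at hk⟩

theorem exists_orderOf_eq_pow_of_pow_eq_one {G : Type*} [Group G] {p : ℕ} [Fact p.Prime]
    {x : G} {k : ℕ} (hx : x ^ p ^ k = 1) : ∃ j, orderOf x = p ^ j := by
  obtain ⟨j, -, hj⟩ := (Nat.dvd_prime_pow (Fact.out : p.Prime)).1 (orderOf_dvd_of_pow_eq_one hx)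
  exact ⟨j, hj⟩

theorem mem_sylow_of_orderOf {G : Type*} [Group G] {p : ℕ} {x : G} (hx : ∃ k, orderOf x = p ^ k) :
    ∃ P : Sylow p G, x ∈ (P : Subgroup G) := by
  obtain ⟨k, hk⟩ := hx
  obtain ⟨P, hP⟩ := (isPGroup_zpowers (x := x) (p := p) (k := k) (hk ▸ dvd_rfl)).exists_le_sylow
  exact ⟨P, hP (Subgroup.mem_zpowers x)⟩

end CfsgLib.PGroup.Basic
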