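import Mathlib
import Cfsg.Agent.Lib.PGroup.Basic

set_option autoImplicit false

universe u

namespace CfsgLib.PGroup.CountPElements

variable {p : ℕ}

/-- decomposition of an element into commuting `p`- and `p'`-parts -/
theorem exists_decomp [Fact p.Prime] {G : Type u} [Group G] [Finite G] (g : G) :
    ∃ x y : G, x * y = g ∧ Commute x y ∧ (∃ k, orderOf x = p ^ k) ∧ ¬ p ∣ orderOf y := by
  have hp : p.Prime := Fact.out
  obtain ⟨a, b, hb, hab⟩ := Nat.exists_eq_pow_mul_and_not_dvd (orderOf_pos g).ne' p hp.one_lt.ne'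
  have hcop : Nat.Coprime (p ^ a) b := Nat.Coprime.pow_left a (hp.coprime_iff_not_dvd.2 hb)
  set i := Nat.gcdA (p ^ a) b
  set j := Nat.gcdB (p ^ a) b
  have hbez : ((p ^ a : ℕ) : ℤ) * i + (b : ℤ) * j = 1 := by
    rw [← Nat.gcd_eq_gcd_ab, hcop.gcd_eq_one]; norm_num
  refine ⟨g ^ ((b : ℤ) * j), g ^ (((p ^ a : ℕ) : ℤ) * i), ?_, Commute.zpow_zpow (Commute.refl g) _ _,
    CfsgLib.PGroup.Basic.exists_orderOf_eq_pow_of_pow_eq_one (k := a) ?_, fun hd => hb (hd.trans
      (orderOf_dvd_of_pow_eq_one ?_))⟩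
  · rw [← zpow_add, add_comm, hbez, zpow_one]
  · rw [← zpow_natCast, ← zpow_mul,
      show (b : ℤ) * j * ((p ^ a : ℕ) : ℤ) = ((orderOf g : ℕ) : ℤ) * j by rw [hab]; push_cast; ring,
      zpow_mul, zpow_natCast, pow_orderOf_eq_one, one_zpow]
  · rw [← zpow_natCast, ← zpow_mul,
      show ((p ^ a : ℕ) : ℤ) * i * (b : ℤ) = ((orderOf g : ℕ) : ℤ) * i by rw [hab]; push_cast; ring,
      zpow_mul, zpow_natCast, pow_orderOf_eq_one, one_zpow]

theorem decomp_left_unique [Fact p.Prime] {G : Type u} [Group G] [Finite G] {x y x' y' : G}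
    (hxy : Commute x y) (hxy' : Commute x' y') (hx : ∃ k, orderOf x = p ^ k)
    (hx' : ∃ k, orderOf x' = p ^ k) (hy : ¬ p ∣ orderOf y) (hy' : ¬ p ∣ orderOf y')
    (h : x * y = x' * y') : x = x' := by
  have hp : p.Prime := Fact.out
  obtain ⟨k, hk⟩ := hx
  obtain ⟨k', hk'⟩ := hx'
  -- a power killing both `y` and `y'` and congruent to `1` modulo both orders of `x`, `x'`
  have hcop : Nat.Coprime (orderOf y * orderOf y') (p ^ (k + k')) :=
    Nat.Coprime.pow_right _ (Nat.Coprime.symm (hp.coprime_iff_not_dvd.2 (by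
      rw [hp.dvd_mul]; exact not_or.2 ⟨hy, hy'⟩)))
  obtain ⟨e, he0, he1⟩ := Nat.chineseRemainder hcop 0 1
  have hpow : ∀ u v : G, Commute u v → orderOf v ∣ orderOf y * orderOf y' →
      orderOf u ∣ p ^ (k + k') → (u * v) ^ e = u := by
    intro u v huv hv hu
    rw [huv.mul_pow, orderOf_dvd_iff_pow_eq_one.1 (hv.trans (Nat.modEq_zero_iff_dvd.1 he0)), mul_one]
    conv_rhs => rw [← pow_one u]
    rw [pow_eq_pow_iff_modEq]
    exact he1.of_dvd hu
  rw [← hpow x y hxy (dvd_mul_right _ _) (hk ▸ pow_dvd_pow p (Nat.le_add_right k k')),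
    ← hpow x' y' hxy' (dvd_mul_left _ _) (hk' ▸ pow_dvd_pow p (Nat.le_add_left k' k)), h]

/-- Frobenius: the number of `p`-elements is divisible by the order of a Sylow `p`-subgroup. -/
theorem pow_dvd_card [Fact p.Prime] {G : Type u} [Group G] [Finite G] {a : ℕ}
    (ha : p ^ a ∣ Nat.card G) : p ^ a ∣ Nat.card {g : G // ∃ k, orderOf g = p ^ k} := by
  induction hn : Nat.card G using Nat.strong_induction_on generalizing G a with
  | _ n ih =>
  classical
  have hp : p.Prime := Fact.out
  have := Fintype.ofFinite G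
  let u : ∀ (H : Type u) [Group H], ℕ := fun H _ => Nat.card {g : H // ∃ k, orderOf g = p ^ k}
  let S := (Finset.univ : Finset G).filter fun y => ¬ p ∣ orderOf y
  let C : G → Subgroup G := fun y => Subgroup.centralizer {y}
  have hdec : Nat.card G = ∑ y ∈ S, u (C y) := by
    rw [← Finset.sum_coe_sort S (fun y => u (C y))]
    simp only [u]
    rw [← Nat.card_sigma]
    refine (Nat.card_congr (Equiv.ofBijective
      (fun z : Σ y : S, {g : C y.1 // ∃ k, orderOf g = p ^ k} => ((z.2.1 : G) * z.1.1)) ⟨?_, ?_⟩)).symm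
    · rintro ⟨⟨y, hy⟩, ⟨⟨x, hx⟩, k, hk⟩⟩ ⟨⟨y', hy'⟩, ⟨⟨x', hx'⟩, k', hk'⟩⟩ h
      rw [Subgroup.orderOf_mk] at hk hk'
      obtain rfl : x = x' := decomp_left_unique (p := p)
        (Subgroup.mem_centralizer_singleton_iff.1 hx) (Subgroup.mem_centralizer_singleton_iff.1 hx')
        ⟨k, hk⟩ ⟨k', hk'⟩ (Finset.mem_filter.1 hy).2 (Finset.mem_filter.1 hy').2 h
      obtain rfl : y = y' := mul_left_cancel h
      rfl
    · intro g
      obtain ⟨x, y, h, hxy, ⟨k, hk⟩, hy⟩ := exists_decomp (p := p) g
      exact ⟨⟨⟨y, Finset.mem_filter.2 ⟨Finset.mem_univ _, hy⟩⟩,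
        ⟨⟨x, Subgroup.mem_centralizer_singleton_iff.2 hxy⟩, k, by rwa [Subgroup.orderOf_mk]⟩⟩, h⟩
  -- the contribution of the non-central elements
  have hnc : p ^ a ∣ ∑ y ∈ S.filter (fun y => y ∉ Subgroup.center G), u (C y) := by
    rw [← Finset.sum_fiberwise_of_maps_to (t := (Finset.univ : Finset (ConjClasses G)))
      (g := ConjClasses.mk) (fun _ _ => Finset.mem_univ _)]
    refine Finset.dvd_sum fun c _ => ?_
    rcases Finset.eq_empty_or_nonempty
        ((S.filter fun y => y ∉ Subgroup.center G).filter fun y => ConjClasses.mk y = c) with he | ⟨y, hy⟩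
    · rw [he, Finset.sum_empty]; exact dvd_zero _
    · simp only [Finset.mem_filter, S, Finset.mem_univ, true_and] at hy
      obtain ⟨⟨hyp, hyc⟩, rfl⟩ := hy
      have hfib : ∀ z, z ∈ ((S.filter fun w => w ∉ Subgroup.center G).filter
          fun w => ConjClasses.mk w = ConjClasses.mk y) ↔ IsConj y z := by
        intro z
        simp only [Finset.mem_filter, S, Finset.mem_univ, true_and, ConjClasses.mk_eq_mk_iff_isConj]
        refine ⟨fun h => h.2.symm, fun h => ⟨?_, h.symm⟩⟩
        obtain ⟨g, rfl⟩ := isConj_iff.1 h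
        refine ⟨by rwa [show g * y * g⁻¹ = MulAut.conj g y from rfl, MulEquiv.orderOf_eq], fun hz => hyc ?_⟩
        have := Subgroup.Normal.conj_mem inferInstance _ hz g⁻¹
        simpa [mul_assoc] using this
      have hconst : ∀ z ∈ ((S.filter fun w => w ∉ Subgroup.center G).filter
          fun w => ConjClasses.mk w = ConjClasses.mk y), u (C z) = u (C y) := by
        intro z hz
        obtain ⟨g, rfl⟩ := isConj_iff.1 ((hfib z).1 hz)
        symm
        refine Nat.card_congr (Equiv.subtypeEquiv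
          { toFun := fun x => (⟨g * x * g⁻¹, ?_⟩ : C (g * y * g⁻¹))
            invFun := fun x => ⟨g⁻¹ * x * g, ?_⟩
            left_inv := fun x => Subtype.ext (by simp [mul_assoc])
            right_inv := fun x => Subtype.ext (by simp [mul_assoc]) } (fun x => ?_))
        · have hx := Subgroup.mem_centralizer_singleton_iff.1 x.2
          rw [Subgroup.mem_centralizer_singleton_iff]
          calc g * x * g⁻¹ * (g * y * g⁻¹) = g * (x * y) * g⁻¹ := by group
            _ = g * (y * x) * g⁻¹ := by rw [hx]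
            _ = g * y * g⁻¹ * (g * x * g⁻¹) := by group
        · have hx := Subgroup.mem_centralizer_singleton_iff.1 x.2
          rw [Subgroup.mem_centralizer_singleton_iff]
          calc g⁻¹ * x * g * y = g⁻¹ * (x * (g * y * g⁻¹)) * g := by group
            _ = g⁻¹ * (g * y * g⁻¹ * x) * g := by rw [hx]
            _ = y * (g⁻¹ * x * g) := by group
        · simp only [Equiv.coe_fn_mk, ← Subgroup.orderOf_coe,
            show g * (x : G) * g⁻¹ = MulAut.conj g (x : G) from rfl, MulEquiv.orderOf_eq]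
      rw [Finset.sum_congr rfl hconst, Finset.sum_const, smul_eq_mul]
      have hcard : ((S.filter fun w => w ∉ Subgroup.center G).filter
          fun w => ConjClasses.mk w = ConjClasses.mk y).card = (C y).index := by
        rw [← CfsgLib.PGroup.Basic.conj_card_eq_index y, Nat.card_eq_fintype_card,
          Fintype.card_of_subtype _ hfib]
      rw [hcard]
      have hlt : Nat.card (C y) < n := by
        rw [← hn]
        refine lt_of_le_of_ne (Subgroup.card_le_card_group _) fun h => hyc ?_
        have htop := Subgroup.eq_top_of_card_eq _ h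
        rw [Subgroup.mem_center_iff]
        intro g
        exact Subgroup.mem_centralizer_singleton_iff.1 (htop ▸ Subgroup.mem_top g : g ∈ C y)
      have hC0 : Nat.card (C y) ≠ 0 := Nat.card_pos.ne'
      have hI0 : (C y).index ≠ 0 := Subgroup.index_ne_zero_of_finite
      set c := (Nat.card (C y)).factorization p
      set i := (C y).index.factorization p
      have hc := ih _ hlt (G := C y) (a := c) (Nat.ordProj_dvd _ _) rfl
      refine dvd_trans ?_ (Nat.mul_dvd_mul (Nat.ordProj_dvd (C y).index p) hc)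
      rw [← pow_add]
      refine pow_dvd_pow p ?_
      rw [hp.pow_dvd_iff_le_factorization Nat.card_pos.ne', ← (C y).card_mul_index,
        Nat.factorization_mul hC0 hI0, Finsupp.add_apply] at ha
      omega
  -- the central part
  have hcen : ∀ y ∈ S.filter (fun y => y ∈ Subgroup.center G), u (C y) = u G := by
    intro y hy
    have htop : C y = ⊤ := eq_top_iff.2 fun g _ => Subgroup.mem_centralizer_singleton_iff.2
      (Subgroup.mem_center_iff.1 (Finset.mem_filter.1 hy).2 g)
    simp only [u]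
    exact Nat.card_congr (Equiv.subtypeEquiv
      (Equiv.subtypeUnivEquiv (p := fun g => g ∈ C y) (fun g => by rw [htop]; trivial)) fun x => by
      show (∃ k, orderOf x = p ^ k) ↔ ∃ k, orderOf (x : G) = p ^ k
      rw [Subgroup.orderOf_coe])
  rw [← Finset.sum_filter_add_sum_filter_not S (fun y => y ∈ Subgroup.center G),
    Finset.sum_congr rfl hcen, Finset.sum_const, smul_eq_mul] at hdec
  rw [hdec, Nat.dvd_add_left hnc] at ha
  refine (Nat.Coprime.pow_left a (hp.coprime_iff_not_dvd.2 ?_)).dvd_of_dvd_mul_left ha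
  -- the number of central `p'`-elements is prime to `p`
  intro hdvd
  let W : Subgroup G :=
    { carrier := {y | y ∈ Subgroup.center G ∧ ¬ p ∣ orderOf y}
      one_mem' := ⟨one_mem _, by rw [orderOf_one]; exact hp.not_dvd_one⟩
      mul_mem' := fun {x y} hx hy => ⟨mul_mem hx.1 hy.1, fun h => by
        rcases (hp.dvd_mul).1 (h.trans (Commute.orderOf_mul_dvd_mul_orderOf
          (Subgroup.mem_center_iff.1 hy.1 x))) with h | h
        · exact hx.2 h
        · exact hy.2 h⟩
      inv_mem' := fun {x} hx => ⟨inv_mem hx.1, by rw [orderOf_inv]; exact hx.2⟩ }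
  have hW : Nat.card W = (S.filter fun y => y ∈ Subgroup.center G).card := by
    rw [← Nat.card_eq_finsetCard]
    exact Nat.card_congr (Equiv.subtypeEquivRight fun y => by simp [S, W, and_comm])
  rw [← hW] at hdvd
  obtain ⟨w, hw⟩ := exists_prime_orderOf_dvd_card' p hdvd
  exact w.2.2 (by rw [Subgroup.orderOf_coe, hw])

/-- The number of nontrivial `p`-elements is divisible by `p - 1`. -/
theorem card_modEq_one [Fact p.Prime] {G : Type u} [Group G] [Finite G] :
    Nat.card {g : G // ∃ k, orderOf g = p ^ k} ≡ 1 [MOD p - 1] := by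
  classical
  have hp : p.Prime := Fact.out
  have := Fintype.ofFinite G
  set S := (Finset.univ : Finset G).filter fun g => ∃ k, orderOf g = p ^ k
  rw [show Nat.card {g : G // ∃ k, orderOf g = p ^ k} = S.card by
    rw [Nat.card_eq_fintype_card, Fintype.card_subtype]]
  have h1 : (1 : G) ∈ S := Finset.mem_filter.2 ⟨Finset.mem_univ _, 0, by simp⟩
  rw [← Finset.card_erase_add_one h1]
  conv_rhs => rw [← zero_add 1]
  refine Nat.ModEq.add_right 1 (Nat.modEq_zero_iff_dvd.2 ?_)
  rw [Finset.card_eq_sum_card_fiberwise (f := fun x => Subgroup.zpowers x)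
    (t := (S.erase 1).image fun x => Subgroup.zpowers x) (fun x hx => Finset.mem_image_of_mem _ hx)]
  refine Finset.dvd_sum fun D hD => ?_
  obtain ⟨x, hx, rfl⟩ := Finset.mem_image.1 hD
  obtain ⟨hx1, hxS⟩ := Finset.mem_erase.1 hx
  obtain ⟨k, hk⟩ := (Finset.mem_filter.1 hxS).2
  have hk0 : 0 < k := by
    rcases Nat.eq_zero_or_pos k with rfl | h
    · exact absurd (orderOf_eq_one_iff.1 (by simpa using hk)) hx1
    · exact h
  have hc : ((S.erase 1).filter fun y => Subgroup.zpowers y = Subgroup.zpowers x).card =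
      Nat.totient (p ^ k) := by
    rw [← IsCyclic.card_orderOf_eq_totient (α := Subgroup.zpowers x) (d := p ^ k)
      (by rw [Fintype.card_zpowers, hk]), ← Finset.card_map (Function.Embedding.subtype _)]
    congr 1
    ext y
    simp only [Finset.mem_filter, Finset.mem_erase, Finset.mem_map, Finset.mem_univ, true_and,
      Function.Embedding.coe_subtype, S]
    constructor
    · rintro ⟨-, hy⟩
      refine ⟨⟨y, hy ▸ Subgroup.mem_zpowers y⟩, ?_, rfl⟩
      rw [Subgroup.orderOf_mk, ← Nat.card_zpowers, hy, Nat.card_zpowers, hk]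
    · rintro ⟨⟨y, hy⟩, hyo, rfl⟩
      rw [Subgroup.orderOf_mk] at hyo
      refine ⟨⟨fun e => ?_, k, hyo⟩, Subgroup.eq_of_le_of_card_ge (Subgroup.zpowers_le.2 hy) ?_⟩
      · rw [show y = 1 from e, orderOf_one] at hyo
        exact (Nat.one_lt_pow hk0.ne' hp.one_lt).ne hyo
      · rw [Nat.card_zpowers, Nat.card_zpowers, hk, hyo]
  rw [hc, Nat.totient_prime_pow hp hk0]
  exact dvd_mul_left _ _

end CfsgLib.PGroup.CountPElements
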