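import Cfsg.Agent.S2119
import Cfsg.Agent.Lib.PGroup.Frattini

/-!
Automorphisms of odd prime power order of alternating groups, and Sylow subgroups of small degree.
-/

set_option autoImplicit false
set_option linter.style.haveILetI false

namespace CfsgLib.PGroup.AltAut

open scoped commutatorElement
open Equiv Equiv.Perm Cfsg.Agent.S2119 CfsgLib.KnownA.AltThreeCycle

theorem conjNormal_injective (n : ℕ) (hn : 4 ≤ n) :
    Function.Injective (MulAut.conjNormal : Equiv.Perm (Fin n) →* MulAut ↥(alternatingGroup (Fin n))) := by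
  rw [injective_iff_map_eq_one]
  intro g hg
  by_contra hne
  obtain ⟨x, hx⟩ : ∃ x, g x ≠ x := by
    by_contra h; push Not at h; exact hne (Equiv.ext h)
  obtain ⟨z, hz⟩ : ∃ z, z ∉ ({x, g x} : Finset (Fin n)) := by
    by_contra h; push Not at h
    have := Finset.card_le_card (s := Finset.univ) fun y _ => h y
    rw [Finset.card_univ, Fintype.card_fin] at this
    have := this.trans Finset.card_le_two; omega
  obtain ⟨w, hw⟩ : ∃ w, w ∉ ({x, g x, z} : Finset (Fin n)) := by
    by_contra h; push Not at h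
    have := Finset.card_le_card (s := Finset.univ) fun y _ => h y
    rw [Finset.card_univ, Fintype.card_fin] at this
    have := this.trans Finset.card_le_three; omega
  simp only [Finset.mem_insert, Finset.mem_singleton, not_or] at hz hw
  have hu : (swap x z * swap x w).IsThreeCycle := isThreeCycle_swap_mul_swap_same (Ne.symm hz.1) (Ne.symm hw.1) (Ne.symm hw.2.2)
  have h := congrArg (fun e : MulAut ↥(alternatingGroup (Fin n)) => (e ⟨_, hu.mem_alternatingGroup⟩ : Perm (Fin n))) hg
  simp only [MulAut.conjNormal_apply, MulAut.one_apply] at h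
  have h2 := congrArg (fun σ : Perm (Fin n) => σ (g x)) h
  simp [swap_apply_of_ne_of_ne hx (Ne.symm hw.2.1), swap_apply_of_ne_of_ne hx (Ne.symm hz.2),
    swap_apply_of_ne_of_ne hw.1 hw.2.2] at h2
  exact hw.1 h2

/-- An automorphism preserving three-cycles is induced by a permutation. -/
theorem exists_conjNormal (n : ℕ) (hn : 4 ≤ n) (φ : MulAut ↥(alternatingGroup (Fin n)))
    (hmap : ∀ u : ↥(alternatingGroup (Fin n)), (u : Perm (Fin n)).IsThreeCycle →
      ((φ u : ↥(alternatingGroup (Fin n))) : Perm (Fin n)).IsThreeCycle) :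
    ∃ σ : Perm (Fin n), MulAut.conjNormal σ = φ := by
  let P : Fin n := ⟨0, by omega⟩
  let Q : Fin n := ⟨1, by omega⟩
  have hPQ : P ≠ Q := by simp [P, Q, Fin.ext_iff]
  let I := {i : Fin n // i ≠ P ∧ i ≠ Q}
  let u : I → ↥(alternatingGroup (Fin n)) := fun i =>
    ⟨swap Q i.1 * swap Q P, (isThreeCycle_swap_mul_swap_same i.2.2.symm hPQ.symm i.2.1).mem_alternatingGroup⟩
  have hu3 : ∀ i, (u i : Perm (Fin n)).IsThreeCycle := fun i => isThreeCycle_swap_mul_swap_same i.2.2.symm hPQ.symm i.2.1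
  have huval : ∀ i : I, (u i : Perm (Fin n)) Q = P ∧ (u i : Perm (Fin n)) P = i.1 ∧ (u i : Perm (Fin n)) i.1 = Q := by
    intro i
    obtain ⟨hiP, hiQ⟩ := i.2
    refine ⟨?_, ?_, ?_⟩ <;> simp [u, Equiv.swap_apply_def, hiP, hiQ, hPQ, hPQ.symm, hiP.symm, hiQ.symm]
  have huinj : Function.Injective u := fun i j h => Subtype.ext (by
    rw [← (huval i).2.1, ← (huval j).2.1, h])
  have hpair : ∀ i j, i ≠ j → Pair (u i : Perm (Fin n)) (u j) := by
    intro i j hij
    obtain ⟨hiP, hiQ⟩ := i.2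
    obtain ⟨hjP, hjQ⟩ := j.2
    have hij' : i.1 ≠ j.1 := fun h => hij (Subtype.ext h)
    have e : (u i : Perm (Fin n)) * u j = swap i.1 Q * swap P j.1 := by
      ext x
      simp only [u, Perm.mul_apply, Equiv.swap_apply_def]
      split_ifs <;> simp_all
    refine ⟨hu3 i, hu3 j, ?_, ?_⟩
    · rw [e, pow_two]
      have hd : Perm.Disjoint (swap i.1 Q) (swap P j.1) := by
        intro x
        by_cases h : x = i.1 ∨ x = Q
        · right; rcases h with rfl | rfl
          · exact swap_apply_of_ne_of_ne hiP hij'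
          · exact swap_apply_of_ne_of_ne hPQ.symm hjQ.symm
        · left; push Not at h; exact swap_apply_of_ne_of_ne h.1 h.2
      rw [mul_assoc, ← mul_assoc (swap P j.1), ← hd.commute.eq, mul_assoc, swap_mul_self, mul_one, swap_mul_self]
    · rw [e]
      intro h
      have := congrArg (fun σ : Perm (Fin n) => σ P) h
      simp [Equiv.swap_apply_def, hiP.symm, hjQ, hPQ, hij'.symm, hjP.symm] at this
      exact hjP this
  let W : I → Perm (Fin n) := fun i => ((φ (u i) : ↥(alternatingGroup (Fin n))) : Perm (Fin n))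
  have hW3 : ∀ i, (W i).IsThreeCycle := fun i => hmap _ (hu3 i)
  have hWinj : Function.Injective W := fun i j h => huinj (φ.injective (Subtype.ext h))
  have hWp : ∀ i j, i ≠ j → Pair (W i) (W j) := by
    intro i j hij
    obtain ⟨-, -, h2, h1⟩ := hpair i j hij
    refine ⟨hW3 i, hW3 j, ?_, fun h => h1 ?_⟩
    · have := congrArg φ (Subtype.ext h2 : (u i * u j) ^ 2 = 1)
      rw [map_pow, map_mul, map_one] at this
      exact congrArg Subtype.val this
    · have : φ (u i * u j) = φ 1 := by rw [map_mul, map_one]; exact Subtype.ext h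
      exact congrArg Subtype.val (φ.injective this)
  let i₂ : I := ⟨⟨2, by omega⟩, by simp [P, Fin.ext_iff], by simp [Q, Fin.ext_iff]⟩
  let i₃ : I := ⟨⟨3, by omega⟩, by simp [P, Fin.ext_iff], by simp [Q, Fin.ext_iff]⟩
  have h23 : i₂ ≠ i₃ := fun h => by have := congrArg (fun i : I => i.1.val) h; simp [i₂, i₃] at this
  obtain ⟨⟨A, hA, hA'⟩, -⟩ := pair_edge hn (hWp _ _ h23)
  set A' := W i₂ A with hA'def
  have hall : ∀ i, W i A = A' := by
    intro i
    by_cases h2 : i = i₂
    · rw [h2]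
    by_cases h3 : i = i₃
    · rw [h3]; exact hA'.symm
    exact triple_edge hn (hWp _ _ h23) (hWp _ _ (Ne.symm h2)) (hWp _ _ (Ne.symm h3))
      (hWinj.ne h23) (hWinj.ne (Ne.symm h2)) (hWinj.ne (Ne.symm h3)) hA hA'
  have hmov : ∀ i, W i A ≠ A := fun i => by rw [hall i]; exact hA
  have hWcube : ∀ i, W i (W i A') = A := fun i => by
    have := congrArg (fun σ : Perm (Fin n) => σ A) (CfsgLib.KnownA.AltThreeCycle.pow_three (hW3 i)).1
    simpa [pow_succ, Perm.mul_apply, hall i] using this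
  have hE1 : ∀ i, W i A' ≠ A' := fun i h => hmov i ((W i).injective (by rw [hall i]; exact h))
  have hE2 : ∀ i, W i A' ≠ A := fun i h => by
    have := hWcube i
    rw [h, hall i] at this
    exact hA this
  let f : Fin n → Fin n := fun x => if h : x ≠ P ∧ x ≠ Q then W ⟨x, h⟩ A' else if x = Q then A else A'
  have hfI : ∀ i : I, f i.1 = W i A' := fun i => by simp [f, i.2]
  have hfP : f P = A' := by simp [f, hPQ]
  have hfQ : f Q = A := by simp [f]
  have hinj : Function.Injective f := by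
    intro x y hxy
    by_cases hx : x ≠ P ∧ x ≠ Q <;> by_cases hy : y ≠ P ∧ y ≠ Q
    · rw [show x = (⟨x, hx⟩ : I).1 from rfl, show y = (⟨y, hy⟩ : I).1 from rfl, hfI, hfI] at hxy
      have := hWinj (eq_of_two_values (hW3 ⟨x, hx⟩) (hW3 ⟨y, hy⟩) (hmov _) (by rw [hall, hall]) (by rw [hall]; exact hxy))
      exact congrArg Subtype.val this
    · rw [show x = (⟨x, hx⟩ : I).1 from rfl, hfI] at hxy
      rcases (show y = P ∨ y = Q by tauto) with rfl | rfl
      · rw [hfP] at hxy; exact absurd hxy (hE1 _)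
      · rw [hfQ] at hxy; exact absurd hxy (hE2 _)
    · rw [show y = (⟨y, hy⟩ : I).1 from rfl, hfI] at hxy
      rcases (show x = P ∨ x = Q by tauto) with rfl | rfl
      · rw [hfP] at hxy; exact absurd hxy.symm (hE1 _)
      · rw [hfQ] at hxy; exact absurd hxy.symm (hE2 _)
    · rcases (show x = P ∨ x = Q by tauto) with rfl | rfl <;> rcases (show y = P ∨ y = Q by tauto) with rfl | rfl
      · rfl
      · rw [hfP, hfQ] at hxy; exact absurd hxy hA
      · rw [hfP, hfQ] at hxy; exact absurd hxy.symm hA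
      · rfl
  let σ : Perm (Fin n) := Equiv.ofBijective f (Finite.injective_iff_bijective.1 hinj)
  have hσ : ∀ x, σ x = f x := fun x => rfl
  refine ⟨σ, ?_⟩
  have hgen : ∀ i, MulAut.conjNormal σ (u i) = φ (u i) := by
    intro i
    refine Subtype.ext ?_
    rw [MulAut.conjNormal_apply]
    have hc3 : (σ * (u i : Perm (Fin n)) * σ⁻¹).IsThreeCycle := by
      unfold Perm.IsThreeCycle; rw [cycleType_conj]; exact hu3 i
    have e1 : (σ * (u i : Perm (Fin n)) * σ⁻¹) A = A' := by
      rw [← hfQ, ← hσ, Perm.mul_apply, Perm.mul_apply, Perm.inv_def, Equiv.symm_apply_apply, (huval i).1, hσ, hfP]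
    have e2 : (σ * (u i : Perm (Fin n)) * σ⁻¹) A' = W i A' := by
      conv_lhs => rw [← hfP, ← hσ, Perm.mul_apply, Perm.mul_apply, Perm.inv_def, Equiv.symm_apply_apply, (huval i).2.1, hσ]
      exact hfI i
    exact eq_of_two_values hc3 (hW3 i) (a := A) (by rw [e1]; exact hA) (by rw [e1, hall i]) (by rw [e1]; exact e2)
  let K : Subgroup ↥(alternatingGroup (Fin n)) :=
    (MulAut.conjNormal σ : MulAut ↥(alternatingGroup (Fin n))).toMonoidHom.eqLocus φ.toMonoidHom
  have hKtop : alternatingGroup (Fin n) ≤ K.map (alternatingGroup (Fin n)).subtype := by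
    refine star_generate hPQ _ (Subgroup.map_subtype_le K) fun i hiP hiQ => ?_
    refine ⟨(u ⟨i, hiP, hiQ⟩)⁻¹, inv_mem (hgen _ : u ⟨i, hiP, hiQ⟩ ∈ K), ?_⟩
    show ((u ⟨i, hiP, hiQ⟩)⁻¹ : ↥(alternatingGroup (Fin n))).1 = _
    simp [u]
  refine MulEquiv.ext fun x => ?_
  obtain ⟨y, hy, hyx⟩ := hKtop x.2
  obtain rfl : y = x := Subtype.ext hyx
  exact hy

theorem six_counts :
    (Finset.univ.filter (fun x : Perm (Fin 6) => x ^ 3 = 1 ∧ x.support.card = 3)).card = 40 ∧
    (Finset.univ.filter (fun x : Perm (Fin 6) => x ^ 3 = 1 ∧ x.support.card = 6)).card = 40 ∧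
    ∀ x : Perm (Fin 6), x ^ 3 = 1 → x = 1 ∨ x.support.card = 3 ∨
      (x.support.card = 6 ∧ Perm.sign x = 1) := by
  decide +kernel

/-- In `A_6` automorphisms of odd order preserve three-cycles. -/
theorem six_preserves (φ : MulAut ↥(alternatingGroup (Fin 6))) {k : ℕ} (hk : Odd k) (hφ : φ ^ k = 1)
    {u : ↥(alternatingGroup (Fin 6))} (hu : (u : Perm (Fin 6)).IsThreeCycle) :
    ((φ u : ↥(alternatingGroup (Fin 6))) : Perm (Fin 6)).IsThreeCycle := by
  classical
  obtain ⟨hcT, hcD, hcl⟩ := six_counts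
  let A := ↥(alternatingGroup (Fin 6))
  let T : Finset A := Finset.univ.filter fun x => x ^ 3 = 1 ∧ (x : Perm (Fin 6)).support.card = 3
  let D : Finset A := Finset.univ.filter fun x => x ^ 3 = 1 ∧ (x : Perm (Fin 6)).support.card = 6
  have hsub : ∀ (m : ℕ) (S : Finset A) (S' : Finset (Perm (Fin 6))),
      S = (Finset.univ.filter fun x : A => x ^ 3 = 1 ∧ (x : Perm (Fin 6)).support.card = m) →
      S' = (Finset.univ.filter fun x : Perm (Fin 6) => x ^ 3 = 1 ∧ x.support.card = m) →
      m ≠ 0 → S.card = S'.card := by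
    rintro m S S' rfl rfl hm
    refine Finset.card_bij' (fun x _ => (x : Perm (Fin 6)))
      (fun x hx => ⟨x, mem_alternatingGroup.2 ?_⟩) ?_ ?_ (fun _ _ => rfl) (fun _ _ => rfl)
    · rw [Finset.mem_filter] at hx
      rcases hcl x hx.2.1 with h | h | h
      · rw [h, map_one]
      · exact mem_alternatingGroup.1 (card_support_eq_three_iff.1 h).mem_alternatingGroup
      · exact h.2
    · intro x hx
      simp only [Finset.mem_filter, Finset.mem_univ, true_and] at hx ⊢
      exact ⟨congrArg Subtype.val hx.1, hx.2⟩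
    · intro x hx
      simp only [Finset.mem_filter, Finset.mem_univ, true_and] at hx ⊢
      exact ⟨Subtype.ext hx.1, hx.2⟩
  have hT : T.card = 40 := (hsub 3 T _ rfl rfl (by norm_num)).trans hcT
  have hD : D.card = 40 := (hsub 6 D _ rfl rfl (by norm_num)).trans hcD
  have h3 : ∀ x : A, x ^ 3 = 1 → x ≠ 1 → x ∈ T ∨ x ∈ D := fun x hx hx1 => by
    rcases hcl (x : Perm (Fin 6)) (congrArg Subtype.val hx) with h | h | h
    · exact absurd (Subtype.ext h) hx1
    · exact Or.inl (Finset.mem_filter.2 ⟨Finset.mem_univ _, hx, h⟩)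
    · exact Or.inr (Finset.mem_filter.2 ⟨Finset.mem_univ _, hx, h.1⟩)
  have hne : ∀ x : A, x ∈ T ∨ x ∈ D → x ^ 3 = 1 ∧ x ≠ 1 := by
    intro x hx
    rcases hx with hx | hx <;> rw [Finset.mem_filter] at hx <;>
      exact ⟨hx.2.1, fun h => by simp [h] at hx⟩
  have him : ∀ x : A, x ∈ T ∨ x ∈ D → φ x ∈ T ∨ φ x ∈ D := fun x hx =>
    h3 _ (by rw [← map_pow, (hne x hx).1, map_one])
      (fun h => (hne x hx).2 (φ.injective (h.trans (map_one φ).symm)))
  have hdisj : ∀ x : A, x ∈ T → x ∉ D := fun x h h' => by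
    rw [Finset.mem_filter] at h h'; omega
  by_contra hnot
  have huT : u ∈ T := Finset.mem_filter.2 ⟨Finset.mem_univ _,
    Subtype.ext (pow_three hu).1, hu.card_support⟩
  have huD : φ u ∈ D := (him u (Or.inl huT)).resolve_left fun h => hnot
    (card_support_eq_three_iff.1 (Finset.mem_filter.1 h).2.2)
  have hTD : ∀ x ∈ T, φ x ∈ D := by
    intro x hx
    refine (him x (Or.inl hx)).resolve_left fun h => hnot ?_
    obtain ⟨c, hc⟩ := isConj_iff.1 (alternatingGroup.isThreeCycle_isConj (by simp)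
      (card_support_eq_three_iff.1 (Finset.mem_filter.1 hx).2.2) hu)
    rw [← hc, map_mul, map_mul, map_inv, Subgroup.coe_mul, Subgroup.coe_mul, Subgroup.coe_inv]
    unfold Perm.IsThreeCycle
    rw [cycleType_conj]
    exact card_support_eq_three_iff.1 (Finset.mem_filter.1 h).2.2
  have hDT : ∀ x ∈ D, φ x ∈ T := by
    intro x hx
    refine (him x (Or.inr hx)).resolve_right fun h => ?_
    have himg : T.image φ = D := Finset.eq_of_subset_of_card_le
      (fun y hy => by obtain ⟨z, hz, rfl⟩ := Finset.mem_image.1 hy; exact hTD z hz)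
      (by rw [Finset.card_image_of_injective _ φ.injective, hT, hD])
    rw [← himg] at h
    obtain ⟨z, hz, hzx⟩ := Finset.mem_image.1 h
    exact hdisj z hz (by rw [φ.injective hzx]; exact hx)
  have key : ∀ j, (Even j → (φ ^ j) u ∈ T) ∧ (Odd j → (φ ^ j) u ∈ D) := by
    intro j
    induction j with
    | zero => exact ⟨fun _ => by simpa using huT, fun h => by simp at h⟩
    | succ j ih =>
      rw [pow_succ', MulAut.mul_apply]
      exact ⟨fun h => hDT _ (ih.2 (by rwa [Nat.even_add_one, Nat.not_even_iff_odd] at h)),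
        fun h => hTD _ (ih.1 (by rwa [Nat.odd_add_one, Nat.not_odd_iff_even] at h))⟩
  have h := (key k).2 hk
  rw [hφ] at h
  exact hdisj u huT h

/-- An automorphism of odd order of `A_n` is induced by a permutation. -/
theorem exists_conjNormal_of_odd {n : ℕ} (hn : 4 ≤ n) (φ : MulAut ↥(alternatingGroup (Fin n)))
    {k : ℕ} (hk : Odd k) (hφ : φ ^ k = 1) : ∃ σ : Perm (Fin n), MulAut.conjNormal σ = φ := by
  refine exists_conjNormal n hn φ fun u hu => ?_
  by_cases h6 : n = 6
  · subst h6; exact six_preserves φ hk hφ hu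
  · exact map_threeCycle hn h6 φ hu

/-- Below degree `q²` the `q`-subgroups of the symmetric group are commutative. -/
theorem comm_of_lt_sq {α : Type*} [Fintype α] {q : ℕ} [hq : Fact q.Prime]
    (hlt : Fintype.card α < q ^ 2) (S : Subgroup (Perm α)) (hS : IsPGroup q S) :
    ∀ a b : S, a * b = b * a := by
  intro a b
  refine Subtype.ext (Equiv.ext fun x => ?_)
  let St : Subgroup S := MulAction.stabilizer S x
  obtain ⟨i, hi⟩ := hS.index St
  have hle : St.index ≤ Fintype.card α := by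
    rw [MulAction.index_stabilizer, ← Nat.card_coe_set_eq, ← Nat.card_eq_fintype_card]
    exact Nat.card_le_card_of_injective _ Subtype.val_injective
  have hi1 : i ≤ 1 := by
    by_contra h
    have := Nat.pow_le_pow_right hq.out.pos (show 2 ≤ i by omega)
    omega
  have hcomm : commutator S ≤ St := by
    rcases Nat.le_one_iff_eq_zero_or_eq_one.1 hi1 with rfl | rfl
    · rw [pow_zero] at hi
      rw [Subgroup.index_eq_one.1 hi]; exact le_top
    · rw [pow_one] at hi
      haveI : St.Normal := Subgroup.normal_of_index_eq_minFac_card (by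
        rw [hi]
        obtain ⟨j, hj⟩ := IsPGroup.iff_card.1 hS
        have hj0 : j ≠ 0 := fun h => by
          have := hi ▸ St.index_dvd_card
          rw [hj, h, pow_zero] at this
          exact hq.out.one_lt.ne' (Nat.dvd_one.1 this)
        rw [hj, Nat.Prime.pow_minFac hq.out hj0])
      haveI : IsCyclic (S ⧸ St) := isCyclic_of_prime_card (p := q) hi
      refine (Subgroup.Normal.quotient_commutative_iff_commutator_le).1 ?_
      obtain ⟨g, hg⟩ := IsCyclic.exists_generator (α := S ⧸ St)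
      refine ⟨⟨fun u v => ?_⟩⟩
      obtain ⟨s, rfl⟩ := Subgroup.mem_zpowers_iff.1 (hg u)
      obtain ⟨t, rfl⟩ := Subgroup.mem_zpowers_iff.1 (hg v)
      exact ((Commute.refl g).zpow_zpow s t).eq
  have hmem : ⁅a, b⁆ ∈ St := hcomm (Subgroup.commutator_mem_commutator (Subgroup.mem_top a) (Subgroup.mem_top b))
  have hmem' : ⁅(a⁻¹ : S), b⁻¹⁆ ∈ St :=
    hcomm (Subgroup.commutator_mem_commutator (Subgroup.mem_top _) (Subgroup.mem_top _))
  have h1 : ((⁅(a⁻¹ : S), b⁻¹⁆ : S) : Perm α) x = x := MulAction.mem_stabilizer_iff.1 hmem'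
  have h2 : (((b * a) * ⁅(a⁻¹ : S), b⁻¹⁆ : S) : Perm α) = ((a * b : S) : Perm α) := by
    congr 1; rw [commutatorElement_def]; group
  rw [← h2, Subgroup.coe_mul, Perm.mul_apply, h1]

/-- Elements of order `pq` in `A_n`. -/
theorem exists_order_mul {n p q : ℕ} (hp : p.Prime) (hq : q.Prime) (hq2 : q ≠ 2) (hne : p ≠ q)
    (hn : p ≠ 2 ∧ p + q ≤ n ∨ p = 2 ∧ q + 4 ≤ n) :
    ∃ σ : ↥(alternatingGroup (Fin n)), orderOf σ = p * q := by
  have hlcm : Nat.lcm p q = p * q := ((Nat.coprime_primes hp hq).2 hne).lcm_eq_mul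
  obtain ⟨hqo, hq2'⟩ := (hq.eq_two_or_odd'.resolve_left hq2), hq.two_le
  rcases hn with ⟨hp2, hn⟩ | ⟨rfl, hn⟩
  · have hpo := hp.eq_two_or_odd'.resolve_left hp2
    obtain ⟨g, hg⟩ := (exists_with_cycleType_iff (α := Fin n) (m := {p, q})).2
      ⟨by simpa [Nat.add_comm] using hn, by simp [hp.two_le, hq.two_le]⟩
    refine ⟨⟨g, mem_alternatingGroup.2 ?_⟩, ?_⟩
    · rw [sign_of_cycleType, hg]
      simp only [Multiset.insert_eq_cons, Multiset.sum_cons, Multiset.sum_singleton,
        Multiset.card_cons, Multiset.card_singleton]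
      exact (Even.add (hpo.add_odd hqo) (by decide)).neg_one_pow
    · rw [Subgroup.orderOf_mk, ← lcm_cycleType, hg, ← hlcm]
      simp only [Multiset.insert_eq_cons, Multiset.lcm_cons, Multiset.lcm_singleton, normalize_eq]
      rfl
  · obtain ⟨g, hg⟩ := (exists_with_cycleType_iff (α := Fin n) (m := {2, 2, q})).2
      ⟨by simp; omega, by simp [hq.two_le]⟩
    refine ⟨⟨g, mem_alternatingGroup.2 ?_⟩, ?_⟩
    · rw [sign_of_cycleType, hg]
      simp only [Multiset.insert_eq_cons, Multiset.sum_cons, Multiset.sum_singleton,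
        Multiset.card_cons, Multiset.card_singleton]
      refine Even.neg_one_pow ?_
      obtain ⟨t, rfl⟩ := hqo
      exact ⟨t + 4, by ring⟩
    · rw [Subgroup.orderOf_mk, ← lcm_cycleType, hg, ← hlcm]
      simp only [Multiset.insert_eq_cons, Multiset.lcm_cons, Multiset.lcm_singleton, normalize_eq]
      show Nat.lcm 2 (Nat.lcm 2 q) = Nat.lcm 2 q
      rw [← Nat.lcm_assoc, Nat.lcm_self]

theorem prime_graph (n : ℕ) (hn : 5 ≤ n) (G : Subgroup (MulAut (alternatingGroup (Fin n))))
    (hG : (MulAut.conj : alternatingGroup (Fin n) →* MulAut (alternatingGroup (Fin n))).range ≤ G)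
    (p q : ℕ) [Fact p.Prime] [Fact q.Prime] (hpq : p ≠ q) (h : ∀ g : G, orderOf g ≠ p * q) :
    (∀ P : Sylow p G, IsMulCommutative (P : Subgroup G)) ∨
      (∀ Q : Sylow q G, IsMulCommutative (Q : Subgroup G)) := by
  have key : ∀ (r : ℕ) [Fact r.Prime], r ≠ 2 → n < r ^ 2 →
      ∀ R : Sylow r G, IsMulCommutative (R : Subgroup G) := by
    intro r _ hr hlt R
    let π : Perm (Fin n) →* MulAut ↥(alternatingGroup (Fin n)) := MulAut.conjNormal
    have hinj := conjNormal_injective n (by omega)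
    let R' : Subgroup (MulAut ↥(alternatingGroup (Fin n))) := (R : Subgroup G).map G.subtype
    let S : Subgroup (Perm (Fin n)) := R'.comap π
    have hS : IsPGroup r S := (R.isPGroup'.map G.subtype).comap_of_injective π hinj
    have hcomm := comm_of_lt_sq (by simpa using hlt) S hS
    refine ⟨⟨fun a b => ?_⟩⟩
    have hex : ∀ c : (R : Subgroup G), ∃ σ : S, π σ = ((c : G) : MulAut ↥(alternatingGroup (Fin n))) := by
      intro c
      obtain ⟨k, hk⟩ := R.isPGroup' c
      obtain ⟨σ, hσ⟩ := exists_conjNormal_of_odd (n := n) (by omega)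
        ((c : G) : MulAut ↥(alternatingGroup (Fin n)))
        (((Fact.out : r.Prime).odd_of_ne_two hr).pow (n := k))
        (congrArg (fun d : (R : Subgroup G) => ((d : G) : MulAut ↥(alternatingGroup (Fin n)))) hk)
      exact ⟨⟨σ, show π σ ∈ R' from ⟨c, c.2, hσ.symm⟩⟩, hσ⟩
    obtain ⟨σ, hσ⟩ := hex a
    obtain ⟨τ, hτ⟩ := hex b
    refine Subtype.ext (Subtype.ext ?_)
    show ((a : G) : MulAut ↥(alternatingGroup (Fin n))) * ((b : G) : MulAut ↥(alternatingGroup (Fin n)))
      = ((b : G) : MulAut ↥(alternatingGroup (Fin n))) * ((a : G) : MulAut ↥(alternatingGroup (Fin n)))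
    rw [← hσ, ← hτ, ← map_mul, ← map_mul, ← Subgroup.coe_mul, ← Subgroup.coe_mul, hcomm σ τ]
  have hconj : Function.Injective (MulAut.conj : alternatingGroup (Fin n) →* MulAut (alternatingGroup (Fin n))) := by
    intro a b hab
    have e : ∀ c : alternatingGroup (Fin n), MulAut.conj c = MulAut.conjNormal (c : Perm (Fin n)) := by
      intro c; ext x; simp
    rw [e, e] at hab
    exact Subtype.ext (conjNormal_injective n (by omega) hab)
  have hno : ∀ σ : alternatingGroup (Fin n), orderOf σ ≠ p * q := fun σ hσ => h ⟨_, hG ⟨σ, rfl⟩⟩ (by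
    rw [Subgroup.orderOf_mk, orderOf_injective _ hconj, hσ])
  have hp := (Fact.out : p.Prime)
  have hq := (Fact.out : q.Prime)
  by_cases hp2 : p = 2
  · have hq2 : q ≠ 2 := fun h => hpq (hp2.trans h.symm)
    refine Or.inr (key q hq2 ?_)
    by_contra hlt
    have h3 : 3 ≤ q := by have := hq.two_le; omega
    obtain ⟨σ, hσ⟩ := exists_order_mul hp hq hq2 hpq (Or.inr ⟨hp2, show q + 4 ≤ n by nlinarith⟩)
    exact hno σ hσ
  by_cases hq2 : q = 2
  · refine Or.inl (key p hp2 ?_)
    by_contra hlt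
    have h3 : 3 ≤ p := by have := hp.two_le; omega
    obtain ⟨σ, hσ⟩ := exists_order_mul hq hp hp2 hpq.symm (Or.inr ⟨hq2, show p + 4 ≤ n by nlinarith⟩)
    exact hno σ (hσ.trans (mul_comm q p))
  by_cases hlp : n < p ^ 2
  · exact Or.inl (key p hp2 hlp)
  by_cases hlq : n < q ^ 2
  · exact Or.inr (key q hq2 hlq)
  exfalso
  obtain ⟨σ, hσ⟩ := exists_order_mul hp hq hq2 hpq (Or.inl ⟨hp2, show p + q ≤ n by
    have := hp.two_le; have := hq.two_le; nlinarith⟩)
  exact hno σ hσ

end CfsgLib.PGroup.AltAut
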