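import Mathlib

/-!
Frobenius' theorem on the number of solutions of `x ^ n = z`.
-/

set_option autoImplicit false

namespace CfsgLib.PGroup.FrobeniusCount

variable {G : Type*} [Group G]

/-- The number of conjugates times the order of the centralizer is the group order. -/
theorem card_conj_mul_card_centralizer [Finite G] (u : G) :
    Nat.card {y : G // IsConj u y} * Nat.card (Subgroup.centralizer ({u} : Set G)) = Nat.card G := by
  have h : Nat.card {y : G // IsConj u y} = Nat.card (MulAction.orbit (ConjAct G) u) :=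
    Nat.card_congr (Equiv.subtypeEquivRight fun y => by
      rw [ConjAct.mem_orbit_conjAct]; exact ⟨IsConj.symm, IsConj.symm⟩)
  rw [h, Nat.card_coe_set_eq, ← MulAction.index_stabilizer]
  have h2 : Nat.card (Subgroup.centralizer ({u} : Set G)) =
      Nat.card (MulAction.stabilizer (ConjAct G) u) :=
    Nat.card_congr (Equiv.subtypeEquiv ConjAct.toConjAct.toEquiv fun x => by
      rw [Subgroup.mem_centralizer_singleton_iff, MulAction.mem_stabilizer_iff,
        MulEquiv.toEquiv_eq_coe, EquivLike.coe_coe, ConjAct.smul_def, ConjAct.ofConjAct_toConjAct,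
        mul_inv_eq_iff_eq_mul])
  rw [h2]
  exact (Subgroup.index_mul_card _).trans (Nat.card_congr ConjAct.ofConjAct.toEquiv)

/-- A sum of a class function is divisible when each class contributes a multiple. -/
theorem dvd_sum_of_classes [Fintype G] {d : ℕ} (S : Finset G) (F : G → ℕ)
    (hS : ∀ u ∈ S, ∀ g : G, g * u * g⁻¹ ∈ S) (hF : ∀ u g : G, F (g * u * g⁻¹) = F u)
    (hd : ∀ u ∈ S, d ∣ Nat.card {y : G // IsConj u y} * F u) : d ∣ ∑ u ∈ S, F u := by
  classical
  rw [← Finset.sum_fiberwise_of_maps_to (t := S.image ConjClasses.mk) (g := ConjClasses.mk)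
    (fun u hu => Finset.mem_image_of_mem _ hu)]
  refine Finset.dvd_sum fun C hC => ?_
  obtain ⟨u, hu, rfl⟩ := Finset.mem_image.mp hC
  rw [Finset.sum_congr rfl (g := fun _ => F u) fun y hy => ?_, Finset.sum_const, smul_eq_mul]
  · refine (hd u hu).trans (dvd_of_eq ?_)
    congr 1
    rw [Nat.card_eq_fintype_card, Fintype.card_subtype]
    congr 1
    ext y
    simp only [Finset.mem_filter, Finset.mem_univ, true_and, ConjClasses.mk_eq_mk_iff_isConj]
    constructor
    · intro h
      refine ⟨?_, h.symm⟩
      obtain ⟨g, rfl⟩ := isConj_iff.mp h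
      exact hS u hu g
    · exact fun h => h.2.symm
  · obtain ⟨g, hg⟩ := isConj_iff.mp (ConjClasses.mk_eq_mk_iff_isConj.mp (Finset.mem_filter.mp hy).2).symm
    rw [← hg, hF]

theorem card_roots_conj (n : ℕ) (u g : G) :
    Nat.card {x : G // x ^ n = g * u * g⁻¹} = Nat.card {x : G // x ^ n = u} := by
  refine (Nat.card_congr (Equiv.subtypeEquiv (MulAut.conj g).toEquiv fun x => ?_)).symm
  show x ^ n = u ↔ (MulAut.conj g x) ^ n = g * u * g⁻¹
  rw [← map_pow, MulAut.conj_apply]
  simp

theorem card_roots_centralizer (n : ℕ) (u : G) :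
    Nat.card {x : G // x ^ n = u} =
      Nat.card {x : Subgroup.centralizer ({u} : Set G) //
        x ^ n = ⟨u, Subgroup.mem_centralizer_singleton_iff.mpr rfl⟩} := by
  refine Nat.card_congr
    { toFun := fun x => ⟨⟨x.1, Subgroup.mem_centralizer_singleton_iff.mpr ?_⟩, Subtype.ext x.2⟩
      invFun := fun x => ⟨(x.1 : G), congrArg Subtype.val x.2⟩
      left_inv := fun x => rfl
      right_inv := fun x => rfl }
  have c := Commute.self_pow (x : G) n
  rw [x.2] at c
  exact c.eq

/-- For a prime power exponent, when `p` divides the order of the target. -/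
theorem pow_dvd_card_roots [Finite G] {p e : ℕ} (hp : p.Prime) (u : G) (hu : p ∣ orderOf u) :
    p ^ e ∣ Nat.card {x : G // x ^ p ^ e = u} := by
  classical
  haveI : Fintype G := Fintype.ofFinite G
  set n := p ^ e with hn
  set o := orderOf u with ho
  have hord : ∀ x : G, x ^ n = u → orderOf x = n * o := by
    intro x hx
    have h1 : o = orderOf x / Nat.gcd (orderOf x) n := by rw [ho, ← hx, orderOf_pow]
    obtain ⟨j, hj, hje⟩ := (Nat.dvd_prime_pow hp).mp (hn ▸ Nat.gcd_dvd_right (orderOf x) n)
    have h2 : orderOf x = p ^ j * o := by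
      rw [h1, ← hje, Nat.mul_div_cancel' (Nat.gcd_dvd_left _ _)]
    have hje' : j = e := by
      by_contra hne
      have : p ^ (j + 1) ∣ Nat.gcd (orderOf x) n :=
        Nat.dvd_gcd (by rw [h2, pow_succ]; exact mul_dvd_mul_left _ hu)
          (hn ▸ pow_dvd_pow p (by omega))
      rw [hje] at this
      exact absurd (Nat.le_of_dvd (pow_pos hp.pos _) this)
        (not_le.mpr (Nat.pow_lt_pow_right hp.one_lt (by omega)))
    rw [h2, hje', hn]
  rw [Nat.card_eq_fintype_card, Fintype.card_subtype]
  rw [Finset.card_eq_sum_card_fiberwise (f := fun x => Subgroup.zpowers x)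
    (t := ((Finset.univ.filter fun x : G => x ^ n = u)).image fun x => Subgroup.zpowers x)
    (fun x hx => Finset.mem_image_of_mem _ hx)]
  refine Finset.dvd_sum fun C hC => ?_
  obtain ⟨x, hx, rfl⟩ := Finset.mem_image.mp hC
  have hxn : x ^ n = u := (Finset.mem_filter.mp hx).2
  refine dvd_of_eq ?_
  symm
  refine Eq.trans (Finset.card_bij (s := Finset.range n) (fun k _ => x ^ (1 + o * k)) ?_ ?_ ?_).symm
    (Finset.card_range n)
  · intro k _
    have hyn : (x ^ (1 + o * k)) ^ n = u := by
      rw [← pow_mul, mul_comm, pow_mul, hxn, pow_add, pow_one, pow_mul, ho, pow_orderOf_eq_one,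
        one_pow, mul_one]
    simp only [Finset.mem_filter, Finset.mem_univ, true_and]
    refine ⟨hyn, Subgroup.eq_of_le_of_card_ge ?_ ?_⟩
    · exact Subgroup.zpowers_le.mpr (Subgroup.pow_mem _ (Subgroup.mem_zpowers x) _)
    · rw [Nat.card_zpowers, Nat.card_zpowers, hord _ hyn, hord _ hxn]
  · intro k hk l hl h
    rw [pow_eq_pow_iff_modEq, hord x hxn] at h
    have h1 := Nat.ModEq.add_left_cancel' 1 h
    rw [mul_comm n o] at h1
    have h2 := Nat.ModEq.mul_left_cancel' (orderOf_pos u).ne' h1
    exact h2.eq_of_lt_of_lt (Finset.mem_range.mp hk) (Finset.mem_range.mp hl)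
  · intro y hy
    simp only [Finset.mem_filter, Finset.mem_univ, true_and] at hy
    have hmem : y ∈ Subgroup.zpowers x := hy.2 ▸ Subgroup.mem_zpowers y
    obtain ⟨i, hi⟩ := Subgroup.mem_zpowers_iff.mp hmem
    have hu1 : u ^ (i - 1) = 1 := by
      have h3 := hy.1
      rw [← hi, ← zpow_natCast, ← zpow_mul, mul_comm, zpow_mul, zpow_natCast, hxn] at h3
      rw [zpow_sub_one, h3, mul_inv_cancel]
    obtain ⟨t, ht⟩ := orderOf_dvd_iff_zpow_eq_one.mpr hu1
    have hnpos : (0 : ℤ) < (n : ℤ) := by exact_mod_cast pow_pos hp.pos e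
    refine ⟨(t % (n : ℤ)).toNat, Finset.mem_range.mpr ?_, ?_⟩
    · have := Int.emod_lt_of_pos t hnpos
      have := Int.emod_nonneg t hnpos.ne'
      omega
    · rw [← hi, ← zpow_natCast, zpow_eq_zpow_iff_modEq, hord x hxn]
      push_cast
      rw [Int.toNat_of_nonneg (Int.emod_nonneg t hnpos.ne'),
        show i = 1 + (o : ℤ) * t by rw [ho]; omega, mul_comm (n : ℤ) o]
      exact Int.ModEq.add_left 1 (Int.ModEq.mul_left' (Int.mod_modEq t n))

theorem card_roots_mul_central [Finite G] {n : ℕ} (z : G) (hz : z ∈ Subgroup.center G)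
    (hn : n.Coprime (orderOf z)) :
    Nat.card {x : G // x ^ n = z} = Nat.card {x : G // x ^ n = 1} := by
  obtain ⟨s, hs⟩ := exists_pow_eq_self_of_coprime hn
  set w := z ^ s
  have hw : w ^ n = z := by rw [← pow_mul, mul_comm, pow_mul]; exact hs
  have hwc : ∀ y : G, Commute y w := fun y =>
    (Subgroup.mem_center_iff.mp (Subgroup.pow_mem _ hz s) y)
  refine Nat.card_congr (Equiv.subtypeEquiv (Equiv.mulRight w⁻¹) fun x => ?_)
  rw [Equiv.coe_mulRight, (hwc x).inv_right.mul_pow, inv_pow, hw, mul_inv_eq_one]

theorem gcd_dvd_mul_gcd {n h k g : ℕ} (hg : h * k = g) : Nat.gcd n g ∣ h * Nat.gcd n k := by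
  rw [← Nat.gcd_mul_left, ← hg]
  exact Nat.gcd_dvd_gcd_of_dvd_left _ (dvd_mul_left n h)

/-- Frobenius: the number of solutions of `x ^ n = z`, `z` central, is a multiple of
`gcd (n, |G|)`. -/
theorem gcd_dvd_card_roots : ∀ (m n : ℕ) (G : Type*) [Group G] [Finite G], Nat.card G = m →
    ∀ z ∈ Subgroup.center G, Nat.gcd n m ∣ Nat.card {x : G // x ^ n = z} := by
  intro m
  induction m using Nat.strong_induction_on with
  | h m ihm =>
  intro n
  induction n using Nat.strong_induction_on with
  | h n ihn =>
  intro G _ _ hm z hz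
  classical
  haveI : Fintype G := Fintype.ofFinite G
  rcases Nat.lt_or_ge n 2 with hn | hn
  · interval_cases n
    · rw [Nat.gcd_zero_left]
      by_cases hz1 : z = 1
      · subst hz1
        rw [← hm]
        exact dvd_of_eq (Nat.card_congr (Equiv.subtypeUnivEquiv fun x => pow_zero x).symm)
      · have : IsEmpty {x : G // x ^ 0 = z} := ⟨fun x => hz1 (by rw [← x.2, pow_zero])⟩
        rw [Nat.card_of_isEmpty]
        exact dvd_zero _
    · rw [Nat.gcd_one_left]; exact one_dvd _
  obtain ⟨p, hp, hpn⟩ := Nat.exists_prime_and_dvd (show n ≠ 1 by omega)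
  obtain ⟨e, n', hn', rfl⟩ := Nat.exists_eq_pow_mul_and_not_dvd (by omega : n ≠ 0) p hp.ne_one
  have he : e ≠ 0 := by
    rintro rfl
    exact hn' (by simpa using hpn)
  by_cases hn1 : n' = 1
  · subst hn1
    rw [mul_one]
    -- reduce the target to a prime-to-`p` central element, and count all of `G`
    set d := Nat.gcd (p ^ e) m
    have key : ∀ u : G, u ∉ Subgroup.center G ∨ p ∣ orderOf u →
        d ∣ Nat.card {y : G // IsConj u y} * Nat.card {x : G // x ^ p ^ e = u} := by
      intro u hu
      by_cases hpu : p ∣ orderOf u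
      · exact dvd_mul_of_dvd_right
          ((Nat.gcd_dvd_left _ _).trans (pow_dvd_card_roots hp u hpu)) _
      · have hu' : u ∉ Subgroup.center G := hu.resolve_right hpu
        have hlt : Nat.card (Subgroup.centralizer ({u} : Set G)) < m := by
          rw [← hm]
          refine lt_of_le_of_ne (Subgroup.card_le_card_group _) fun he => hu' ?_
          rw [Subgroup.mem_center_iff]
          intro g
          exact Subgroup.mem_centralizer_singleton_iff.mp
            (Subgroup.eq_top_of_card_eq _ he ▸ Subgroup.mem_top g)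
        have h1 := ihm _ hlt (p ^ e) (Subgroup.centralizer ({u} : Set G)) rfl
          ⟨u, Subgroup.mem_centralizer_singleton_iff.mpr rfl⟩
          (Subgroup.mem_center_iff.mpr fun g =>
            Subtype.ext (Subgroup.mem_centralizer_singleton_iff.mp g.2))
        rw [← card_roots_centralizer] at h1
        exact (gcd_dvd_mul_gcd (hm ▸ card_conj_mul_card_centralizer u)).trans (mul_dvd_mul_left _ h1)
    by_cases hpz : p ∣ orderOf z
    · exact (Nat.gcd_dvd_left _ _).trans (pow_dvd_card_roots hp z hpz)
    rw [card_roots_mul_central z hz (Nat.Coprime.pow_left _ (hp.coprime_iff_not_dvd.mpr hpz))]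
    -- the subgroup of central elements of order prime to `p`
    let A : Subgroup G :=
      { carrier := {u | u ∈ Subgroup.center G ∧ ¬ p ∣ orderOf u}
        one_mem' := ⟨one_mem _, by simp [hp.ne_one]⟩
        mul_mem' := fun {a b} ha hb => ⟨mul_mem ha.1 hb.1, fun h => by
          have := h.trans (Commute.orderOf_mul_dvd_lcm
            (Subgroup.mem_center_iff.mp hb.1 a : Commute a b))
          rcases hp.dvd_mul.mp (this.trans (Nat.lcm_dvd_mul _ _)) with h' | h'
          · exact ha.2 h'
          · exact hb.2 h'⟩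
        inv_mem' := fun {a} ha => ⟨inv_mem ha.1, by rw [orderOf_inv]; exact ha.2⟩ }
    have hA : ¬ p ∣ Nat.card A := by
      intro h
      haveI := Fact.mk hp
      obtain ⟨a, ha⟩ := exists_prime_orderOf_dvd_card' p h
      exact a.2.2 (by rw [Subgroup.orderOf_coe, ha])
    have htot : ∑ u : G, Nat.card {x : G // x ^ p ^ e = u} = m := by
      rw [← hm, Nat.card_eq_fintype_card (α := G), ← Finset.card_univ,
        Finset.card_eq_sum_card_fiberwise (t := Finset.univ) (f := fun x : G => x ^ p ^ e)
          (fun _ _ => Finset.mem_univ _)]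
      exact Finset.sum_congr rfl fun u _ => by rw [Nat.card_eq_fintype_card, Fintype.card_subtype]
    rw [← Finset.sum_filter_add_sum_filter_not Finset.univ (fun u => u ∈ A)] at htot
    have h1 : ∑ u ∈ Finset.univ.filter (fun u => u ∈ A), Nat.card {x : G // x ^ p ^ e = u} =
        Nat.card A * Nat.card {x : G // x ^ p ^ e = 1} := by
      rw [Finset.sum_congr rfl (fun u hu => card_roots_mul_central u (Finset.mem_filter.mp hu).2.1
          (Nat.Coprime.pow_left _ (hp.coprime_iff_not_dvd.mpr (Finset.mem_filter.mp hu).2.2))),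
        Finset.sum_const, smul_eq_mul]
      congr 1
      exact (Fintype.card_subtype _).symm.trans Nat.card_eq_fintype_card.symm
    have h2 : d ∣ ∑ u ∈ Finset.univ.filter (fun u => u ∉ A), Nat.card {x : G // x ^ p ^ e = u} := by
      refine dvd_sum_of_classes _ _ (fun u hu g => ?_) (fun u g => card_roots_conj _ u g)
        fun u hu => key u ?_
      · simp only [Finset.mem_filter, Finset.mem_univ, true_and] at hu ⊢
        intro h
        apply hu
        have hc := Subgroup.mem_center_iff.mp h.1 g
        have he : g * u * g⁻¹ = u := by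
          have := (mul_left_cancel (a := g) (b := g * u * g⁻¹) (c := u) (by
            rw [hc]; group))
          exact this
        rwa [he] at h
      · have := (Finset.mem_filter.mp hu).2
        by_contra hc
        push Not at hc
        exact this ⟨hc.1, hc.2⟩
    have h3 : d ∣ Nat.card A * Nat.card {x : G // x ^ p ^ e = 1} := by
      rw [← h1, ← Nat.dvd_add_left h2, htot]
      exact Nat.gcd_dvd_right _ _
    obtain ⟨i, -, hi⟩ := (Nat.dvd_prime_pow hp).mp (Nat.gcd_dvd_left (p ^ e) m)
    exact (Nat.Coprime.dvd_mul_left (by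
      rw [show d = p ^ i from hi]
      exact Nat.Coprime.pow_left _ (hp.coprime_iff_not_dvd.mpr hA))).mp h3
  · -- a coprime factorisation
    have hn'0 : n' ≠ 0 := by rintro rfl; simp at hn
    have hpe : 1 < p ^ e := Nat.one_lt_pow he hp.one_lt
    have hco : Nat.Coprime (p ^ e) n' := Nat.Coprime.pow_left _ (hp.coprime_iff_not_dvd.mpr hn')
    have split : ∀ a b : ℕ, a < p ^ e * n' → p ^ e * n' = a * b →
        Nat.gcd a m ∣ Nat.card {x : G // x ^ (p ^ e * n') = z} := by
      intro a b halt hab
      have : Nat.card {x : G // x ^ (p ^ e * n') = z} =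
          ∑ u ∈ Finset.univ.filter (fun u : G => u ^ b = z), Nat.card {x : G // x ^ a = u} := by
        rw [Nat.card_eq_fintype_card, Fintype.card_subtype,
          Finset.card_eq_sum_card_fiberwise (f := fun x : G => x ^ a)
            (t := Finset.univ.filter (fun u : G => u ^ b = z))]
        · refine Finset.sum_congr rfl fun u hu => ?_
          rw [Nat.card_eq_fintype_card, Fintype.card_subtype, Finset.filter_filter]
          congr 1
          ext x
          simp only [Finset.mem_filter, Finset.mem_univ, true_and]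
          exact ⟨fun h => h.2, fun h => ⟨by rw [hab, pow_mul, h, (Finset.mem_filter.mp hu).2], h⟩⟩
        · intro x hx
          simp only [Finset.coe_filter, Finset.mem_univ, true_and, Set.mem_setOf_eq] at hx ⊢
          rwa [← pow_mul, ← hab]
      rw [this]
      refine dvd_sum_of_classes _ _ (fun u hu g => ?_) (fun u g => card_roots_conj _ u g)
        fun u _ => ?_
      · simp only [Finset.mem_filter, Finset.mem_univ, true_and] at hu ⊢
        rw [conj_pow, hu, Subgroup.mem_center_iff.mp hz g, mul_inv_cancel_right]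
      · have hle : Nat.card (Subgroup.centralizer ({u} : Set G)) ≤ m :=
          hm ▸ Subgroup.card_le_card_group _
        have hcen : (⟨u, Subgroup.mem_centralizer_singleton_iff.mpr rfl⟩ :
            Subgroup.centralizer ({u} : Set G)) ∈ Subgroup.center _ :=
          Subgroup.mem_center_iff.mpr fun g =>
            Subtype.ext (Subgroup.mem_centralizer_singleton_iff.mp g.2)
        have h1 : Nat.gcd a (Nat.card (Subgroup.centralizer ({u} : Set G))) ∣
            Nat.card {x : G // x ^ a = u} := by
          rw [card_roots_centralizer]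
          rcases hle.lt_or_eq with hlt | heq
          · exact ihm _ hlt a _ rfl _ hcen
          · rw [heq]; exact ihn a halt _ heq _ hcen
        exact (gcd_dvd_mul_gcd (hm ▸ card_conj_mul_card_centralizer u)).trans (mul_dvd_mul_left _ h1)
    rw [Nat.gcd_comm, Nat.Coprime.gcd_mul m hco]
    refine Nat.Coprime.mul_dvd_of_dvd_of_dvd ?_ ?_ ?_
    · exact hco.coprime_dvd_left (Nat.gcd_dvd_right _ _) |>.coprime_dvd_right (Nat.gcd_dvd_right _ _)
    · rw [Nat.gcd_comm]
      exact split (p ^ e) n' (lt_mul_of_one_lt_right (pow_pos hp.pos _) (by omega)) rfl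
    · rw [Nat.gcd_comm]
      exact split n' (p ^ e) (lt_mul_of_one_lt_left (by omega) hpe) (mul_comm _ _)

end CfsgLib.PGroup.FrobeniusCount
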