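import Mathlib
import Cfsg.Agent.Lib.PGroup.Frattini

/-!
Counting subgroups of a given order in a finite `p`-group modulo `p` and `p²`:
maximal subgroups and the enumeration identity.
-/

set_option autoImplicit false

namespace CfsgLib.PGroup.SubgroupCount

open Subgroup

variable {p : ℕ} [hp : Fact p.Prime]

/-- The number of subgroups of order `m`. -/
noncomputable def cnt (P : Type*) [Group P] (m : ℕ) : ℕ :=
  Nat.card {U : Subgroup P // Nat.card U = m}

theorem isCoatom_iff_index {P : Type*} [Group P] [Finite P] (hP : IsPGroup p P) (M : Subgroup P) :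
    IsCoatom M ↔ M.index = p := by
  refine ⟨Frattini.index_of_isCoatom hP, fun h => ⟨fun ht => ?_, fun L hL => ?_⟩⟩
  · rw [ht, index_top] at h
    exact hp.out.ne_one h.symm
  · rcases hp.out.eq_one_or_self_of_dvd L.index (h ▸ index_dvd_of_le hL.le) with h1 | h1
    · exact index_eq_one.mp h1
    · exact absurd (eq_of_le_of_card_ge hL.le (le_of_eq (by
        have h2 := L.card_mul_index
        rw [← M.card_mul_index, h, h1] at h2
        exact Nat.eq_of_mul_eq_mul_right hp.out.pos h2))) hL.ne

theorem card_of_isCoatom {P : Type*} [Group P] [Finite P] {n : ℕ} (hP : Nat.card P = p ^ (n + 1))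
    {M : Subgroup P} (hM : IsCoatom M) : Nat.card M = p ^ n := by
  have h := M.card_mul_index
  rw [Frattini.index_of_isCoatom (IsPGroup.of_card hP) hM, hP, pow_succ] at h
  exact Nat.eq_of_mul_eq_mul_right hp.out.pos h

theorem coatom_count {V : Type*} [CommGroup V] [Finite V] (hV : ∀ v : V, v ^ p = 1) :
    (p - 1) * Nat.card {M : Subgroup V // IsCoatom M} + 1 = Nat.card V := by
  classical
  have hVp : IsPGroup p V := fun v => ⟨1, by rw [pow_one]; exact hV v⟩
  have hker : ∀ χ : V →* ℂˣ, χ ≠ 1 → IsCoatom χ.ker := by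
    intro χ hχ
    rw [isCoatom_iff_index hVp, index_ker]
    haveI : Finite χ.range := (Set.finite_range χ).to_subtype
    haveI : IsCyclic χ.range := inferInstance
    have hd : Nat.card χ.range ∣ p := by
      rw [← IsCyclic.exponent_eq_card]
      refine Monoid.exponent_dvd_of_forall_pow_eq_one fun y => ?_
      obtain ⟨v, hv⟩ := y.2
      apply Subtype.ext
      rw [Subgroup.coe_pow, ← hv, ← map_pow, hV, map_one, Subgroup.coe_one]
    refine (hp.out.eq_one_or_self_of_dvd _ hd).resolve_left fun h1 => hχ ?_
    exact MonoidHom.range_eq_bot_iff.mp (eq_bot_of_card_eq _ h1)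
  let f : {χ : V →* ℂˣ // χ ≠ 1} → {M : Subgroup V // IsCoatom M} := fun χ => ⟨χ.1.ker, hker χ.1 χ.2⟩
  haveI : Finite (V →* ℂˣ) := Finite.of_equiv V
    (CommGroup.monoidHom_mulEquiv_of_hasEnoughRootsOfUnity V ℂ).some.symm.toEquiv
  have hfib : ∀ M : {M : Subgroup V // IsCoatom M}, Nat.card {χ // f χ = M} = p - 1 := by
    intro M
    have hc : Nat.card (V ⧸ M.1) = p := (isCoatom_iff_index hVp M.1).mp M.2
    haveI : Finite (V ⧸ M.1 →* ℂˣ) := Finite.of_equiv (V ⧸ M.1)
      (CommGroup.monoidHom_mulEquiv_of_hasEnoughRootsOfUnity (V ⧸ M.1) ℂ).some.symm.toEquiv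
    have h1 : Nat.card {ψ : V ⧸ M.1 →* ℂˣ // ψ ≠ 1} = p - 1 := by
      cases nonempty_fintype (V ⧸ M.1 →* ℂˣ)
      have h2 : Nat.card (V ⧸ M.1 →* ℂˣ) = p := by
        rw [CommGroup.card_monoidHom_of_hasEnoughRootsOfUnity, hc]
      rw [Nat.card_eq_fintype_card] at h2 ⊢
      rw [Fintype.card_subtype_compl, Fintype.card_subtype_eq, h2]
    rw [← h1]
    refine Nat.card_congr
      { toFun := fun χ => ⟨QuotientGroup.lift M.1 χ.1.1
            (le_of_eq (congrArg Subtype.val χ.2).symm), fun h => χ.1.2 (MonoidHom.ext fun v =>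
              DFunLike.congr_fun h (v : V ⧸ M.1))⟩
        invFun := fun ψ => ⟨⟨ψ.1.comp (QuotientGroup.mk' M.1), fun h => ψ.2 (MonoidHom.ext fun v => by
            obtain ⟨w, rfl⟩ := QuotientGroup.mk'_surjective M.1 v
            exact DFunLike.congr_fun h w)⟩, Subtype.ext (by
              refine le_antisymm ?_ fun v hv => ?_
              · have hne := fun h => ψ.2 (MonoidHom.ext fun v => by
                  obtain ⟨w, rfl⟩ := QuotientGroup.mk'_surjective M.1 v
                  exact DFunLike.congr_fun (h : ψ.1.comp (QuotientGroup.mk' M.1) = 1) w)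
                by_contra hle
                exact hne (MonoidHom.ker_eq_top_iff.mp (M.2.2 _ (lt_of_le_not_ge (fun v hv => by
                  show ψ.1 (QuotientGroup.mk' M.1 v) = 1
                  rw [QuotientGroup.mk'_apply, (QuotientGroup.eq_one_iff v).mpr hv, map_one]) hle)))
              · show ψ.1 (QuotientGroup.mk' M.1 v) = 1
                rw [QuotientGroup.mk'_apply, (QuotientGroup.eq_one_iff v).mpr hv, map_one])⟩
        left_inv := fun χ => Subtype.ext (Subtype.ext (MonoidHom.ext fun v => rfl))
        right_inv := fun ψ => Subtype.ext (MonoidHom.ext fun v => by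
            obtain ⟨w, rfl⟩ := QuotientGroup.mk'_surjective M.1 v
            rfl) }
  have hsum : Nat.card {χ : V →* ℂˣ // χ ≠ 1} = Nat.card {M : Subgroup V // IsCoatom M} * (p - 1) := by
    cases nonempty_fintype {M : Subgroup V // IsCoatom M}
    rw [← Nat.card_congr (Equiv.sigmaFiberEquiv f), Nat.card_sigma]
    rw [Finset.sum_congr rfl fun M _ => hfib M, Finset.sum_const, Finset.card_univ, smul_eq_mul,
      Nat.card_eq_fintype_card]
  rw [mul_comm, ← hsum, ← CommGroup.card_monoidHom_of_hasEnoughRootsOfUnity V ℂ]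
  cases nonempty_fintype (V →* ℂˣ)
  rw [Nat.card_eq_fintype_card, Nat.card_eq_fintype_card, Fintype.card_subtype_compl,
    Fintype.card_subtype_eq, Nat.sub_add_cancel Fintype.card_pos]

variable {P : Type*} [Group P] [Finite P]

theorem maximal_above (hP : IsPGroup p P) (U : Subgroup P) :
    (p - 1) * Nat.card {M : Subgroup P // IsCoatom M ∧ U ≤ M} + 1 = (frattini P ⊔ U).index := by
  classical
  letI instV : CommGroup (P ⧸ frattini P) :=
    { (inferInstance : Group (P ⧸ frattini P)) with mul_comm := Frattini.quotient_mul_comm hP }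
  set U' := U.map (QuotientGroup.mk' (frattini P))
  let f : P →* (P ⧸ frattini P) ⧸ U' :=
    (QuotientGroup.mk' U').comp (QuotientGroup.mk' (frattini P))
  have hf : Function.Surjective f :=
    (QuotientGroup.mk'_surjective U').comp (QuotientGroup.mk'_surjective _)
  have hker : f.ker = frattini P ⊔ U := by
    show ((QuotientGroup.mk' U').comp (QuotientGroup.mk' (frattini P))).ker = _
    rw [← MonoidHom.comap_ker, QuotientGroup.ker_mk', comap_map_eq, QuotientGroup.ker_mk', sup_comm]
  have hW : ∀ w : (P ⧸ frattini P) ⧸ U', w ^ p = 1 := fun w => by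
    obtain ⟨v, rfl⟩ := QuotientGroup.mk'_surjective U' w
    rw [← map_pow, Frattini.quotient_pow_eq_one hP, map_one]
  have hWp : IsPGroup p ((P ⧸ frattini P) ⧸ U') := fun w => ⟨1, by rw [pow_one]; exact hW w⟩
  rw [← hker, index_ker, MonoidHom.range_eq_top.mpr hf, card_top, ← coatom_count hW]
  refine congrArg (fun c => (p - 1) * c + 1) (Nat.card_congr
    { toFun := fun M => ⟨M.1.map f, by
        rw [isCoatom_iff_index hWp, index_map_eq _ hf (by
          rw [hker]; exact sup_le (frattini_le_coatom M.2.1) M.2.2)]
        exact (isCoatom_iff_index hP _).mp M.2.1⟩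
      invFun := fun W => ⟨W.1.comap f, by
        refine ⟨?_, ?_⟩
        · rw [isCoatom_iff_index hP, index_comap_of_surjective _ hf]
          exact (isCoatom_iff_index hWp _).mp W.2
        · exact le_trans (le_sup_right.trans hker.ge) (MonoidHom.ker_le_comap _ _)⟩
      left_inv := fun M => Subtype.ext (by
        show (M.1.map f).comap f = M.1
        rw [comap_map_eq, sup_eq_left, hker]
        exact sup_le (frattini_le_coatom M.2.1) M.2.2)
      right_inv := fun W => Subtype.ext (map_comap_eq_self_of_surjective hf W.1) })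

theorem subsingleton_of_bot_eq_top {Q : Type*} [Group Q] (h : (⊥ : Subgroup Q) = ⊤) :
    Subsingleton Q :=
  ⟨fun a b => (mem_bot.mp (h ▸ mem_top a : a ∈ (⊥ : Subgroup Q))).trans
    (mem_bot.mp (h ▸ mem_top b : b ∈ (⊥ : Subgroup Q))).symm⟩

theorem exists_index_eq_pow (hP : IsPGroup p P) (H : Subgroup P) : ∃ e, H.index = p ^ e := by
  obtain ⟨n, hn⟩ := hP.exists_card_eq
  obtain ⟨e, -, he⟩ := (Nat.dvd_prime_pow hp.out).mp (hn ▸ H.index_dvd_card)
  exact ⟨e, he⟩

theorem frattini_sup_ne_top {U : Subgroup P} (hU : U ≠ ⊤) : frattini P ⊔ U ≠ ⊤ := fun h =>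
  hU (frattini_nongenerating (by rwa [sup_comm] at h))

/-- Maximal subgroups over a proper subgroup, modulo `p`. -/
theorem maximal_above_mod (hP : IsPGroup p P) {U : Subgroup P} (hU : U ≠ ⊤) :
    (Nat.card {M : Subgroup P // IsCoatom M ∧ U ≤ M} : ZMod p) = 1 := by
  obtain ⟨e, he⟩ := exists_index_eq_pow hP (frattini P ⊔ U)
  have he0 : e ≠ 0 := fun h => frattini_sup_ne_top hU (index_eq_one.mp (by rw [he, h, pow_zero]))
  have h := congrArg (fun t : ℕ => (t : ZMod p)) ((maximal_above hP U).trans he)
  push_cast [Nat.cast_sub hp.out.one_le, ZMod.natCast_self, zero_pow he0] at h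
  linear_combination (norm := ring_nf) -h

theorem maximal_above_sq_one (hP : IsPGroup p P) {U : Subgroup P}
    (h1 : (frattini P ⊔ U).index = p) : Nat.card {M : Subgroup P // IsCoatom M ∧ U ≤ M} = 1 := by
  have h := maximal_above hP U
  rw [h1] at h
  have h2 := hp.out.two_le
  exact Nat.eq_of_mul_eq_mul_left (show 0 < p - 1 by omega) (by omega)

/-- Maximal subgroups over a subgroup of rank at least two above the Frattini, modulo `p²`. -/
theorem maximal_above_sq (hP : IsPGroup p P) {U : Subgroup P} (hU : U ≠ ⊤)
    (h1 : (frattini P ⊔ U).index ≠ p) :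
    (Nat.card {M : Subgroup P // IsCoatom M ∧ U ≤ M} : ZMod (p ^ 2)) = 1 + p := by
  obtain ⟨e, he⟩ := exists_index_eq_pow hP (frattini P ⊔ U)
  have he0 : e ≠ 0 := fun h => frattini_sup_ne_top hU (index_eq_one.mp (by rw [he, h, pow_zero]))
  have he1 : e ≠ 1 := fun h => h1 (by rw [he, h, pow_one])
  have hsq : (p : ZMod (p ^ 2)) ^ 2 = 0 := by rw [← Nat.cast_pow, ZMod.natCast_self]
  have hpe : (p : ZMod (p ^ 2)) ^ e = 0 := by
    obtain ⟨e', rfl⟩ := Nat.exists_eq_add_of_le (show 2 ≤ e by omega)
    rw [pow_add, hsq, zero_mul]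
  have h := congrArg (fun t : ℕ => (t : ZMod (p ^ 2))) ((maximal_above hP U).trans he)
  push_cast [Nat.cast_sub hp.out.one_le, hpe] at h
  linear_combination (-(1 : ZMod (p ^ 2)) - p) * h +
    (Nat.card {M : Subgroup P // IsCoatom M ∧ U ≤ M} : ZMod (p ^ 2)) * hsq

theorem isCyclic_of_frattini_index (hP : IsPGroup p P) (h : (frattini P).index ≤ p) : IsCyclic P := by
  by_cases htop : frattini P = ⊤
  · have h2 : (⊥ : Subgroup P) = ⊤ := frattini_nongenerating (by rw [htop, bot_sup_eq])
    haveI : Subsingleton P := subsingleton_of_bot_eq_top h2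
    infer_instance
  obtain ⟨x, hx⟩ : ∃ x, x ∉ frattini P := by
    by_contra! hno
    exact htop ((eq_top_iff' _).mpr hno)
  refine ⟨x, fun y => ?_⟩
  have h3 : zpowers x ⊔ frattini P = ⊤ := by
    obtain ⟨e, he⟩ := exists_index_eq_pow hP (frattini P)
    obtain ⟨e', he'⟩ := exists_index_eq_pow hP (zpowers x ⊔ frattini P)
    have hdvd : (zpowers x ⊔ frattini P).index ∣ (frattini P).index := index_dvd_of_le le_sup_right
    have hip : (frattini P).index = p := by
      refine le_antisymm h ?_
      rw [he]
      have : e ≠ 0 := fun e0 => htop (index_eq_one.mp (by rw [he, e0, pow_zero]))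
      exact Nat.le_self_pow this p
    rcases hp.out.eq_one_or_self_of_dvd _ (hip ▸ hdvd) with h4 | h4
    · exact index_eq_one.mp h4
    · exfalso
      refine hx ?_
      have : frattini P = zpowers x ⊔ frattini P := eq_of_le_of_card_ge le_sup_right (le_of_eq (by
        have h5 := (zpowers x ⊔ frattini P).card_mul_index
        rw [← (frattini P).card_mul_index, hip, h4] at h5
        exact Nat.eq_of_mul_eq_mul_right hp.out.pos h5))
      rw [this]
      exact mem_sup_left (mem_zpowers x)
  have := frattini_nongenerating h3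
  exact mem_zpowers_iff.mp (this ▸ mem_top y)

theorem frattini_index_ne (hP : IsPGroup p P) (hc : ¬ IsCyclic P) :
    (frattini P).index ≠ p ∧ (⊥ : Subgroup P) ≠ ⊤ :=
  ⟨fun h => hc (isCyclic_of_frattini_index hP h.le), fun h => hc (by
    haveI : Subsingleton P := subsingleton_of_bot_eq_top h
    infer_instance)⟩

/-- The number of maximal subgroups of a noncyclic group. -/
theorem card_coatom_sq (hP : IsPGroup p P) (hc : ¬ IsCyclic P) :
    (Nat.card {M : Subgroup P // IsCoatom M} : ZMod (p ^ 2)) = 1 + p := by
  obtain ⟨h1, h2⟩ := frattini_index_ne hP hc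
  rw [← maximal_above_sq hP h2 (by rwa [sup_bot_eq])]
  congr 1
  exact Nat.card_congr (Equiv.subtypeEquivRight fun M => by simp)

section Finset

open scoped Classical

/-- Subgroups of order `m` contained in `M` are the subgroups of `M` of order `m`. -/
theorem card_filter_le [Fintype (Subgroup P)] (M : Subgroup P) (m : ℕ) :
    ((Finset.univ.filter fun U : Subgroup P => Nat.card U = m).filter (· ≤ M)).card = cnt M m := by
  rw [Finset.filter_filter, ← Fintype.card_subtype, ← Nat.card_eq_fintype_card, cnt]
  refine Nat.card_congr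
    { toFun := fun U => ⟨U.1.subgroupOf M,
        (Nat.card_congr (subgroupOfEquivOfLe U.2.2).toEquiv).trans U.2.1⟩
      invFun := fun W => ⟨W.1.map M.subtype,
        (Nat.card_congr (W.1.equivMapOfInjective M.subtype M.subtype_injective).toEquiv).symm.trans W.2,
        map_subtype_le _⟩
      left_inv := fun U => Subtype.ext (by
        show (U.1.subgroupOf M).map M.subtype = U.1
        rw [subgroupOf_map_subtype, inf_eq_left.mpr U.2.2])
      right_inv := fun W => Subtype.ext (comap_map_eq_self_of_injective M.subtype_injective W.1) }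

theorem double_count [Fintype (Subgroup P)] (S : Finset (Subgroup P)) (m : ℕ) :
    ∑ M ∈ S, cnt M m =
      ∑ U ∈ Finset.univ.filter (fun U : Subgroup P => Nat.card U = m), (S.filter (U ≤ ·)).card := by
  simp_rw [← card_filter_le]
  exact (Finset.sum_card_bipartiteAbove_eq_sum_card_bipartiteBelow (fun U M => U ≤ M)).symm

theorem card_filter_above [Fintype (Subgroup P)] (U : Subgroup P) :
    (((Finset.univ : Finset (Subgroup P)).filter IsCoatom).filter (U ≤ ·)).card =
      Nat.card {M : Subgroup P // IsCoatom M ∧ U ≤ M} := by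
  rw [Finset.filter_filter, ← Fintype.card_subtype, Nat.card_eq_fintype_card]

theorem cnt_eq_card_filter [Fintype (Subgroup P)] (m : ℕ) :
    cnt P m = (Finset.univ.filter fun U : Subgroup P => Nat.card U = m).card := by
  rw [cnt, Nat.card_eq_fintype_card, Fintype.card_subtype]

end Finset

omit hp in
theorem cnt_congr {Q : Type*} [Group Q] {R : Type*} [Group R] (e : Q ≃* R) (m : ℕ) :
    cnt Q m = cnt R m := by
  refine Nat.card_congr (Equiv.subtypeEquiv e.mapSubgroup.toEquiv fun U => ?_)
  show Nat.card U = m ↔ Nat.card (U.map e.toMonoidHom) = m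
  rw [← Nat.card_congr (U.equivMapOfInjective e.toMonoidHom e.injective).toEquiv]

/-- The number of subgroups of each order in a `p`-group is `1` modulo `p`. -/
theorem cnt_mod : ∀ (n : ℕ) (Q : Type*) [Group Q] [Finite Q], Nat.card Q = p ^ n →
    ∀ k, k ≤ n → (cnt Q (p ^ k) : ZMod p) = 1 := by
  intro n
  induction n with
  | zero =>
    intro Q _ _ hQ k hk
    obtain rfl : k = 0 := by omega
    have : cnt Q (p ^ 0) = 1 := by
      rw [cnt, Nat.card_eq_one_iff_unique]
      exact ⟨⟨fun a b => Subtype.ext ((eq_bot_of_card_eq _ (by simpa using a.2)).trans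
        (eq_bot_of_card_eq _ (by simpa using b.2)).symm)⟩, ⟨⟨⊥, by simp⟩⟩⟩
    rw [this, Nat.cast_one]
  | succ n ih =>
    intro Q _ _ hQ k hk
    classical
    have hQp : IsPGroup p Q := IsPGroup.of_card hQ
    rcases Nat.lt_or_ge k (n + 1) with hk' | hk'
    · haveI := Fintype.ofFinite (Subgroup Q)
      have hd := congrArg (fun t : ℕ => (t : ZMod p))
        (double_count ((Finset.univ : Finset (Subgroup Q)).filter IsCoatom) (p ^ k))
      push_cast at hd
      have hN : (((Finset.univ : Finset (Subgroup Q)).filter IsCoatom).card : ZMod p) = 1 := by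
        rw [← maximal_above_mod hQp (U := ⊥) (fun h => ?_), ← card_filter_above,
          Finset.filter_true_of_mem fun _ _ => bot_le]
        have h1 := congrArg (fun H : Subgroup Q => Nat.card H) h
        simp only [card_bot, card_top, hQ] at h1
        exact (Nat.one_lt_pow n.succ_ne_zero hp.out.one_lt).ne h1
      rw [Finset.sum_congr rfl fun (M : Subgroup Q) hM =>
        ih M (card_of_isCoatom hQ (Finset.mem_filter.mp hM).2) k (by omega)] at hd
      have hR : ∀ U ∈ (Finset.univ : Finset (Subgroup Q)).filter (fun U : Subgroup Q => Nat.card U = p ^ k),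
          ((((Finset.univ : Finset (Subgroup Q)).filter IsCoatom).filter (U ≤ ·)).card : ZMod p) = 1 := by
        intro U hU
        rw [card_filter_above, maximal_above_mod hQp]
        rintro rfl
        rw [Finset.mem_filter, card_top, hQ] at hU
        exact absurd (Nat.pow_right_injective hp.out.two_le hU.2) (by omega)
      rw [Finset.sum_congr rfl hR, Finset.sum_const, Finset.sum_const, nsmul_eq_mul, mul_one,
        nsmul_eq_mul, mul_one, hN, ← cnt_eq_card_filter] at hd
      exact hd.symm
    · obtain rfl : k = n + 1 := by omega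
      have : cnt Q (p ^ (n + 1)) = 1 := by
        rw [cnt, Nat.card_eq_one_iff_unique]
        exact ⟨⟨fun a b => Subtype.ext ((eq_top_of_card_eq _ (by rw [hQ]; exact a.2)).trans
          (eq_top_of_card_eq _ (by rw [hQ]; exact b.2)).symm)⟩, ⟨⟨⊤, by rw [card_top, hQ]⟩⟩⟩
      rw [this, Nat.cast_one]

open scoped Classical in
/-- The enumeration identity modulo `p²`. -/
theorem enumeration {n k : ℕ} (hP : Nat.card P = p ^ n) (hc : ¬ IsCyclic P) (hk : k + 2 ≤ n)
    [Fintype (Subgroup P)] :
    (∑ M ∈ (Finset.univ : Finset (Subgroup P)).filter IsCoatom, (cnt M (p ^ k) : ZMod (p ^ 2))) =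
      (1 + p) * cnt P (p ^ k) := by
  classical
  obtain ⟨n, rfl⟩ : ∃ n', n = n' + 1 := ⟨n - 1, by omega⟩
  have hPp : IsPGroup p P := IsPGroup.of_card hP
  set S := (Finset.univ : Finset (Subgroup P)).filter IsCoatom with hS
  set A := (Finset.univ : Finset (Subgroup P)).filter fun U : Subgroup P => Nat.card U = p ^ k with hA
  have hne : ∀ U ∈ A, U ≠ ⊤ := by
    rintro U hU rfl
    rw [hA, Finset.mem_filter, card_top, hP] at hU
    exact absurd (Nat.pow_right_injective hp.out.two_le hU.2) (by omega)
  -- the subgroups lying in exactly one maximal subgroup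
  have hT : ((A.filter fun U => (frattini P ⊔ U).index = p).card : ZMod p) = 0 := by
    have hnc := frattini_index_ne hPp hc
    have hfib : (A.filter fun U => (frattini P ⊔ U).index = p).card =
        ∑ M ∈ S, (A.filter fun U => frattini P ⊔ U = M).card := by
      rw [Finset.card_eq_sum_card_fiberwise (f := fun U => frattini P ⊔ U) (t := S)]
      · refine Finset.sum_congr rfl fun M hM => congrArg Finset.card ?_
        rw [Finset.filter_filter]
        refine Finset.filter_congr fun U _ => ⟨fun h => h.2, fun h => ⟨?_, h⟩⟩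
        rw [h]; exact (isCoatom_iff_index hPp M).mp (Finset.mem_filter.mp hM).2
      · intro U hU
        have hU' := (Finset.mem_filter.mp (Finset.mem_coe.mp hU)).2
        exact Finset.mem_filter.mpr ⟨Finset.mem_univ _, (isCoatom_iff_index hPp _).mpr hU'⟩
    rw [hfib, Nat.cast_sum]
    refine Finset.sum_eq_zero fun M hM => ?_
    have hMc : IsCoatom M := (Finset.mem_filter.mp hM).2
    have hMp : IsPGroup p M := hPp.to_subgroup M
    have hMcard := card_of_isCoatom hP hMc
    have hΦM : frattini P ≤ M := frattini_le_coatom hMc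
    set F := (frattini P).subgroupOf M with hF
    haveI : Fintype (Subgroup M) := Fintype.ofFinite _
    set B := (Finset.univ : Finset (Subgroup M)).filter fun U : Subgroup M => Nat.card U = p ^ k with hB
    set W := ((Finset.univ : Finset (Subgroup M)).filter IsCoatom).filter (F ≤ ·) with hW
    have hFne : F ≠ ⊤ := fun h => hnc.1 (by
      rw [le_antisymm hΦM (subgroupOf_eq_top.mp h)]; exact (isCoatom_iff_index hPp M).mp hMc)
    have hFΦ : frattini M ≤ F := by
      intro x hx
      show (x : P) ∈ frattini P
      have h1 : (frattini M).map M.subtype ≤ frattini P := by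
        rw [frattini, Order.radical]
        refine le_iInf fun L => le_iInf fun (hL : IsCoatom L) => ?_
        rw [map_le_iff_le_comap]
        by_cases hML : L.comap M.subtype = ⊤
        · rw [hML]; exact le_top
        refine frattini_le_coatom ((isCoatom_iff_index hMp _).mpr ?_)
        have hLn := Frattini.normal_of_isCoatom hPp hL
        show L.relIndex M = p
        refine (hp.out.eq_one_or_self_of_dvd _ ?_).resolve_left fun h1 => hML ?_
        · rw [← (isCoatom_iff_index hPp L).mp hL]
          exact relIndex_dvd_index_of_normal L M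
        · exact index_eq_one.mp h1
      exact h1 ⟨x, hx, rfl⟩
    have hsplit : B.card = (B.filter fun U => F ⊔ U = ⊤).card + (B.filter fun U => F ⊔ U ≠ ⊤).card :=
      (Finset.card_filter_add_card_filter_not _).symm
    have hcongr : (A.filter fun U => frattini P ⊔ U = M).card = (B.filter fun U => F ⊔ U = ⊤).card := by
      refine Finset.card_bij' (fun U _ => U.subgroupOf M) (fun U _ => U.map M.subtype) ?_ ?_ ?_ ?_
      · intro U hU
        obtain ⟨hU1, hU2⟩ := Finset.mem_filter.mp hU
        have hUM : U ≤ M := le_sup_right.trans hU2.le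
        refine Finset.mem_filter.mpr ⟨Finset.mem_filter.mpr ⟨Finset.mem_univ _,
          (Nat.card_congr (subgroupOfEquivOfLe hUM).toEquiv).trans (Finset.mem_filter.mp hU1).2⟩, ?_⟩
        rw [hF, ← subgroupOf_sup hΦM hUM, hU2, subgroupOf_self]
      · intro U hU
        obtain ⟨hU1, hU2⟩ := Finset.mem_filter.mp hU
        refine Finset.mem_filter.mpr ⟨Finset.mem_filter.mpr ⟨Finset.mem_univ _,
          (Nat.card_congr (U.equivMapOfInjective M.subtype M.subtype_injective).toEquiv).symm.trans
            (Finset.mem_filter.mp hU1).2⟩, ?_⟩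
        have h2 := congrArg (Subgroup.map M.subtype) hU2
        rwa [Subgroup.map_sup, hF, subgroupOf_map_subtype, inf_eq_left.mpr hΦM,
          ← MonoidHom.range_eq_map, range_subtype] at h2
      · intro U hU
        obtain ⟨hU1, hU2⟩ := Finset.mem_filter.mp hU
        simp only [subgroupOf_map_subtype]
        exact inf_eq_left.mpr (le_sup_right.trans hU2.le)
      · intro U hU
        exact comap_map_eq_self_of_injective M.subtype_injective U
    have hB1 : (B.card : ZMod p) = 1 := by
      rw [hB, ← cnt_eq_card_filter]; exact cnt_mod n M hMcard k (by omega)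
    have hW1 : (W.card : ZMod p) = 1 := by
      rw [hW, card_filter_above]; exact maximal_above_mod hMp hFne
    have hB2 : ((B.filter fun U => F ⊔ U ≠ ⊤).card : ZMod p) = 1 := by
      have hd := congrArg (fun t : ℕ => (t : ZMod p)) (double_count W (p ^ k))
      push_cast at hd
      rw [Finset.sum_congr rfl fun (L : Subgroup M) hL =>
        cnt_mod (n - 1) L (card_of_isCoatom (show Nat.card M = p ^ (n - 1 + 1) by
          rw [Nat.sub_add_cancel (by omega : 1 ≤ n)]; exact hMcard)
          (Finset.mem_filter.mp (Finset.mem_filter.mp hL).1).2) k (by omega),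
        Finset.sum_const, nsmul_eq_mul, mul_one, hW1] at hd
      rw [hd, Finset.natCast_card_filter]
      refine Finset.sum_congr rfl fun U _ => ?_
      split_ifs with hUF
      · have hW' : W.filter (U ≤ ·) =
            ((Finset.univ : Finset (Subgroup M)).filter IsCoatom).filter (F ⊔ U ≤ ·) := by
          rw [hW, Finset.filter_filter]
          exact Finset.filter_congr fun L _ => sup_le_iff.symm
        rw [hW', card_filter_above, maximal_above_mod hMp hUF]
      · rw [Finset.card_eq_zero.mpr, Nat.cast_zero]
        rw [Finset.filter_eq_empty_iff]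
        intro L hL hUL
        refine (Finset.mem_filter.mp (Finset.mem_filter.mp hL).1).2.1 ?_
        rw [← top_le_iff, ← not_not.mp hUF]
        exact sup_le (Finset.mem_filter.mp hL).2 hUL
    rw [hcongr]
    have := congrArg (fun t : ℕ => (t : ZMod p)) hsplit
    push_cast at this
    rw [hB1, hB2] at this
    simpa using this
  have hTsq : (p : ZMod (p ^ 2)) * ((A.filter fun U => (frattini P ⊔ U).index = p).card : ZMod (p ^ 2)) = 0 := by
    rw [← Nat.cast_mul, ZMod.natCast_eq_zero_iff, pow_two]
    exact Nat.mul_dvd_mul_left p ((ZMod.natCast_eq_zero_iff _ _).mp hT)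
  have hd := congrArg (fun t : ℕ => (t : ZMod (p ^ 2))) (double_count S (p ^ k))
  push_cast at hd
  rw [hd, cnt_eq_card_filter, ← hA,
    Finset.sum_congr rfl (g := fun U => (1 + p : ZMod (p ^ 2)) -
      p * (if (frattini P ⊔ U).index = p then 1 else 0)) fun U hU => by
        rw [hS, card_filter_above]
        split_ifs with h
        · rw [maximal_above_sq_one hPp h]; push_cast; ring
        · rw [maximal_above_sq hPp (hne U hU) h]; ring,
    Finset.sum_sub_distrib, ← Finset.mul_sum, Finset.sum_const, nsmul_eq_mul,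
    ← Finset.natCast_card_filter, hTsq, sub_zero, mul_comm]

end CfsgLib.PGroup.SubgroupCount
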