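import Mathlib
import Cfsg.Agent.Lib.PGroup.SubgroupCount
import Cfsg.Agent.Lib.OddOrder.OmegaLemma
import Cfsg.Agent.Lib.TwoGroups.Classify

/-!
Kulakoff's theorem: the number of subgroups of a given order of a `p`-group modulo `p²`, with the
2-groups of maximal class as exceptions.
-/

set_option autoImplicit false
set_option linter.style.haveILetI false

namespace CfsgLib.PGroup.Kulakoff

open Subgroup SubgroupCount
open scoped commutatorElement

variable {p : ℕ} [hp : Fact p.Prime] {P : Type*} [Group P] [Finite P]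

/-- The derived subgroup has index four. -/
def MaxCl (P : Type*) [Group P] : Prop := (commutator P).index = 4

omit hp in
theorem isCyclic_card_eq_one {m : ℕ} [IsCyclic P] (hm : 0 < m) :
    ∀ U V : Subgroup P, Nat.card U = m → Nat.card V = m → U = V := by
  classical
  intro U V hU hV
  cases nonempty_fintype P
  set R : Finset P := Finset.univ.filter fun x : P => x ^ m = 1
  have key : ∀ W : Subgroup P, Nat.card W = m → (W : Set P).toFinset = R := fun W hW => by
    refine Finset.eq_of_subset_of_card_le (fun x hx => ?_) ?_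
    · rw [Finset.mem_filter]
      refine ⟨Finset.mem_univ _, ?_⟩
      rw [← hW]
      exact congrArg Subtype.val (pow_card_eq_one' (x := (⟨x, Set.mem_toFinset.mp hx⟩ : W)))
    · rw [Set.toFinset_card, ← Nat.card_eq_fintype_card]
      exact (IsCyclic.card_pow_eq_one_le hm).trans hW.ge
  exact SetLike.coe_injective (Set.toFinset_inj.mp ((key U hU).trans (key V hV).symm))

theorem cnt_cyclic [IsCyclic P] {n k : ℕ} (hP : Nat.card P = p ^ n) (hk : k ≤ n) :
    cnt P (p ^ k) = 1 := by
  rw [cnt, Nat.card_eq_one_iff_unique]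
  obtain ⟨U, hU⟩ := Sylow.exists_subgroup_card_pow_prime p (n := k) (G := P) (hP ▸ pow_dvd_pow p hk)
  exact ⟨⟨fun a b => Subtype.ext (isCyclic_card_eq_one (pow_pos hp.out.pos k) _ _ a.2 b.2)⟩, ⟨⟨U, hU⟩⟩⟩

theorem cnt_maximal {n : ℕ} (hP : Nat.card P = p ^ (n + 1)) :
    cnt P (p ^ n) = Nat.card {M : Subgroup P // IsCoatom M} := by
  refine Nat.card_congr (Equiv.subtypeEquivRight fun M => ⟨fun h => ?_, card_of_isCoatom hP⟩)
  rw [isCoatom_iff_index (IsPGroup.of_card hP)]
  have h1 := M.card_mul_index
  rw [h, hP, pow_succ] at h1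
  exact Nat.eq_of_mul_eq_mul_left (pow_pos hp.out.pos n) h1

theorem commutator_le_frattini (hP : IsPGroup p P) : commutator P ≤ frattini P := by
  rw [commutator_def, commutator_le]
  exact fun x _ y _ => Frattini.commutatorElement_mem_frattini hP x y

theorem sq_le_frattini_index (hP : IsPGroup p P) (hc : ¬ IsCyclic P) :
    p ^ 2 ≤ (frattini P).index := by
  obtain ⟨e, he⟩ := exists_index_eq_pow hP (frattini P)
  rw [he]
  refine Nat.pow_le_pow_right hp.out.pos ?_
  by_contra h
  refine hc (isCyclic_of_frattini_index hP ?_)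
  rw [he]
  exact (Nat.pow_le_pow_right hp.out.pos (show e ≤ 1 by omega)).trans (pow_one p).le

theorem sq_le_commutator_index (hP : IsPGroup p P) (hc : ¬ IsCyclic P) :
    p ^ 2 ≤ (commutator P).index :=
  (sq_le_frattini_index hP hc).trans
    (Nat.le_of_dvd (Nat.pos_of_ne_zero index_ne_zero_of_finite)
      (index_dvd_of_le (commutator_le_frattini hP)))

theorem not_cyclic_of_maxCl {n : ℕ} (hn : 3 ≤ n) (hP : Nat.card P = 2 ^ n) (h : MaxCl P) :
    ¬ IsCyclic P := fun hc => by
  have := hc
  have hb : commutator P = ⊥ := by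
    rw [commutator_def, eq_bot_iff, commutator_le]
    intro x _ y _
    rw [mem_bot, commutatorElement_eq_one_iff_mul_comm]
    exact IsCyclic.isMulCommutative.is_comm.comm x y
  rw [MaxCl, hb, index_bot, hP] at h
  have := Nat.pow_le_pow_right two_pos hn
  omega

theorem zpowers_normal_of_le_cyclic {a c : P} [(zpowers a).Normal] (hc : c ∈ zpowers a) :
    (zpowers c).Normal := by
  refine ⟨fun x hx g => ?_⟩
  obtain ⟨i, rfl⟩ := mem_zpowers_iff.mp hc
  obtain ⟨j, rfl⟩ := mem_zpowers_iff.mp hx
  obtain ⟨l, hl⟩ := mem_zpowers_iff.mp ((inferInstance : (zpowers a).Normal).conj_mem a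
    (mem_zpowers a) g)
  refine mem_zpowers_iff.mpr ⟨l * j, ?_⟩
  rw [← conj_zpow, ← conj_zpow, ← hl, ← zpow_mul, ← zpow_mul, ← zpow_mul]
  congr 1
  ring

/-- The setting: `A = ⟨a⟩` is a maximal subgroup. -/
structure CyclicMax (p : ℕ) (n : ℕ) (a : P) : Prop where
  card : Nat.card P = p ^ (n + 2)
  order : orderOf a = p ^ (n + 1)

theorem CyclicMax.index {n : ℕ} {a : P} (h : CyclicMax p n a) : (zpowers a).index = p := by
  have h1 := (zpowers a).card_mul_index
  rw [Nat.card_zpowers, h.order, h.card, pow_succ (n := n + 1)] at h1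
  exact Nat.eq_of_mul_eq_mul_left (pow_pos hp.out.pos _) h1

theorem CyclicMax.normal {n : ℕ} {a : P} (h : CyclicMax p n a) : (zpowers a).Normal :=
  Frattini.normal_of_isCoatom (IsPGroup.of_card h.card)
    ((isCoatom_iff_index (IsPGroup.of_card h.card) _).mpr h.index)

theorem exists_cyclicMax {n : ℕ} (hP : Nat.card P = p ^ (n + 2)) {M : Subgroup P} (hM : IsCoatom M)
    (hc : IsCyclic M) : ∃ a, zpowers a = M ∧ CyclicMax p n a := by
  obtain ⟨c, hcg⟩ := IsCyclic.exists_generator (α := M)
  have he : zpowers (c : P) = M := by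
    refine le_antisymm (zpowers_le.mpr c.2) fun g hg => ?_
    obtain ⟨i, hi⟩ := mem_zpowers_iff.mp (hcg ⟨g, hg⟩)
    exact mem_zpowers_iff.mpr ⟨i, by simpa using congrArg Subtype.val hi⟩
  refine ⟨c, he, hP, ?_⟩
  rw [← Nat.card_zpowers, he, card_of_isCoatom hP hM]

theorem CyclicMax.frattini_eq {n : ℕ} {a : P} (h : CyclicMax p n a) (hc : ¬ IsCyclic P) :
    frattini P = zpowers (a ^ p) ∧ (frattini P).index = p ^ 2 := by
  have hP := IsPGroup.of_card h.card
  have hle : zpowers (a ^ p) ≤ frattini P := zpowers_le.mpr (Frattini.pow_mem_frattini hP a)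
  have ho : orderOf (a ^ p) = p ^ n := by
    rw [orderOf_pow_of_dvd hp.out.pos.ne' (h.order ▸ dvd_pow_self p n.succ_ne_zero), h.order,
      pow_succ, Nat.mul_div_cancel _ hp.out.pos]
  have hi : (zpowers (a ^ p)).index = p ^ 2 := by
    have h1 := (zpowers (a ^ p)).card_mul_index
    rw [Nat.card_zpowers, ho, h.card, pow_add] at h1
    exact Nat.eq_of_mul_eq_mul_left (pow_pos hp.out.pos _) h1
  have hfi : (frattini P).index = p ^ 2 := le_antisymm
    (hi ▸ Nat.le_of_dvd (by rw [hi]; exact pow_pos hp.out.pos 2) (index_dvd_of_le hle))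
    (sq_le_frattini_index hP hc)
  refine ⟨(eq_of_le_of_card_ge hle (le_of_eq ?_)).symm, hfi⟩
  have h1 := (frattini P).card_mul_index
  rw [← (zpowers (a ^ p)).card_mul_index, hi, hfi] at h1
  exact Nat.eq_of_mul_eq_mul_right (pow_pos hp.out.pos 2) h1

/-- The commutator of the two generators generates the derived subgroup. -/
theorem CyclicMax.commutator_eq {n : ℕ} {a b : P} (h : CyclicMax p n a) (hb : b ∉ zpowers a) :
    ⁅b, a⁆ ∈ zpowers a ∧ commutator P = zpowers ⁅b, a⁆ := by
  haveI := h.normal
  have hmem : ⁅b, a⁆ ∈ zpowers a := by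
    rw [commutatorElement_def]
    exact mul_mem ((inferInstance : (zpowers a).Normal).conj_mem a (mem_zpowers a) b)
      (inv_mem (mem_zpowers a))
  refine ⟨hmem, le_antisymm ?_ (zpowers_le.mpr (commutator_mem_commutator (mem_top b) (mem_top a)))⟩
  haveI := zpowers_normal_of_le_cyclic hmem
  set K := zpowers ⁅b, a⁆
  set π := QuotientGroup.mk' K
  set S := closure ({π a, π b} : Set (P ⧸ K))
  have hcm : Commute (π b) (π a) := by
    show π b * π a = π a * π b
    rw [← commutatorElement_eq_one_iff_mul_comm, ← map_commutatorElement]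
    exact (QuotientGroup.eq_one_iff _).mpr (mem_zpowers _)
  have htop : S.comap π = ⊤ := by
    have hc' : IsCoatom (zpowers a) := (isCoatom_iff_index (IsPGroup.of_card h.card) _).mpr h.index
    refine hc'.2 _ (lt_of_le_not_ge (zpowers_le.mpr (subset_closure (by simp))) fun hle => hb ?_)
    exact hle (subset_closure (by simp) : π b ∈ S)
  have hScomm : ∀ u v : P, π u * π v = π v * π u := by
    intro u v
    have hu : π u ∈ S := by
      have : u ∈ S.comap π := by rw [htop]; exact mem_top u
      exact this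
    have hv : π v ∈ S := by
      have : v ∈ S.comap π := by rw [htop]; exact mem_top v
      exact this
    haveI : IsMulCommutative S := Subgroup.isMulCommutative_closure (by
      intro x hx y hy
      simp only [Set.mem_insert_iff, Set.mem_singleton_iff] at hx hy
      rcases hx with rfl | rfl <;> rcases hy with rfl | rfl
      · rfl
      · exact hcm.symm.eq
      · exact hcm.eq
      · rfl)
    exact setLike_mul_comm hu hv
  rw [commutator_def, commutator_le]
  intro u _ v _
  rw [← QuotientGroup.eq_one_iff]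
  show π ⁅u, v⁆ = 1
  rw [map_commutatorElement, commutatorElement_eq_one_iff_mul_comm]
  exact hScomm u v

theorem commutatorElement_pow_right {a b : P} (hc : Commute ⁅b, a⁆ a) (i : ℕ) :
    ⁅b, a ^ i⁆ = ⁅b, a⁆ ^ i := by
  have h1 : b * a * b⁻¹ = ⁅b, a⁆ * a := by rw [commutatorElement_def]; group
  have h2 : b * a ^ i * b⁻¹ = ⁅b, a⁆ ^ i * a ^ i := by rw [← conj_pow, h1, hc.mul_pow]
  rw [commutatorElement_def, h2, mul_inv_cancel_right]

/-- If the `p`-th power map is multiplicative modulo `⟨a ^ (p * p)⟩`, exactly one maximal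
subgroup is not cyclic. -/
theorem CyclicMax.card_cyclic {n : ℕ} {a : P} (h : CyclicMax p (n + 1) a) (hc : ¬ IsCyclic P)
    (hhom : p ≠ 2 ∨ ¬ MaxCl P) :
    Nat.card {M : Subgroup P // IsCoatom M ∧ IsCyclic M} + 1 =
      Nat.card {M : Subgroup P // IsCoatom M} := by
  classical
  haveI := h.normal
  have hP := IsPGroup.of_card h.card
  obtain ⟨hF, hFi⟩ := h.frattini_eq hc
  set F := frattini P with hFdef
  have ho : orderOf (a ^ p) = p ^ (n + 1) := by
    rw [orderOf_pow_of_dvd hp.out.pos.ne' (h.order ▸ dvd_pow_self p (n + 1).succ_ne_zero), h.order,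
      pow_succ, Nat.mul_div_cancel _ hp.out.pos]
  set c := a ^ (p * p) with hcdef
  haveI hCn : (zpowers c).Normal := zpowers_normal_of_le_cyclic (pow_mem (mem_zpowers a) _)
  have hoc : orderOf c = p ^ n := by
    rw [hcdef, orderOf_pow_of_dvd (Nat.mul_ne_zero hp.out.pos.ne' hp.out.pos.ne')
      (h.order ▸ ⟨p ^ n, by ring⟩), h.order, show p ^ (n + 1 + 1) = p ^ n * (p * p) by ring,
      Nat.mul_div_cancel _ (Nat.mul_pos hp.out.pos hp.out.pos)]
  set π := QuotientGroup.mk' (zpowers c)
  have hcentral : ∀ u ∈ F, π u ∈ center (P ⧸ zpowers c) := by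
    intro u hu
    haveI : (F.map π).Normal := Normal.map inferInstance π (QuotientGroup.mk'_surjective _)
    have hcard : Nat.card (F.map π) ∣ p := by
      have h1 : F.map π = zpowers (π (a ^ p)) := by rw [hF, MonoidHom.map_zpowers]
      rw [h1, Nat.card_zpowers]
      refine orderOf_dvd_of_pow_eq_one ?_
      rw [← map_pow, ← pow_mul]
      exact (QuotientGroup.eq_one_iff _).mpr (mem_zpowers c)
    refine mem_center_iff.mpr fun g => ?_
    by_contra hg
    -- a normal subgroup of order `p` in a `p`-group is central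
    have hcp : Nat.card (F.map π) = p := (hp.out.eq_one_or_self_of_dvd _ hcard).resolve_left
      fun h1 => hg (by
        have : π u ∈ F.map π := mem_map_of_mem π hu
        rw [eq_bot_of_card_eq _ h1, mem_bot] at this
        rw [this, mul_one, one_mul])
    have hQ := hP.to_quotient (zpowers c)
    have h2 : (1 : F.map π) ∈ MulAction.fixedPoints (ConjAct (P ⧸ zpowers c)) (F.map π) :=
      fun g => smul_one g
    obtain ⟨w, hw, hw1⟩ := (hQ.of_equiv ConjAct.toConjAct).exists_fixed_point_of_prime_dvd_card_of_fixed_point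
      (F.map π) (dvd_of_eq hcp.symm) h2
    have hwc : (w : P ⧸ zpowers c) ∈ center _ := mem_center_iff.mpr fun g => by
      have h3 : ((ConjAct.toConjAct g • w : F.map π) : P ⧸ zpowers c) = w :=
        congrArg Subtype.val (hw _)
      rw [ConjAct.Subgroup.val_conj_smul, ConjAct.toConjAct_smul] at h3
      exact mul_inv_eq_iff_eq_mul.mp h3
    haveI : Fact (Nat.Prime (Nat.card (F.map π))) := ⟨hcp ▸ hp.out⟩
    have htop := mem_zpowers_of_prime_card (G := F.map π) (p := Nat.card (F.map π)) rfl
      (g := w) (g' := ⟨π u, mem_map_of_mem π hu⟩) (Ne.symm hw1)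
    obtain ⟨j, hj⟩ := mem_zpowers_iff.mp htop
    have hj' : (w : P ⧸ zpowers c) ^ j = π u := by simpa using congrArg Subtype.val hj
    exact hg (hj' ▸ mem_center_iff.mp (zpow_mem hwc j) g)
  have hcomm : ∀ u v : P, ⁅π u, π v⁆ ^ p.choose 2 = 1 := by
    intro u v
    rw [← map_commutatorElement, ← map_pow]
    have huv : ⁅u, v⁆ ∈ F := Frattini.commutatorElement_mem_frattini hP u v
    rcases hhom with hp2 | hmax
    · refine (QuotientGroup.eq_one_iff _).mpr ?_
      obtain ⟨t, ht⟩ := hp.out.dvd_choose_self two_ne_zero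
        (lt_of_le_of_ne hp.out.two_le (Ne.symm hp2))
      rw [hF] at huv
      obtain ⟨j, hj⟩ := mem_zpowers_iff.mp huv
      refine mem_zpowers_iff.mpr ⟨j * t, ?_⟩
      rw [ht, ← hj, hcdef, ← zpow_natCast a, ← zpow_natCast a, ← zpow_natCast _ (p * t), ← zpow_mul,
        ← zpow_mul, ← zpow_mul]
      congr 1
      push_cast; ring
    · by_cases hp2 : p = 2
      · subst hp2
        refine (QuotientGroup.eq_one_iff _).mpr (pow_mem ?_ _)
        have hle : commutator P ≤ F := commutator_le_frattini hP
        by_contra hn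
        refine hmax ?_
        have h3 : commutator P = F := by
          refine le_antisymm hle ?_
          have hm := commutator_mem_commutator (mem_top u) (mem_top v)
          rw [hF] at huv ⊢
          obtain ⟨j, hj⟩ := mem_zpowers_iff.mp huv
          rw [zpowers_le]
          rcases Int.even_or_odd j with ⟨i, hi⟩ | ⟨i, hi⟩
          · refine absurd ?_ hn
            refine mem_zpowers_iff.mpr ⟨i, ?_⟩
            rw [← hj, hcdef, hi, ← zpow_natCast a, ← zpow_natCast a, ← zpow_mul, ← zpow_mul]
            congr 1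
            push_cast; ring
          · -- an odd power of a generator of a 2-group generates
            have hcop : Nat.Coprime j.natAbs (orderOf (a ^ 2)) := by
              rw [ho]
              refine Nat.Coprime.pow_right _ (Nat.coprime_two_right.mpr ?_)
              rw [Int.natAbs_odd, hi]; exact ⟨i, rfl⟩
            obtain ⟨l, hl⟩ := exists_pow_eq_self_of_coprime hcop
            have hna : (a ^ 2) ^ j.natAbs ∈ commutator P := by
              have hz : (a ^ 2) ^ j ∈ commutator P := hj ▸ hm
              rcases Int.natAbs_eq j with e | e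
              · rw [e, zpow_natCast] at hz; exact hz
              · rw [e, zpow_neg, zpow_natCast] at hz; exact inv_mem_iff.mp hz
            rw [← hl]; exact pow_mem hna _
        rw [MaxCl, h3, hFi]; norm_num
      · refine (QuotientGroup.eq_one_iff _).mpr ?_
        obtain ⟨t, ht⟩ := hp.out.dvd_choose_self two_ne_zero
          (lt_of_le_of_ne hp.out.two_le (Ne.symm hp2))
        rw [hF] at huv
        obtain ⟨j, hj⟩ := mem_zpowers_iff.mp huv
        refine mem_zpowers_iff.mpr ⟨j * t, ?_⟩
        rw [ht, ← hj, hcdef, ← zpow_natCast a, ← zpow_natCast a, ← zpow_natCast _ (p * t), ← zpow_mul,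
          ← zpow_mul, ← zpow_mul]
        congr 1
        push_cast; ring
  let φ : P →* P ⧸ zpowers c :=
    { toFun := fun x => π x ^ p
      map_one' := by rw [map_one, one_pow]
      map_mul' := fun x y => by
        have hz : π ⁅y, x⁆ ∈ center _ := hcentral _ (Frattini.commutatorElement_mem_frattini hP y x)
        rw [map_mul, OddOrder.OmegaLemma.mul_pow_central (u := π x) (v := π y) (z := π ⁅y, x⁆)
          (by rw [map_commutatorElement, commutatorElement_def]; group)
          (mem_center_iff.mp hz _).symm (mem_center_iff.mp hz _).symm p,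
          map_commutatorElement, hcomm, one_mul] }
  have hφ : ∀ x, φ x = π (x ^ p) := fun x => (map_pow π x p).symm
  have hker : ∀ x, x ∈ φ.ker ↔ x ^ p ∈ zpowers c := fun x => by
    rw [MonoidHom.mem_ker, hφ]; exact QuotientGroup.eq_one_iff _
  have hxF : ∀ x : P, x ^ p ∈ F := fun x => Frattini.pow_mem_frattini hP x
  have hapC : a ^ p ∉ zpowers c := fun hm => by
    have h1 := Subgroup.orderOf_dvd_natCard _ hm
    rw [ho, Nat.card_zpowers, hoc] at h1
    exact absurd ((Nat.pow_dvd_pow_iff_le_right hp.out.one_lt).mp h1) (by omega)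
  have hK : IsCoatom φ.ker := by
    rw [isCoatom_iff_index hP, index_ker]
    have hr : φ.range = zpowers (π (a ^ p)) := by
      refine le_antisymm ?_ (zpowers_le.mpr ⟨a, hφ a⟩)
      rintro _ ⟨x, rfl⟩
      rw [hφ, ← MonoidHom.map_zpowers, ← hF]
      exact mem_map_of_mem π (hxF x)
    rw [hr, Nat.card_zpowers]
    refine orderOf_eq_prime ?_ (fun he => hapC ((QuotientGroup.eq_one_iff _).mp he))
    rw [← map_pow, ← pow_mul]
    exact (QuotientGroup.eq_one_iff _).mpr (mem_zpowers c)
  have hiff : ∀ M : Subgroup P, IsCoatom M → (IsCyclic M ↔ M ≠ φ.ker) := by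
    intro M hM
    constructor
    · rintro hMc rfl
      obtain ⟨x, hx, hxm⟩ := exists_cyclicMax h.card hK hMc
      have h1 := Subgroup.orderOf_dvd_natCard _ ((hker x).mp (hx ▸ mem_zpowers x))
      rw [orderOf_pow_of_dvd hp.out.pos.ne' (hxm.order ▸ dvd_pow_self p (n + 1).succ_ne_zero),
        hxm.order, pow_succ, Nat.mul_div_cancel _ hp.out.pos, Nat.card_zpowers, hoc] at h1
      exact absurd ((Nat.pow_dvd_pow_iff_le_right hp.out.one_lt).mp h1) (by omega)
    · intro hne
      obtain ⟨x, hxM, hxK⟩ : ∃ x ∈ M, x ∉ φ.ker := by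
        by_contra! hno
        exact hne ((eq_or_lt_of_le (show M ≤ φ.ker from hno)).resolve_right fun hlt =>
          hK.1 (hM.2 _ hlt))
      rw [hker] at hxK
      have hxp := hxF x
      rw [hF] at hxp
      obtain ⟨j, hj⟩ := mem_zpowers_iff.mp hxp
      have hjp : ¬ (p : ℤ) ∣ j := fun ⟨i, hi⟩ => hxK (by
        refine mem_zpowers_iff.mpr ⟨i, ?_⟩
        rw [← hj, hcdef, hi, ← zpow_natCast a, ← zpow_natCast a, ← zpow_mul, ← zpow_mul]
        congr 1
        push_cast; ring)
      have hox : orderOf (x ^ p) = p ^ (n + 1) := by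
        refine orderOf_eq_prime_pow (fun he => hjp ?_) ?_
        · have h2 : (a ^ p) ^ (j * (p ^ n : ℕ)) = 1 := by rw [zpow_mul, hj, zpow_natCast, he]
          rw [← orderOf_dvd_iff_zpow_eq_one, ho, mul_comm j, pow_succ, Nat.cast_mul] at h2
          exact Int.dvd_of_mul_dvd_mul_left (by exact_mod_cast (pow_pos hp.out.pos n).ne') h2
        · rw [← hj, ← zpow_natCast, ← zpow_mul, ← orderOf_dvd_iff_zpow_eq_one, ho]
          exact Dvd.intro_left _ rfl
      have hox' : orderOf x = p ^ (n + 2) := by
        refine orderOf_eq_prime_pow (fun he => ?_) ?_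
        · rw [pow_succ', pow_mul] at he
          have h2 : p ^ (n + 1) ∣ p ^ n := hox ▸ orderOf_dvd_of_pow_eq_one he
          exact absurd ((Nat.pow_dvd_pow_iff_le_right hp.out.one_lt).mp h2) (by omega)
        · rw [pow_succ', pow_mul, ← hox, pow_orderOf_eq_one]
      have hMe : zpowers x = M := eq_of_le_of_card_ge (zpowers_le.mpr hxM) (by
        rw [Nat.card_zpowers, hox', card_of_isCoatom h.card hM])
      rw [← hMe]; infer_instance
  cases nonempty_fintype (Subgroup P)
  rw [Nat.card_eq_fintype_card, Nat.card_eq_fintype_card, Fintype.card_subtype, Fintype.card_subtype,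
    show (Finset.univ.filter fun M : Subgroup P => IsCoatom M ∧ IsCyclic M) =
      (Finset.univ.filter fun M : Subgroup P => IsCoatom M).erase φ.ker from Finset.ext fun M => by
        simp only [Finset.mem_filter, Finset.mem_univ, true_and, Finset.mem_erase]
        exact ⟨fun ⟨h1, h2⟩ => ⟨(hiff M h1).mp h2, h1⟩, fun ⟨h1, h2⟩ => ⟨h2, (hiff M h2).mpr h1⟩⟩,
    Finset.card_erase_add_one (by simpa using hK)]

section Two

variable [Fact (Nat.Prime 2)]

omit hp in
theorem relIndex_commutator {M : Subgroup P} :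
    (commutator M).index * Nat.card (⁅M, M⁆ : Subgroup P) = Nat.card M := by
  rw [← map_subtype_commutator, Nat.card_congr
    ((commutator M).equivMapOfInjective M.subtype M.subtype_injective).toEquiv.symm,
    mul_comm, card_mul_index]

omit hp in
theorem maxCl_iff_card {n : ℕ} {M : Subgroup P} (hM : Nat.card M = 2 ^ (n + 2)) :
    MaxCl M ↔ Nat.card (⁅M, M⁆ : Subgroup P) = 2 ^ n := by
  have h := relIndex_commutator (M := M)
  rw [hM, pow_add] at h
  constructor
  · intro h1
    rw [MaxCl] at h1
    rw [h1] at h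
    omega
  · intro h1
    rw [h1, mul_comm] at h
    exact Nat.eq_of_mul_eq_mul_left (pow_pos two_pos n) h

omit hp in
theorem CyclicMax.commutator_order {n : ℕ} {a b : P} (h : CyclicMax 2 (n + 1) a)
    (hmax : MaxCl P) (hb : b ∉ zpowers a) : orderOf ⁅b, a⁆ = 2 ^ (n + 1) := by
  obtain ⟨-, hcm⟩ := h.commutator_eq hb
  have h1 := (commutator P).card_mul_index
  rw [MaxCl] at hmax
  rw [hmax, h.card, hcm, Nat.card_zpowers, show 2 ^ (n + 1 + 2) = 2 ^ (n + 1) * 4 by ring] at h1
  omega

omit hp in
theorem CyclicMax.maxCl_other {n : ℕ} {a : P} (h : CyclicMax 2 (n + 2) a) (hmax : MaxCl P)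
    {M : Subgroup P} (hM : IsCoatom M) (hMa : M ≠ zpowers a) : MaxCl M ∧ ¬ IsCyclic M := by
  have hP := IsPGroup.of_card h.card
  obtain ⟨b, hbM, hb⟩ : ∃ b ∈ M, b ∉ zpowers a := by
    by_contra! hno
    exact hMa (eq_of_le_of_card_ge hno (by
      rw [Nat.card_zpowers, h.order, card_of_isCoatom h.card hM]))
  obtain ⟨hmem, hcm⟩ := h.commutator_eq hb
  have ho := h.commutator_order hmax hb
  have ha2 : a ^ 2 ∈ M := frattini_le_coatom hM (Frattini.pow_mem_frattini hP a)
  have hcomm : Commute ⁅b, a⁆ a := by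
    obtain ⟨i, hi⟩ := mem_zpowers_iff.mp hmem
    rw [← hi]; exact (Commute.refl a).zpow_left i
  have h2 : orderOf ⁅b, a ^ 2⁆ = 2 ^ (n + 1) := by
    rw [commutatorElement_pow_right hcomm, orderOf_pow_of_dvd two_ne_zero
      (ho ▸ dvd_pow_self 2 (by omega)), ho, pow_succ]
    omega
  have hne : ⁅b, a ^ 2⁆ ≠ 1 := fun e => by
    rw [e, orderOf_one] at h2
    exact (Nat.one_lt_two_pow (n.succ_ne_zero)).ne h2
  have hnc : ¬ IsCyclic M := fun hc => hne (by
    have := hc
    rw [commutatorElement_eq_one_iff_mul_comm]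
    exact congrArg Subtype.val
      ((IsCyclic.isMulCommutative (α := M)).is_comm.comm ⟨b, hbM⟩ ⟨a ^ 2, ha2⟩))
  refine ⟨le_antisymm ?_ (sq_le_commutator_index (hP.to_subgroup M) hnc), hnc⟩
  have h3 := relIndex_commutator (M := M)
  rw [card_of_isCoatom h.card hM] at h3
  have h4 : 2 ^ (n + 1) ≤ Nat.card (⁅M, M⁆ : Subgroup P) := by
    rw [← h2]
    exact Nat.le_of_dvd Nat.card_pos
      (Subgroup.orderOf_dvd_natCard _ (commutator_mem_commutator hbM ha2))
  have h5 := Nat.mul_le_mul_left (commutator M).index h4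
  rw [h3, show 2 ^ (n + 2 + 1) = 4 * 2 ^ (n + 1) by ring] at h5
  exact Nat.le_of_mul_le_mul_right h5 (pow_pos two_pos _)

omit hp in
theorem exists_cyclicMax_of_maxCl {n : ℕ} (hP : Nat.card P = 2 ^ (n + 3)) (hmax : MaxCl P) :
    ∃ a : P, CyclicMax 2 (n + 1) a := by
  obtain ⟨C, hC, hCi⟩ := TwoGroups.Classify.cyclic_max_of_commutator n P hP hmax
  obtain ⟨a, -, ha⟩ := exists_cyclicMax (p := 2) (n := n + 1) hP
    ((isCoatom_iff_index (IsPGroup.of_card hP) C).mpr hCi) hC
  exact ⟨a, ha⟩

/-- The number of cyclic maximal subgroups in maximal class is odd. -/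
theorem card_cyclic_maxCl {n : ℕ} (hP : Nat.card P = 2 ^ (n + 3)) (hmax : MaxCl P) :
    (Nat.card {M : Subgroup P // IsCoatom M ∧ IsCyclic M} : ZMod 2) = 1 := by
  classical
  have hPp := IsPGroup.of_card hP
  have hnc := not_cyclic_of_maxCl (by omega) hP hmax
  obtain ⟨a, ha⟩ := exists_cyclicMax_of_maxCl hP hmax
  have hA : IsCoatom (zpowers a) := (isCoatom_iff_index hPp _).mpr ha.index
  rcases Nat.eq_zero_or_pos n with rfl | hn
  · -- order eight
    haveI := ha.normal
    have hnab : ∀ b, b ∉ zpowers a → b * a * b⁻¹ = a⁻¹ := by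
      intro b hb
      obtain ⟨hmem, hcm⟩ := ha.commutator_eq hb
      have ho := ha.commutator_order hmax hb
      obtain ⟨i, hi⟩ := (mem_powers_iff_mem_zpowers (x := a)).mpr hmem
      have hsq : (a ^ i) ^ 2 = 1 := by
        show _ = _
        have := pow_orderOf_eq_one ⁅b, a⁆
        rw [ho] at this
        rw [show a ^ i = ⁅b, a⁆ from hi]
        simpa using this
      have hne : a ^ i ≠ 1 := fun e => by
        rw [show ⁅b, a⁆ = a ^ i from hi.symm, e, orderOf_one] at ho
        norm_num at ho
      have ho4 : orderOf a = 4 := by rw [ha.order]; rfl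
      have hi2 : i % 4 = 2 := by
        rw [← pow_mul, ← orderOf_dvd_iff_pow_eq_one, ho4] at hsq
        rw [ne_eq, ← orderOf_dvd_iff_pow_eq_one, ho4] at hne
        omega
      have hci : ⁅b, a⁆ = a ^ 2 := by
        rw [← hi2, ← ho4, pow_mod_orderOf]; exact hi.symm
      have h4 : a ^ 4 = 1 := by rw [← ho4]; exact pow_orderOf_eq_one a
      calc b * a * b⁻¹ = ⁅b, a⁆ * a := by rw [commutatorElement_def]; group
        _ = a ^ 4 * a⁻¹ := by rw [hci]; group
        _ = a⁻¹ := by rw [h4, one_mul]
    obtain ⟨b, hb⟩ : ∃ b, b ∉ zpowers a := by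
      by_contra! hno
      exact hA.1 ((eq_top_iff' _).mpr hno)
    have hb2 : b ^ 2 ∈ zpowers a := by
      have := (zpowers a).pow_index_mem b
      rwa [ha.index] at this
    have hall : ∀ x, x ∉ zpowers a → x ^ 2 = b ^ 2 := by
      intro x hx
      have hxb : b⁻¹ * x ∈ zpowers a := by
        rcases mul_mem_iff_of_index_two ha.index (a := b⁻¹) (b := x) with h
        rw [h]
        simp [hb, hx]
      obtain ⟨j, hj⟩ := mem_zpowers_iff.mp hxb
      have hx' : x = b * a ^ j := by rw [hj, mul_inv_cancel_left]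
      rw [hx', pow_two, pow_two]
      have hconj : b * a ^ j * b⁻¹ = a ^ (-j) := by
        rw [← conj_zpow, hnab b hb, inv_zpow, zpow_neg]
      calc b * a ^ j * (b * a ^ j) = (b * a ^ j * b⁻¹) * (b * b) * a ^ j := by group
        _ = a ^ (-j) * (b ^ 2 * a ^ j) := by rw [hconj, pow_two, mul_assoc]
        _ = b ^ 2 := by
          obtain ⟨l, hl⟩ := mem_zpowers_iff.mp hb2
          rw [← hl, ← zpow_add, ← zpow_add]; congr 1; ring
        _ = b * b := pow_two b
    have hiff : ∀ M : Subgroup P, IsCoatom M → M ≠ zpowers a → (IsCyclic M ↔ b ^ 2 ≠ 1) := by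
      intro M hM hMa
      obtain ⟨x, hxM, hx⟩ : ∃ x ∈ M, x ∉ zpowers a := by
        by_contra! hno
        exact hMa (eq_of_le_of_card_ge hno (by
          rw [Nat.card_zpowers, ha.order, card_of_isCoatom hP hM]))
      have hMc := card_of_isCoatom hP hM
      constructor
      · intro hc hb1
        obtain ⟨y, hy, hym⟩ := exists_cyclicMax (p := 2) (n := 1) hP hM hc
        have hya : y ∉ zpowers a := fun hya => hMa (eq_of_le_of_card_ge (hy ▸ zpowers_le.mpr hya)
          (by rw [Nat.card_zpowers, ha.order, hMc]))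
        have h1 : orderOf y ∣ 2 := orderOf_dvd_of_pow_eq_one ((hall y hya).trans hb1)
        rw [hym.order] at h1
        norm_num at h1
      · intro hb1
        have hox : orderOf x = 2 ^ 2 := by
          refine orderOf_eq_prime_pow (p := 2) (n := 1) (by rw [pow_one, hall x hx]; exact hb1) ?_
          obtain ⟨j, hj⟩ := mem_zpowers_iff.mp hb2
          have h4 : (b ^ 2) ^ 2 = 1 := by
            have hc2 : b * b ^ 2 * b⁻¹ = b ^ 2 := by group
            rw [← hj, ← conj_zpow, hnab b hb, inv_zpow] at hc2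
            rw [← hj]
            calc (a ^ j) ^ 2 = a ^ j * a ^ j := pow_two _
              _ = (a ^ j)⁻¹ * a ^ j := by rw [hc2]
              _ = 1 := inv_mul_cancel _
          rw [show (2 : ℕ) ^ (1 + 1) = 2 * 2 by norm_num, pow_mul, hall x hx, h4]
        have : zpowers x = M := eq_of_le_of_card_ge (zpowers_le.mpr hxM) (by
          rw [Nat.card_zpowers, hox, hMc])
        rw [← this]; infer_instance
    by_cases hb1 : b ^ 2 = 1
    · have hu : Nat.card {M : Subgroup P // IsCoatom M ∧ IsCyclic M} = 1 := by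
        rw [Nat.card_eq_one_iff_unique]
        refine ⟨⟨fun U V => Subtype.ext ?_⟩, ⟨⟨zpowers a, hA, inferInstance⟩⟩⟩
        have key : ∀ U : {M : Subgroup P // IsCoatom M ∧ IsCyclic M}, U.1 = zpowers a := fun U => by
          by_contra hne
          exact (hiff U.1 U.2.1 hne).mp U.2.2 hb1
        rw [key U, key V]
      rw [hu, Nat.cast_one]
    · rw [Nat.card_congr (Equiv.subtypeEquivRight fun M : Subgroup P =>
        (⟨fun h => h.1, fun h => ⟨h, (eq_or_ne M (zpowers a)).elim (fun e => e ▸ inferInstance)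
          fun e => (hiff M h e).mpr hb1⟩⟩ : IsCoatom M ∧ IsCyclic M ↔ IsCoatom M))]
      have := card_coatom_sq hPp hnc
      have h2 := congrArg (ZMod.castHom (show 2 ∣ 2 ^ 2 by norm_num) (ZMod 2)) this
      simp only [map_natCast, map_add, map_one] at h2
      rw [h2, ZMod.natCast_self, add_zero]
  · obtain ⟨m, rfl⟩ : ∃ m, n = m + 1 := ⟨n - 1, by omega⟩
    have hu : Nat.card {M : Subgroup P // IsCoatom M ∧ IsCyclic M} = 1 := by
      rw [Nat.card_eq_one_iff_unique]
      refine ⟨⟨fun U V => Subtype.ext ?_⟩, ⟨⟨zpowers a, hA, inferInstance⟩⟩⟩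
      have key : ∀ U : {M : Subgroup P // IsCoatom M ∧ IsCyclic M}, U.1 = zpowers a := fun U => by
        by_contra hne
        exact (ha.maxCl_other hmax U.2.1 hne).2 U.2.2
      rw [key U, key V]
    rw [hu, Nat.cast_one]

/-- Outside maximal class the maximal subgroups of maximal class are even in number. -/
theorem card_maxCl_even {n : ℕ} (hP : Nat.card P = 2 ^ (n + 4)) (hc : ¬ IsCyclic P)
    (hmax : ¬ MaxCl P) :
    (Nat.card {M : Subgroup P // IsCoatom M ∧ MaxCl M} : ZMod 2) = 0 := by
  classical
  have hPp := IsPGroup.of_card hP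
  rcases isEmpty_or_nonempty {M : Subgroup P // IsCoatom M ∧ MaxCl M} with he | ⟨⟨M, hM, hMm⟩⟩
  · rw [Nat.card_of_isEmpty, Nat.cast_zero]
  have hMc : Nat.card M = 2 ^ (n + 3) := card_of_isCoatom hP hM
  set D := commutator P with hD
  have hDle : (⁅M, M⁆ : Subgroup P) ≤ D := commutator_mono le_top le_top
  have hMD : Nat.card (⁅M, M⁆ : Subgroup P) = 2 ^ (n + 1) := (maxCl_iff_card hMc).mp hMm
  have hDi : D.index = 8 := by
    have h1 : D.index ∣ 8 := by
      have h2 := (⁅M, M⁆ : Subgroup P).card_mul_index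
      rw [hMD, hP] at h2
      have h3 : (⁅M, M⁆ : Subgroup P).index = 8 :=
        Nat.eq_of_mul_eq_mul_left (pow_pos two_pos (n + 1)) (h2.trans (by ring))
      exact h3 ▸ index_dvd_of_le hDle
    have h4 := sq_le_commutator_index hPp hc
    rw [MaxCl] at hmax
    have := Nat.le_of_dvd (by norm_num) h1
    rw [← hD] at h4 hmax
    norm_num at h4
    interval_cases h : D.index <;> omega
  have hDc : Nat.card D = 2 ^ (n + 1) := by
    have h2 := D.card_mul_index
    rw [hDi, hP, show 2 ^ (n + 4) = 2 ^ (n + 1) * 8 by ring] at h2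
    omega
  have hDM : (⁅M, M⁆ : Subgroup P) = D := eq_of_le_of_card_ge hDle (by rw [hMD, hDc])
  obtain ⟨d, hd⟩ : ∃ d, zpowers d = D := by
    obtain ⟨C, hC, hCi⟩ := TwoGroups.Classify.cyclic_max_of_commutator n M hMc hMm
    have hcomm : commutator M ≤ C := by
      haveI := normal_of_index_eq_two hCi
      haveI : IsCyclic (M ⧸ C) := isCyclic_of_prime_card (p := 2) hCi
      rw [commutator_def, commutator_le]
      intro u _ v _
      rw [← QuotientGroup.eq_one_iff, ← QuotientGroup.mk'_apply, map_commutatorElement,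
        commutatorElement_eq_one_iff_mul_comm]
      exact IsCyclic.isMulCommutative.is_comm.comm _ _
    haveI := hC
    haveI : IsCyclic (commutator M) :=
      isCyclic_of_injective (inclusion hcomm) (inclusion_injective hcomm)
    obtain ⟨g, hg⟩ := IsCyclic.exists_generator (α := commutator M)
    refine ⟨((g : M) : P), ?_⟩
    rw [← hDM, ← map_subtype_commutator]
    refine le_antisymm (zpowers_le.mpr ⟨g, g.2, rfl⟩) ?_
    rintro _ ⟨y, hy, rfl⟩
    obtain ⟨i, hi⟩ := mem_zpowers_iff.mp (hg ⟨y, hy⟩)
    exact mem_zpowers_iff.mpr ⟨i, by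
      simpa using congrArg (fun t : commutator M => ((t : M) : P)) hi⟩
  have hod : orderOf d = 2 ^ (n + 1) := by rw [← Nat.card_zpowers, hd, hDc]
  haveI : (zpowers d).Normal := hd.symm ▸ inferInstance
  haveI : (zpowers (d ^ 2)).Normal := zpowers_normal_of_le_cyclic (pow_mem (mem_zpowers d) 2)
  set π := QuotientGroup.mk' (zpowers (d ^ 2))
  have hd2 : orderOf (d ^ 2) = 2 ^ n := by
    rw [orderOf_pow_of_dvd two_ne_zero (hod ▸ dvd_pow_self 2 n.succ_ne_zero), hod, pow_succ]
    omega
  have hπd : orderOf (π d) = 2 := by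
    refine orderOf_eq_prime ?_ fun e => ?_
    · rw [← map_pow]; exact (QuotientGroup.eq_one_iff _).mpr (mem_zpowers _)
    · have h1 := Subgroup.orderOf_dvd_natCard _ ((QuotientGroup.eq_one_iff d).mp e)
      rw [Nat.card_zpowers, hd2, hod] at h1
      exact absurd ((Nat.pow_dvd_pow_iff_le_right one_lt_two).mp h1) (by omega)
  have hQc : Nat.card (P ⧸ zpowers (d ^ 2)) = 16 := by
    have h1 := card_eq_card_quotient_mul_card_subgroup (zpowers (d ^ 2))
    rw [Nat.card_zpowers, hd2, hP, show 2 ^ (n + 4) = 16 * 2 ^ n by ring] at h1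
    exact Nat.eq_of_mul_eq_mul_right (pow_pos two_pos n) h1.symm
  have hQcomm : ∀ u v : P ⧸ zpowers (d ^ 2), ⁅u, v⁆ ∈ zpowers (π d) := by
    intro u v
    obtain ⟨u, rfl⟩ := QuotientGroup.mk'_surjective _ u
    obtain ⟨v, rfl⟩ := QuotientGroup.mk'_surjective _ v
    rw [← map_commutatorElement, ← MonoidHom.map_zpowers, hd]
    exact mem_map_of_mem π (commutator_mem_commutator (mem_top u) (mem_top v))
  set Zc := (center (P ⧸ zpowers (d ^ 2))).comap π with hZc
  have habel : ∀ L : Subgroup P, IsCoatom L → (MaxCl L ↔ ¬ ∀ u ∈ L, ∀ v ∈ L, π ⁅u, v⁆ = 1) := by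
    intro L hL
    rw [maxCl_iff_card (card_of_isCoatom hP hL)]
    constructor
    · intro h1 h2
      have h3 : (⁅L, L⁆ : Subgroup P) ≤ zpowers (d ^ 2) := by
        rw [commutator_le]
        exact fun u hu v hv => (QuotientGroup.eq_one_iff _).mp (h2 u hu v hv)
      have h4 := card_dvd_of_le h3
      rw [h1, Nat.card_zpowers, hd2] at h4
      exact absurd ((Nat.pow_dvd_pow_iff_le_right one_lt_two).mp h4) (by omega)
    · intro h1
      push Not at h1
      obtain ⟨u, hu, v, hv, huv⟩ := h1
      have hle : (⁅L, L⁆ : Subgroup P) ≤ D := commutator_mono le_top le_top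
      obtain ⟨i, -, hi⟩ := (Nat.dvd_prime_pow Nat.prime_two).mp (hDc ▸ card_dvd_of_le hle)
      rw [hi]
      congr 1
      by_contra hne
      have hle' : i ≤ n + 1 :=
        (Nat.pow_dvd_pow_iff_le_right one_lt_two).mp (hi ▸ hDc ▸ card_dvd_of_le hle)
      refine huv ((QuotientGroup.eq_one_iff _).mpr ?_)
      have hm : ⁅u, v⁆ ∈ (⁅L, L⁆ : Subgroup P) := commutator_mem_commutator hu hv
      obtain ⟨j, hj⟩ := mem_zpowers_iff.mp (hd.symm ▸ hle hm : ⁅u, v⁆ ∈ zpowers d)
      have hpow : ⁅u, v⁆ ^ 2 ^ n = 1 := orderOf_dvd_iff_pow_eq_one.mp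
        ((hi ▸ Subgroup.orderOf_dvd_natCard _ hm).trans (pow_dvd_pow 2 (by omega)))
      rw [← hj, ← zpow_natCast, ← zpow_mul, ← orderOf_dvd_iff_zpow_eq_one, hod, pow_succ',
        Nat.cast_mul] at hpow
      obtain ⟨l, rfl⟩ : (2 : ℤ) ∣ j :=
        Int.dvd_of_mul_dvd_mul_right (by exact_mod_cast (pow_pos two_pos n).ne') hpow
      refine mem_zpowers_iff.mpr ⟨l, ?_⟩
      rw [← hj, zpow_mul, zpow_ofNat]
  haveI := hPp.to_quotient (zpowers (d ^ 2))
  have hπdc : π d ∈ center (P ⧸ zpowers (d ^ 2)) := by
    refine mem_center_iff.mpr fun g => ?_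
    have h1 := hQcomm g (π d)
    obtain ⟨i, hi⟩ := (mem_powers_iff_mem_zpowers (x := π d)).mpr h1
    rcases Nat.mod_two_eq_zero_or_one i with e | e
    · rw [← commutatorElement_eq_one_iff_mul_comm, ← hi]
      show (π d) ^ i = 1
      rw [← pow_mod_orderOf (π d) i, hπd, e, pow_zero]
    · exfalso
      have h2 : ⁅g, π d⁆ = π d := by
        rw [← hi]
        show (π d) ^ i = _
        rw [← pow_mod_orderOf (π d) i, hπd, e, pow_one]
      rw [commutatorElement_def, mul_inv_eq_iff_eq_mul] at h2
      have h3 : (g * π d * g⁻¹) = 1 := by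
        rw [h2]
        exact (pow_two (π d)).symm.trans (orderOf_dvd_iff_pow_eq_one.mp hπd.dvd)
      have h4 : orderOf (π d) = 1 := orderOf_eq_one_iff.mpr (by
        have := congrArg (fun t => g⁻¹ * t * g) h3
        simpa [mul_assoc] using this)
      rw [hπd] at h4
      norm_num at h4
  have hcent : ∀ x, (centralizer ({x} : Set (P ⧸ zpowers (d ^ 2)))).index ≤ 2 := by
    intro x
    let f : (P ⧸ zpowers (d ^ 2)) → zpowers (π d) := fun y => ⟨⁅y, x⁆, hQcomm y x⟩
    have hf : ∀ y y', f y = f y' → y⁻¹ * y' ∈ centralizer ({x} : Set (P ⧸ zpowers (d ^ 2))) := by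
      intro y y' h
      have h' : y * x * y⁻¹ * x⁻¹ = y' * x * y'⁻¹ * x⁻¹ := congrArg Subtype.val h
      rw [mul_left_inj] at h'
      rw [mem_centralizer_singleton_iff]
      calc y⁻¹ * y' * x = y⁻¹ * (y' * x * y'⁻¹) * y' := by group
        _ = y⁻¹ * (y * x * y⁻¹) * y' := by rw [h']
        _ = x * (y⁻¹ * y') := by group
    have hle : Nat.card ((P ⧸ zpowers (d ^ 2)) ⧸ centralizer ({x} : Set (P ⧸ zpowers (d ^ 2)))) ≤
        Nat.card (zpowers (π d)) := by
      refine Nat.card_le_card_of_injective (fun q => f q.out) fun q q' h => ?_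
      rw [← QuotientGroup.out_eq' q, ← QuotientGroup.out_eq' q']
      exact QuotientGroup.eq.mpr (hf _ _ h)
    rw [Nat.card_zpowers, hπd, ← index_eq_card] at hle
    exact hle
  obtain ⟨u, hu, v, hv, huv⟩ : ∃ u ∈ M, ∃ v ∈ M, π ⁅u, v⁆ ≠ 1 := by
    simpa [not_forall] using (habel M hM).mp hMm
  set R := centralizer ({π u} : Set (P ⧸ zpowers (d ^ 2))) ⊓ centralizer {π v} with hR
  have hRi : R.index ≤ 4 := (index_inf_le).trans (Nat.mul_le_mul (hcent _) (hcent _))
  have hRcard : 4 ≤ Nat.card R := by
    have h1 := R.card_mul_index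
    rw [hQc] at h1
    by_contra hlt
    have := Nat.mul_le_mul (show Nat.card R ≤ 3 by omega) hRi
    omega
  -- the centre has index four
  have hcle : center (P ⧸ zpowers (d ^ 2)) ≤ R := le_inf (center_le_centralizer _) (center_le_centralizer _)
  have huR : π u ∉ R := fun h => huv (by
    rw [map_commutatorElement, commutatorElement_eq_one_iff_mul_comm]
    exact (mem_centralizer_singleton_iff.mp (mem_inf.mp h).2))
  have hRi4 : R.index = 4 ∧ R ≤ center (P ⧸ zpowers (d ^ 2)) := by
    obtain ⟨e, he⟩ := exists_index_eq_pow (hPp.to_quotient (zpowers (d ^ 2))) R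
    have hne2 : R.index ≠ 2 ∧ R.index ≠ 1 := by
      refine ⟨fun h2 => ?_, fun h1 => huR ((index_eq_one.mp h1).symm ▸ mem_top _)⟩
      have hvR : π v ∉ R := fun h => huv (by
        rw [map_commutatorElement, commutatorElement_eq_one_iff_mul_comm]
        exact (mem_centralizer_singleton_iff.mp (mem_inf.mp h).1).symm)
      have h3 : π u * π v ∈ R := (mul_mem_iff_of_index_two h2).mpr (iff_of_false huR hvR)
      have h4 := mem_centralizer_singleton_iff.mp (mem_inf.mp h3).1
      refine huv ?_
      rw [map_commutatorElement, commutatorElement_eq_one_iff_mul_comm]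
      rw [mul_assoc] at h4
      exact (mul_left_cancel h4).symm
    have h4 : R.index = 4 := by
      have hpos : R.index ≠ 0 := index_ne_zero_of_finite
      rcases Nat.lt_or_ge e 3 with h | h
      · interval_cases e <;> simp_all
      · have := Nat.pow_le_pow_right two_pos h
        omega
    refine ⟨h4, fun r hr => ?_⟩
    have hR4 : Nat.card R = 2 ^ 2 := by
      have h1 := R.card_mul_index
      rw [hQc, h4] at h1; norm_num; omega
    haveI : IsMulCommutative R := IsPGroup.isMulCommutative_of_card_eq_prime_sq hR4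
    have hgen : centralizer ({r} : Set (P ⧸ zpowers (d ^ 2))) = ⊤ := by
      have hsub : R ≤ centralizer ({r} : Set (P ⧸ zpowers (d ^ 2))) := fun y hy =>
        mem_centralizer_singleton_iff.mpr (setLike_mul_comm hy hr)
      have hu' : π u ∈ centralizer ({r} : Set (P ⧸ zpowers (d ^ 2))) :=
        mem_centralizer_singleton_iff.mpr (mem_centralizer_singleton_iff.mp (mem_inf.mp hr).1).symm
      have hv' : π v ∈ centralizer ({r} : Set (P ⧸ zpowers (d ^ 2))) :=
        mem_centralizer_singleton_iff.mpr (mem_centralizer_singleton_iff.mp (mem_inf.mp hr).2).symm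
      rcases eq_or_ne (centralizer ({r} : Set (P ⧸ zpowers (d ^ 2)))) ⊤ with h | h
      · exact h
      exfalso
      -- it would be of index two and abelian
      have hi : (centralizer ({r} : Set (P ⧸ zpowers (d ^ 2)))).index = 2 := by
        have := hcent r
        have h0 : (centralizer ({r} : Set (P ⧸ zpowers (d ^ 2)))).index ≠ 0 := index_ne_zero_of_finite
        have h1 : (centralizer ({r} : Set (P ⧸ zpowers (d ^ 2)))).index ≠ 1 := fun e => h (index_eq_one.mp e)
        omega
      set T := centralizer ({r} : Set (P ⧸ zpowers (d ^ 2)))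
      have hrel : R.relIndex T = 2 := by
        have := relIndex_mul_index hsub
        rw [hi, h4] at this; omega
      have hvR : π v ∉ R := fun h => huv (by
        rw [map_commutatorElement, commutatorElement_eq_one_iff_mul_comm]
        exact (mem_centralizer_singleton_iff.mp (mem_inf.mp h).1).symm)
      have h3 : π u * π v ∈ R := by
        have := (mul_mem_iff_of_index_two (H := R.subgroupOf T) hrel
          (a := ⟨π u, hu'⟩) (b := ⟨π v, hv'⟩)).mpr (iff_of_false huR hvR)
        exact this
      have h5 := mem_centralizer_singleton_iff.mp (mem_inf.mp h3).1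
      refine huv ?_
      rw [map_commutatorElement, commutatorElement_eq_one_iff_mul_comm]
      rw [mul_assoc] at h5
      exact (mul_left_cancel h5).symm
    exact mem_center_iff.mpr fun g => mem_centralizer_singleton_iff.mp (hgen.symm ▸ mem_top g : g ∈ _)
  have hRc : R = center (P ⧸ zpowers (d ^ 2)) := le_antisymm hRi4.2 hcle
  have hZi : Zc.index = 4 := by
    rw [hZc, index_comap_of_surjective _ (QuotientGroup.mk'_surjective _), ← hRc, hRi4.1]
  haveI : Zc.Normal := Normal.comap inferInstance π
  have hsq : frattini P ≤ Zc := by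
    have hT : ¬ IsCyclic (P ⧸ Zc) := by
      intro hc'
      have hle : center (P ⧸ zpowers (d ^ 2)) ≤ center (P ⧸ zpowers (d ^ 2)) := le_rfl
      let f : P →* (P ⧸ zpowers (d ^ 2)) ⧸ center (P ⧸ zpowers (d ^ 2)) :=
        (QuotientGroup.mk' _).comp π
      have hf : Function.Surjective f :=
        (QuotientGroup.mk'_surjective _).comp (QuotientGroup.mk'_surjective _)
      have hk : Zc ≤ f.ker := fun z hz => (QuotientGroup.eq_one_iff (π z)).mpr hz
      haveI : IsCyclic ((P ⧸ zpowers (d ^ 2)) ⧸ center (P ⧸ zpowers (d ^ 2))) :=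
        isCyclic_of_surjective (QuotientGroup.lift Zc f hk) fun y => by
          obtain ⟨x, rfl⟩ := hf y
          exact ⟨(x : P ⧸ Zc), rfl⟩
      have habl : IsMulCommutative (P ⧸ zpowers (d ^ 2)) :=
        (QuotientGroup.mk' (center (P ⧸ zpowers (d ^ 2)))).isMulCommutative_of_isCyclic_of_ker_le_center
          (by rw [QuotientGroup.ker_mk'])
      refine huv ?_
      rw [map_commutatorElement, commutatorElement_eq_one_iff_mul_comm]
      exact habl.is_comm.comm _ _
    have h1 := sq_le_frattini_index (p := 2) (hPp.to_quotient Zc) hT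
    have h2 : Nat.card (P ⧸ Zc) = 4 := hZi
    have h3 : frattini (P ⧸ Zc) = ⊥ := by
      refine eq_bot_of_card_eq _ ?_
      have h4 := (frattini (P ⧸ Zc)).card_mul_index
      rw [h2] at h4
      norm_num at h1
      have hpos : 0 < Nat.card (frattini (P ⧸ Zc)) := Nat.card_pos
      nlinarith
    intro x hx
    have := frattini_le_comap_frattini_of_surjective (QuotientGroup.mk'_surjective Zc) hx
    rw [h3, MonoidHom.comap_bot, QuotientGroup.ker_mk'] at this
    exact this
  have hiff : ∀ L : Subgroup P, IsCoatom L → (MaxCl L ↔ ¬ Zc ≤ L) := by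
    intro L hL
    rw [habel L hL]
    refine not_congr ⟨fun hab => ?_, fun hle x hx y hy => ?_⟩
    · by_contra hle
      have htop : L ⊔ Zc = ⊤ := hL.2 _ (lt_of_le_of_ne le_sup_left fun e => hle (e ▸ le_sup_right))
      have hall : ∀ x y : P, π ⁅x, y⁆ = 1 := by
        intro x y
        have hx : x ∈ ((L ⊔ Zc : Subgroup P) : Set P) := by rw [htop]; exact mem_top x
        have hy : y ∈ ((L ⊔ Zc : Subgroup P) : Set P) := by rw [htop]; exact mem_top y
        rw [mul_normal] at hx hy
        obtain ⟨x1, hx1, x2, hx2, rfl⟩ := Set.mem_mul.mp hx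
        obtain ⟨y1, hy1, y2, hy2, rfl⟩ := Set.mem_mul.mp hy
        have h12 : Commute (π x1) (π y1) :=
          commutatorElement_eq_one_iff_mul_comm.mp (map_commutatorElement π x1 y1 ▸ hab x1 hx1 y1 hy1)
        have hx2' : ∀ g, Commute g (π x2) := fun g => mem_center_iff.mp (show π x2 ∈ center _ from hx2) g
        have hy2' : ∀ g, Commute g (π y2) := fun g => mem_center_iff.mp (show π y2 ∈ center _ from hy2) g
        rw [map_commutatorElement, commutatorElement_eq_one_iff_mul_comm, map_mul, map_mul]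
        exact ((h12.mul_right (hy2' _)).mul_left ((hx2' _).symm.mul_right ((hx2' _).symm)))
      exact huv (hall u v)
    · have hrel : Zc.relIndex L = 2 := by
        have := relIndex_mul_index hle
        rw [(isCoatom_iff_index hPp L).mp hL, hZi] at this; omega
      have hx' : ∀ w ∈ L, π w ∈ center (P ⧸ zpowers (d ^ 2)) → ∀ z ∈ L, Commute (π w) (π z) :=
        fun w _ hw z _ => (mem_center_iff.mp hw _).symm
      rw [map_commutatorElement, commutatorElement_eq_one_iff_mul_comm]
      by_cases h1 : x ∈ Zc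
      · exact hx' x hx h1 y hy
      by_cases h2 : y ∈ Zc
      · exact (hx' y hy h2 x hx).symm
      have h3 : x⁻¹ * y ∈ Zc := by
        have := (mul_mem_iff_of_index_two (H := Zc.subgroupOf L) hrel
          (a := ⟨x⁻¹, inv_mem hx⟩) (b := ⟨y, hy⟩)).mpr (iff_of_false (fun hm => h1 (by
            simpa using inv_mem (show x⁻¹ ∈ Zc from hm))) h2)
        exact this
      have h4 := hx' _ (mul_mem (inv_mem hx) hy) h3 x hx
      rw [map_mul, map_inv] at h4
      show π x * π y = π y * π x
      calc π x * π y = π x * (π x * ((π x)⁻¹ * π y)) := by rw [mul_inv_cancel_left]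
        _ = π x * (((π x)⁻¹ * π y) * π x) := by rw [← h4.eq]
        _ = π y * π x := by rw [← mul_assoc, mul_inv_cancel_left]
  haveI := Fintype.ofFinite (Subgroup P)
  have hN := card_coatom_sq hPp hc
  have h3 : (Nat.card {L : Subgroup P // IsCoatom L ∧ Zc ≤ L} : ZMod (2 ^ 2)) = 1 + 2 := by
    have := maximal_above_sq (p := 2) hPp (U := Zc) (fun h => by rw [h, index_top] at hZi; omega)
      (by rw [sup_eq_right.mpr hsq, hZi]; omega)
    exact_mod_cast this
  have hsplit : Nat.card {L : Subgroup P // IsCoatom L} =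
      Nat.card {L : Subgroup P // IsCoatom L ∧ Zc ≤ L} +
        Nat.card {L : Subgroup P // IsCoatom L ∧ MaxCl L} := by
    rw [Nat.card_eq_fintype_card, Nat.card_eq_fintype_card, Nat.card_eq_fintype_card,
      Fintype.card_subtype, Fintype.card_subtype, Fintype.card_subtype,
      ← Finset.card_union_of_disjoint]
    · congr 1
      ext L
      simp only [Finset.mem_filter, Finset.mem_univ, true_and, Finset.mem_union]
      constructor
      · intro h
        by_cases hl : Zc ≤ L
        · exact Or.inl ⟨h, hl⟩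
        · exact Or.inr ⟨h, (hiff L h).mpr hl⟩
      · rintro (h | h) <;> exact h.1
    · rw [Finset.disjoint_filter]
      rintro L - ⟨h1, h2⟩ ⟨-, h3⟩
      exact (hiff L h1).mp h3 h2
  rw [hsplit, Nat.cast_add, h3] at hN
  have h0 : (Nat.card {L : Subgroup P // IsCoatom L ∧ MaxCl L} : ZMod (2 ^ 2)) = 0 :=
    add_left_cancel (hN.trans (by simp))
  have := congrArg (ZMod.castHom (show 2 ∣ 2 ^ 2 by norm_num) (ZMod 2)) h0
  simpa using this

end Two

open scoped Classical in
/-- The exceptional residue. -/
noncomputable def expected (p : ℕ) (P : Type*) [Group P] (n k : ℕ) : ZMod (p ^ 2) :=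
  if p = 2 ∧ MaxCl P ∧ k + 1 < n then 1 else 1 + p

theorem natCast_mul_prime {B : ℕ} {c : ℕ} (h : (B : ZMod p) = c) :
    (p : ZMod (p ^ 2)) * B = p * c := by
  rw [ZMod.natCast_eq_natCast_iff] at h
  rw [← Nat.cast_mul, ← Nat.cast_mul, ZMod.natCast_eq_natCast_iff, pow_two]
  exact Nat.ModEq.mul_left' p h

universe u

/-- Kulakoff's theorem. -/
theorem kulakoff : ∀ (n : ℕ) (P : Type u) [Group P] [Finite P], Nat.card P = p ^ n → ¬ IsCyclic P →
    ∀ k, 1 ≤ k → k < n → (cnt P (p ^ k) : ZMod (p ^ 2)) = expected p P n k := by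
  intro n
  induction n using Nat.strong_induction_on with
  | h n ih =>
  intro P _ _ hP hc k hk1 hkn
  classical
  have hPp := IsPGroup.of_card hP
  obtain ⟨n, rfl⟩ : ∃ n', n = n' + 1 := ⟨n - 1, by omega⟩
  rcases eq_or_ne k n with rfl | hkn'
  · rw [cnt_maximal hP, card_coatom_sq hPp hc, expected, if_neg (by omega)]
  obtain ⟨m, rfl⟩ : ∃ m, n = m + 2 := ⟨n - 2, by omega⟩
  haveI := Fintype.ofFinite (Subgroup P)
  have he := enumeration hP hc (k := k) (by omega)
  set S := (Finset.univ : Finset (Subgroup P)).filter IsCoatom with hS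
  let bad : Subgroup P → Prop := fun M : Subgroup P => IsCyclic M ∨ (p = 2 ∧ MaxCl M ∧ k + 1 < m + 2)
  have hval : ∀ M ∈ S, (cnt M (p ^ k) : ZMod (p ^ 2)) = 1 + p - p * (if bad M then 1 else 0) := by
    intro M hM
    have hMc := card_of_isCoatom hP (Finset.mem_filter.mp hM).2
    by_cases hcyc : IsCyclic M
    · rw [cnt_cyclic hMc (by omega), if_pos (Or.inl hcyc)]; push_cast; ring
    · rw [ih (m + 2) (by omega) M hMc hcyc k hk1 (by omega), expected]
      by_cases hb : p = 2 ∧ MaxCl M ∧ k + 1 < m + 2
      · rw [if_pos hb, if_pos (Or.inr hb)]; ring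
      · rw [if_neg hb, if_neg (by
          rintro (h | h)
          · exact hcyc h
          · exact hb h)]
        ring
  rw [Finset.sum_congr rfl hval, Finset.sum_sub_distrib, ← Finset.mul_sum, Finset.sum_const,
    nsmul_eq_mul, ← Finset.natCast_card_filter] at he
  have hN : (S.card : ZMod (p ^ 2)) = 1 + p := by
    rw [← card_coatom_sq hPp hc, Nat.card_eq_fintype_card, Fintype.card_subtype]
  rw [hN] at he
  -- the number of exceptional maximal subgroups modulo `p`
  have hB : ((S.filter bad).card : ZMod p) =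
      ((if p = 2 ∧ MaxCl P then 1 else 0 : ℕ) : ZMod p) := by
    have hcyc : (S.filter fun M : Subgroup P => IsCyclic M).card =
        Nat.card {M : Subgroup P // IsCoatom M ∧ IsCyclic M} := by
      rw [hS, Finset.filter_filter, Nat.card_eq_fintype_card, Fintype.card_subtype]
    by_cases hp2 : p = 2
    · subst hp2
      by_cases hmax : MaxCl P
      · rw [if_pos ⟨rfl, hmax⟩, Nat.cast_one]
        by_cases hkm : k + 1 < m + 2
        · obtain ⟨m, rfl⟩ : ∃ j, m = j + 1 := ⟨m - 1, by omega⟩
          obtain ⟨a, ha⟩ := exists_cyclicMax_of_maxCl (n := m + 1) hP hmax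
          rw [Finset.filter_true_of_mem fun M hM => ?_]
          · have h2 := congrArg (ZMod.castHom (show 2 ∣ 2 ^ 2 by norm_num) (ZMod 2)) hN
            simp only [map_natCast, map_add, map_one] at h2
            rw [h2, ZMod.natCast_self, add_zero]
          · rcases eq_or_ne M (zpowers a) with rfl | hne
            · exact Or.inl inferInstance
            · exact Or.inr ⟨rfl, (ha.maxCl_other hmax (Finset.mem_filter.mp hM).2 hne).1, hkm⟩
        · rw [show S.filter bad = S.filter fun M : Subgroup P => IsCyclic M from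
            Finset.filter_congr fun M _ => ⟨fun h => h.resolve_right fun h' => hkm h'.2.2, Or.inl⟩,
            hcyc]
          exact card_cyclic_maxCl (n := m) hP hmax
      · rw [if_neg fun h => hmax h.2, Nat.cast_zero]
        have hc2 : ((S.filter fun M : Subgroup P => IsCyclic M).card : ZMod 2) = 0 := by
          rcases (S.filter fun M : Subgroup P => IsCyclic M).eq_empty_or_nonempty with h | ⟨M, hM⟩
          · rw [h, Finset.card_empty, Nat.cast_zero]
          · obtain ⟨a, -, ha⟩ := exists_cyclicMax (n := m + 1) hP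
              (Finset.mem_filter.mp (Finset.mem_filter.mp hM).1).2 (Finset.mem_filter.mp hM).2
            have h1 := congrArg (fun t : ℕ => (t : ZMod 2)) (ha.card_cyclic hc (Or.inr hmax))
            have h2 := congrArg (ZMod.castHom (show 2 ∣ 2 ^ 2 by norm_num) (ZMod 2))
              (card_coatom_sq hPp hc)
            simp only [map_natCast, map_add, map_one] at h2
            push_cast at h1
            rw [h2, ← hcyc] at h1
            exact add_right_cancel (h1.trans (by rw [ZMod.natCast_self, add_zero, zero_add]))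
        by_cases hkm : k + 1 < m + 2
        · obtain ⟨m, rfl⟩ : ∃ j, m = j + 1 := ⟨m - 1, by omega⟩
          have he2 := card_maxCl_even (n := m) hP hc hmax
          rw [Nat.card_eq_fintype_card, Fintype.card_subtype, ← Finset.filter_filter] at he2
          rw [show S.filter bad = (S.filter fun M : Subgroup P => IsCyclic M) ∪ (S.filter fun M : Subgroup P => MaxCl M) from by
              rw [← Finset.filter_or]
              exact Finset.filter_congr fun M _ =>
                ⟨fun h => h.imp id fun h' => h'.2.1, fun h => h.imp id fun h' => ⟨rfl, h', hkm⟩⟩,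
            Finset.card_union_of_disjoint (by
              rw [Finset.disjoint_filter]
              intro M hM h1 h2
              exact not_cyclic_of_maxCl (n := m + 1 + 2) (by omega)
                (card_of_isCoatom hP (Finset.mem_filter.mp hM).2) h2 h1),
            Nat.cast_add, hc2, he2, add_zero]
        · rw [show S.filter bad = S.filter fun M : Subgroup P => IsCyclic M from
            Finset.filter_congr fun M _ => ⟨fun h => h.resolve_right fun h' => hkm h'.2.2, Or.inl⟩]
          exact hc2
    · rw [if_neg fun h => hp2 h.1, Nat.cast_zero,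
        show S.filter bad = S.filter fun M : Subgroup P => IsCyclic M from
          Finset.filter_congr fun M _ => ⟨fun h => h.resolve_right fun h' => hp2 h'.1, Or.inl⟩]
      rcases (S.filter fun M : Subgroup P => IsCyclic M).eq_empty_or_nonempty with h | ⟨M, hM⟩
      · rw [h, Finset.card_empty, Nat.cast_zero]
      · obtain ⟨a, -, ha⟩ := exists_cyclicMax (n := m + 1) hP
          (Finset.mem_filter.mp (Finset.mem_filter.mp hM).1).2 (Finset.mem_filter.mp hM).2
        have h1 := congrArg (fun t : ℕ => (t : ZMod p)) (ha.card_cyclic hc (Or.inl hp2))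
        have h2 := congrArg (ZMod.castHom (dvd_pow_self p two_ne_zero) (ZMod p))
          (card_coatom_sq hPp hc)
        simp only [map_natCast, map_add, map_one, ZMod.natCast_self, add_zero] at h2
        push_cast at h1
        rw [h2, ← hcyc] at h1
        simpa using h1
  have hsq : (p : ZMod (p ^ 2)) ^ 2 = 0 := by rw [← Nat.cast_pow, ZMod.natCast_self]
  have hB' := natCast_mul_prime hB
  rw [hB'] at he
  have hfin : (cnt P (p ^ k) : ZMod (p ^ 2)) =
      1 + p - p * ((if p = 2 ∧ MaxCl P then 1 else 0 : ℕ) : ZMod (p ^ 2)) := by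
    linear_combination (-(1 : ZMod (p ^ 2)) + p) * he +
      ((cnt P (p ^ k) : ZMod (p ^ 2)) + ((if p = 2 ∧ MaxCl P then 1 else 0 : ℕ) : ZMod (p ^ 2))
        - 1 - p) * hsq
  rw [hfin, expected]
  by_cases hb : p = 2 ∧ MaxCl P
  · rw [if_pos hb, if_pos ⟨hb.1, hb.2, by omega⟩]; push_cast; ring
  · rw [if_neg hb, if_neg fun h => hb ⟨h.1, h.2.1⟩]; push_cast; ring

/-- A 2-group whose derived subgroup has index four has maximal class. -/
theorem nilpotencyClass_of_maxCl : ∀ (n : ℕ) (P : Type u) [Group P] [Finite P],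
    Nat.card P = 2 ^ (n + 3) → MaxCl P → Group.nilpotencyClass P = n + 2 := by
  intro n
  induction n using Nat.strong_induction_on with
  | h n ih =>
  intro P _ _ hP hmax
  haveI : Fact (Nat.Prime 2) := ⟨Nat.prime_two⟩
  have hPp := IsPGroup.of_card hP
  haveI := hPp.isNilpotent
  haveI : Nontrivial P := Finite.one_lt_card_iff_nontrivial.mp (by
    rw [hP]; exact Nat.one_lt_two_pow (by omega))
  haveI := hPp.center_nontrivial
  obtain ⟨a, ha⟩ := exists_cyclicMax_of_maxCl hP hmax
  obtain ⟨b, hb⟩ : ∃ b, b ∉ zpowers a := by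
    by_contra! hno
    have h1 := ha.index
    rw [(eq_top_iff' _).mpr hno, index_top] at h1
    omega
  obtain ⟨hmem, hcm⟩ := ha.commutator_eq hb
  have ho := ha.commutator_order hmax hb
  have hne : ⁅b, a⁆ ≠ 1 := fun e => by
    rw [e, orderOf_one] at ho
    exact (Nat.one_lt_two_pow n.succ_ne_zero).ne ho
  have hca : Commute ⁅b, a⁆ a := by
    obtain ⟨i, hi⟩ := mem_zpowers_iff.mp hmem
    rw [← hi]; exact (Commute.refl a).zpow_left i
  have hsub : ∀ z ∈ center P, z ∈ zpowers a ∧ z ^ 2 = 1 := by
    intro z hz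
    have hza : z ∈ zpowers a := by
      by_contra hza
      refine hne (commutatorElement_eq_one_iff_mul_comm.mpr ?_)
      have hbz : z * b ∈ zpowers a := (mul_mem_iff_of_index_two ha.index).mpr (iff_of_false hza hb)
      obtain ⟨j, hj⟩ := mem_zpowers_iff.mp hbz
      have h1 : b = z⁻¹ * a ^ j := by rw [hj, inv_mul_cancel_left]
      rw [h1]
      exact ((show Commute z⁻¹ a from (show Commute z a from
        (mem_center_iff.mp hz a).symm).inv_left).mul_left ((Commute.refl a).zpow_left j)).eq
    refine ⟨hza, ?_⟩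
    obtain ⟨i, hi⟩ := (mem_powers_iff_mem_zpowers (x := a)).mpr hza
    have hi' : a ^ i = z := hi
    have h1 : ⁅b, a ^ i⁆ = 1 :=
      commutatorElement_eq_one_iff_mul_comm.mpr (hi' ▸ mem_center_iff.mp hz b)
    rw [commutatorElement_pow_right hca, ← orderOf_dvd_iff_pow_eq_one, ho] at h1
    rw [← hi', ← pow_mul, ← orderOf_dvd_iff_pow_eq_one, ha.order, pow_succ]
    exact Nat.mul_dvd_mul_right h1 2
  have hZc : Nat.card (center P) = 2 := by
    have hle : Nat.card (center P) ≤ 2 := by
      classical
      cases nonempty_fintype P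
      haveI : IsCyclic (zpowers a) := inferInstance
      refine le_trans ?_ (IsCyclic.card_pow_eq_one_le (α := zpowers a) (n := 2) two_pos)
      rw [← Fintype.card_subtype, ← Nat.card_eq_fintype_card]
      exact Nat.card_le_card_of_injective
        (fun z => ⟨⟨z.1, (hsub z.1 z.2).1⟩, Subtype.ext (hsub z.1 z.2).2⟩)
        fun u v h => Subtype.ext (congrArg (fun t => ((t.1 : zpowers a) : P)) h)
    have := Finite.one_lt_card (α := center P)
    omega
  have hZD : center P ≤ commutator P := by
    intro z hz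
    obtain ⟨hza, hz2⟩ := hsub z hz
    obtain ⟨i, hi⟩ := (mem_powers_iff_mem_zpowers (x := a)).mpr hza
    have hi' : a ^ i = z := hi
    rw [← hi', ← pow_mul, ← orderOf_dvd_iff_pow_eq_one, ha.order, pow_succ] at hz2
    have hdvd : 2 ^ (n + 1) ∣ i := Nat.dvd_of_mul_dvd_mul_right two_pos hz2
    have hc' : ¬ IsCyclic P := not_cyclic_of_maxCl (by omega) hP hmax
    obtain ⟨hF, hFi⟩ := ha.frattini_eq hc'
    have hDF : commutator P = frattini P := by
      refine eq_of_le_of_card_ge (commutator_le_frattini hPp) (le_of_eq ?_)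
      have h1 := (frattini P).card_mul_index
      rw [← (commutator P).card_mul_index, hFi, show (commutator P).index = 4 from hmax] at h1
      omega
    rw [hDF, hF, ← hi']
    obtain ⟨j, rfl⟩ := hdvd
    rw [pow_mul]
    refine pow_mem ?_ _
    rw [pow_succ' 2 n, pow_mul]
    exact pow_mem (mem_zpowers _) _
  rw [Group.nilpotencyClass_eq_quotient_center_plus_one]
  have hQ : Nat.card (P ⧸ center P) = 2 ^ (n + 2) := by
    have h1 := card_eq_card_quotient_mul_card_subgroup (center P)
    rw [hZc, hP, pow_succ] at h1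
    omega
  rcases Nat.eq_zero_or_pos n with rfl | hn
  · have hcomm : IsMulCommutative (P ⧸ center P) :=
      IsPGroup.isMulCommutative_of_card_eq_prime_sq (p := 2) hQ
    have h1 : Group.nilpotencyClass (P ⧸ center P) ≤ 1 := by
      rw [← Subgroup.lowerCentralSeries_eq_bot_iff_nilpotencyClass_le, top_lowerCentralSeries_one,
        _root_.commutator_def, eq_bot_iff, commutator_le]
      intro x _ y _
      rw [mem_bot, commutatorElement_eq_one_iff_mul_comm]
      exact hcomm.is_comm.comm x y
    have h2 : Group.nilpotencyClass (P ⧸ center P) ≠ 0 := by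
      rw [ne_eq, Group.nilpotencyClass_zero_iff_subsingleton]
      intro hs
      rw [Nat.card_unique] at hQ
      norm_num at hQ
    omega
  · obtain ⟨m, rfl⟩ : ∃ m, n = m + 1 := ⟨n - 1, by omega⟩
    have hq : MaxCl (P ⧸ center P) := by
      rw [MaxCl, _root_.commutator_def, ← map_top_of_surjective (QuotientGroup.mk' (center P))
        (QuotientGroup.mk'_surjective _), ← map_commutator,
        index_map_eq _ (QuotientGroup.mk'_surjective _) (by rw [QuotientGroup.ker_mk']; exact hZD)]
      exact hmax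
    rw [ih m (by omega) (P ⧸ center P) hQ hq]

end CfsgLib.PGroup.Kulakoff
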