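import Mathlib
import Cfsg.Agent.Lib.Solvable.Gaschutz

/-!
Gaschütz's averaging of crossed homomorphisms without a coprimality hypothesis, and the
criterion for an abelian normal subgroup to be complemented.
-/

set_option autoImplicit false
open scoped Pointwise

namespace CfsgLib.PGroup.Gaschutz

open CfsgLib.Solvable.Gaschutz
open scoped IsMulCommutative

variable {G : Type*} [Group G] (K U : Subgroup G) [K.Normal] [Finite G] [IsMulCommutative K]

/-- A crossed homomorphism on `U` averages to one on `G`, multiplying exponents by the index. -/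
theorem exists_extension_pow (hKU : K ≤ U) (f : U → K)
    (hf : ∀ u v : U, f (u * v) = f u * conjK K u (f v))
    (hfK : ∀ u : U, (u : G) ∈ K → ((f u : K) : G) = u) :
    ∃ F : G → K, (∀ g h : G, F (g * h) = F g * conjK K g (F h)) ∧
      ∀ k : K, F (k : G) = k ^ U.index := by
  classical
  have := Fintype.ofFinite (G ⧸ U)
  have hs : ∀ (g : G) (x : G ⧸ U), (g • x).out⁻¹ * g * x.out ∈ U := by
    intro g x
    rw [mul_assoc, ← QuotientGroup.eq]
    rw [QuotientGroup.out_eq']
    conv_lhs => rw [← QuotientGroup.out_eq' x]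
    rfl
  let term : G → G ⧸ U → K := fun g x => conjK K (g • x).out (f ⟨_, hs g x⟩)
  let P : G → K := fun g => ∏ x, term g x
  have hP : ∀ g h : G, P (g * h) = P g * conjK K g (P h) := by
    intro g h
    have hterm : ∀ x, term (g * h) x = term g (h • x) * conjK K g (term h x) := by
      intro x
      have hu : (⟨_, hs (g * h) x⟩ : U) = ⟨_, hs g (h • x)⟩ * ⟨_, hs h x⟩ := by
        apply Subtype.ext
        simp only [Subgroup.coe_mul, mul_smul]
        group
      show conjK K _ (f ⟨_, hs (g * h) x⟩) = _
      rw [hu, hf, map_mul, ← conjK_mul, ← conjK_mul, mul_smul]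
      congr 3
      simp only [mul_smul]
      group
    calc P (g * h) = ∏ x, term g (h • x) * conjK K g (term h x) :=
          Finset.prod_congr rfl fun x _ => hterm x
      _ = (∏ x, term g (h • x)) * ∏ x, conjK K g (term h x) := Finset.prod_mul_distrib
      _ = P g * conjK K g (P h) := by
          rw [← map_prod]
          congr 1
          exact Fintype.prod_equiv (MulAction.toPerm h) _ _ fun _ => rfl
  have hPK : ∀ k : K, P (k : G) = k ^ U.index := by
    intro k
    have hterm : ∀ x : G ⧸ U, term (k : G) x = k := by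
      intro x
      have hx : ((k : G) • x) = x := by
        conv_lhs => rw [← QuotientGroup.out_eq' x]
        conv_rhs => rw [← QuotientGroup.out_eq' x]
        show ((((k : G) * x.out : G)) : G ⧸ U) = _
        rw [QuotientGroup.eq]
        have : ((k : G) * x.out)⁻¹ * x.out = x.out⁻¹ * (k : G)⁻¹ * x.out := by group
        rw [this]
        exact hKU (by simpa using Subgroup.Normal.conj_mem ‹K.Normal› _ (inv_mem k.2) x.out⁻¹)
      apply Subtype.ext
      have hmem : ((k : G) • x).out⁻¹ * (k : G) * x.out ∈ K := by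
        rw [hx]; simpa using Subgroup.Normal.conj_mem ‹K.Normal› _ k.2 x.out⁻¹
      show ((conjK K _ (f ⟨_, hs (k : G) x⟩) : K) : G) = k
      rw [conjK_coe, hfK ⟨_, hs (k : G) x⟩ hmem]
      simp only [hx]
      group
    show ∏ x, term (k : G) x = _
    rw [Finset.prod_congr rfl fun x _ => hterm x, Finset.prod_const, Finset.card_univ,
      ← Nat.card_eq_fintype_card, Subgroup.index_eq_card]
  exact ⟨P, hP, hPK⟩

/-- The exponents of crossed homomorphisms on `G` extending a power map of `K`. -/
def exponents : AddSubgroup ℤ where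
  carrier := {e | ∃ F : G → K, (∀ g h : G, F (g * h) = F g * conjK K g (F h)) ∧
    ∀ k : K, F (k : G) = k ^ e}
  zero_mem' := ⟨fun _ => 1, fun g h => by simp, fun k => by simp⟩
  add_mem' := by
    rintro a b ⟨F, hF, hFk⟩ ⟨F', hF', hFk'⟩
    refine ⟨fun g => F g * F' g, fun g h => ?_, fun k => ?_⟩
    · simp only; rw [hF, hF', map_mul, mul_mul_mul_comm]
    · simp only; rw [hFk, hFk', zpow_add]
  neg_mem' := by
    rintro a ⟨F, hF, hFk⟩
    refine ⟨fun g => (F g)⁻¹, fun g h => ?_, fun k => ?_⟩
    · simp only; rw [hF, mul_inv, map_inv]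
    · simp only; rw [hFk, zpow_neg]

theorem complement_of_exponent_one (h : (1 : ℤ) ∈ exponents K) :
    ∃ H : Subgroup G, H.IsComplement' K := by
  obtain ⟨F, hF, hFK'⟩ := h
  have hFK : ∀ k : K, F (k : G) = k := fun k => by rw [hFK', zpow_one]
  have hF1 : F 1 = 1 := by simpa using hFK 1
  let H : Subgroup G :=
    { carrier := {g | F g = 1}
      one_mem' := hF1
      mul_mem' := fun {a b} (ha : F a = 1) (hb : F b = 1) => by
        show F (a * b) = 1
        rw [hF, ha, hb, map_one, mul_one]
      inv_mem' := fun {a} (ha : F a = 1) => by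
        show F a⁻¹ = 1
        have h := hF a a⁻¹
        rw [mul_inv_cancel, hF1, ha, one_mul] at h
        exact (MulAut.conjNormal a).injective (h.symm.trans (map_one _).symm) }
  refine ⟨H, Subgroup.IsComplement'.symm
    (Subgroup.isComplement'_of_disjoint_and_mul_eq_univ ?_ ?_)⟩
  · rw [disjoint_iff, eq_bot_iff]
    rintro x ⟨hxK, hxH⟩
    have h1 : F x = ⟨x, hxK⟩ := hFK ⟨x, hxK⟩
    rw [Subgroup.mem_bot]
    exact congrArg Subtype.val (h1.symm.trans hxH)
  · refine Set.eq_univ_of_forall fun g => ?_
    refine ⟨F g, (F g).2, ((F g : K) : G)⁻¹ * g, ?_, mul_inv_cancel_left _ _⟩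
    show F (((F g : K) : G)⁻¹ * g) = 1
    have h := hF ((F g)⁻¹ : K) g
    rw [hFK] at h
    simp only [Subgroup.coe_inv] at h
    rw [h]
    apply Subtype.ext
    simp only [Subgroup.coe_mul, conjK_coe, Subgroup.coe_inv, Subgroup.coe_one]
    group

end CfsgLib.PGroup.Gaschutz
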