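import Cfsg.Agent.Lib.TwoGroups.CyclicMax
import Cfsg.Agent.Lib.FusionSystem.TwoGroupAut

/-!
Groups whose `p`-by-cyclic subgroups are cyclic, dihedral or `A_4`.
-/

set_option autoImplicit false
set_option linter.style.haveILetI false

namespace CfsgLib.PGroup.RestrictedPCyclic

open Subgroup
open scoped Pointwise

universe u

/-- `H` is `p`-by-cyclic: its Sylow `p`-subgroup is normal with cyclic quotient. -/
def Premises (p : ℕ) (H : Type u) [Group H] : Prop :=
  (∀ S : Sylow p H, (S : Subgroup H).Normal) ∧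
    ∀ (S : Sylow p H) [(S : Subgroup H).Normal], IsCyclic (H ⧸ (S : Subgroup H))

/-- A central cyclic normal subgroup with coprime cyclic quotient: the group is cyclic. -/
theorem cyclic_of_central {H : Type u} [Group H] [Finite H] (S : Subgroup H) [S.Normal]
    (hS : IsCyclic S) (hq : IsCyclic (H ⧸ S)) (hcop : (Nat.card S).Coprime S.index)
    (hcen : S ≤ center H) : IsCyclic H := by
  obtain ⟨s, hs⟩ := IsCyclic.exists_ofOrder_eq_natCard (α := S)
  obtain ⟨gb, hgb⟩ := IsCyclic.exists_ofOrder_eq_natCard (α := H ⧸ S)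
  obtain ⟨g, rfl⟩ := QuotientGroup.mk'_surjective S gb
  have hgb' : orderOf (QuotientGroup.mk' S g) = S.index := by rw [hgb, index_eq_card]
  set g' := g ^ Nat.card S
  have h1 : g' ^ S.index = 1 := by
    rw [← pow_mul, S.card_mul_index]; exact pow_card_eq_one'
  have h2 : orderOf g' = S.index := by
    refine Nat.dvd_antisymm (orderOf_dvd_of_pow_eq_one h1) ?_
    have h3 := orderOf_map_dvd (QuotientGroup.mk' S) g'
    rwa [map_pow, Nat.Coprime.orderOf_pow (by rw [hgb']; exact hcop.symm), hgb'] at h3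
  have hc : Commute (s : H) g' := ((mem_center_iff.1 (hcen s.2)) g').symm
  have hso : orderOf (s : H) = Nat.card S := by rw [Subgroup.orderOf_coe, hs]
  refine isCyclic_of_orderOf_eq_card ((s : H) * g') ?_
  rw [hc.orderOf_mul_eq_mul_orderOf_of_coprime (by rw [hso, h2]; exact hcop), hso, h2, S.card_mul_index]

/-- An extension of a `p`-subgroup by an element normalizing it is `p`-by-cyclic. -/
theorem premises_adjoin {G : Type u} [Group G] [Finite G] {p : ℕ} [Fact p.Prime] {A : Subgroup G}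
    (hA : IsPGroup p A) {y : G} (hy : y ∈ normalizer (A : Set G)) :
    Premises p ↥(A ⊔ zpowers y) := by
  set H := A ⊔ zpowers y with hH
  have hAH : A ≤ H := le_sup_left
  haveI hAn : (A.subgroupOf H).Normal :=
    (normal_subgroupOf_iff_le_normalizer hAH).2 (sup_le le_normalizer (zpowers_le.2 hy))
  set y' : H := ⟨y, mem_sup_right (mem_zpowers y)⟩
  set π := QuotientGroup.mk' (A.subgroupOf H)
  have hgen : ∀ q : H ⧸ A.subgroupOf H, q ∈ zpowers (π y') := by
    intro q
    obtain ⟨⟨h, hh⟩, rfl⟩ := QuotientGroup.mk'_surjective (A.subgroupOf H) q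
    have hh' : h ∈ ((zpowers y ⊔ A : Subgroup G) : Set G) := by rw [sup_comm]; exact hh
    rw [coe_mul_of_left_le_normalizer_right (zpowers y) A (zpowers_le.2 hy)] at hh'
    obtain ⟨z, hz, a, ha, e⟩ := Set.mem_mul.1 hh'
    obtain ⟨k, rfl⟩ := mem_zpowers_iff.1 hz
    refine ⟨k, ?_⟩
    show π y' ^ k = π ⟨h, hh⟩
    rw [← map_zpow]
    refine QuotientGroup.eq.2 (mem_subgroupOf.2 ?_)
    simp only [Subgroup.coe_mul, Subgroup.coe_inv, SubgroupClass.coe_zpow, y']
    rw [← e, inv_mul_cancel_left]; exact ha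
  have hcyc : IsCyclic (H ⧸ A.subgroupOf H) := ⟨⟨π y', hgen⟩⟩
  letI := IsCyclic.commGroup (α := H ⧸ A.subgroupOf H)
  refine ⟨fun S => ?_, fun S _ => ?_⟩
  · have hle : A.subgroupOf H ≤ (S : Subgroup H) :=
      (hA.of_equiv (subgroupOfEquivOfLe hAH).symm).le_sylow_of_normal S
    have e : ((S : Subgroup H).map π).comap π = (S : Subgroup H) := by
      rw [comap_map_eq, QuotientGroup.ker_mk', sup_eq_left.2 hle]
    rw [← e]
    refine Subgroup.Normal.comap ?_ π
    exact ⟨fun a ha b => by rwa [mul_comm, inv_mul_cancel_left]⟩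
  · have hle : A.subgroupOf H ≤ (S : Subgroup H) :=
      (hA.of_equiv (subgroupOfEquivOfLe hAH).symm).le_sylow_of_normal S
    refine isCyclic_of_surjective (QuotientGroup.map (A.subgroupOf H) (S : Subgroup H) (MonoidHom.id H)
      (by simpa using hle)) ?_
    intro q
    obtain ⟨h, rfl⟩ := QuotientGroup.mk'_surjective (S : Subgroup H) q
    exact ⟨π h, rfl⟩

/-- A dihedral group with an odd-order subgroup: elements not centralizing it invert it. -/
theorem dihedral_invert {H : Type u} [Group H] {m : ℕ} (e : H ≃* DihedralGroup m) {A : Set H}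
    (hA : ∀ a ∈ A, Odd (orderOf a)) {x : H} (hx : ∃ a ∈ A, x * a ≠ a * x) :
    orderOf x = 2 ∧ ∀ a ∈ A, x * a * x⁻¹ = a⁻¹ := by
  have hrot : ∀ a ∈ A, ∃ i, e a = DihedralGroup.r i := by
    intro a ha
    cases h : e a with
    | r i => exact ⟨i, rfl⟩
    | sr i =>
      exfalso
      have := hA a ha
      rw [← MulEquiv.orderOf_eq e, h, DihedralGroup.orderOf_sr] at this
      exact absurd this (by decide)
  cases h : e x with
  | r i =>
    exfalso
    obtain ⟨a, ha, hne⟩ := hx
    obtain ⟨j, hj⟩ := hrot a ha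
    refine hne (e.injective ?_)
    rw [map_mul, map_mul, h, hj, DihedralGroup.r_mul_r, DihedralGroup.r_mul_r, add_comm]
  | sr i =>
    refine ⟨by rw [← MulEquiv.orderOf_eq e, h, DihedralGroup.orderOf_sr], fun a ha => e.injective ?_⟩
    obtain ⟨j, hj⟩ := hrot a ha
    rw [map_mul, map_mul, map_inv, map_inv, h, hj, DihedralGroup.sr_mul_r, DihedralGroup.inv_sr,
      DihedralGroup.sr_mul_sr, DihedralGroup.inv_r]
    congr 1; ring

/-- At most two square roots of one in a cyclic group. -/
theorem cyclic_sq_unique {Q : Type u} [Group Q] [Finite Q] [IsCyclic Q] {a b : Q} (ha : a ^ 2 = 1)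
    (ha1 : a ≠ 1) (hb : b ^ 2 = 1) (hb1 : b ≠ 1) : a = b := by
  classical
  haveI := Fintype.ofFinite Q
  by_contra h
  have h1 := IsCyclic.card_pow_eq_one_le (α := Q) (n := 2) two_pos
  have h2 : ({1, a, b} : Finset Q) ⊆ Finset.univ.filter fun x => x ^ 2 = 1 := by
    intro x hx
    simp only [Finset.mem_insert, Finset.mem_singleton] at hx
    rw [Finset.mem_filter]
    rcases hx with rfl | rfl | rfl
    · exact ⟨Finset.mem_univ _, one_pow 2⟩
    · exact ⟨Finset.mem_univ _, ha⟩
    · exact ⟨Finset.mem_univ _, hb⟩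
  have h3 : ({1, a, b} : Finset Q).card = 3 := by
    rw [Finset.card_insert_of_notMem (by simp [Ne.symm ha1, Ne.symm hb1]), Finset.card_pair h]
  have := Finset.card_le_card h2
  omega

variable {G : Type u} [Group G] [Finite G] {p : ℕ} [Fact p.Prime]

theorem exists_sylow_conj (P : Sylow p G) {T : Subgroup G} (hT : IsPGroup p T) :
    ∃ g : G, ∀ t ∈ T, g * t * g⁻¹ ∈ (P : Subgroup G) := by
  obtain ⟨Q, hQ⟩ := hT.exists_le_sylow
  obtain ⟨g, rfl⟩ := MulAction.exists_smul_eq G Q P
  refine ⟨g, fun t ht => ?_⟩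
  show _ ∈ ((g • Q : Sylow p G) : Subgroup G)
  exact ⟨t, hQ ht, rfl⟩

theorem odd_forward (hp : p ≠ 2) (P : Sylow p G)
    (h : ∀ H : Subgroup G, Premises p ↥H →
      IsCyclic H ∨ (∃ n : ℕ, Nonempty (H ≃* DihedralGroup (p ^ n)))) :
    IsCyclic P ∧
      (normalizer ((P : Subgroup G) : Set G) = centralizer ((P : Subgroup G) : Set G) ∨
       ((centralizer ((P : Subgroup G) : Set G)).relIndex (normalizer ((P : Subgroup G) : Set G)) = 2 ∧
        ∀ Q : Subgroup G, Q ≤ P → Nat.card Q = p →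
          IsMulCommutative ↥(centralizer (Q : Set G)) ∧
          ∀ x : G, x ∈ normalizer (Q : Set G) → x ∉ centralizer (Q : Set G) →
            orderOf x = 2 ∧ ∀ c : G, c ∈ centralizer (Q : Set G) → x * c * x⁻¹ = c⁻¹)) := by
  have hodd : Odd p := (Fact.out : p.Prime).odd_of_ne_two hp
  have hord : ∀ {A : Subgroup G}, IsPGroup p A → ∀ a ∈ A, Odd (orderOf a) := by
    intro A hA a ha
    obtain ⟨k, hk⟩ := IsPGroup.iff_orderOf.1 hA ⟨a, ha⟩
    rw [Subgroup.orderOf_mk] at hk
    rw [hk]; exact hodd.pow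
  have invert : ∀ A : Subgroup G, IsPGroup p A → ∀ y ∈ normalizer (A : Set G),
      y ∉ centralizer (A : Set G) → orderOf y = 2 ∧ ∀ a ∈ A, y * a * y⁻¹ = a⁻¹ := by
    intro A hA y hy hyc
    obtain ⟨a₀, ha₀, hne⟩ : ∃ a ∈ A, y * a ≠ a * y := by
      by_contra hc
      push Not at hc
      exact hyc (mem_centralizer_iff.2 fun a ha => (hc a ha).symm)
    set H := A ⊔ zpowers y
    let y' : H := ⟨y, mem_sup_right (mem_zpowers y)⟩
    let inj : ∀ a ∈ A, H := fun a ha => ⟨a, mem_sup_left ha⟩
    rcases h H (premises_adjoin hA hy) with hc | ⟨n, ⟨e⟩⟩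
    · exfalso
      letI := IsCyclic.commGroup (α := H)
      exact hne (congrArg Subtype.val (mul_comm y' (inj a₀ ha₀)))
    · obtain ⟨h1, h2⟩ := dihedral_invert e (A := {z : H | (z : G) ∈ A}) (x := y')
        (fun z hz => by rw [← Subgroup.orderOf_coe]; exact hord hA _ hz)
        ⟨inj a₀ ha₀, ha₀, fun e' => hne (congrArg Subtype.val e')⟩
      exact ⟨by rw [← h1, ← Subgroup.orderOf_coe],
        fun a ha => congrArg Subtype.val (h2 (inj a ha) ha)⟩
  have hPc : IsCyclic P := by
    have hpre := premises_adjoin P.isPGroup' (one_mem (normalizer ((P : Subgroup G) : Set G)))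
    rcases h _ hpre with hc | ⟨n, ⟨e⟩⟩
    · haveI := hc
      exact isCyclic_of_injective (inclusion (le_sup_left : (P : Subgroup G) ≤ (P : Subgroup G) ⊔ zpowers 1))
        (inclusion_injective _)
    · exfalso
      have he : (P : Subgroup G) ⊔ zpowers 1 = P := by rw [zpowers_one_eq_bot, sup_bot_eq]
      have hc := Nat.card_congr ((MulEquiv.subgroupCongr he).symm.trans e).toEquiv
      rw [DihedralGroup.nat_card] at hc
      obtain ⟨k, hk⟩ := IsPGroup.iff_card.1 P.isPGroup'
      have h2 : 2 ∣ p ^ k := ⟨p ^ n, by rw [← hk, hc]⟩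
      exact hp ((Nat.prime_dvd_prime_iff_eq Nat.prime_two Fact.out).1 (Nat.prime_two.dvd_of_dvd_pow h2)).symm
  refine ⟨hPc, ?_⟩
  by_cases hNC : normalizer ((P : Subgroup G) : Set G) ≤ centralizer ((P : Subgroup G) : Set G)
  · exact Or.inl (le_antisymm hNC (centralizer_le_normalizer _))
  obtain ⟨x₀, hx₀, hx₀c⟩ := SetLike.not_le_iff_exists.1 hNC
  obtain ⟨hx₀o, hx₀i⟩ := invert _ P.isPGroup' x₀ hx₀ hx₀c
  refine Or.inr ⟨?_, ?_⟩
  · show ((centralizer _).subgroupOf _).index = 2
    refine index_eq_two_iff.2 ⟨⟨x₀, hx₀⟩, fun b => ?_⟩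
    simp only [mem_subgroupOf, Subgroup.coe_mul]
    by_cases hb : (b : G) ∈ centralizer ((P : Subgroup G) : Set G)
    · exact Or.inr ⟨hb, fun hm => hx₀c (by
        simpa using (centralizer ((P : Subgroup G) : Set G)).mul_mem ((centralizer ((P : Subgroup G) : Set G)).inv_mem hb) hm)⟩
    · refine Or.inl ⟨mem_centralizer_iff.2 fun a ha => ?_, hb⟩
      obtain ⟨-, hbi⟩ := invert _ P.isPGroup' b b.2 hb
      have h1 := hx₀i a ha
      have h2 := hbi a⁻¹ ((P : Subgroup G).inv_mem ha)
      rw [inv_inv, ← h1] at h2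
      have h3 : (b : G) * x₀ * a * ((b : G) * x₀)⁻¹ = a :=
        Eq.trans (by group) h2
      exact (mul_inv_eq_iff_eq_mul.1 h3).symm
  intro Q hQP hQ
  have hQp : IsPGroup p Q := P.isPGroup'.to_le hQP
  have hx₀Q : x₀ ∈ normalizer (Q : Set G) := by
    rw [mem_normalizer_iff]
    intro a
    constructor
    · intro ha; rw [hx₀i a (hQP ha)]; exact Q.inv_mem ha
    · intro ha
      have hxx : x₀⁻¹ = x₀ := inv_eq_of_mul_eq_one_right (by rw [← sq, ← hx₀o, pow_orderOf_eq_one])
      have hm := hx₀i _ (hQP ha)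
      have e : x₀ * (x₀ * a * x₀⁻¹) * x₀⁻¹ = a := by
        calc x₀ * (x₀ * a * x₀⁻¹) * x₀⁻¹ = x₀⁻¹ * (x₀ * a * x₀⁻¹) * x₀⁻¹⁻¹ := by rw [inv_inv, hxx]
          _ = a := by group
      rw [e] at hm
      rw [hm]; exact Q.inv_mem ha
  have hx₀Qc : x₀ ∉ centralizer (Q : Set G) := by
    intro hc
    have hQb : Q ≠ ⊥ := fun hb => by
      rw [hb, card_bot] at hQ
      exact (Fact.out : p.Prime).one_lt.ne hQ
    obtain ⟨⟨q, hq⟩, hq1⟩ := @exists_ne Q ((nontrivial_iff_ne_bot Q).2 hQb) (1 : Q)
    have h1 := hx₀i q (hQP hq)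
    rw [(mem_centralizer_iff.1 hc q hq).symm, mul_inv_cancel_right] at h1
    have h2 : orderOf q ∣ 2 := orderOf_dvd_of_pow_eq_one (by rw [sq]; nth_rewrite 2 [h1]; exact mul_inv_cancel q)
    have h3 := hord hQp q hq
    rcases (Nat.dvd_prime Nat.prime_two).1 h2 with h4 | h4
    · exact hq1 (Subtype.ext (orderOf_eq_one_iff.1 h4))
    · rw [h4] at h3; exact absurd h3 (by decide)
  have hinv : ∀ x ∈ normalizer (Q : Set G), x ∉ centralizer (Q : Set G) →
      ∀ c ∈ centralizer (Q : Set G), x * c * x⁻¹ = c⁻¹ := by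
    intro x hx hxc c hc
    have hxc' : x * c ∈ normalizer (Q : Set G) := mul_mem hx (centralizer_le_normalizer _ hc)
    have hxc'' : x * c ∉ centralizer (Q : Set G) := fun hm => hxc (by
      simpa using (centralizer (Q : Set G)).mul_mem hm ((centralizer (Q : Set G)).inv_mem hc))
    have h1 := pow_orderOf_eq_one x
    have h2 := pow_orderOf_eq_one (x * c)
    rw [(invert Q hQp x hx hxc).1, sq] at h1
    rw [(invert Q hQp _ hxc' hxc'').1, sq] at h2
    rw [inv_eq_of_mul_eq_one_right h1]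
    refine eq_inv_of_mul_eq_one_left ?_
    calc x * c * x * c = (x * c) * (x * c) := by group
      _ = 1 := h2
  refine ⟨⟨⟨fun a b => Subtype.ext ?_⟩⟩, fun x hx hxc => ⟨(invert Q hQp x hx hxc).1, hinv x hx hxc⟩⟩
  have ha := hinv x₀ hx₀Q hx₀Qc a a.2
  have hb := hinv x₀ hx₀Q hx₀Qc b b.2
  have hab := hinv x₀ hx₀Q hx₀Qc _ ((centralizer (Q : Set G)).mul_mem a.2 b.2)
  have h1 : (a : G)⁻¹ * (b : G)⁻¹ = ((a : G) * b)⁻¹ := by
    rw [← ha, ← hb, ← hab]; group
  show (a : G) * b = b * a
  have h2 := congrArg (·⁻¹) h1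
  simpa using h2.symm

/-- The hard direction of the odd case, for an embedded group whose Sylow subgroup lands in `P`. -/
theorem odd_backward (hp : p ≠ 2) (P : Sylow p G)
    (hPc : IsCyclic P)
    (hcond : normalizer ((P : Subgroup G) : Set G) = centralizer ((P : Subgroup G) : Set G) ∨
       (∀ Q : Subgroup G, Q ≤ P → Nat.card Q = p →
          IsMulCommutative ↥(centralizer (Q : Set G)) ∧
          ∀ x : G, x ∈ normalizer (Q : Set G) → x ∉ centralizer (Q : Set G) →
            orderOf x = 2 ∧ ∀ c : G, c ∈ centralizer (Q : Set G) → x * c * x⁻¹ = c⁻¹))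
    (H : Subgroup G) (hH : Premises p ↥H) :
    IsCyclic H ∨ (∃ n : ℕ, Nonempty (H ≃* DihedralGroup (p ^ n))) := by
  classical
  obtain ⟨T⟩ : Nonempty (Sylow p H) := inferInstance
  haveI := hH.1 T
  have hq : IsCyclic (H ⧸ (T : Subgroup H)) := hH.2 T
  obtain ⟨g, hg⟩ := exists_sylow_conj P (T.isPGroup'.map H.subtype)
  let f : H →* G := (MulAut.conj g).toMonoidHom.comp H.subtype
  have hf : Function.Injective f := (MulAut.conj g).injective.comp H.subtype_injective
  have hfT : ∀ t ∈ (T : Subgroup H), f t ∈ (P : Subgroup G) := fun t ht => hg _ ⟨t, ht, rfl⟩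
  have hTc : IsCyclic (T : Subgroup H) := by
    haveI := hPc
    refine isCyclic_of_injective
      ((f.comp (T : Subgroup H).subtype).codRestrict (P : Subgroup G) fun t => hfT _ t.2) ?_
    exact fun a b e => Subtype.ext (hf (congrArg Subtype.val e))
  have hcop : (Nat.card (T : Subgroup H)).Coprime (T : Subgroup H).index := T.card_coprime_index
  by_cases hcen : (T : Subgroup H) ≤ center H
  · exact Or.inl (cyclic_of_central _ hTc hq hcop hcen)
  rcases hcond with hNC | hcond
  · exfalso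
    haveI : (P : Subgroup G).FiniteIndex := inferInstance
    set V := MonoidHom.transferSylow P hNC.le
    apply hcen
    intro t ht
    rw [mem_center_iff]
    intro w
    set c : H := w * t * w⁻¹ * t⁻¹
    have hcT : c ∈ (T : Subgroup H) := mul_mem ((hH.1 T).conj_mem t ht w) (inv_mem ht)
    have hV : V (f c) = 1 := by
      have hcomm : ∀ a b : (P : Subgroup G), a * b = b * a := by
        letI := IsCyclic.commGroup (α := (P : Subgroup G))
        exact fun a b => mul_comm a b
      simp only [c, map_mul, map_inv]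
      rw [hcomm (V (f w)) (V (f t)), mul_inv_cancel_right, mul_inv_cancel]
    have hd := MonoidHom.ker_transferSylow_disjoint P hNC.le (zpowers (f c))
      (P.isPGroup'.to_le (zpowers_le.2 (hfT c hcT)))
    have h1 : f c = 1 := mem_bot.1 (hd.le_bot ⟨hV, mem_zpowers _⟩)
    have h2 : c = 1 := hf (h1.trans (map_one f).symm)
    rwa [mul_inv_eq_one, mul_inv_eq_iff_eq_mul] at h2
  -- the second case
  obtain ⟨t, ht⟩ := IsCyclic.exists_ofOrder_eq_natCard (α := (T : Subgroup H))
  have htgen : ∀ w ∈ (T : Subgroup H), w ∈ zpowers (t : H) := by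
    intro w hw
    have h1 : zpowers (t : H) = T :=
      eq_of_le_of_card_ge (zpowers_le.2 t.2) (by rw [Nat.card_zpowers, Subgroup.orderOf_coe, ht])
    rw [h1]; exact hw
  have hto : orderOf (t : H) = Nat.card (T : Subgroup H) := by rw [Subgroup.orderOf_coe, ht]
  obtain ⟨k, hk⟩ := IsPGroup.iff_card.1 T.isPGroup'
  have hk0 : k ≠ 0 := fun h0 => hcen (by
    rw [h0, pow_zero] at hk
    rw [Subgroup.eq_bot_of_card_eq _ hk]; exact bot_le)
  set q : H := (t : H) ^ (p ^ (k - 1))
  have hqo : orderOf q = p := by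
    have hpos : p ^ (k - 1) ≠ 0 := pow_ne_zero _ (Fact.out : p.Prime).ne_zero
    rw [orderOf_pow_of_dvd hpos (by rw [hto, hk]; exact pow_dvd_pow p (Nat.sub_le k 1)), hto, hk,
      Nat.pow_div (Nat.sub_le k 1) (Fact.out : p.Prime).pos, show k - (k - 1) = 1 by omega, pow_one]
  set Q := zpowers (f q)
  have hQP : Q ≤ P := zpowers_le.2 (hfT q (pow_mem t.2 _))
  have hQc : Nat.card Q = p := by rw [Nat.card_zpowers, orderOf_injective f hf, hqo]
  obtain ⟨hQab, hQinv⟩ := hcond Q hQP hQc
  have hnorm : ∀ w : H, f w ∈ normalizer (Q : Set G) := by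
    have key : ∀ w : H, ∀ z ∈ Q, f w * z * (f w)⁻¹ ∈ Q := by
      intro w z hz
      obtain ⟨i, rfl⟩ := mem_zpowers_iff.1 hz
      obtain ⟨j, hj⟩ := mem_zpowers_iff.1 (htgen _ ((hH.1 T).conj_mem _ t.2 w))
      have e : w * q * w⁻¹ = q ^ j := by
        have hp1 : w * q * w⁻¹ = (w * (t : H) * w⁻¹) ^ (p ^ (k - 1)) := by rw [conj_pow]
        rw [hp1, ← hj, ← zpow_natCast, ← zpow_mul, mul_comm, zpow_mul, zpow_natCast]
      rw [← conj_zpow, ← map_inv, ← map_mul, ← map_mul, e, map_zpow]
      exact zpow_mem (zpow_mem (mem_zpowers _) j) i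
    intro w
    rw [mem_normalizer_iff]
    refine fun z => ⟨key w z, fun hz => ?_⟩
    have h1 := key w⁻¹ _ hz
    rw [map_inv, inv_inv] at h1
    simpa [mul_assoc] using h1
  let A : Subgroup H := (centralizer (Q : Set G)).comap f
  have hTA : (T : Subgroup H) ≤ A := fun w hw => by
    letI := IsCyclic.commGroup (α := (P : Subgroup G))
    exact mem_centralizer_iff.2 fun z hz =>
      congrArg Subtype.val (mul_comm (⟨z, hQP hz⟩ : (P : Subgroup G)) ⟨f w, hfT w hw⟩)
  have hAc : ∀ a ∈ A, ∀ b ∈ A, a * b = b * a := fun a ha b hb => hf (by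
    rw [map_mul, map_mul]
    exact congrArg Subtype.val (hQab.is_comm.comm (⟨f a, ha⟩ : centralizer (Q : Set G)) ⟨f b, hb⟩))
  obtain ⟨y, hy⟩ : ∃ y, y ∉ A := by
    by_contra hc
    push Not at hc
    exact hcen fun w _ => mem_center_iff.2 fun v => hAc v (hc v) w (hc w)
  obtain ⟨hyo, hyi⟩ := hQinv (f y) (hnorm y) hy
  rw [orderOf_injective f hf] at hyo
  have hyA : ∀ a ∈ A, y * a * y⁻¹ = a⁻¹ := fun a ha => hf (by
    rw [map_mul, map_mul, map_inv, map_inv]; exact hyi _ ha)
  have hother : ∀ w, w ∉ A → y * w ∈ A := fun w hw => mem_centralizer_iff.2 fun z hz => by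
    have hzc : z ∈ centralizer (Q : Set G) := mem_centralizer_iff.2 fun z' hz' => by
      letI := IsCyclic.commGroup (α := (P : Subgroup G))
      exact congrArg Subtype.val (mul_comm (⟨z', hQP hz'⟩ : (P : Subgroup G)) ⟨z, hQP hz⟩)
    have h1 := (hQinv (f w) (hnorm w) hw).2 z hzc
    have h2 := hyi z⁻¹ ((centralizer (Q : Set G)).inv_mem hzc)
    rw [inv_inv, ← h1] at h2
    have h3 : f (y * w) * z * (f (y * w))⁻¹ = z := by
      rw [map_mul]
      calc f y * f w * z * (f y * f w)⁻¹ = f y * (f w * z * (f w)⁻¹) * (f y)⁻¹ := by group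
        _ = z := h2
    exact (mul_inv_eq_iff_eq_mul.1 h3).symm
  have hyT : y ∉ (T : Subgroup H) := fun h => hy (hTA h)
  have hysq : y * y = 1 := by rw [← sq, ← hyo, pow_orderOf_eq_one]
  have hAT : A ≤ T := by
    intro a ha
    by_contra haT
    set π := QuotientGroup.mk' (T : Subgroup H)
    letI := IsCyclic.commGroup (α := H ⧸ (T : Subgroup H))
    have h1 : π a * π a = 1 := by
      have h2 := congrArg π (hyA a ha)
      rw [map_mul, map_mul, map_inv, map_inv, mul_comm, inv_mul_cancel_left] at h2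
      nth_rewrite 1 [h2]
      exact inv_mul_cancel _
    have h3 := cyclic_sq_unique (a := π a) (b := π y) (by rw [sq]; exact h1)
      (fun h => haT ((QuotientGroup.eq_one_iff a).1 h))
      (by rw [sq, ← map_mul, hysq, map_one])
      (fun h => hyT ((QuotientGroup.eq_one_iff y).1 h))
    have h4 : a⁻¹ * y ∈ (T : Subgroup H) := QuotientGroup.eq.1 h3
    exact hy (by simpa using A.mul_mem ha (hTA h4))
  refine Or.inr ⟨k, TwoGroups.CyclicMax.dihedral_iso (a := (t : H)) (b := y) (hto.trans hk) ?_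
    (fun h => hy (hTA ((zpowers_le.2 t.2) h))) hysq (hyA _ (hTA t.2))⟩
  rw [← (T : Subgroup H).card_mul_index, hk, mul_comm]
  congr 1
  refine index_eq_two_iff.2 ⟨y, fun b => ?_⟩
  by_cases hb : b ∈ (T : Subgroup H)
  · exact Or.inr ⟨hb, fun hm => hyT (by simpa using mul_mem (inv_mem hb) hm)⟩
  · refine Or.inl ⟨?_, hb⟩
    have hb' : b ∉ A := fun h => hb (hAT h)
    have h1 := hother b hb'
    have h2 : b * y = y * (y * b) * y⁻¹ := by
      rw [inv_eq_of_mul_eq_one_right hysq, ← mul_assoc y y, hysq, one_mul]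
    rw [h2, hyA _ h1]
    exact hAT (A.inv_mem h1)

/-- A group of order 12 with a self-centralizing normal four-group is `A_4`. -/
theorem nonempty_equiv_a4 {H : Type u} [Group H] [Finite H] (T : Subgroup H) [T.Normal]
    (hT : Nat.card T = 4) (hH : Nat.card H = 12) (hself : centralizer (T : Set H) ≤ T) :
    Nonempty (H ≃* alternatingGroup (Fin 4)) := by
  classical
  haveI : Fact (Nat.Prime 3) := ⟨Nat.prime_three⟩
  obtain ⟨u, hu⟩ := exists_prime_orderOf_dvd_card' (G := H) 3 (by rw [hH]; norm_num)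
  set U := zpowers u
  have hUc : Nat.card U = 3 := by rw [Nat.card_zpowers, hu]
  have hidx : U.index = 4 := by
    have := U.card_mul_index; rw [hUc, hH] at this; omega
  haveI := Fintype.ofFinite (H ⧸ U)
  let e : H ⧸ U ≃ Fin 4 := (Fintype.equivFinOfCardEq (by
    rw [← Nat.card_eq_fintype_card, ← index_eq_card, hidx]))
  let φ : H →* Equiv.Perm (Fin 4) := e.permCongrHom.toMonoidHom.comp (MulAction.toPermHom H (H ⧸ U))
  have hinj : Function.Injective φ := by
    refine e.permCongrHom.injective.comp ((MonoidHom.ker_eq_bot_iff _).1 ?_)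
    rw [← normalCore_eq_ker, eq_bot_iff]
    intro x hx
    by_contra hx1
    have hxne : x ≠ 1 := fun h => hx1 (mem_bot.2 h)
    have hxU : U.normalCore = U := by
      refine eq_of_le_of_card_ge (normalCore_le U) ?_
      have hd : orderOf x ∣ 3 := hUc ▸ orderOf_dvd_natCard U (normalCore_le U hx)
      rcases (Nat.dvd_prime Nat.prime_three).1 hd with h | h
      · exact absurd (orderOf_eq_one_iff.1 h) hxne
      · rw [hUc, ← h, ← Nat.card_zpowers]
        exact card_le_of_le (zpowers_le.2 hx)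
    have hUn : U.Normal := hxU ▸ normalCore_normal U
    have hdis : U ⊓ T = ⊥ := (disjoint_of_coprime_natCard (by rw [hUc, hT]; norm_num)).eq_bot
    have huT : u ∈ T := hself (mem_centralizer_iff.2 fun v hv => by
      have h1 : v * u * v⁻¹ * u⁻¹ ∈ U ⊓ T := mem_inf.2
        ⟨U.mul_mem (hUn.conj_mem u (mem_zpowers u) v) (U.inv_mem (mem_zpowers u)), by
          rw [show v * u * v⁻¹ * u⁻¹ = v * (u * v⁻¹ * u⁻¹) by group]
          exact T.mul_mem hv (‹T.Normal›.conj_mem _ (T.inv_mem hv) u)⟩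
      rw [hdis, mem_bot, mul_inv_eq_one, mul_inv_eq_iff_eq_mul] at h1
      exact h1)
    have h2 := orderOf_dvd_natCard T huT
    rw [hu, hT] at h2
    exact absurd h2 (by norm_num)
  have hr : φ.range = alternatingGroup (Fin 4) := by
    apply Equiv.Perm.eq_alternatingGroup_of_index_eq_two
    have h1 := φ.range.card_mul_index
    rw [← Nat.card_congr (MonoidHom.ofInjective hinj).toEquiv, hH, Nat.card_perm, Nat.card_fin] at h1
    norm_num [Nat.factorial] at h1
    omega
  exact ⟨(MonoidHom.ofInjective hinj).trans (MulEquiv.subgroupCongr hr)⟩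

/-- An element whose action on a normal `2`-subgroup has odd order. -/
theorem conjNormal_coprime {H : Type u} [Group H] [Finite H] (T : Subgroup H) [T.Normal]
    (hidx : ¬ 2 ∣ T.index) (hTc : ∀ a ∈ T, ∀ b ∈ T, a * b = b * a) (w : H) :
    (orderOf (MulAut.conjNormal (H := T) w)).Coprime 2 := by
  refine ((Nat.prime_two.coprime_iff_not_dvd).2 fun h => hidx ?_).symm
  refine h.trans (orderOf_dvd_of_pow_eq_one ?_)
  rw [← map_pow]
  refine MulEquiv.ext fun v => Subtype.ext ?_
  show w ^ T.index * (v : H) * (w ^ T.index)⁻¹ = v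
  rw [hTc _ (pow_index_mem T w) _ v.2, mul_inv_cancel_right]

theorem two_forward [Fact (Nat.Prime 2)] (P : Sylow 2 G)
    (h : ∀ H : Subgroup G, Premises 2 ↥H →
      IsCyclic H ∨ (∃ n : ℕ, Nonempty (H ≃* DihedralGroup (2 ^ n))) ∨ Nonempty (H ≃* alternatingGroup (Fin 4))) :
    IsCyclic P ∨
      ((∃ n : ℕ, 1 ≤ n ∧ Nonempty ((P : Subgroup G) ≃* DihedralGroup (2 ^ n))) ∧
        ∀ K : Subgroup G, K ≤ P → Nat.card K = 4 → (∀ k ∈ K, k ^ 2 = 1) → centralizer (K : Set G) = K) := by
  classical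
  by_cases hPc : IsCyclic P
  · exact Or.inl hPc
  have he : (P : Subgroup G) ⊔ zpowers 1 = P := by rw [zpowers_one_eq_bot, sup_bot_eq]
  have hA4 : Nat.card (alternatingGroup (Fin 4)) = 12 := by
    rw [Nat.card_eq_fintype_card]; decide +kernel
  refine Or.inr ⟨?_, ?_⟩
  · rcases h _ (premises_adjoin P.isPGroup' (one_mem (normalizer ((P : Subgroup G) : Set G)))) with
      hc | ⟨n, ⟨e⟩⟩ | ⟨⟨e⟩⟩
    · exact absurd ((MulEquiv.subgroupCongr he).isCyclic.1 hc) hPc
    · refine ⟨n, ?_, ⟨(MulEquiv.subgroupCongr he).symm.trans e⟩⟩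
      by_contra hn
      apply hPc
      have hc := Nat.card_congr ((MulEquiv.subgroupCongr he).symm.trans e).toEquiv
      rw [DihedralGroup.nat_card, show n = 0 by omega, pow_zero] at hc
      exact isCyclic_of_prime_card (p := 2) hc
    · exfalso
      obtain ⟨k, hk⟩ := IsPGroup.iff_card.1 P.isPGroup'
      have hc := Nat.card_congr ((MulEquiv.subgroupCongr he).symm.trans e).toEquiv
      rw [hk, hA4] at hc
      have h3 : 3 ∣ 2 ^ k := ⟨4, by rw [hc]⟩
      exact absurd (Nat.prime_three.dvd_of_dvd_pow h3) (by norm_num)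
  intro K hKP hK hK2
  have hKcomm : ∀ a ∈ K, ∀ b ∈ K, a * b = b * a := by
    intro a ha b hb
    have h1 : ∀ z ∈ K, z⁻¹ = z := fun z hz => inv_eq_of_mul_eq_one_right (by rw [← sq]; exact hK2 z hz)
    calc a * b = (a * b)⁻¹ := (h1 _ (K.mul_mem ha hb)).symm
      _ = b * a := by rw [mul_inv_rev, h1 a ha, h1 b hb]
  refine le_antisymm ?_ fun a ha => mem_centralizer_iff.2 fun b hb => hKcomm b hb a ha
  intro c hc
  set H := K ⊔ zpowers c with hH
  have hcN : c ∈ normalizer (K : Set G) := centralizer_le_normalizer _ hc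
  have hcomm : ∀ a b : H, a * b = b * a := by
    have hgen : (K : Set G) ∪ {c} ⊆ centralizer ((K : Set G) ∪ {c}) := by
      rintro a (ha | rfl) <;> refine mem_centralizer_iff.2 ?_ <;> rintro b (hb | rfl)
      · exact hKcomm b hb a ha
      · exact (mem_centralizer_iff.1 hc a ha).symm
      · exact mem_centralizer_iff.1 hc b hb
      · rfl
    have hHc : H ≤ centralizer (H : Set G) := by
      have hle : H = closure ((K : Set G) ∪ {c}) := by
        rw [Subgroup.closure_union, closure_eq, ← zpowers_eq_closure]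
      rw [hle, centralizer_closure, closure_le]
      exact hgen
    exact fun a b => Subtype.ext (mem_centralizer_iff.1 (hHc b.2) a a.2)
  have hKH : K ≤ H := le_sup_left
  have hnc : ¬ IsCyclic H := by
    intro hH'
    haveI := hH'
    have hKc : IsCyclic K := isCyclic_of_injective (inclusion hKH) (inclusion_injective _)
    obtain ⟨z, hz⟩ := IsCyclic.exists_ofOrder_eq_natCard (α := K)
    have h2 : orderOf z ∣ 2 := orderOf_dvd_of_pow_eq_one (Subtype.ext (hK2 z z.2))
    rw [hz, hK] at h2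
    exact absurd h2 (by norm_num)
  rcases h H (premises_adjoin (IsPGroup.of_card (n := 2) (by rw [hK]; norm_num)) hcN) with
    hc' | ⟨n, ⟨e⟩⟩ | ⟨⟨e⟩⟩
  · exact absurd hc' hnc
  · have hn : n ≤ 1 := by
      by_contra hn
      have h1 := congrArg e (hcomm (e.symm (DihedralGroup.r 1)) (e.symm (DihedralGroup.sr 0)))
      simp only [map_mul, MulEquiv.apply_symm_apply, DihedralGroup.r_mul_sr, DihedralGroup.sr_mul_r,
        DihedralGroup.sr.injEq] at h1
      have h2 : ((2 : ℕ) : ZMod (2 ^ n)) = 0 := by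
        push_cast; linear_combination (-1 : ZMod (2 ^ n)) * h1
      have h3 := Nat.le_of_dvd (by norm_num) ((ZMod.natCast_eq_zero_iff 2 (2 ^ n)).1 h2)
      have := Nat.pow_le_pow_right (show 0 < 2 by norm_num) (show 2 ≤ n by omega)
      omega
    have hcard : Nat.card H ≤ Nat.card K := by
      rw [Nat.card_congr e.toEquiv, DihedralGroup.nat_card, hK]
      have := Nat.pow_le_pow_right (show 0 < 2 by norm_num) hn
      omega
    have hKeq := eq_of_le_of_card_ge hKH hcard
    rw [hKeq]; exact mem_sup_right (mem_zpowers c)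
  · exfalso
    have h1 : ∀ a b : alternatingGroup (Fin 4), a * b = b * a := fun a b => by
      have := congrArg e (hcomm (e.symm a) (e.symm b))
      simpa using this
    have h2 : ¬ ∀ a b : alternatingGroup (Fin 4), a * b = b * a := by decide +kernel
    exact h2 h1

theorem two_backward [Fact (Nat.Prime 2)] (P : Sylow 2 G)
    (hP : IsCyclic P ∨
      ((∃ n : ℕ, 1 ≤ n ∧ Nonempty ((P : Subgroup G) ≃* DihedralGroup (2 ^ n))) ∧
        ∀ K : Subgroup G, K ≤ P → Nat.card K = 4 → (∀ k ∈ K, k ^ 2 = 1) → centralizer (K : Set G) = K))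
    (H : Subgroup G) (hH : Premises 2 ↥H) :
    IsCyclic H ∨ (∃ n : ℕ, Nonempty (H ≃* DihedralGroup (2 ^ n))) ∨ Nonempty (H ≃* alternatingGroup (Fin 4)) := by
  classical
  obtain ⟨T⟩ : Nonempty (Sylow 2 H) := inferInstance
  haveI := hH.1 T
  have hq : IsCyclic (H ⧸ (T : Subgroup H)) := hH.2 T
  have hcop : (Nat.card (T : Subgroup H)).Coprime (T : Subgroup H).index := T.card_coprime_index
  obtain ⟨g, hg⟩ := exists_sylow_conj P (T.isPGroup'.map H.subtype)
  let f : H →* G := (MulAut.conj g).toMonoidHom.comp H.subtype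
  have hf : Function.Injective f := (MulAut.conj g).injective.comp H.subtype_injective
  have hfT : ∀ t ∈ (T : Subgroup H), f t ∈ (P : Subgroup G) := fun t ht => hg _ ⟨t, ht, rfl⟩
  let fT : (T : Subgroup H) →* (P : Subgroup G) :=
    (f.comp (T : Subgroup H).subtype).codRestrict (P : Subgroup G) fun t => hfT _ t.2
  have hfTi : Function.Injective fT := fun a b e => Subtype.ext (hf (congrArg Subtype.val e))
  by_cases hTc : IsCyclic (T : Subgroup H)
  · refine Or.inl (cyclic_of_central _ hTc hq hcop fun t ht => mem_center_iff.2 fun w => ?_)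
    haveI := hTc
    have hcm : ∀ a ∈ (T : Subgroup H), ∀ b ∈ (T : Subgroup H), a * b = b * a := by
      letI := IsCyclic.commGroup (α := (T : Subgroup H))
      exact fun a ha b hb => congrArg Subtype.val (mul_comm (⟨a, ha⟩ : (T : Subgroup H)) ⟨b, hb⟩)
    obtain ⟨k, hk⟩ := IsPGroup.iff_card.1 T.isPGroup'
    have h1 := conjNormal_coprime (T : Subgroup H) T.not_dvd_index hcm w
    have h2 : orderOf (MulAut.conjNormal (H := (T : Subgroup H)) w) = 1 := by
      have h3 := orderOf_dvd_natCard (MulAut.conjNormal (H := (T : Subgroup H)) w)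
      rw [IsCyclic.card_mulAut, hk] at h3
      rcases Nat.eq_zero_or_pos k with rfl | hk'
      · rwa [pow_zero, Nat.totient_one, Nat.dvd_one] at h3
      · rw [Nat.totient_prime_pow Nat.prime_two hk', show (2 - 1 : ℕ) = 1 from rfl, mul_one] at h3
        exact Nat.eq_one_of_dvd_coprimes (h1.pow_right (k - 1)) dvd_rfl h3
    have h4 : w * t * w⁻¹ = t := congrArg Subtype.val
      (DFunLike.congr_fun (orderOf_eq_one_iff.1 h2) (⟨t, ht⟩ : (T : Subgroup H)))
    exact mul_inv_eq_iff_eq_mul.1 h4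
  rcases hP with hPc | ⟨⟨n, hn, ⟨eD⟩⟩, hK⟩
  · exact absurd (isCyclic_of_injective fT hfTi) hTc
  haveI : NeZero (2 ^ n) := ⟨pow_ne_zero _ two_ne_zero⟩
  set φ : (T : Subgroup H) →* DihedralGroup (2 ^ n) := eD.toMonoidHom.comp fT with hφd
  have hφ : Function.Injective φ := eD.injective.comp hfTi
  -- the rotations in `T`
  let Rt : Subgroup (T : Subgroup H) := (zpowers (DihedralGroup.r 1 : DihedralGroup (2 ^ n))).comap φ
  have hRt : ∀ a, a ∈ Rt ↔ ∃ i, φ a = DihedralGroup.r i := by
    intro a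
    constructor
    · rintro ⟨j, hj⟩
      exact ⟨(j : ZMod (2 ^ n)), by rw [← hj]; exact DihedralGroup.r_one_zpow j⟩
    · rintro ⟨i, hi⟩
      refine ⟨(i.val : ℤ), ?_⟩
      show (DihedralGroup.r 1 : DihedralGroup (2 ^ n)) ^ (i.val : ℤ) = φ a
      rw [zpow_natCast, DihedralGroup.r_one_pow, ZMod.natCast_zmod_val, hi]
  let ψ : Rt →* zpowers (DihedralGroup.r 1 : DihedralGroup (2 ^ n)) :=
    (φ.comp Rt.subtype).codRestrict _ fun a => a.2
  haveI hRc : IsCyclic Rt :=
    isCyclic_of_injective ψ fun a b e => Subtype.ext (hφ (congrArg Subtype.val e))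
  obtain ⟨r₀, hr₀⟩ := IsCyclic.exists_ofOrder_eq_natCard (α := Rt)
  have hRgen : zpowers (r₀ : (T : Subgroup H)) = Rt :=
    eq_of_le_of_card_ge (zpowers_le.2 r₀.2) (by rw [Nat.card_zpowers, Subgroup.orderOf_coe, hr₀])
  obtain ⟨s, hs⟩ : ∃ s, s ∉ Rt := by
    by_contra hc
    push Not at hc
    refine hTc ⟨⟨(r₀ : (T : Subgroup H)), fun x => ?_⟩⟩
    show x ∈ zpowers (r₀ : (T : Subgroup H))
    rw [hRgen]; exact hc x
  have hsr : ∀ a, a ∉ Rt → ∃ i, φ a = DihedralGroup.sr i := fun a ha => by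
    cases h : φ a with
    | r i => exact absurd ((hRt a).2 ⟨i, h⟩) ha
    | sr i => exact ⟨i, rfl⟩
  have hrefl2 : ∀ a, a ∉ Rt → a * a = 1 := fun a ha => by
    obtain ⟨i, hi⟩ := hsr a ha
    refine hφ ?_
    rw [map_mul, hi, DihedralGroup.sr_mul_self, map_one]
  have hidx : Rt.index = 2 := index_eq_two_iff.2 ⟨s, fun b => by
    by_cases hb : b ∈ Rt
    · exact Or.inr ⟨hb, fun hm => hs (by simpa using Rt.mul_mem (Rt.inv_mem hb) hm)⟩
    · refine Or.inl ⟨?_, hb⟩
      obtain ⟨i, hi⟩ := hsr b hb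
      obtain ⟨j, hj⟩ := hsr s hs
      exact (hRt _).2 ⟨j - i, by rw [map_mul, hi, hj, DihedralGroup.sr_mul_sr]⟩⟩
  have hcardT : Nat.card (T : Subgroup H) = 2 * Nat.card Rt := by
    rw [← Rt.card_mul_index, hidx, mul_comm]
  obtain ⟨m, hm⟩ := IsPGroup.iff_card.1 (T.isPGroup'.to_subgroup Rt)
  have hinvert : s * (r₀ : (T : Subgroup H)) * s⁻¹ = (r₀ : (T : Subgroup H))⁻¹ := by
    obtain ⟨j, hj⟩ := hsr s hs
    obtain ⟨i, hi⟩ := (hRt _).1 r₀.2
    refine hφ ?_
    rw [map_mul, map_mul, map_inv, map_inv, hi, hj, DihedralGroup.sr_mul_r, DihedralGroup.inv_sr,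
      DihedralGroup.sr_mul_sr, DihedralGroup.inv_r]
    congr 1; ring
  have hdih : Nonempty ((T : Subgroup H) ≃* DihedralGroup (2 ^ m)) :=
    TwoGroups.CyclicMax.dihedral_iso (a := (r₀ : (T : Subgroup H))) (b := s)
      (by rw [Subgroup.orderOf_coe, hr₀, hm]) (by rw [hcardT, hm])
      (by rw [hRgen]; exact hs) (hrefl2 s hs) hinvert
  have hm1 : m ≠ 0 := by
    rintro rfl
    rw [pow_zero] at hm
    rw [hm, mul_one] at hcardT
    exact hTc (isCyclic_of_prime_card (p := 2) hcardT)
  -- a four-group through `s` whose centralizer is itself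
  set z : (T : Subgroup H) := (r₀ : (T : Subgroup H)) ^ (2 ^ (m - 1)) with hzd
  have hro : orderOf (r₀ : (T : Subgroup H)) = 2 ^ m := by rw [Subgroup.orderOf_coe, hr₀, hm]
  have hz2 : z * z = 1 := by
    rw [← sq, hzd, ← pow_mul, ← pow_succ, show m - 1 + 1 = m by omega, ← hro, pow_orderOf_eq_one]
  have hz1 : z ≠ 1 := fun h => by
    have h2 := orderOf_dvd_of_pow_eq_one h
    rw [hro] at h2
    have := (Nat.pow_dvd_pow_iff_le_right (by norm_num : 1 < 2)).1 h2
    omega
  have hzR : z ∈ Rt := pow_mem r₀.2 _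
  have hzs : s * z = z * s := by
    have h1 : s * z * s⁻¹ = z := by
      rw [hzd, ← conj_pow, hinvert, inv_pow, ← hzd]
      exact inv_eq_of_mul_eq_one_right hz2
    exact mul_inv_eq_iff_eq_mul.1 h1
  let K₀ : Subgroup (T : Subgroup H) := zpowers z ⊔ zpowers s
  have hK₀ : ∀ a, a ∈ K₀ ↔ a = 1 ∨ a = z ∨ a = s ∨ a = z * s := by
    intro a
    constructor
    · intro ha
      have hN : zpowers z ≤ normalizer (zpowers s : Set (T : Subgroup H)) := by
        refine le_trans ?_ (centralizer_le_normalizer _)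
        rw [zpowers_le, zpowers_eq_closure, centralizer_closure, mem_centralizer_singleton_iff]
        exact hzs.symm
      have ha' : a ∈ ((zpowers z ⊔ zpowers s : Subgroup (T : Subgroup H)) : Set (T : Subgroup H)) := ha
      rw [coe_mul_of_left_le_normalizer_right _ _ hN] at ha'
      obtain ⟨u, hu, v, hv, rfl⟩ := Set.mem_mul.1 ha'
      have two : ∀ w : (T : Subgroup H), w * w = 1 → ∀ u ∈ zpowers w, u = 1 ∨ u = w := by
        intro w hw u hu
        obtain ⟨j, rfl⟩ := mem_zpowers_iff.1 hu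
        rcases Int.even_or_odd' j with ⟨k, rfl | rfl⟩
        · left; rw [zpow_mul, zpow_two, hw, one_zpow]
        · right; rw [zpow_add, zpow_mul, zpow_two, hw, one_zpow, one_mul, zpow_one]
      rcases two z hz2 u hu with rfl | rfl <;> rcases two s (hrefl2 s hs) v hv with rfl | rfl
      · exact Or.inl (one_mul _)
      · exact Or.inr (Or.inr (Or.inl (one_mul _)))
      · exact Or.inr (Or.inl (mul_one _))
      · exact Or.inr (Or.inr (Or.inr rfl))
    · rintro (rfl | rfl | rfl | rfl)
      · exact one_mem _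
      · exact mem_sup_left (mem_zpowers _)
      · exact mem_sup_right (mem_zpowers _)
      · exact mul_mem (mem_sup_left (mem_zpowers _)) (mem_sup_right (mem_zpowers _))
  have hd1 : z ≠ s := fun h => hs (h ▸ hzR)
  have hd2 : z * s ≠ 1 := fun h => hd1 (by
    calc z = z * (s * s) := by rw [hrefl2 s hs, mul_one]
      _ = s := by rw [← mul_assoc, h, one_mul])
  have hK₀c : Nat.card K₀ = 4 := by
    have hs1 : s ≠ 1 := fun h => hs (h ▸ one_mem _)
    have hset : (K₀ : Set (T : Subgroup H)) = ↑({1, z, s, z * s} : Finset (T : Subgroup H)) := by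
      ext a; simp [hK₀]
    refine (Nat.card_congr (Equiv.setCongr hset)).trans ?_
    refine (Nat.card_eq_finsetCard _).trans ?_
    rw [Finset.card_insert_of_notMem (by simp [Ne.symm hz1, Ne.symm hs1, Ne.symm hd2]),
      Finset.card_insert_of_notMem (by simp [hd1, Ne.symm hs1, hs1]),
      Finset.card_insert_of_notMem (by simp [Ne.symm hz1, hz1]), Finset.card_singleton]
  have hK₀2 : ∀ a ∈ K₀, a ^ 2 = 1 := by
    intro a ha
    rw [sq]
    rcases (hK₀ a).1 ha with rfl | rfl | rfl | rfl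
    · exact one_mul 1
    · exact hz2
    · exact hrefl2 _ hs
    · calc z * s * (z * s) = z * (s * z) * s := by group
        _ = 1 := by rw [hzs, ← mul_assoc, hz2, one_mul, hrefl2 s hs]
  set K : Subgroup G := K₀.map (f.comp (T : Subgroup H).subtype)
  have hKi : Function.Injective (f.comp (T : Subgroup H).subtype) := hf.comp Subtype.val_injective
  have hKP : K ≤ P := by rintro _ ⟨a, -, rfl⟩; exact hfT _ a.2
  have hKcen := hK K hKP (by rw [card_map_of_injective hKi, hK₀c])
    (by rintro _ ⟨a, ha, rfl⟩; rw [← map_pow, hK₀2 a ha, map_one])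
  have hcentT : ∀ w : H, (∀ a ∈ K₀, w * (a : H) = (a : H) * w) → ∃ a ∈ K₀, (a : H) = w := by
    intro w hw
    have h1 : f w ∈ centralizer (K : Set G) := mem_centralizer_iff.2 (by
      rintro _ ⟨a, ha, rfl⟩
      show f (a : H) * f w = f w * f (a : H)
      rw [← map_mul, ← map_mul, hw a ha])
    rw [hKcen] at h1
    obtain ⟨a, ha, hae⟩ := h1
    exact ⟨a, ha, hf hae⟩
  rcases Nat.lt_or_ge m 2 with hm2 | hm2
  · -- `T` is the four-group
    have hm' : m = 1 := by omega
    subst hm'
    have hT4 : Nat.card (T : Subgroup H) = 4 := by rw [hcardT, hm]; norm_num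
    have hKT : K₀ = ⊤ := eq_top_of_card_eq _ (by rw [hK₀c, hT4])
    have hself : centralizer ((T : Subgroup H) : Set H) ≤ T := fun w hw => by
      obtain ⟨a, -, rfl⟩ := hcentT w fun a _ => (mem_centralizer_iff.1 hw a a.2).symm
      exact a.2
    have hTcomm : ∀ a ∈ (T : Subgroup H), ∀ b ∈ (T : Subgroup H), a * b = b * a := by
      intro a ha b hb
      have h2 : ∀ v : (T : Subgroup H), v⁻¹ = v := fun v => inv_eq_of_mul_eq_one_right (by
        rw [← sq]; exact hK₀2 v (hKT ▸ mem_top v))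
      have h3 := h2 ((⟨a, ha⟩ : (T : Subgroup H)) * ⟨b, hb⟩)
      rw [mul_inv_rev, h2, h2] at h3
      exact congrArg Subtype.val h3.symm
    -- `H / T` embeds into the permutations of the three involutions
    set θ := (MulAut.conjNormal (H := (T : Subgroup H)) : H →* MulAut (T : Subgroup H))
    have hker : θ.ker = T := by
      refine le_antisymm (fun w hw => hself (mem_centralizer_iff.2 fun v hv => ?_)) fun w hw => ?_
      · have h2 : w * v * w⁻¹ = v := congrArg Subtype.val
          (DFunLike.congr_fun (MonoidHom.mem_ker.1 hw) (⟨v, hv⟩ : (T : Subgroup H)))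
        exact (mul_inv_eq_iff_eq_mul.1 h2).symm
      · refine MonoidHom.mem_ker.2 (MulEquiv.ext fun v => Subtype.ext ?_)
        show w * (v : H) * w⁻¹ = v
        rw [hTcomm w hw v v.2, mul_inv_cancel_right]
    let X := {v : (T : Subgroup H) // v ≠ 1}
    let π : MulAut (T : Subgroup H) → Equiv.Perm X := fun α =>
      α.toEquiv.subtypeEquiv fun v => (not_congr (map_eq_one_iff α α.injective)).symm
    have hπ : Function.Injective π := fun α β h => MulEquiv.ext fun v => by
      by_cases hv : v = 1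
      · rw [hv, map_one, map_one]
      · exact congrArg Subtype.val (DFunLike.congr_fun h (⟨v, hv⟩ : X))
    have hX : Nat.card X = 3 := by
      haveI := Fintype.ofFinite (T : Subgroup H)
      rw [Nat.card_eq_fintype_card, Fintype.card_subtype_compl, Fintype.card_subtype_eq,
        ← Nat.card_eq_fintype_card, hT4]
    have hle : Nat.card (MulAut (T : Subgroup H)) ≤ 6 := by
      refine (Nat.card_le_card_of_injective π hπ).trans (le_of_eq ?_)
      rw [Nat.card_perm, hX]; rfl
    have hir : (T : Subgroup H).index = Nat.card θ.range := by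
      have h8 := index_ker θ
      rwa [hker] at h8
    have hle' : (T : Subgroup H).index ≤ 6 := by
      rw [hir]
      exact (Nat.card_le_card_of_injective _ Subtype.val_injective).trans hle
    have hodd : ¬ 2 ∣ (T : Subgroup H).index := T.not_dvd_index
    have hidxd : (T : Subgroup H).index = 1 ∨ (T : Subgroup H).index = 3 := by
      have h5 : (T : Subgroup H).index ≠ 5 := fun h5 => by
        -- a permutation group on three points has no element of order five
        have h6 : (T : Subgroup H).index ∣ Nat.card (MulAut (T : Subgroup H)) := by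
          rw [hir]; exact Subgroup.card_subgroup_dvd_card _
        haveI : Fact (Nat.Prime 5) := ⟨by norm_num⟩
        obtain ⟨α, hα⟩ := exists_prime_orderOf_dvd_card' (G := MulAut (T : Subgroup H)) 5 (h5 ▸ h6)
        let πh : MulAut (T : Subgroup H) →* Equiv.Perm X := MonoidHom.mk' π fun a b => Equiv.ext fun v => rfl
        have h7 := orderOf_dvd_natCard (πh α)
        rw [orderOf_injective πh hπ, hα, Nat.card_perm, hX] at h7
        norm_num [Nat.factorial] at h7
      have h0 : (T : Subgroup H).index ≠ 0 := index_ne_zero_of_finite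
      omega
    rcases hidxd with h1 | h1
    · refine Or.inr (Or.inl ⟨1, ?_⟩)
      obtain ⟨e⟩ := hdih
      exact ⟨((topEquiv).symm.trans (MulEquiv.subgroupCongr (index_eq_one.1 h1).symm)).trans e⟩
    · refine Or.inr (Or.inr (nonempty_equiv_a4 _ hT4 ?_ hself))
      rw [← (T : Subgroup H).card_mul_index, hT4, h1]
  · -- larger dihedral groups have no automorphisms of odd order
    refine Or.inr (Or.inl ⟨m, ?_⟩)
    obtain ⟨e⟩ := hdih
    have htop : (T : Subgroup H) = ⊤ := by
      rw [← index_eq_one]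
      by_contra h1
      obtain ⟨r, hr, hrd⟩ := Nat.exists_prime_and_dvd h1
      have hr2 : r ≠ 2 := fun h => T.not_dvd_index (h ▸ hrd)
      haveI := Fact.mk hr
      obtain ⟨w, hw⟩ := exists_prime_orderOf_dvd_card' (G := H) r
        (hrd.trans (index_dvd_card _))
      have hcard2 : Nat.card (T : Subgroup H) = 2 ^ (m + 1) := by rw [hcardT, hm, pow_succ, mul_comm]
      have hα : MulAut.conjNormal (H := (T : Subgroup H)) w = 1 := by
        refine CfsgLib.Fsys.eq_one_of_cyclic_max T.isPGroup'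
          (r := (r₀ : (T : Subgroup H))) (m := m - 1) ?_ ?_ ?_ ?_
        · rw [hro, show m - 1 + 1 = m by omega]
        · rw [hcard2, show m - 1 + 2 = m + 1 by omega]
        · intro x hx
          rw [hRgen]
          by_contra hxR
          have h2 := orderOf_dvd_of_pow_eq_one (show x ^ 2 = 1 by rw [sq]; exact hrefl2 x hxR)
          rw [hx, show m - 1 + 1 = m by omega] at h2
          have := (Nat.pow_dvd_pow_iff_le_right (by norm_num : 1 < 2)).1 (h2.trans (by norm_num : 2 ∣ 2 ^ 1))
          omega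
        · refine (((Nat.coprime_primes hr Nat.prime_two).2 hr2)).coprime_dvd_left ?_
          rw [← hw]
          exact orderOf_map_dvd _ w
      obtain ⟨a, ha, haw⟩ := hcentT w fun a _ => mul_inv_eq_iff_eq_mul.1
        (congrArg Subtype.val (DFunLike.congr_fun hα a))
      have h2 : orderOf w ∣ 2 := orderOf_dvd_of_pow_eq_one (by
        rw [← haw, ← Subgroup.coe_pow, hK₀2 a ha]; rfl)
      rw [hw] at h2
      exact hr2 ((Nat.prime_dvd_prime_iff_eq hr Nat.prime_two).1 h2)
    exact ⟨((topEquiv).symm.trans (MulEquiv.subgroupCongr htop.symm)).trans e⟩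

end CfsgLib.PGroup.RestrictedPCyclic
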