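import Mathlib
import Cfsg.Prelude.Def_PLocal
import Cfsg.Agent.Lib.PGroup.Frattini

/-!
Regular p-groups: equality of p-th powers, the sets of bounded exponent, and subgroups of powers.
-/

set_option autoImplicit false

namespace CfsgLib.PGroup.Regular

open Subgroup
open scoped commutatorElement

variable {G : Type*} [Group G] {p : ℕ}

/-- The generators of `⟨a, b⟩` commutate into any normalised subgroup containing their commutator. -/
theorem commutator_pair_le {a b : G} {N : Subgroup G}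
    (hn : closure ({a, b} : Set G) ≤ normalizer (N : Set G)) (h : ⁅a, b⁆ ∈ N) :
    ⁅closure ({a, b} : Set G), closure ({a, b} : Set G)⁆ ≤ N := by
  have hS : ∀ x ∈ ({a, b} : Set G), ∀ y ∈ ({a, b} : Set G), ⁅x, y⁆ ∈ N := by
    rintro x (rfl | rfl) y (rfl | rfl)
    · simp [commutatorElement_def]
    · exact h
    · rw [← commutatorElement_inv]; exact inv_mem h
    · simp [commutatorElement_def]
  have key : ∀ g : G, (∀ y ∈ ({a, b} : Set G), ⁅g, y⁆ ∈ N) →
      ∀ k ∈ closure ({a, b} : Set G), ⁅g, k⁆ ∈ N := by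
    intro g hg k hk
    induction hk using closure_induction with
    | mem y hy => exact hg y hy
    | one => simp [commutatorElement_def]
    | mul k l hk hl ihk ihl =>
      rw [show ⁅g, k * l⁆ = ⁅g, k⁆ * (k * ⁅g, l⁆ * k⁻¹) by simp [commutatorElement_def, mul_assoc]]
      exact mul_mem ihk ((mem_normalizer_iff.mp (hn hk) _).mp ihl)
    | inv k hk ihk =>
      rw [show ⁅g, k⁻¹⁆ = k⁻¹ * ⁅g, k⁆⁻¹ * (k⁻¹)⁻¹ by simp [commutatorElement_def, mul_assoc]]
      exact (mem_normalizer_iff.mp (inv_mem (hn hk)) _).mp (inv_mem ihk)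
  rw [commutator_le]
  intro g hg k hk
  refine key g (fun y hy => ?_) k hk
  rw [← commutatorElement_inv]
  exact inv_mem (key y (hS y hy) g hg)

/-- Regularity for the exponent `p^n` only. -/
def RegN (p n : ℕ) (G : Type*) [Group G] : Prop :=
  ∀ a b : G, ∃ c ∈ Cfsg.powerClosure p n ⁅closure ({a, b} : Set G), closure ({a, b} : Set G)⁆,
    (a * b) ^ (p ^ n) = a ^ (p ^ n) * b ^ (p ^ n) * c

/-- Images of power subgroups. -/
theorem map_powerClosure {H : Type*} [Group H] (f : G →* H) (n : ℕ) (K : Subgroup G) :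
    (Cfsg.powerClosure p n K).map f = Cfsg.powerClosure p n (K.map f) := by
  rw [Cfsg.powerClosure, Cfsg.powerClosure, MonoidHom.map_closure]
  congr 1
  ext y
  constructor
  · rintro ⟨_, ⟨x, hx, rfl⟩, rfl⟩
    exact ⟨f x, mem_map_of_mem f hx, map_pow f x _⟩
  · rintro ⟨_, ⟨x, hx, rfl⟩, rfl⟩
    exact ⟨x ^ p ^ n, ⟨x, hx, rfl⟩, map_pow f x _⟩

theorem RegN.subgroup {n : ℕ} (hR : RegN p n G) (H : Subgroup G) : RegN p n H := by
  intro a b
  obtain ⟨c, hc, hce⟩ := hR (a : G) b
  have h : (Cfsg.powerClosure p n ⁅closure ({a, b} : Set H), closure ({a, b} : Set H)⁆).map H.subtype =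
      Cfsg.powerClosure p n ⁅closure ({(a : G), (b : G)} : Set G), closure ({(a : G), (b : G)} : Set G)⁆ := by
    rw [map_powerClosure, Subgroup.map_commutator, MonoidHom.map_closure, Set.image_pair]
    rfl
  rw [← h] at hc
  obtain ⟨c', hc', rfl⟩ := hc
  exact ⟨c', hc', Subtype.ext hce⟩

theorem RegN.quotient {n : ℕ} (hR : RegN p n G) (N : Subgroup G) [N.Normal] : RegN p n (G ⧸ N) := by
  intro a b
  obtain ⟨a, rfl⟩ := QuotientGroup.mk'_surjective N a
  obtain ⟨b, rfl⟩ := QuotientGroup.mk'_surjective N b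
  obtain ⟨c, hc, hce⟩ := hR a b
  refine ⟨QuotientGroup.mk' N c, ?_, by rw [← map_mul, ← map_pow, hce]; simp⟩
  have := mem_map_of_mem (QuotientGroup.mk' N) hc
  rwa [map_powerClosure, Subgroup.map_commutator, MonoidHom.map_closure, Set.image_pair] at this

variable [Finite G] [Fact p.Prime]

theorem card_lt_of_lt {H K : Subgroup G} (h : H < K) : Nat.card H < Nat.card K :=
  lt_of_le_of_ne (card_le_of_le h.le) fun he => h.ne (eq_of_le_of_card_ge h.le he.ge)

/-- In a p-group generated by `a`, `b`, the subgroup `⟨a, b⁻¹ab⟩` is proper unless `a`, `b` commute. -/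
theorem closure_conj_lt (hG : IsPGroup p G) {a b : G} (hab : a * b ≠ b * a) :
    closure ({a, b⁻¹ * a * b} : Set G) < closure ({a, b} : Set G) := by
  have ha : a ∈ closure ({a, b} : Set G) := subset_closure (by simp)
  have hb : b ∈ closure ({a, b} : Set G) := subset_closure (by simp)
  refine lt_of_le_of_ne ((closure_le _).mpr ?_) fun he => hab ?_
  · rintro x (rfl | rfl)
    · exact ha
    · exact mul_mem (mul_mem (inv_mem hb) ha) hb
  · set K := closure ({a, b} : Set G) with hK
    have hP : IsPGroup p K := hG.to_subgroup K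
    have hT : zpowers (⟨a, ha⟩ : K) ⊔ frattini K = ⊤ := by
      rw [eq_top_iff]
      intro k _
      have hk : (k : G) ∈ (zpowers (⟨a, ha⟩ : K) ⊔ frattini K).map K.subtype := by
        have hle : closure ({a, b⁻¹ * a * b} : Set G) ≤
            (zpowers (⟨a, ha⟩ : K) ⊔ frattini K).map K.subtype := by
          rw [closure_le]
          rintro x (rfl | rfl)
          · exact ⟨_, mem_sup_left (mem_zpowers _), rfl⟩
          · exact ⟨⟨a, ha⟩ * ⁅(⟨a, ha⟩ : K)⁻¹, (⟨b, hb⟩ : K)⁻¹⁆,
              mul_mem (mem_sup_left (mem_zpowers _))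
                (mem_sup_right (Frattini.commutatorElement_mem_frattini hP _ _)),
              by simp [commutatorElement_def, mul_assoc]⟩
        exact hle (he.symm ▸ k.2)
      obtain ⟨k', hk', he'⟩ := hk
      exact Subtype.ext he' ▸ hk'
    have htop := frattini_nongenerating hT
    obtain ⟨i, hi⟩ := mem_zpowers_iff.mp (htop.symm ▸ mem_top (⟨b, hb⟩ : K))
    have : a ^ i = b := congrArg Subtype.val hi
    rw [← this]
    exact (Commute.self_zpow a i).eq

/-- The derived subgroup of a non-trivial p-subgroup is proper. -/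
theorem commutator_self_lt (hG : IsPGroup p G) {K : Subgroup G} (hK : K ≠ ⊥) : ⁅K, K⁆ < K := by
  haveI : Group.IsNilpotent K := (hG.to_subgroup K).isNilpotent
  haveI : Nontrivial K := (nontrivial_iff_ne_bot K).mpr hK
  have h := IsSolvable.commutator_lt_top_of_nontrivial (G := K)
  refine lt_of_le_of_ne (commutator_le_self K) fun he => h.ne ?_
  apply map_injective K.subtype_injective
  rw [map_subtype_commutator, ← MonoidHom.range_eq_map, range_subtype]
  exact he

/-- One inductive step: the derived subgroup of `⟨a, b⟩` has exponent dividing `q`. -/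
theorem exponent_derived (hG : IsPGroup p G) {q : ℕ} {a b : G} (hab : a * b ≠ b * a)
    (hcl : ∀ x y : G, Nat.card (closure ({x, y} : Set G)) < Nat.card (closure ({a, b} : Set G)) →
      (x ^ q = y ^ q ↔ (x * y⁻¹) ^ q = 1))
    (hc : (a⁻¹ * b⁻¹ * a * b) ^ q = 1) :
    ∀ x ∈ ⁅closure ({a, b} : Set G), closure ({a, b} : Set G)⁆, x ^ q = 1 := by
  set K := closure ({a, b} : Set G)
  have ha : a ∈ K := subset_closure (by simp)
  have hb : b ∈ K := subset_closure (by simp)
  have hne : K ≠ ⊥ := fun he => hab (by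
    rw [(mem_bot.mp (he ▸ ha) : a = 1), (mem_bot.mp (he ▸ hb) : b = 1)])
  have hlt := commutator_self_lt hG hne
  let W : Subgroup G :=
    { carrier := {x | x ∈ ⁅K, K⁆ ∧ x ^ q = 1}
      one_mem' := ⟨one_mem _, one_pow _⟩
      mul_mem' := fun {x y} hx hy => ⟨mul_mem hx.1 hy.1, by
        have h1 : Nat.card (closure ({x, y⁻¹} : Set G)) < Nat.card K := by
          refine lt_of_le_of_lt (card_le_of_le ((closure_le _).mpr ?_)) (card_lt_of_lt hlt)
          rintro z (rfl | rfl)
          · exact hx.1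
          · exact inv_mem hy.1
        have := (hcl x y⁻¹ h1).mp (by rw [hx.2, inv_pow, hy.2, inv_one])
        rwa [inv_inv] at this⟩
      inv_mem' := fun {x} hx => ⟨inv_mem hx.1, by rw [inv_pow, hx.2, inv_one]⟩ }
  have hmem : a⁻¹ * b⁻¹ * a * b ∈ ⁅K, K⁆ := by
    have := commutator_mem_commutator (inv_mem ha) (inv_mem hb)
    simpa [commutatorElement_def] using this
  have hle : ⁅K, K⁆ ≤ W := by
    have hn : K ≤ normalizer (W : Set G) := by
      intro k hk
      have hconj : ∀ k ∈ K, ∀ x ∈ W, k * x * k⁻¹ ∈ W := fun k hk x hx =>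
        ⟨(mem_normalizer_iff.mp (normalizer_commutator_ge_left K K hk) x).mp hx.1,
          by rw [conj_pow, hx.2, mul_one, mul_inv_cancel]⟩
      rw [mem_normalizer_iff]
      refine fun x => ⟨hconj k hk x, fun hx => ?_⟩
      have := hconj k⁻¹ (inv_mem hk) _ hx
      rwa [show k⁻¹ * (k * x * k⁻¹) * k⁻¹⁻¹ = x by group] at this
    refine commutator_pair_le hn ?_
    have h2 : b * a * (a⁻¹ * b⁻¹ * a * b) * (b * a)⁻¹ ∈ W :=
      (mem_normalizer_iff.mp (hn (mul_mem hb ha)) _).mp ⟨hmem, hc⟩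
    rwa [show b * a * (a⁻¹ * b⁻¹ * a * b) * (b * a)⁻¹ = ⁅a, b⁆ by
      rw [commutatorElement_def]; group] at h2
  exact fun x hx => (hle hx).2

/-- In a regular p-group `a^q = b^q` iff `(a b⁻¹)^q = 1`. -/
theorem pow_eq_iff' (hP : IsPGroup p G) {n : ℕ} (hR : RegN p n G) (a b : G) :
    a ^ p ^ n = b ^ p ^ n ↔ (a * b⁻¹) ^ p ^ n = 1 := by
  suffices ∀ m, ∀ a b : G, Nat.card (closure ({a, b} : Set G)) = m →
      (a ^ p ^ n = b ^ p ^ n ↔ (a * b⁻¹) ^ p ^ n = 1) from this _ a b rfl
  intro m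
  induction m using Nat.strong_induction_on with
  | h m ih =>
  intro a b hm
  set q := p ^ n with hq
  by_cases hab : a * b = b * a
  · rw [(show Commute a b from hab).inv_right.mul_pow, inv_pow, mul_inv_eq_one]
  have hcl : ∀ x y : G, Nat.card (closure ({x, y} : Set G)) < m →
      (x ^ q = y ^ q ↔ (x * y⁻¹) ^ q = 1) := fun x y h => ih _ h x y rfl
  have ha : a ∈ closure ({a, b} : Set G) := subset_closure (by simp)
  have hb : b ∈ closure ({a, b} : Set G) := subset_closure (by simp)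
  have hpc : ∀ c ∈ Cfsg.powerClosure p n ⁅closure ({a, b} : Set G), closure ({a, b} : Set G)⁆,
      (∀ x ∈ ⁅closure ({a, b} : Set G), closure ({a, b} : Set G)⁆, x ^ q = 1) → c = 1 := by
    intro c hc hexp
    rw [← mem_bot]
    refine (closure_le _).mpr ?_ hc
    rintro _ ⟨x, hx, rfl⟩
    exact hexp x hx
  constructor
  · intro he
    have h1 : (b⁻¹ * a * b) ^ q = a ^ q := by
      have := conj_pow (a := b⁻¹) (b := a) (i := q)
      rw [inv_inv] at this
      rw [this, he, mul_assoc, (Commute.pow_self b q).eq, inv_mul_cancel_left]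
    have hlt := hm ▸ card_lt_of_lt (closure_conj_lt hP hab)
    have h2 := (hcl a (b⁻¹ * a * b) hlt).mp h1.symm
    have h3 : (a⁻¹ * b⁻¹ * a * b) ^ q = 1 := by
      have : (a * (b⁻¹ * a * b)⁻¹) = a * (a⁻¹ * b⁻¹ * a * b)⁻¹ * a⁻¹ := by group
      rw [this, conj_pow, inv_pow, mul_inv_eq_one, mul_eq_left, inv_eq_one] at h2
      exact h2
    have hexp := exponent_derived hP hab (hm ▸ hcl) h3
    obtain ⟨c, hc, hce⟩ := hR a b⁻¹
    have hK : closure ({a, b⁻¹} : Set G) ≤ closure ({a, b} : Set G) := by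
      rw [closure_le]
      rintro z (rfl | rfl)
      · exact ha
      · exact inv_mem hb
    have hsub : {y : G | ∃ x ∈ ⁅closure ({a, b⁻¹} : Set G), closure ({a, b⁻¹} : Set G)⁆, y = x ^ p ^ n} ⊆
        {y : G | ∃ x ∈ ⁅closure ({a, b} : Set G), closure ({a, b} : Set G)⁆, y = x ^ p ^ n} :=
      fun y ⟨x, hx, hy⟩ => ⟨x, commutator_mono hK hK hx, hy⟩
    have hc' : c ∈ Cfsg.powerClosure p n ⁅closure ({a, b} : Set G), closure ({a, b} : Set G)⁆ :=
      Subgroup.closure_mono hsub hc
    rw [hce, hpc c hc' hexp, mul_one, he, inv_pow, mul_inv_cancel]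
  · intro he
    set x := a * b⁻¹ with hx
    have hax : a = x * b := by rw [hx, inv_mul_cancel_right]
    have hxb : x * b ≠ b * x := fun h => hab (by
      rw [hax, ← mul_assoc b, ← h])
    have hK : closure ({x, b} : Set G) = closure ({a, b} : Set G) := by
      refine le_antisymm ((closure_le _).mpr ?_) ((closure_le _).mpr ?_)
      · rintro z (rfl | rfl)
        · exact mul_mem ha (inv_mem hb)
        · exact hb
      · rintro z (rfl | rfl)
        · rw [hax]; exact mul_mem (subset_closure (by simp)) (subset_closure (by simp))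
        · exact subset_closure (by simp)
    have hm' : Nat.card (closure ({x, b} : Set G)) = m := by rw [hK, hm]
    have h1 : (b⁻¹ * x * b) ^ q = x ^ q := by
      have := conj_pow (a := b⁻¹) (b := x) (i := q)
      rw [inv_inv] at this
      rw [this, he, mul_one, inv_mul_cancel]
    have h2 := (hcl x (b⁻¹ * x * b) (hm' ▸ card_lt_of_lt (closure_conj_lt hP hxb))).mp h1.symm
    have h3 : (x⁻¹ * b⁻¹ * x * b) ^ q = 1 := by
      have : (x * (b⁻¹ * x * b)⁻¹) = x * (x⁻¹ * b⁻¹ * x * b)⁻¹ * x⁻¹ := by group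
      rw [this, conj_pow, inv_pow, mul_inv_eq_one, mul_eq_left, inv_eq_one] at h2
      exact h2
    have hexp := exponent_derived hP hxb (hm' ▸ hcl) h3
    rw [hK] at hexp
    obtain ⟨c, hc, hce⟩ := hR x b
    rw [hK] at hc
    rw [hax, hce, hpc c hc hexp, mul_one, he, one_mul]

/-- In a regular p-group `a^q = b^q` iff `(a b⁻¹)^q = 1`. -/
theorem pow_eq_iff (hG : Cfsg.IsRegularPGroup p G) (a b : G) (n : ℕ) :
    a ^ p ^ n = b ^ p ^ n ↔ (a * b⁻¹) ^ p ^ n = 1 :=
  pow_eq_iff' hG.1 (fun a b => hG.2 a b n) a b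

/-- The elements of exponent dividing `p^n` form a subgroup. -/
def omega (hG : Cfsg.IsRegularPGroup p G) (n : ℕ) : Subgroup G where
  carrier := {x | x ^ p ^ n = 1}
  one_mem' := one_pow _
  mul_mem' := fun {a b} ha hb => by
    have := (pow_eq_iff hG a b⁻¹ n).mp (by rw [ha, inv_pow, hb, inv_one])
    rwa [inv_inv] at this
  inv_mem' := fun {a} ha => by
    show a⁻¹ ^ p ^ n = 1
    rw [inv_pow, ha, inv_one]

theorem mem_omega (hG : Cfsg.IsRegularPGroup p G) {n : ℕ} {x : G} :
    x ∈ omega hG n ↔ x ^ p ^ n = 1 := Iff.rfl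

/-- `a^q` commutes with `b` iff the commutator has exponent dividing `q`. -/
theorem commute_pow_iff' (hP : IsPGroup p G) {n : ℕ} (hR : RegN p n G) (a b : G) :
    a ^ p ^ n * b = b * a ^ p ^ n ↔ (a⁻¹ * b⁻¹ * a * b) ^ p ^ n = 1 := by
  have h := pow_eq_iff' hP hR (b⁻¹ * a * b) a
  have hc : (b⁻¹ * a * b) ^ p ^ n = b⁻¹ * a ^ p ^ n * b := by
    have := conj_pow (a := b⁻¹) (b := a) (i := p ^ n)
    rwa [inv_inv] at this
  rw [hc, mul_assoc, inv_mul_eq_iff_eq_mul] at h
  rw [h, show b⁻¹ * a * b * a⁻¹ = a * (a⁻¹ * b⁻¹ * a * b) * a⁻¹ by group, conj_pow,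
    mul_inv_eq_one, mul_eq_left]

theorem commute_pow_iff (hG : Cfsg.IsRegularPGroup p G) (a b : G) (n : ℕ) :
    a ^ p ^ n * b = b * a ^ p ^ n ↔ (a⁻¹ * b⁻¹ * a * b) ^ p ^ n = 1 :=
  commute_pow_iff' hG.1 (fun a b => hG.2 a b n) a b

/-- In a regular p-group the p^n-th powers of a subgroup form a subgroup. -/
theorem powerClosure_eq' (hP : IsPGroup p G) {n : ℕ} (hR : RegN p n G) (H : Subgroup G) :
    {y : G | ∃ x ∈ H, y = x ^ p ^ n} = (Cfsg.powerClosure p n H : Set G) := by
  suffices ∀ m, ∀ H : Subgroup G, Nat.card H = m →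
      ∀ u ∈ H, ∀ v ∈ H, ∃ w ∈ H, u ^ p ^ n * v ^ p ^ n = w ^ p ^ n by
    refine Set.Subset.antisymm (fun y hy => subset_closure hy) fun y hy => ?_
    induction hy using closure_induction'' with
    | one => exact ⟨1, one_mem _, (one_pow _).symm⟩
    | mem x hx => exact hx
    | inv_mem x hx =>
      obtain ⟨u, hu, rfl⟩ := hx
      exact ⟨u⁻¹, inv_mem hu, (inv_pow _ _).symm⟩
    | mul x y _ _ hx hy =>
      obtain ⟨u, hu, rfl⟩ := hx
      obtain ⟨v, hv, rfl⟩ := hy
      exact this _ H rfl u hu v hv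
  intro m
  induction m using Nat.strong_induction_on with
  | h m ih =>
  intro H hm u hu v hv
  by_cases huv : u * v = v * u
  · exact ⟨u * v, mul_mem hu hv, ((show Commute u v from huv).mul_pow _).symm⟩
  set K := closure ({u, v} : Set G) with hKdef
  have hu' : u ∈ K := subset_closure (by simp)
  have hv' : v ∈ K := subset_closure (by simp)
  have hKH : K ≤ H := by
    rw [hKdef, closure_le]
    rintro z (rfl | rfl) <;> assumption
  have hne : K ≠ ⊥ := fun he => huv (by
    rw [(mem_bot.mp (he ▸ hu') : u = 1), (mem_bot.mp (he ▸ hv') : v = 1)])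
  have hlt : ⁅K, K⁆ < K := commutator_self_lt hP hne
  obtain ⟨c, hc, hce⟩ := hR u v
  have hex : ∀ c ∈ Cfsg.powerClosure p n ⁅K, K⁆, ∃ d ∈ ⁅K, K⁆, c = d ^ p ^ n := by
    intro c hc
    induction hc using closure_induction'' with
    | one => exact ⟨1, one_mem _, (one_pow _).symm⟩
    | mem x hx => exact hx
    | inv_mem x hx =>
      obtain ⟨d, hd, rfl⟩ := hx
      exact ⟨d⁻¹, inv_mem hd, (inv_pow _ _).symm⟩
    | mul x y _ _ hx hy =>
      obtain ⟨d, hd, rfl⟩ := hx
      obtain ⟨e, he, rfl⟩ := hy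
      exact ih _ (hm ▸ lt_of_lt_of_le (card_lt_of_lt hlt) (card_le_of_le hKH)) _ rfl d hd e he
  obtain ⟨d, hd, rfl⟩ := hex c hc
  -- `u^q v^q = (uv)^q (d⁻¹)^q` inside a proper subgroup
  have hproper : zpowers (u * v) ⊔ ⁅K, K⁆ < K := by
    refine lt_of_le_of_ne (sup_le (zpowers_le.mpr (mul_mem hu' hv')) hlt.le) fun he => huv ?_
    have hP : IsPGroup p K := hP.to_subgroup K
    have hT : zpowers (⟨u * v, mul_mem hu' hv'⟩ : K) ⊔ frattini K = ⊤ := by
      apply map_injective K.subtype_injective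
      rw [← MonoidHom.range_eq_map, range_subtype]
      refine le_antisymm (map_subtype_le _) (he.symm.le.trans (sup_le ?_ ?_))
      · rw [zpowers_le]
        exact ⟨_, mem_sup_left (mem_zpowers _), rfl⟩
      · rw [← map_subtype_commutator]
        refine map_mono (le_trans ?_ le_sup_right)
        rw [_root_.commutator_def, commutator_le]
        exact fun g _ h _ => Frattini.commutatorElement_mem_frattini hP g h
    have htop := frattini_nongenerating hT
    obtain ⟨i, hi⟩ := mem_zpowers_iff.mp (htop.symm ▸ mem_top (⟨u, hu'⟩ : K))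
    have : (u * v) ^ i = u := congrArg Subtype.val hi
    have h' : Commute u (u * v) := by
      conv_lhs => rw [← this]
      exact Commute.zpow_self _ _
    have := h'.eq
    rw [mul_assoc] at this
    exact mul_left_cancel (this : u * (u * v) = u * (v * u))
  obtain ⟨w, hw, hwe⟩ := ih _ (hm ▸ lt_of_lt_of_le (card_lt_of_lt hproper) (card_le_of_le hKH))
    _ rfl (u * v) (mem_sup_left (mem_zpowers _)) d⁻¹ (mem_sup_right (inv_mem hd))
  refine ⟨w, hKH (hproper.le hw), ?_⟩
  rw [← hwe, hce, inv_pow, mul_inv_cancel_right]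

theorem powerClosure_eq (hG : Cfsg.IsRegularPGroup p G) (n : ℕ) (H : Subgroup G) :
    {y : G | ∃ x ∈ H, y = x ^ p ^ n} = (Cfsg.powerClosure p n H : Set G) :=
  powerClosure_eq' hG.1 (fun a b => hG.2 a b n) H

theorem mem_powerClosure (hP : IsPGroup p G) {n : ℕ} (hR : RegN p n G) {H : Subgroup G} {y : G} :
    y ∈ Cfsg.powerClosure p n H ↔ ∃ x ∈ H, y = x ^ p ^ n := by
  rw [← SetLike.mem_coe, ← powerClosure_eq' hP hR H]
  rfl

/-- The derived subgroup of a power subgroup consists of powers from the derived subgroup. -/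
theorem commutator_powerClosure_le (hP : IsPGroup p G) {n : ℕ} (hR : RegN p n G) (H : Subgroup G) :
    ⁅Cfsg.powerClosure p n H, Cfsg.powerClosure p n H⁆ ≤ Cfsg.powerClosure p n ⁅H, H⁆ := by
  let S : Subgroup H := Cfsg.powerClosure p n (_root_.commutator H)
  haveI : S.Normal := ⟨fun x hx g => by
    have h : (Cfsg.powerClosure p n (_root_.commutator H)).map (MulAut.conj g).toMonoidHom = S := by
      rw [map_powerClosure, _root_.commutator_def, Subgroup.map_commutator,
        Subgroup.map_top_of_surjective _ (MulAut.conj g).surjective]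
      rfl
    rw [← h]
    exact ⟨x, hx, rfl⟩⟩
  have hS : S.map H.subtype = Cfsg.powerClosure p n ⁅H, H⁆ := by
    rw [map_powerClosure, map_subtype_commutator]
  rw [Subgroup.commutator_le]
  intro x hx y hy
  obtain ⟨u, hu, rfl⟩ := (mem_powerClosure hP hR).mp hx
  obtain ⟨v, hv, rfl⟩ := (mem_powerClosure hP hR).mp hy
  rw [← hS]
  refine ⟨⁅(⟨u, hu⟩ : H) ^ p ^ n, (⟨v, hv⟩ : H) ^ p ^ n⁆, ?_, by simp [commutatorElement_def]⟩
  rw [SetLike.mem_coe, ← QuotientGroup.eq_one_iff, ← QuotientGroup.mk'_apply, map_commutatorElement,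
    commutatorElement_eq_one_iff_commute, map_pow, map_pow]
  refine Commute.pow_right ?_ _
  refine (commute_pow_iff' ((hP.to_subgroup H).to_quotient S) ((hR.subgroup H).quotient S) _ _).mpr ?_
  rw [← map_inv, ← map_inv, ← map_mul, ← map_mul, ← map_mul, ← map_pow, QuotientGroup.mk'_apply,
    QuotientGroup.eq_one_iff]
  refine subset_closure ⟨_, ?_, rfl⟩
  have := commutator_mem_commutator (mem_top (⟨u, hu⟩ : H)⁻¹) (mem_top (⟨v, hv⟩ : H)⁻¹)
  rw [_root_.commutator_def]
  simpa [commutatorElement_def] using this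

/-- Regularity at `p` and at `p^n` gives regularity at `p^(n+1)`. -/
theorem RegN.succ (hP : IsPGroup p G) (h1 : RegN p 1 G) {n : ℕ} (hn : RegN p n G) :
    RegN p (n + 1) G := by
  intro a b
  set K := closure ({a, b} : Set G)
  have ha : a ∈ K := subset_closure (by simp)
  have hb : b ∈ K := subset_closure (by simp)
  have hKK : ⁅K, K⁆ ≤ K := commutator_le_self K
  set S := Cfsg.powerClosure p (n + 1) ⁅K, K⁆
  obtain ⟨c₀, hc₀, he⟩ := h1 a b
  obtain ⟨c, hc, rfl⟩ := (mem_powerClosure hP h1).mp hc₀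
  have hpow : ∀ x : G, (x ^ p ^ 1) ^ p ^ n = x ^ p ^ (n + 1) := fun x => by
    rw [← pow_mul, ← pow_add, add_comm]
  have hL : ∀ {x : G}, x ∈ K → x ^ p ^ 1 ∈ Cfsg.powerClosure p 1 K := fun {x} hx =>
    subset_closure ⟨x, hx, rfl⟩
  -- error terms land in the target
  have herr : ∀ x ∈ Cfsg.powerClosure p 1 K, ∀ y ∈ Cfsg.powerClosure p 1 K,
      ∃ e ∈ S, (x * y) ^ p ^ n = x ^ p ^ n * y ^ p ^ n * e := by
    intro x hx y hy
    obtain ⟨e, he', hee⟩ := hn x y
    refine ⟨e, ?_, hee⟩
    obtain ⟨d, hd, rfl⟩ := (mem_powerClosure hP hn).mp he'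
    have hd' : d ∈ Cfsg.powerClosure p 1 ⁅K, K⁆ := by
      refine commutator_powerClosure_le hP h1 K ?_
      refine commutator_mono ?_ ?_ hd <;>
      · rw [closure_le]
        rintro z (rfl | rfl) <;> assumption
    obtain ⟨d', hd'', rfl⟩ := (mem_powerClosure hP h1).mp hd'
    exact subset_closure ⟨d', hd'', hpow d'⟩
  obtain ⟨e1, he1, hee1⟩ := herr _ (hL ha) _ (mul_mem (hL hb) (hL (hKK hc)))
  obtain ⟨e2, he2, hee2⟩ := herr _ (hL hb) _ (hL (hKK hc))
  refine ⟨c ^ p ^ (n + 1) * e2 * e1, mul_mem (mul_mem (subset_closure ⟨c, hc, rfl⟩) he2) he1, ?_⟩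
  rw [← hpow, he, mul_assoc, hee1, hee2, hpow, hpow, hpow]
  simp only [mul_assoc]

/-- The exponent `p` suffices in the definition of regularity. -/
theorem regular_of_one (hP : IsPGroup p G) (h1 : RegN p 1 G) : Cfsg.IsRegularPGroup p G := by
  have : ∀ n, RegN p n G := fun n => by
    induction n with
    | zero => exact fun a b => ⟨1, one_mem _, by simp⟩
    | succ n ih => exact h1.succ hP ih
  exact ⟨hP, fun a b n => this n a b⟩

end CfsgLib.PGroup.Regular
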