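import Mathlib
import Cfsg.Agent.Lib.PGroup.Frattini

/-! The action of automorphisms on the Frattini quotient of a p-group. -/

set_option autoImplicit false
set_option linter.style.haveILetI false

namespace CfsgLib.PGroup.FrattiniAct

variable {X : Type*} [Group X]

/-- The induced automorphism of the Frattini quotient. -/
def quot : MulAut X →* MulAut (X ⧸ frattini X) where
  toFun α := QuotientGroup.congr (frattini X) (frattini X) α
    (Subgroup.characteristic_iff_map_eq.mp frattini_characteristic α)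
  map_one' := MulEquiv.ext fun v => by
    obtain ⟨x, rfl⟩ := QuotientGroup.mk'_surjective (frattini X) v
    rfl
  map_mul' α β := MulEquiv.ext fun v => by
    obtain ⟨x, rfl⟩ := QuotientGroup.mk'_surjective (frattini X) v
    rfl

@[simp] theorem quot_mk (α : MulAut X) (x : X) :
    quot α (x : X ⧸ frattini X) = ((α x : X) : X ⧸ frattini X) := rfl

variable [Finite X] {p : ℕ} [hp : Fact p.Prime]

/-- A coprime automorphism acting trivially on the Frattini quotient is trivial. -/
theorem eq_one_of_quot (hX : IsPGroup p X) {α : MulAut X} (hcop : (orderOf α).Coprime p)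
    (h : quot α = 1) : α = 1 := by
  classical
  suffices key : ∀ (q : ℕ) (β : MulAut X), q.Prime → q ≠ p → β ^ q = 1 → quot β = 1 → β = 1 by
    by_contra hne
    obtain ⟨q, hq, hd⟩ := Nat.exists_prime_and_dvd (fun h1 => hne (orderOf_eq_one_iff.mp h1))
    have hqp : q ≠ p := fun e => by
      subst e
      exact (hp.out.coprime_iff_not_dvd.mp hcop.symm) hd
    have h1 : (α ^ (orderOf α / q)) ^ q = 1 := by rw [← pow_mul, Nat.div_mul_cancel hd, pow_orderOf_eq_one]
    have h2 := key q _ hq hqp h1 (by rw [map_pow, h, one_pow])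
    have hpos : 0 < orderOf α := orderOf_pos α
    have := Nat.le_of_dvd (Nat.div_pos (Nat.le_of_dvd hpos hd) hq.pos) (orderOf_dvd_of_pow_eq_one h2)
    exact absurd this (not_le.mpr (Nat.div_lt_self hpos hq.one_lt))
  intro q φ hq hqp hφ h
  haveI : Fact q.Prime := ⟨hq⟩
  haveI := Fintype.ofFinite X
  let t : X → X ⧸ frattini X := fun i => (i : X ⧸ frattini X)
  let T := {s : X → X // ∀ i, (s i : X ⧸ frattini X) = t i}
  haveI : Fintype T := Fintype.ofFinite T
  let f : Function.End T := fun s => ⟨fun i => φ (s.1 i), fun i => by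
    rw [← s.2 i, ← quot_mk, h]; rfl⟩
  have hf : ∀ (m : ℕ) (s : T) (i : X), ((f ^ m) s).1 i = (φ ^ m) (s.1 i) := by
    intro m s i
    induction m with
    | zero => rfl
    | succ m ih =>
      rw [pow_succ', pow_succ']
      show φ (((f ^ m) s).1 i) = φ ((φ ^ m) (s.1 i))
      rw [ih]
  have hfq : f ^ q ^ 1 = 1 := funext fun s => Subtype.ext (funext fun i => by
    rw [pow_one, hf, hφ]; rfl)
  have hmod := Equiv.Perm.card_fixedPoints_modEq hfq
  obtain ⟨k, hk⟩ := IsPGroup.iff_card.mp (hX.to_subgroup (frattini X))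
  have hndvd : ¬ q ∣ Fintype.card T := by
    rw [← Nat.card_eq_fintype_card, CfsgLib.PGroup.Frattini.card_fiber_tuples, hk, ← pow_mul]
    exact fun hd => hqp ((Nat.prime_dvd_prime_iff_eq hq hp.out).mp (hq.dvd_of_dvd_pow hd))
  obtain ⟨⟨s, hs⟩⟩ : Nonempty f.fixedPoints := by
    rw [← Fintype.card_pos_iff]
    refine Nat.pos_of_ne_zero fun h0 => hndvd ?_
    rw [Nat.modEq_zero_iff_dvd.symm]
    exact h0 ▸ hmod
  have hle : Subgroup.closure (Set.range s.1) ≤ φ.toMonoidHom.eqLocus (MonoidHom.id X) := by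
    rw [Subgroup.closure_le]
    rintro _ ⟨i, rfl⟩
    exact congrArg (fun u : T => u.1 i) hs
  have hsgen : Subgroup.closure (Set.range s.1) = ⊤ := by
    rw [CfsgLib.PGroup.Frattini.closure_range_eq_top_iff]
    simp_rw [s.2]
    refine top_le_iff.mp fun v _ => ?_
    obtain ⟨x, rfl⟩ := QuotientGroup.mk'_surjective (frattini X) v
    exact Subgroup.subset_closure ⟨x, rfl⟩
  exact MulEquiv.ext fun x => hle (hsgen.ge (Subgroup.mem_top x))

end CfsgLib.PGroup.FrattiniAct
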