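import Mathlib
import Cfsg.Prelude.Def_Transfer
import Cfsg.Agent.Lib.PGroup.Frattini

/-!
Non-abelian groups of order `p³` are extraspecial; direct product recognition; transvection algebra.
-/

set_option autoImplicit false
set_option linter.style.haveILetI false

open scoped commutatorElement

namespace CfsgLib.PGroup.OrderPCubeExtra

variable {p : ℕ} [hp : Fact p.Prime]

theorem isExtraspecial_of_card {E : Type*} [Group E] (hc : Nat.card E = p ^ 3)
    (hna : ∃ x y : E, x * y ≠ y * x) : Cfsg.IsExtraspecial p E := by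
  haveI : Finite E := Nat.finite_of_card_ne_zero (hc ▸ pow_ne_zero _ hp.out.ne_zero)
  have hE : IsPGroup p E := IsPGroup.of_card hc
  haveI : Nontrivial E := by obtain ⟨x, y, h⟩ := hna; exact ⟨x * y, y * x, h⟩
  haveI := hE.center_nontrivial
  obtain ⟨x, y, hxy⟩ := hna
  set C := Subgroup.center E
  have hncyc : ¬ IsCyclic (E ⧸ C) := fun h => by
    haveI := h
    letI : CommGroup E := commGroupOfCyclicCenterQuotient (QuotientGroup.mk' C) (by simp [C])
    exact hxy (mul_comm x y)
  obtain ⟨k, hk, hkc⟩ := (Nat.dvd_prime_pow hp.out).mp (hc ▸ Subgroup.card_subgroup_dvd_card C)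
  have hCc : Nat.card C = p := by
    have h1 : 1 < Nat.card C := Finite.one_lt_card
    have hq : Nat.card (E ⧸ C) * p ^ k = p ^ 3 := by
      rw [← hkc, ← Subgroup.card_eq_card_quotient_mul_card_subgroup, hc]
    interval_cases k
    · rw [hkc, pow_zero] at h1; omega
    · simpa using hkc
    · exact absurd (isCyclic_of_prime_card (p := p) (Nat.eq_of_mul_eq_mul_right (pow_pos hp.out.pos 2)
        (by rw [hq]; ring))) hncyc
    · exfalso
      refine hncyc ?_
      haveI : Subsingleton (E ⧸ C) := (Nat.card_eq_one_iff_unique.mp (Nat.eq_of_mul_eq_mul_right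
        (pow_pos hp.out.pos 3) (by rw [hq, one_mul]))).1
      infer_instance
  have hQc : Nat.card (E ⧸ C) = p ^ 2 := Nat.eq_of_mul_eq_mul_right hp.out.pos (by
    have := Subgroup.card_eq_card_quotient_mul_card_subgroup C
    rw [hc, hCc] at this
    rw [← this]; ring)
  have hcle : commutator E ≤ C :=
    Subgroup.Normal.quotient_commutative_iff_commutator_le.mp
      (IsPGroup.isMulCommutative_of_card_eq_prime_sq (p := p) hQc)
  have hcne : commutator E ≠ ⊥ := fun h => hxy (by
    have h1 : ⁅x, y⁆ ∈ commutator E := Subgroup.commutator_mem_commutator (Subgroup.mem_top x) (Subgroup.mem_top y)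
    rwa [h, Subgroup.mem_bot, commutatorElement_eq_one_iff_mul_comm] at h1)
  have hceq : commutator E = C := by
    refine Subgroup.eq_of_le_of_card_ge hcle ?_
    rw [hCc]
    obtain ⟨j, hj⟩ := IsPGroup.iff_card.mp (hE.to_subgroup (commutator E))
    rw [hj]
    exact Nat.le_self_pow (fun h0 => hcne ((Subgroup.card_le_one_iff_eq_bot _).mp (by rw [hj, h0]; simp))) p
  have hcf : commutator E ≤ frattini E := by
    rw [commutator_def, Subgroup.commutator_le]
    exact fun a _ b _ => CfsgLib.PGroup.Frattini.commutatorElement_mem_frattini hE a b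
  refine ⟨⟨hE, ?_, hceq⟩, hCc⟩
  have hCf : C ≤ frattini E := hceq.symm.le.trans hcf
  refine (Subgroup.eq_of_le_of_card_ge hCf ?_).symm
  rw [hCc]
  obtain ⟨j, hj, hjc⟩ := (Nat.dvd_prime_pow hp.out).mp (hc ▸ Subgroup.card_subgroup_dvd_card (frattini E))
  by_contra hlt
  have hj2 : 2 ≤ j := by
    by_contra h2
    exact hlt (hjc ▸ (Nat.pow_le_pow_right hp.out.pos (by omega : j ≤ 1)).trans (pow_one p).le)
  have hq : Nat.card (E ⧸ frattini E) ∣ p := by
    have h := Subgroup.card_eq_card_quotient_mul_card_subgroup (frattini E)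
    rw [hc, hjc, show p ^ 3 = p * p ^ 2 by ring] at h
    exact Nat.dvd_of_mul_dvd_mul_right (pow_pos hp.out.pos 2)
      (dvd_trans (Nat.mul_dvd_mul_left _ (pow_dvd_pow p hj2)) h.symm.dvd)
  haveI : IsCyclic (E ⧸ frattini E) := by
    rcases (Nat.dvd_prime hp.out).mp hq with h | h
    · haveI : Subsingleton (E ⧸ frattini E) := (Nat.card_eq_one_iff_unique.mp h).1
      infer_instance
    · exact isCyclic_of_prime_card h
  obtain ⟨g', hg'⟩ := IsCyclic.exists_generator (α := E ⧸ frattini E)
  obtain ⟨g, rfl⟩ := QuotientGroup.mk'_surjective (frattini E) g'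
  have htop : Subgroup.zpowers g = ⊤ := frattini_nongenerating (eq_top_iff.mpr fun a _ => by
    obtain ⟨i, hi⟩ := Subgroup.mem_zpowers_iff.mp (hg' (a : E ⧸ frattini E))
    rw [← map_zpow, QuotientGroup.mk'_apply, QuotientGroup.eq] at hi
    rw [← mul_inv_cancel_left (g ^ i) a]
    exact mul_mem (Subgroup.mem_sup_left (Subgroup.zpow_mem _ (Subgroup.mem_zpowers g) i))
      (Subgroup.mem_sup_right hi))
  obtain ⟨i, rfl⟩ := Subgroup.mem_zpowers_iff.mp (htop.ge (Subgroup.mem_top x))
  obtain ⟨l, rfl⟩ := Subgroup.mem_zpowers_iff.mp (htop.ge (Subgroup.mem_top y))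
  exact hxy (Commute.zpow_zpow_self g i l).eq

/-- An internal direct product. -/
theorem prod_iso {G : Type*} [Group G] (E W : Subgroup G) (hc : ∀ e ∈ E, ∀ w ∈ W, e * w = w * e)
    (hd : E ⊓ W = ⊥) (ht : E ⊔ W = ⊤) : Nonempty (G ≃* E × W) := by
  have hcc : ∀ (e : E) (w : W), Commute (E.subtype e) (W.subtype w) := fun e w => hc e e.2 w w.2
  refine ⟨(MulEquiv.ofBijective (MonoidHom.noncommCoprod E.subtype W.subtype hcc) ⟨?_, ?_⟩).symm⟩
  · refine (MonoidHom.noncommCoprod_injective _ _ hcc).2
      ⟨E.subtype_injective, W.subtype_injective, ?_⟩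
    rw [Subgroup.range_subtype, Subgroup.range_subtype, disjoint_iff, hd]
  · rw [← MonoidHom.range_eq_top, MonoidHom.noncommCoprod_range, Subgroup.range_subtype, Subgroup.range_subtype, ht]

/-- In the group of two transvections with different centres there is an element inverting both centres. -/
theorem transvection_word {K V : Type*} [Field K] [AddCommGroup V] [Module K V] (φ φ' : V →ₗ[K] K)
    {z y : V} (τ σ : V → V) (hτ : ∀ x, τ x = x + φ x • z) (hσ : ∀ x, σ x = x + φ' x • y)
    (hz : φ z = 0) (hy : φ' y = 0) (h1 : φ y = 1) (h2 : φ' z = -1) :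
    τ (σ (τ (τ (σ (τ z))))) = -z ∧
      ∀ x, τ (σ (τ (τ (σ (τ (τ x)))))) = τ (τ (σ (τ (τ (σ (τ x)))))) := by
  let w : V → V := fun x => τ (σ (τ x))
  have hw : ∀ x, w x = x + (φ x + φ' x) • z + (φ' x - φ x) • y := by
    intro x
    simp only [w, hτ, hσ, map_add, map_smul, hz, h1, h2, smul_eq_mul]
    module
  have hφw : ∀ x, φ (w x) = φ' x := fun x => by
    rw [hw]; simp only [map_add, map_smul, hz, h1, smul_eq_mul]; ring
  have hφ'w : ∀ x, φ' (w x) = - φ x := fun x => by
    rw [hw]; simp only [map_add, map_smul, hy, h2, smul_eq_mul]; ring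
  have hww : ∀ x, w (w x) = x + (2 * φ' x) • z + (-(2 * φ x)) • y - ((0 : K)) • z := by
    intro x
    rw [hw (w x), hφw, hφ'w, hw x]
    module
  constructor
  · show w (w z) = -z
    rw [hww, hz, h2]
    module
  · intro x
    show w (w (τ x)) = τ (w (w x))
    rw [hτ (w (w x)), hφw, hφ'w, hww, hww, hτ]
    simp only [map_add, map_smul, hz, h2, smul_eq_mul]
    module

end CfsgLib.PGroup.OrderPCubeExtra
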