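import Cfsg.Agent.Lib.PGroup.SzSolubilizer

set_option autoImplicit false

/-!
The orders of the solubilizers of the elements of `Sz(q)`, `q = 2^n` with `n` an odd prime.
-/

namespace CfsgLib.PGroup.SzSol

open Cfsg.Lie CfsgLib.KnownB.SzElem CfsgLib.KnownB.Suzuki CfsgLib.KnownB.TICount

variable {F : Type*} [Field F] [Fintype F] {e : ℕ}

local notation "q" => Fintype.card F

/-- The image of a coset-invariant map. -/
lemma card_range_mul {G α : Type*} [Group G] [Finite G] (W S : Subgroup G) (f : W → α)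
    (hf : ∀ u v : W, f u = f v ↔ (u : G)⁻¹ * v ∈ S) :
    Nat.card (Set.range f) * Nat.card (W ⊓ S : Subgroup G) = Nat.card W := by
  have hS : Nat.card (W ⊓ S : Subgroup G) = Nat.card (S.subgroupOf W) := by
    rw [← Subgroup.inf_subgroupOf_left, Nat.card_congr
      (Subgroup.subgroupOfEquivOfLe (inf_le_left : W ⊓ S ≤ W)).toEquiv]
  have hwd : ∀ a b : W, QuotientGroup.leftRel (S.subgroupOf W) a b → f a = f b := by
    intro a b h
    rw [hf]
    simpa [Subgroup.mem_subgroupOf] using QuotientGroup.leftRel_apply.1 h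
  let φ : W ⧸ S.subgroupOf W → Set.range f :=
    Quotient.lift (fun a => ⟨f a, a, rfl⟩) fun a b h => Subtype.ext (hwd a b h)
  have hφ : Function.Bijective φ := by
    constructor
    · intro a b
      induction a using QuotientGroup.induction_on with | _ a =>
      induction b using QuotientGroup.induction_on with | _ b =>
      intro h
      rw [QuotientGroup.eq, Subgroup.mem_subgroupOf]
      simpa using (hf a b).1 (congrArg Subtype.val h)
    · rintro ⟨_, a, rfl⟩
      exact ⟨QuotientGroup.mk a, rfl⟩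
  rw [hS, ← Nat.card_congr (Equiv.ofBijective φ hφ),
    ← Subgroup.card_eq_card_quotient_mul_card_subgroup]

/-! ### The Borel subgroup and the torus -/

omit [Fintype F] in
lemma normalizer_hGroup_inter (he : Twist F e) {t : Fˣ} (ht : t ≠ 1) {g : Sz F e}
    (hg : g ∈ Subgroup.normalizer (hGroup he : Set (Sz F e))) (hgB : g ∈ borel F e) :
    g ∈ hGroup he := by
  obtain ⟨s, hs⟩ := (Subgroup.mem_normalizer_iff.1 hg _).1 (H_mem_hGroup he t)
  have hs' : g * H e he t * g⁻¹ = H e he s := hs.symm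
  have hs1 : s ≠ 1 := by
    rintro rfl
    rw [H_one, conj_eq_one_iff] at hs'
    exact ht (H_injective he (hs'.trans (H_one he).symm))
  rcases H_conj_cases he hs1 hs' with ⟨h, -⟩ | ⟨⟨r, rfl⟩, -⟩
  · exact h
  · exact absurd ((Subgroup.mul_mem_cancel_right _ (H_mem_borel he r)).1 hgB) (W_notMem_borel he)

omit [Fintype F] in
lemma eq_one_of_hGroup_uGroup (he : Twist F e) {g : Sz F e} (h1 : g ∈ hGroup he)
    (h2 : g ∈ uGroup he) : g = 1 := by
  obtain ⟨t, rfl⟩ := h1
  obtain ⟨⟨a, b⟩, hab⟩ := h2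
  have hab' : P he a b * H e he 1 = P he 0 0 * H e he t := by
    rw [H_one, mul_one, P_zero, one_mul]
    exact hab
  obtain ⟨-, -, rfl⟩ := borel_inj he hab'
  exact map_one (hHom he)

/-- A torus whose normaliser contains a nontrivial element of `U` avoids the Borel subgroup. -/
lemma IsTor.inter_borel {T : Subgroup (Sz F e)} {k : ℕ} (he : Twist F e) (hT : IsTor T k)
    {x : Sz F e} (hx : x ∈ uGroup he) (hx1 : x ≠ 1)
    (hxN : x ∈ Subgroup.normalizer (T : Set (Sz F e))) :
    ∀ t ∈ T, t ∈ borel F e → t = 1 := by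
  intro t ht htB
  by_contra ht1
  obtain ⟨a, b, s, rfl⟩ := exists_borel_eq he t htB
  by_cases hs : s = 1
  · rw [hs, H_one, mul_one] at ht ht1
    exact ht1 (hT.eq_one_of_pow_two_pow ht (j := 2) (pow_four he (P_mem_uGroup he a b)))
  · obtain ⟨c, d, hcd⟩ := exists_conj_H he a b hs
    have hT' : T = cj (P he c d) (hGroup he) := by
      rw [← hT.cent _ ht ht1, ← hcd, ← centralizer_H he hs, cj, map_centralizer_singleton]
      rfl
    rw [hT', mem_normalizer_cj] at hxN
    have hU : (P he c d)⁻¹ * x * P he c d ∈ uGroup he :=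
      mul_mem (mul_mem (inv_mem (P_mem_uGroup he c d)) hx) (P_mem_uGroup he c d)
    have h1 := eq_one_of_hGroup_uGroup he
      (normalizer_hGroup_inter he hs hxN (uGroup_le_borel he hU)) hU
    exact hx1 (by simpa [mul_assoc] using congrArg (fun y => P he c d * y * (P he c d)⁻¹) h1)

lemma IsTor.card_inter_borel {T : Subgroup (Sz F e)} {k : ℕ} (he : Twist F e) (hT : IsTor T k)
    {x : Sz F e} (hx : x ∈ uGroup he) (hx1 : x ≠ 1)
    (hxN : x ∈ Subgroup.normalizer (T : Set (Sz F e))) :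
    Nat.card (Subgroup.normalizer (T : Set (Sz F e)) ⊓ borel F e : Subgroup (Sz F e)) = k ∧
      Subgroup.normalizer (T : Set (Sz F e)) ⊓ borel F e ≤ uGroup he :=
  hT.card_inter he hx hx1 hxN (hT.inter_borel he hx hx1 hxN)

lemma IsTor.uGroup_inter {T : Subgroup (Sz F e)} {k : ℕ} (he : Twist F e) (hT : IsTor T k)
    {x : Sz F e} (hx : x ∈ uGroup he) (hx1 : x ≠ 1)
    (hxN : x ∈ Subgroup.normalizer (T : Set (Sz F e))) :
    uGroup he ⊓ Subgroup.normalizer (T : Set (Sz F e)) =
      Subgroup.normalizer (T : Set (Sz F e)) ⊓ borel F e :=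
  le_antisymm (fun _ h => ⟨h.2, uGroup_le_borel he h.1⟩)
    fun _ h => ⟨(hT.card_inter_borel he hx hx1 hxN).2 h, h.1⟩

/-! ### Centralisers and classes in `U` -/

omit [Fintype F] in
lemma P_commute_iff (he : Twist F e) (a b c d : F) :
    P he c d * P he a b = P he a b * P he c d ↔ c ^ e * a = a ^ e * c := by
  rw [P_mul, P_mul]
  constructor
  · intro h
    linear_combination (P_injective he h).2
  · intro h
    rw [add_comm c a, show d + b + c ^ e * a = b + d + a ^ e * c by rw [h, add_comm d b]]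

lemma centralizer_central (he : Twist F e) {b : F} (hb : b ≠ 0) :
    Subgroup.centralizer {P he 0 b} = uGroup he := by
  refine le_antisymm (centralizer_le_uGroup he (P_mem_uGroup he 0 b) fun h => hb ?_) ?_
  · rw [← P_zero he] at h
    exact (P_injective he h).2
  · rintro _ ⟨⟨c, d⟩, rfl⟩
    rw [Subgroup.mem_centralizer_singleton_iff, P_commute_iff]
    simp [zero_pow (Nat.ne_zero_of_lt he.one_lt)]

lemma card_centralizer_P (he : Twist F e) {a : F} (b : F) (ha : a ≠ 0) :
    Nat.card (Subgroup.centralizer {P he a b}) = 2 * q := by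
  classical
  have hne : P he a b ≠ 1 := fun h => ha (by rw [← P_zero he] at h; exact (P_injective he h).1)
  let f : ({0, a} : Finset F) × F → Subgroup.centralizer {P he a b} := fun p =>
    ⟨P he p.1 p.2, by
      rw [Subgroup.mem_centralizer_singleton_iff, P_commute_iff]
      rcases Finset.mem_insert.1 p.1.2 with h | h
      · simp [h, zero_pow (Nat.ne_zero_of_lt he.one_lt)]
      · rw [Finset.mem_singleton.1 h]⟩
  have hf : Function.Bijective f := by
    constructor
    · rintro ⟨c, d⟩ ⟨c', d'⟩ h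
      obtain ⟨h1, h2⟩ := P_injective he (congrArg Subtype.val h)
      exact Prod.ext (Subtype.ext h1) h2
    · rintro ⟨g, hg⟩
      obtain ⟨⟨c, d⟩, hcd⟩ :=
        centralizer_le_uGroup he (P_mem_uGroup he a b) hne hg
      have hcd' : P he c d = g := hcd
      rw [← hcd', Subgroup.mem_centralizer_singleton_iff, P_commute_iff] at hg
      have hc : c = 0 ∨ c = a := by
        have hae : a ^ e ≠ 0 := pow_ne_zero _ ha
        have hs : (c / a) ^ e = c / a := by
          rw [div_pow, div_eq_div_iff hae ha, hg, mul_comm]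
        have hs2 := he.pow_pow (c / a)
        rw [hs, hs, pow_two] at hs2
        rcases mul_eq_zero.1 (show c / a * (c / a - 1) = 0 by linear_combination -hs2) with h | h
        · exact Or.inl ((div_eq_zero_iff.1 h).resolve_right ha)
        · exact Or.inr ((div_eq_one_iff_eq ha).1 (sub_eq_zero.1 h))
      refine ⟨(⟨c, by simpa using hc⟩, d), Subtype.ext hcd'⟩
  rw [← Nat.card_congr (Equiv.ofBijective f hf), Nat.card_prod, Nat.card_eq_fintype_card (α := F),
    Nat.card_eq_fintype_card, Fintype.card_coe, Finset.card_pair (Ne.symm ha)]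

/-- An element of order four of `U` is conjugate in `U` to one of any inverse pair with the same
square. -/
lemma conj_or_conj_inv (he : Twist F e) {a : F} (b b' : F) (ha : a ≠ 0) :
    ∃ u ∈ uGroup he, u * P he a b' * u⁻¹ = P he a b ∨ u * (P he a b')⁻¹ * u⁻¹ = P he a b := by
  classical
  have h2 := he.two
  set x := P he a b'
  let f : uGroup he → Sz F e := fun u => u * x * (u : Sz F e)⁻¹
  have hf : Nat.card (Set.range f) * (2 * q) = q ^ 2 := by
    rw [← card_centralizer_P he b' ha, ← Nat.card_eq_fintype_card (α := F), ← card_uGroup he,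
      show Subgroup.centralizer {x} = uGroup he ⊓ Subgroup.centralizer {x} from
        (inf_eq_right.2 (centralizer_le_uGroup he (P_mem_uGroup he a b') fun h => ha (by
          rw [← P_zero he] at h; exact (P_injective he h).1))).symm]
    refine card_range_mul _ _ f fun u v => ?_
    rw [Subgroup.mem_centralizer_singleton_iff]
    constructor
    · intro h
      have h' := congrArg (fun y => (u : Sz F e)⁻¹ * y * (v : Sz F e)) h
      simp only [f] at h'
      simpa [mul_assoc] using h'.symm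
    · intro h
      have h' := congrArg (fun y => (u : Sz F e) * y * (v : Sz F e)⁻¹) h
      simpa [f, mul_assoc] using h'.symm
  have hsub : Set.range f ∪ (Set.range f)⁻¹ ⊆ Set.range (P he a) := by
    have hR : ∀ z ∈ Set.range f, z ∈ Set.range (P he a) := by
      rintro _ ⟨⟨_, ⟨c, d⟩, rfl⟩, rfl⟩
      refine ⟨d + b' + c ^ e * a + (d + c ^ e * c) + (c + a) ^ e * c, ?_⟩
      show P he a _ = P he c d * P he a b' * (P he c d)⁻¹
      rw [P_inv, P_mul, P_mul]
      congr 1
      linear_combination -(h2 * c)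
    rintro z (hz | hz)
    · exact hR z hz
    · obtain ⟨d, hd⟩ := hR _ (Set.mem_inv.1 hz)
      exact ⟨d + a ^ e * a, by rw [← P_inv, hd, inv_inv]⟩
  have hdis : Disjoint (Set.range f) (Set.range f)⁻¹ := by
    rw [Set.disjoint_left]
    rintro z ⟨u, rfl⟩ hz
    obtain ⟨v, hv⟩ := Set.mem_inv.1 hz
    refine not_real he b' ha (isConj_iff.2 ⟨(u : Sz F e)⁻¹ * v, ?_⟩)
    have h' := congrArg (fun y => (u : Sz F e)⁻¹ * y * (u : Sz F e)) hv
    simp only [f] at h'
    rw [_root_.mul_inv_rev, inv_inv]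
    simpa [mul_assoc] using h'
  have heq : Set.range f ∪ (Set.range f)⁻¹ = Set.range (P he a) := by
    refine Set.eq_of_subset_of_ncard_le hsub ?_ (Set.toFinite _)
    rw [Set.ncard_union_eq hdis, Set.ncard_range_of_injective (fun _ _ h => (P_injective he h).2),
      Nat.card_eq_fintype_card, Set.ncard_inv]
    rw [Nat.card_coe_set_eq] at hf
    have hq : 0 < q := Fintype.card_pos
    have : (Set.range f).ncard * 2 = q :=
      Nat.eq_of_mul_eq_mul_right hq (by linear_combination hf)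
    omega
  have hb : P he a b ∈ Set.range f ∪ (Set.range f)⁻¹ := heq ▸ ⟨b, rfl⟩
  rcases hb with ⟨u, hu⟩ | hb
  · exact ⟨u, u.2, Or.inl hu⟩
  · obtain ⟨u, hu⟩ := Set.mem_inv.1 hb
    refine ⟨u, u.2, Or.inr ?_⟩
    rw [← conj_inv]
    simp only [f] at hu
    rw [hu, inv_inv]

/-- All involutions are conjugate. -/
lemma conj_involution (hp : Params F e) {i : Sz F e} (hi2 : i * i = 1) (hi1 : i ≠ 1) {b₀ : F}
    (hb₀ : b₀ ≠ 0) : ∃ g, g * i * g⁻¹ = P hp.twist 0 b₀ := by
  have he := hp.twist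
  have : Fact (Nat.Prime 2) := ⟨Nat.prime_two⟩
  have ho : orderOf i = 2 := orderOf_eq_prime (by rw [pow_two, hi2]) hi1
  obtain ⟨g, hg⟩ := conj_mem_uGroup hp (x := i)
    (IsPGroup.of_card (n := 1) (by rw [Nat.card_zpowers, ho, pow_one]))
  obtain ⟨b, hb⟩ := exists_central_of_sq he hg (by rw [conj_pow, pow_two, hi2, mul_one, mul_inv_cancel])
  have hb0 : b ≠ 0 := by
    rintro rfl
    rw [P_zero, conj_eq_one_iff] at hb
    exact hi1 hb
  obtain ⟨t, ht⟩ := (units_pow_e2_bijective he).2 (Units.mk0 (b₀ / b) (div_ne_zero hb₀ hb0))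
  have ht' : (t : F) ^ (e + 2) = b₀ / b := by
    rw [← Units.val_pow_eq_pow_val, show t ^ (e + 2) = _ from ht, Units.val_mk0]
  refine ⟨H e he t * g, ?_⟩
  rw [show H e he t * g * i * (H e he t * g)⁻¹ = H e he t * (g * i * g⁻¹) * (H e he t)⁻¹ by
    simp [mul_assoc], hb, H_conj_P, mul_zero, ht', div_mul_cancel₀ _ hb0]

/-! ### The tori normalised by a given element -/

/-- The conjugates of `T₀` normalised by `x`. -/
def torSet (T₀ : Subgroup (Sz F e)) (x : Sz F e) : Set (Subgroup (Sz F e)) :=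
  {T | (∃ g, T = cj g T₀) ∧ x ∈ Subgroup.normalizer (T : Set (Sz F e))}

variable {T₀ : Subgroup (Sz F e)} {k : ℕ}

lemma exists_involution (hT : IsTor T₀ k) :
    ∃ i ∈ Subgroup.normalizer (T₀ : Set (Sz F e)), i * i = 1 ∧ i ≠ 1 := by
  have : Fact (Nat.Prime 2) := ⟨Nat.prime_two⟩
  obtain ⟨i, hi⟩ := exists_prime_orderOf_dvd_card'
    (G := Subgroup.normalizer (T₀ : Set (Sz F e))) 2 (by
      rw [hT.ncard]
      rcases hT.k_cases with rfl | rfl <;> omega)
  refine ⟨i, i.2, ?_, fun h => ?_⟩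
  · have := pow_orderOf_eq_one i
    rw [hi, pow_two] at this
    exact congrArg Subtype.val this
  · rw [show i = 1 from Subtype.ext h, orderOf_one] at hi
    exact absurd hi (by norm_num)

lemma torSet_nonempty (hp : Params F e) (hT : IsTor T₀ k) {b : F} (hb : b ≠ 0) :
    ∃ T, T ∈ torSet T₀ (P hp.twist 0 b) := by
  obtain ⟨i, hi, hi2, hi1⟩ := exists_involution hT
  obtain ⟨g, hg⟩ := conj_involution hp hi2 hi1 hb
  refine ⟨cj g T₀, ⟨g, rfl⟩, mem_normalizer_cj.2 ?_⟩
  rw [← hg]
  simpa [mul_assoc] using hi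

lemma involution_transitive (hp : Params F e) (hT : IsTor T₀ k) {b : F} (hb : b ≠ 0)
    {T₁ T : Subgroup (Sz F e)} (h₁ : T₁ ∈ torSet T₀ (P hp.twist 0 b))
    (h : T ∈ torSet T₀ (P hp.twist 0 b)) : ∃ u ∈ uGroup hp.twist, T = cj u T₁ := by
  have he := hp.twist
  set z := P he 0 b
  have hz1 : z ≠ 1 := fun h => hb (by rw [← P_zero he] at h; exact (P_injective he h).2)
  have hz2 : z * z = 1 := by
    show P he 0 b * P he 0 b = 1
    rw [P_mul, ← P_zero he]
    congr 1 <;> simp [zero_pow (Nat.ne_zero_of_lt he.one_lt)] <;> linear_combination b * he.two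
  obtain ⟨⟨g₁, rfl⟩, hz⟩ := h₁
  obtain ⟨⟨g, rfl⟩, hzT⟩ := h
  have hT₁ := hT.conj g₁
  set T₁ := cj g₁ T₀
  set h := g * g₁⁻¹
  have hgT : cj g T₀ = cj h T₁ := by simp [T₁, h, cj_cj]
  rw [hgT, mem_normalizer_cj] at hzT
  have hw2 : h⁻¹ * z * h * (h⁻¹ * z * h) = 1 := by
    simp [mul_assoc, ← mul_assoc z z, hz2]
  have hw1 : h⁻¹ * z * h ≠ 1 := fun h' => hz1 (by
    simpa [mul_assoc] using congrArg (fun y => h * y * h⁻¹) h')
  have ht := hT₁.mul_mem_of_involutions hz hz2 hz1 hzT hw2 hw1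
  set t := z * (h⁻¹ * z * h)
  obtain ⟨c, hc⟩ : ∃ c, orderOf t = 2 * c + 1 :=
    Nat.odd_iff.2 (Nat.two_dvd_ne_zero.1 (hT₁.orderOf_odd ht))
  set s := t⁻¹ ^ (c + 1)
  have hs : s ∈ T₁ := pow_mem (inv_mem ht) _
  have hss : s * s = t⁻¹ := by
    have h1 : t⁻¹ ^ (2 * c + 1) = 1 := by rw [← hc, inv_pow, pow_orderOf_eq_one, inv_one]
    rw [← pow_add, show c + 1 + (c + 1) = 2 * c + 1 + 1 by omega, pow_succ, h1, one_mul]
  have hconj : s * z * s⁻¹ = h⁻¹ * z * h := by
    have h1 := hT₁.inverts hz hz2 hz1 (inv_mem hs)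
    rw [inv_inv] at h1
    have h2 : s * z * s⁻¹ = s * s * z := by
      nth_rewrite 4 [← h1]
      simp [mul_assoc]
    rw [h2, hss]
    simp [t, mul_assoc, inv_eq_of_mul_eq_one_right hz2, ← mul_assoc z z, hz2]
  refine ⟨h * s, ?_, ?_⟩
  · rw [← centralizer_central he hb, Subgroup.mem_centralizer_singleton_iff]
    have := congrArg (fun y => h * y * s) hconj
    simpa [mul_assoc] using this
  · rw [hgT, ← cj_cj h s, cj_eq_iff_mem_normalizer.2 (Subgroup.le_normalizer hs)]

omit [Fintype F] in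
lemma torSet_conj {u x : Sz F e} {T : Subgroup (Sz F e)} (h : T ∈ torSet T₀ x)
    (hu : u ∈ Subgroup.centralizer {x}) : cj u T ∈ torSet T₀ x := by
  obtain ⟨⟨g, rfl⟩, hx⟩ := h
  refine ⟨⟨u * g, cj_cj u g T₀⟩, mem_normalizer_cj.2 ?_⟩
  rw [Subgroup.mem_centralizer_singleton_iff] at hu
  rwa [mul_assoc u⁻¹, ← hu, inv_mul_cancel_left]

lemma card_orbit {x : Sz F e} {T : Subgroup (Sz F e)} (h : T ∈ torSet T₀ x) (W : Subgroup (Sz F e))
    (hW : W = Subgroup.centralizer {x}) (htr : ∀ T' ∈ torSet T₀ x, ∃ u ∈ W, T' = cj u T) :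
    Nat.card (torSet T₀ x) *
      Nat.card (W ⊓ Subgroup.normalizer (T : Set (Sz F e)) : Subgroup (Sz F e)) = Nat.card W := by
  have heq : torSet T₀ x = Set.range (fun u : W => cj (u : Sz F e) T) := by
    ext T'
    constructor
    · intro h'
      obtain ⟨u, hu, rfl⟩ := htr T' h'
      exact ⟨⟨u, hu⟩, rfl⟩
    · rintro ⟨u, rfl⟩
      exact torSet_conj h (hW ▸ u.2)
  rw [heq]
  refine card_range_mul _ _ _ fun u v => ?_
  rw [← cj_eq_iff_mem_normalizer, ← cj_cj]
  constructor
  · intro h'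
    rw [← h', cj_cj, inv_mul_cancel, cj_one]
  · intro h'
    conv_lhs => rw [← h', cj_cj, mul_inv_cancel, cj_one]

theorem card_torSet_involution (hp : Params F e) (hT : IsTor T₀ k) {b : F} (hb : b ≠ 0) :
    Nat.card (torSet T₀ (P hp.twist 0 b)) * k = q ^ 2 := by
  have he := hp.twist
  obtain ⟨T₁, h₁⟩ := torSet_nonempty hp hT hb
  have hz1 : P he 0 b ≠ 1 := fun h => hb (by rw [← P_zero he] at h; exact (P_injective he h).2)
  have hzU := P_mem_uGroup he 0 b
  have hT₁ : IsTor T₁ k := by obtain ⟨g, rfl⟩ := h₁.1; exact hT.conj g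
  rw [← Nat.card_eq_fintype_card (α := F), ← card_uGroup he,
    ← card_orbit h₁ (uGroup he) (centralizer_central he hb).symm
      (fun T' h' => involution_transitive hp hT hb h₁ h'),
    hT₁.uGroup_inter he hzU hz1 h₁.2, (hT₁.card_inter_borel he hzU hz1 h₁.2).1]

omit [Fintype F] in
lemma sq_P (he : Twist F e) (a b : F) : P he a b * P he a b = P he 0 (a ^ e * a) := by
  have h2 := he.two
  rw [P_mul]
  congr 1 <;> grind

lemma torSet_four_empty (hp : Params F e) (hT : IsTor T₀ 2) {a : F} (b : F) (ha : a ≠ 0) :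
    torSet T₀ (P hp.twist a b) = ∅ := by
  refine Set.eq_empty_of_forall_notMem fun T ⟨⟨g, hg⟩, hx⟩ => ?_
  subst hg
  have hne : P hp.twist a b * P hp.twist a b ≠ 1 := by
    rw [sq_P, ← P_zero hp.twist]
    exact fun h => mul_ne_zero (pow_ne_zero _ ha) ha (P_injective hp.twist h).2
  have hxT : P hp.twist a b ∉ cj g T₀ := fun h => hne (by
    rw [(hT.conj g).eq_one_of_pow_two_pow h (j := 2) (pow_four hp.twist (P_mem_uGroup _ a b)),
      mul_one])
  exact hne (by rw [← pow_two]; exact ((hT.conj g).pow_four_eq hx hxT).1)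

theorem card_torSet_four (hp : Params F e) (hT : IsTor T₀ 4) {a : F} (b : F) (ha : a ≠ 0) :
    Nat.card (torSet T₀ (P hp.twist a b)) * 4 = 2 * q := by
  classical
  have he := hp.twist
  set x := P he a b
  have hd : a ^ e * a ≠ 0 := mul_ne_zero (pow_ne_zero _ ha) ha
  set z := P he 0 (a ^ e * a)
  have hz1 : z ≠ 1 := fun h => hd (by rw [← P_zero he] at h; exact (P_injective he h).2)
  have hzU := P_mem_uGroup he 0 (a ^ e * a)
  have hxU := P_mem_uGroup he a b
  have hx1 : x ≠ 1 := fun h => ha (by rw [← P_zero he] at h; exact (P_injective he h).1)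
  have hxx : x * x = z := sq_P he a b
  have hsq : ∀ T, T ∈ torSet T₀ x → T ∈ torSet T₀ z := fun T h => ⟨h.1, hxx ▸ mul_mem h.2 h.2⟩
  -- existence
  obtain ⟨T₁, h₁⟩ := torSet_nonempty hp hT hd
  have hT₁ : IsTor T₁ 4 := by obtain ⟨g, rfl⟩ := h₁.1; exact hT.conj g
  obtain ⟨hc4, hleU⟩ := hT₁.card_inter_borel he hzU hz1 h₁.2
  set P₄ := Subgroup.normalizer (T₁ : Set (Sz F e)) ⊓ borel F e
  have hone : ∀ i ∈ P₄, i * i = 1 → i ≠ 1 → i = z := by
    intro i hi hi2 hi1
    have hz2 : z * z = 1 := by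
      show P he 0 _ * P he 0 _ = 1
      rw [sq_P, ← P_zero he]
      simp
    have h1 := hT₁.inter_borel he hzU hz1 h₁.2 _
      (hT₁.mul_mem_of_involutions h₁.2 hz2 hz1 hi.1 hi2 hi1)
      (mul_mem (uGroup_le_borel he hzU) hi.2)
    rw [← inv_eq_of_mul_eq_one_right h1, inv_eq_of_mul_eq_one_right hz2]
  obtain ⟨y, hy, hy2⟩ : ∃ y ∈ P₄, y * y ≠ 1 := by
    by_contra h
    push Not at h
    have hsub : (P₄ : Set (Sz F e)) ⊆ {1, z} := fun i hi => by
      by_cases hi1 : i = 1
      · exact Or.inl hi1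
      · exact Or.inr (hone i hi (h i hi) hi1)
    have h5 := Set.ncard_le_ncard hsub (Set.toFinite _)
    rw [← Nat.card_coe_set_eq] at h5
    have h6 : ({1, z} : Set (Sz F e)).ncard ≤ 2 :=
      (Set.ncard_insert_le _ _).trans (by rw [Set.ncard_singleton])
    exact absurd (hc4.symm.trans_le (h5.trans h6)) (by norm_num)
  obtain ⟨⟨a', b'⟩, hy'⟩ := hleU hy
  have hy' : P he a' b' = y := hy'
  have hyy : y * y = z := hone _ (mul_mem hy hy) (by
    rw [← hy', sq_P, sq_P, ← P_zero he]; simp) hy2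
  have haa : a' = a := by
    rw [← hy', sq_P] at hyy hy2
    have h' := (P_injective he hyy).2
    have ha' : a' ≠ 0 := fun h0 => hy2 (by rw [h0, mul_zero, P_zero])
    have h1 : (a' / a) ^ (e + 1) = 1 := by
      rw [div_pow, pow_succ, pow_succ, h', div_self hd]
    exact (div_eq_one_iff_eq ha).1 (eq_one_of_pow_e1 he h1)
  rw [haa] at hy'
  obtain ⟨u, hu, hu'⟩ := conj_or_conj_inv he b b' ha
  rw [hy'] at hu'
  have h₂ : cj u T₁ ∈ torSet T₀ x := by
    obtain ⟨g, hg⟩ := h₁.1
    refine ⟨⟨u * g, by rw [hg, cj_cj]⟩, mem_normalizer_cj.2 ?_⟩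
    rcases hu' with h | h
    · rw [show x = u * y * u⁻¹ from h.symm]; simpa [mul_assoc] using hy.1
    · rw [show x = u * y⁻¹ * u⁻¹ from h.symm]; simpa [mul_assoc] using hy.1
  have hT₂ := hT₁.conj u
  set T₂ := cj u T₁
  obtain ⟨hc, hleU₂⟩ := hT₂.card_inter_borel he hxU hx1 h₂.2
  have ho : orderOf x = 4 := orderOf_eq_prime_pow (p := 2) (n := 1)
    (by rw [pow_one, pow_two, hxx]; exact hz1) (pow_four he hxU)
  have hP : Subgroup.zpowers x = Subgroup.normalizer (T₂ : Set (Sz F e)) ⊓ borel F e :=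
    Subgroup.eq_of_le_of_card_ge (Subgroup.zpowers_le.2 ⟨h₂.2, uGroup_le_borel he hxU⟩)
      (le_of_eq (hc.trans ((Nat.card_zpowers x).trans ho).symm))
  have hzC : uGroup he = Subgroup.centralizer {z} := (centralizer_central he hd).symm
  have htr : ∀ T ∈ torSet T₀ x, ∃ v ∈ Subgroup.centralizer {x}, T = cj v T₂ := by
    intro T hTx
    obtain ⟨v, hv, rfl⟩ := involution_transitive hp hT hd (hsq _ h₂) (hsq _ hTx)
    refine ⟨v, ?_, rfl⟩
    have h1 : v⁻¹ * x * v ∈ Subgroup.zpowers x := hP ▸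
      ⟨mem_normalizer_cj.1 hTx.2,
        uGroup_le_borel he (mul_mem (mul_mem (inv_mem hv) hxU) hv)⟩
    obtain ⟨i, hi, hix⟩ : ∃ i, i < 4 ∧ x ^ i = v⁻¹ * x * v := by
      obtain ⟨i, hi, hix⟩ := (isOfFinOrder_of_finite x).mem_zpowers_iff_mem_range_orderOf.1 h1 |>
        Finset.mem_image.1
      exact ⟨i, ho ▸ Finset.mem_range.1 hi, hix⟩
    have hvv : (v⁻¹ * x * v) * (v⁻¹ * x * v) ≠ 1 := fun h => hz1 (by
      rw [← hxx]
      simpa [mul_assoc] using congrArg (fun y => v * y * v⁻¹) h)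
    interval_cases i
    · exact absurd (show (v⁻¹ * x * v) * (v⁻¹ * x * v) = 1 by rw [← hix, pow_zero, mul_one]) hvv
    · rw [Subgroup.mem_centralizer_singleton_iff]
      have := congrArg (fun y => v * y) hix
      simpa [mul_assoc] using this
    · refine absurd ?_ hvv
      rw [← hix, ← pow_add]
      exact pow_four he hxU
    · refine absurd (isConj_iff.2 ⟨v⁻¹, ?_⟩) (not_real he b ha)
      rw [inv_inv, ← hix]
      refine eq_inv_of_mul_eq_one_left ?_
      rw [← pow_succ]
      exact pow_four he hxU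
  rw [← card_centralizer_P he b ha, ← card_orbit h₂ _ rfl htr]
  congr 1
  have hle : Subgroup.centralizer {x} ⊓ Subgroup.normalizer (T₂ : Set (Sz F e)) =
      Subgroup.zpowers x := by
    rw [hP]
    refine le_antisymm (fun v hv => ⟨hv.2,
      uGroup_le_borel he (centralizer_le_uGroup he hxU hx1 hv.1)⟩) ?_
    rw [← hP, Subgroup.zpowers_le]
    exact ⟨Subgroup.mem_centralizer_singleton_iff.2 rfl, h₂.2⟩
  rw [hle, Nat.card_zpowers, ho]

end CfsgLib.PGroup.SzSol
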