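import Mathlib
import Cfsg.Prelude.Def_PLocal

/-!
Polynomial sequences in a filtered group, and regularity of p-groups of class less than p.
-/

set_option autoImplicit false

namespace CfsgLib.PGroup.PolySeq

open Subgroup
open scoped commutatorElement

variable {G : Type*} [Group G]

/-- The three subgroups lemma modulo a normal subgroup. -/
theorem three_subgroups (A B C T : Subgroup G) [T.Normal] (h1 : ⁅⁅B, C⁆, A⁆ ≤ T)
    (h2 : ⁅⁅C, A⁆, B⁆ ≤ T) : ⁅⁅A, B⁆, C⁆ ≤ T := by
  have key : ∀ X Y Z : Subgroup G, ⁅⁅X, Y⁆, Z⁆ ≤ T ↔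
      ⁅⁅X.map (QuotientGroup.mk' T), Y.map (QuotientGroup.mk' T)⁆, Z.map (QuotientGroup.mk' T)⁆ = ⊥ := by
    intro X Y Z
    rw [← map_commutator, ← map_commutator, Subgroup.map_eq_bot_iff, QuotientGroup.ker_mk']
  rw [key] at h1 h2 ⊢
  exact commutator_commutator_eq_bot_of_rotate h1 h2

/-- `[γ_i, γ_j] ≤ γ_{i+j}` with indices starting at zero. -/
theorem commutator_lcs_le (i j : ℕ) :
    ⁅(⊤ : Subgroup G).lowerCentralSeries i, (⊤ : Subgroup G).lowerCentralSeries j⁆ ≤
      (⊤ : Subgroup G).lowerCentralSeries (i + j + 1) := by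
  induction i generalizing j with
  | zero =>
    rw [commutator_comm, zero_add, Subgroup.lowerCentralSeries_succ, Subgroup.lowerCentralSeries_zero]
  | succ i ih =>
    rw [Subgroup.lowerCentralSeries_succ]
    refine three_subgroups _ _ _ _ ?_ ?_
    · rw [commutator_comm (⊤ : Subgroup G), ← Subgroup.lowerCentralSeries_succ, commutator_comm]
      refine (ih (j + 1)).trans ?_
      rw [show i + (j + 1) + 1 = i + 1 + j + 1 by omega]
    · rw [commutator_comm ((⊤ : Subgroup G).lowerCentralSeries j)]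
      refine (commutator_mono (ih j) le_rfl).trans ?_
      rw [← Subgroup.lowerCentralSeries_succ, show i + j + 1 + 1 = i + 1 + j + 1 by omega]

/-- A filtration closed under commutation. -/
structure Filt (G : Type*) [Group G] where
  /-- The terms. -/
  F : ℕ → Subgroup G
  anti : ∀ {i j : ℕ}, i ≤ j → F j ≤ F i
  comm : ∀ i j : ℕ, ⁅F i, F j⁆ ≤ F (i + j)

variable {p : ℕ} (Φ : Filt G)

/-- Differences of a sequence. -/
def D (g : ℕ → G) : ℕ → G := fun n => (g n)⁻¹ * g (n + 1)

/-- The first `m` differences of `g` lie in the shifted terms of the filtration. -/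
def Poly : ℕ → ℕ → (ℕ → G) → Prop
  | 0, k, g => ∀ n, g n ∈ Φ.F k
  | m + 1, k, g => (∀ n, g n ∈ Φ.F k) ∧ Poly m (k + 1) (D g)

variable {Φ}

theorem Poly.mem {m k : ℕ} {g : ℕ → G} (h : Poly Φ m k g) (n : ℕ) : g n ∈ Φ.F k := by
  cases m with
  | zero => exact h n
  | succ m => exact h.1 n

theorem Poly.shift {m : ℕ} : ∀ {k l : ℕ} {g : ℕ → G}, l ≤ k → Poly Φ m k g → Poly Φ m l g := by
  induction m with
  | zero => intro k l g hl h n; exact Φ.anti hl (h n)
  | succ m ih =>
    intro k l g hl h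
    exact ⟨fun n => Φ.anti hl (h.1 n), ih (Nat.succ_le_succ hl) h.2⟩

theorem Poly.lower {m : ℕ} : ∀ {k : ℕ} {g : ℕ → G}, Poly Φ (m + 1) k g → Poly Φ m k g := by
  induction m with
  | zero => intro k g h n; exact h.1 n
  | succ m ih => intro k g h; exact ⟨h.1, ih h.2⟩

theorem poly_one (m : ℕ) : ∀ k : ℕ, Poly Φ m k (fun _ => (1 : G)) := by
  induction m with
  | zero => exact fun k n => one_mem _
  | succ m ih =>
    intro k
    refine ⟨fun n => one_mem _, ?_⟩
    rw [show D (fun _ : ℕ => (1 : G)) = fun _ => 1 from funext fun n => by simp [D]]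
    exact ih _

theorem poly_const (m k : ℕ) {a : G} (ha : a ∈ Φ.F k) : Poly Φ m k (fun _ => a) := by
  cases m with
  | zero => exact fun _ => ha
  | succ m =>
    refine ⟨fun _ => ha, ?_⟩
    rw [show D (fun _ : ℕ => a) = fun _ => 1 from funext fun n => by simp [D]]
    exact poly_one m _

/-- Lazard: products, inverses and commutators of polynomial sequences. -/
theorem closure_props (m : ℕ) :
    (∀ (k : ℕ) (g h : ℕ → G), Poly Φ m k g → Poly Φ m k h → Poly Φ m k (fun n => g n * h n)) ∧
    (∀ (k : ℕ) (g : ℕ → G), Poly Φ m k g → Poly Φ m k (fun n => (g n)⁻¹)) ∧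
    (∀ (i j : ℕ) (g h : ℕ → G), Poly Φ m i g → Poly Φ m j h →
      Poly Φ m (i + j) (fun n => ⁅g n, h n⁆)) := by
  induction m with
  | zero =>
    exact ⟨fun k g h hg hh n => mul_mem (hg n) (hh n), fun k g hg n => inv_mem (hg n),
      fun i j g h hg hh n => Φ.comm i j (commutator_mem_commutator (hg n) (hh n))⟩
  | succ m ih =>
    obtain ⟨hmul, hinv, hcom⟩ := ih
    have hconj : ∀ (k l : ℕ) (x y : ℕ → G), Poly Φ m k x → Poly Φ m l y →
        Poly Φ m k (fun n => y n * x n * (y n)⁻¹) := by
      intro k l x y hx hy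
      have h := hmul k _ _ ((hcom l k y x hy hx).shift (by omega)) hx
      rwa [show (fun n => ⁅y n, x n⁆ * x n) = fun n => y n * x n * (y n)⁻¹ from funext fun n => by
        simp [commutatorElement_def, mul_assoc]] at h
    refine ⟨fun k g h hg hh => ⟨fun n => mul_mem (hg.1 n) (hh.1 n), ?_⟩,
      fun k g hg => ⟨fun n => inv_mem (hg.1 n), ?_⟩,
      fun i j g h hg hh => ⟨fun n => Φ.comm i j (commutator_mem_commutator (hg.1 n) (hh.1 n)), ?_⟩⟩
    · have h1 := hconj (k + 1) k _ _ hg.2 (hinv k h hh.lower)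
      have h2 := hmul (k + 1) _ _ h1 hh.2
      rwa [show (fun n => (h n)⁻¹ * D g n * (h n)⁻¹⁻¹ * D h n) = D (fun n => g n * h n) from
        funext fun n => by simp [D, mul_assoc]] at h2
    · have h1 := hconj (k + 1) k _ _ (hinv _ _ hg.2) hg.lower
      rwa [show (fun n => g n * (D g n)⁻¹ * (g n)⁻¹) = D (fun n => (g n)⁻¹) from
        funext fun n => by simp [D, mul_assoc]] at h1
    · set a := D g with ha
      set b := D h with hb
      have hb' : Poly Φ m j b := (hh.2).shift (by omega)
      have h1 := hconj (i + 1 + j) i _ _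
        (hcom (i + 1) j a _ hg.2 (hmul j h b hh.lower hb')) hg.lower
      have h2 := hconj (i + (j + 1)) j _ _ (hcom i (j + 1) g b hg.lower hh.2) hh.lower
      have hc := hcom i j g h hg.lower hh.lower
      have h3 := hconj (i + 1 + j) (i + j) _ _ h1 (hinv _ _ hc)
      have h4 := hmul (i + j + 1) _ _ (h3.shift (by omega)) (h2.shift (by omega))
      rwa [show (fun n => ⁅g n, h n⁆⁻¹ * (g n * ⁅a n, h n * b n⁆ * (g n)⁻¹) * ⁅g n, h n⁆⁻¹⁻¹ *
          (h n * ⁅g n, b n⁆ * (h n)⁻¹)) = D (fun n => ⁅g n, h n⁆) from funext fun n => by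
        simp only [ha, hb, D, commutatorElement_def]; group] at h4

theorem Poly.mul {m k : ℕ} {g h : ℕ → G} (hg : Poly Φ m k g) (hh : Poly Φ m k h) :
    Poly Φ m k (fun n => g n * h n) := (closure_props m).1 k g h hg hh

theorem Poly.inv {m k : ℕ} {g : ℕ → G} (hg : Poly Φ m k g) :
    Poly Φ m k (fun n => (g n)⁻¹) := (closure_props m).2.1 k g hg

theorem poly_choose (m : ℕ) : ∀ (k j : ℕ) {a : G}, a ∈ Φ.F (j + k) →
    Poly Φ m j (fun n => a ^ n.choose k) := by
  induction m with
  | zero => exact fun k j a ha n => pow_mem (Φ.anti (Nat.le_add_right j k) ha) _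
  | succ m ih =>
    intro k j a ha
    refine ⟨fun n => pow_mem (Φ.anti (Nat.le_add_right j k) ha) _, ?_⟩
    cases k with
    | zero =>
      rw [show D (fun n : ℕ => a ^ n.choose 0) = fun _ => 1 from funext fun n => by simp [D]]
      exact poly_one m _
    | succ k =>
      rw [show D (fun n : ℕ => a ^ n.choose (k + 1)) = fun n => a ^ n.choose k from funext fun n => by
        simp only [D, Nat.choose_succ_succ, pow_add]
        rw [(Commute.pow_pow_self a (n.choose k) (n.choose k.succ)).eq, inv_mul_cancel_left]]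
      exact ih k (j + 1) (by rwa [show j + 1 + k = j + (k + 1) by omega])

/-- The first value of a sequence vanishing below `t` is `t` steps down the filtration. -/
theorem mem_of_vanish (t : ℕ) : ∀ {m j : ℕ} {g : ℕ → G}, t ≤ m → Poly Φ m j g →
    (∀ n, n < t → g n = 1) → g t ∈ Φ.F (j + t) := by
  induction t with
  | zero => intro m j g _ hg _; exact hg.mem 0
  | succ t ih =>
    intro m j g hm hg hv
    obtain ⟨m, rfl⟩ : ∃ m', m = m' + 1 := ⟨m - 1, by omega⟩
    have h := ih (show t ≤ m by omega) hg.2 (fun n hn => by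
      simp [D, hv n (by omega), hv (n + 1) (by omega)])
    rw [show D g t = g (t + 1) by simp [D, hv t (by omega)]] at h
    rwa [show j + 1 + t = j + (t + 1) by omega] at h

/-- A polynomial sequence vanishing on an initial segment vanishes. -/
theorem eq_one_of_vanish (t : ℕ) : ∀ {j : ℕ} {g : ℕ → G}, Φ.F (j + t) = ⊥ → Poly Φ t j g →
    (∀ n, n < t → g n = 1) → ∀ n, g n = 1 := by
  induction t with
  | zero =>
    intro j g hj hg _ n
    rw [← mem_bot, ← hj]
    exact hg n
  | succ t ih =>
    intro j g hj hg hv n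
    have h := ih (show Φ.F (j + 1 + t) = ⊥ by rwa [show j + 1 + t = j + (t + 1) by omega]) hg.2
      (fun n hn => by simp [D, hv n (by omega), hv (n + 1) (by omega)])
    induction n with
    | zero => exact hv 0 (by omega)
    | succ n ihn =>
      have := h n
      rw [D, ihn, inv_one, one_mul] at this
      exact this

/-- The lower central filtration of a subgroup. -/
def lcsFilt (K : Subgroup G) : Filt G where
  F i := K.lowerCentralSeries (i - 1)
  anti h := Subgroup.lowerCentralSeries_antitone K (by omega)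
  comm i j := by
    rw [← top_subtype_lowerCentralSeries (H := K) (n := i - 1),
      ← top_subtype_lowerCentralSeries (H := K) (n := j - 1),
      ← top_subtype_lowerCentralSeries (H := K) (n := i + j - 1), ← Subgroup.map_commutator]
    exact map_mono ((commutator_lcs_le _ _).trans
      (Subgroup.lowerCentralSeries_antitone _ (by omega)))

/-- A p-group of class less than `p` is regular. -/
theorem regular_of_class_lt [hp : Fact p.Prime] (hG : IsPGroup p G)
    (hcl : (⊤ : Subgroup G).lowerCentralSeries (p - 1) = ⊥) : Cfsg.IsRegularPGroup p G := by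
  refine ⟨hG, fun a b n => ?_⟩
  set K := closure ({a, b} : Set G) with hK
  have ha : a ∈ K := subset_closure (by simp)
  have hb : b ∈ K := subset_closure (by simp)
  let Φ := lcsFilt K
  have hp1 : 1 < p := hp.out.one_lt
  have hFp : Φ.F (0 + p) = ⊥ := by
    rw [eq_bot_iff, ← hcl]
    show K.lowerCentralSeries (0 + p - 1) ≤ _
    rw [zero_add, ← top_subtype_lowerCentralSeries]
    exact Subgroup.lowerCentralSeries_map_subtype_le K _
  have hpow : ∀ c ∈ K, Poly Φ p 0 (fun t => c ^ t) := fun c hc => by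
    have h := poly_choose (Φ := Φ) p 1 0 (a := c) hc
    simpa using h
  set S := Cfsg.powerClosure p n ⁅K, K⁆
  let h₀ : ℕ → G := fun t => (b ^ t)⁻¹ * ((a ^ t)⁻¹ * (a * b) ^ t)
  have h0 : Poly Φ p 0 h₀ := (hpow b hb).inv.mul ((hpow a ha).inv.mul (hpow _ (mul_mem ha hb)))
  suffices hstep : ∀ k ≤ p, ∃ g : ℕ → G, Poly Φ p 0 g ∧ (∀ t, t < k → g t = 1) ∧
      (∀ t, t < 2 → g t = 1) ∧ h₀ (p ^ n) * (g (p ^ n))⁻¹ ∈ S by
    obtain ⟨g, hg, hv, -, hS⟩ := hstep p le_rfl
    rw [eq_one_of_vanish p hFp hg hv (p ^ n), inv_one, mul_one] at hS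
    refine ⟨h₀ (p ^ n), hS, ?_⟩
    simp [h₀, mul_assoc]
  intro k
  induction k with
  | zero =>
    intro _
    refine ⟨h₀, h0, fun t ht => absurd ht (Nat.not_lt_zero t), fun t ht => ?_,
      by rw [mul_inv_cancel]; exact one_mem S⟩
    interval_cases t <;> simp [h₀, mul_assoc]
  | succ k ih =>
    intro hk
    obtain ⟨g, hg, hv, hlow, hS⟩ := ih (by omega)
    have hgk : g k ∈ Φ.F (0 + k) := mem_of_vanish k (by omega) hg hv
    refine ⟨fun t => (g k ^ t.choose k)⁻¹ * g t, (poly_choose p k 0 hgk).inv.mul hg, fun t ht => ?_,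
      fun t ht => ?_, ?_⟩
    · rcases Nat.lt_succ_iff_lt_or_eq.mp ht with h | rfl
      · simp [hv t h, Nat.choose_eq_zero_of_lt h]
      · simp
    · show (g k ^ t.choose k)⁻¹ * g t = 1
      rcases Nat.lt_or_ge k 2 with h2 | h2
      · simp [hlow k h2, hlow t ht]
      · simp [hlow t ht, Nat.choose_eq_zero_of_lt (show t < k by omega)]
    · show h₀ (p ^ n) * ((g k ^ (p ^ n).choose k)⁻¹ * g (p ^ n))⁻¹ ∈ S
      rw [mul_inv_rev, inv_inv, ← mul_assoc]
      refine mul_mem hS ?_
      rcases Nat.lt_or_ge k 2 with h2 | h2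
      · simp [hlow k h2]
      · have hmem : g k ∈ ⁅K, K⁆ := by
          have h := Φ.anti (show 2 ≤ 0 + k by omega) hgk
          exact h
        obtain ⟨c, hc⟩ : p ^ n ∣ (p ^ n).choose k := by
          obtain ⟨k', rfl⟩ : ∃ k', k = k' + 1 := ⟨k - 1, by omega⟩
          obtain ⟨q', hq'⟩ : ∃ q', p ^ n = q' + 1 :=
            ⟨p ^ n - 1, by have := Nat.pow_pos (n := n) hp.out.pos; omega⟩
          have h := Nat.add_one_mul_choose_eq q' k'
          rw [← hq'] at h
          refine (Nat.Coprime.dvd_of_dvd_mul_right ?_ ⟨_, h.symm⟩)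
          refine Nat.Coprime.pow_left _ (hp.out.coprime_iff_not_dvd.mpr fun hd => ?_)
          have := Nat.le_of_dvd (by omega) hd
          omega
        refine subset_closure ⟨g k ^ c, pow_mem hmem c, ?_⟩
        rw [← pow_mul, hc, mul_comm]

end CfsgLib.PGroup.PolySeq
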