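import Mathlib
import Cfsg.Agent.Lib.PGroup.Basic
import Cfsg.Agent.Lib.Solvable.Cores

/-!
Elements with a class of prime power size; covering by conjugates of a subgroup.
-/

set_option autoImplicit false

namespace CfsgLib.PGroup.IndexPow

open Subgroup

variable {G : Type*} [Group G] [Finite G] {p : ℕ} [Fact p.Prime]

/-- A subgroup of `p`-power index and a Sylow `p`-subgroup multiply to the whole group. -/
theorem exists_mul_of_index_pow {H : Subgroup G} {a : ℕ} (hH : H.index = p ^ a) (P : Sylow p G)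
    (g : G) : ∃ u ∈ (P : Subgroup G), ∃ c ∈ H, g = u * c := by
  have h2 : H.relIndex P = H.index := by
    refine le_antisymm ?_ (Nat.le_of_dvd (Nat.pos_of_ne_zero index_ne_zero_of_finite) ?_)
    · rw [← H.relIndex_top_right]
      exact relIndex_le_of_le_right le_top (by rw [relIndex_top_right]; exact index_ne_zero_of_finite)
    · rw [hH]
      refine (Nat.Coprime.pow_left a ((Fact.out : p.Prime).coprime_iff_not_dvd.mpr
        P.not_dvd_index)).dvd_of_dvd_mul_right (?_ : p ^ a ∣ H.relIndex P * (P : Subgroup G).index)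
      have h3 := relIndex_mul_index (inf_le_right : H ⊓ (P : Subgroup G) ≤ P)
      rw [inf_relIndex_right] at h3
      rw [h3, ← hH]
      exact index_dvd_of_le inf_le_left
  have hst : MulAction.stabilizer (P : Subgroup G) ((1 : G) : G ⧸ H) = H.subgroupOf P := by
    ext u
    simp only [MulAction.mem_stabilizer_iff, mem_subgroupOf]
    show ((u : G) • ((1 : G) : G ⧸ H)) = _ ↔ _
    rw [MulAction.Quotient.smul_coe, smul_eq_mul, mul_one, QuotientGroup.eq, mul_one, inv_mem_iff]
  have h4 := MulAction.index_stabilizer (P : Subgroup G) ((1 : G) : G ⧸ H)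
  rw [hst] at h4
  have huniv : MulAction.orbit (P : Subgroup G) ((1 : G) : G ⧸ H) = Set.univ := by
    refine Set.eq_of_subset_of_ncard_le (Set.subset_univ _) ?_ Set.finite_univ
    rw [← h4, Set.ncard_univ]
    exact h2.ge
  obtain ⟨u, hu⟩ : (g : G ⧸ H) ∈ MulAction.orbit (P : Subgroup G) ((1 : G) : G ⧸ H) :=
    huniv ▸ Set.mem_univ _
  have hu' : (((u : G) * 1 : G) : G ⧸ H) = g := hu
  rw [mul_one, QuotientGroup.eq] at hu'
  exact ⟨u, u.2, (u : G)⁻¹ * g, hu', by rw [mul_inv_cancel_left]⟩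

/-- A `p`-element whose class has `p`-power size lies in `O_p(G)`. -/
theorem mem_pCore_of_index_pow {x : G} (hx : ∃ k, orderOf x = p ^ k) {a : ℕ}
    (h : (centralizer ({x} : Set G)).index = p ^ a) : x ∈ Cfsg.pCore p G := by
  obtain ⟨P, hP⟩ := CfsgLib.PGroup.Basic.mem_sylow_of_orderOf hx
  have hle : normalClosure {x} ≤ (P : Subgroup G) := by
    rw [normalClosure, closure_le]
    intro y hy
    obtain ⟨x', hx', hconj⟩ := Group.mem_conjugatesOfSet_iff.mp hy
    rw [Set.mem_singleton_iff] at hx'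
    subst hx'
    obtain ⟨g, rfl⟩ := isConj_iff.mp hconj
    obtain ⟨u, hu, c, hc, rfl⟩ := exists_mul_of_index_pow h P g
    have hc' := mem_centralizer_singleton_iff.mp hc
    rw [SetLike.mem_coe, show u * c * x' * (u * c)⁻¹ = u * (c * x' * c⁻¹) * u⁻¹ by group, hc',
      mul_inv_cancel_right]
    exact mul_mem (mul_mem hu hP) (inv_mem hu)
  exact CfsgLib.Solvable.Cores.le_pCore (P.2.to_le hle) (subset_normalClosure rfl)

/-- The conjugates of a proper subgroup do not cover a finite group. -/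
theorem eq_top_of_conj_cover {H : Subgroup G} (h : ∀ g : G, ∃ a : G, a⁻¹ * g * a ∈ H) : H = ⊤ := by
  let f : (G ⧸ H) × H → G := fun z => z.1.out * z.2 * z.1.out⁻¹
  have hsurj : Function.Surjective f := by
    intro g
    obtain ⟨a, ha⟩ := h g
    have hb : ((a : G ⧸ H).out)⁻¹ * a ∈ H := by rw [← QuotientGroup.eq, QuotientGroup.out_eq']
    set b := ((a : G ⧸ H).out)⁻¹ * a with hbdef
    refine ⟨((a : G ⧸ H), ⟨b * (a⁻¹ * g * a) * b⁻¹, mul_mem (mul_mem hb ha) (inv_mem hb)⟩), ?_⟩
    show (a : G ⧸ H).out * (b * (a⁻¹ * g * a) * b⁻¹) * ((a : G ⧸ H).out)⁻¹ = g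
    rw [hbdef]; group
  have hcard : Nat.card ((G ⧸ H) × H) = Nat.card G := by
    rw [Nat.card_prod]; exact (Subgroup.card_eq_card_quotient_mul_card_subgroup H).symm
  have hinj := ((Nat.bijective_iff_surjective_and_card f).mpr ⟨hsurj, hcard⟩).1
  rw [← index_eq_one, index_eq_card, Nat.card_eq_one_iff_unique]
  refine ⟨⟨fun q r => ?_⟩, inferInstance⟩
  have := @hinj (q, 1) (r, 1) (by simp [f])
  exact congrArg Prod.fst this

end CfsgLib.PGroup.IndexPow
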