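import Mathlib

/-!
Finite groups partitioned by abelian subgroups of equal order (Isaacs): such groups are
`p`-groups.
-/

set_option autoImplicit false

namespace CfsgLib.PGroup.Partition

open Subgroup
open scoped IsMulCommutative
set_option linter.style.haveILetI false

/-- A partition: `comp x` is the component of `x ≠ 1`. -/
structure IsComp {Q : Type*} [Group Q] (comp : Q → Subgroup Q) : Prop where
  mem : ∀ x, x ≠ 1 → x ∈ comp x
  eq_of_mem : ∀ x w, x ≠ 1 → w ∈ comp x → w ≠ 1 → comp w = comp x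

variable {Q : Type*} [Group Q] {comp : Q → Subgroup Q}

theorem IsComp.not_mem_symm (hc : IsComp comp) {x y : Q} (hx : x ≠ 1) (hy : y ≠ 1)
    (h : y ∉ comp x) : x ∉ comp y := fun hxy => h (by
  rw [hc.eq_of_mem y x hy hxy hx]; exact hc.mem y hy)

/-- Commuting elements in different components have the same powers equal to one. -/
theorem IsComp.pow_eq_one (hc : IsComp comp) {x y : Q} (hx : x ≠ 1) (hy : y ≠ 1)
    (h : y ∉ comp x) (hxy : Commute x y) {k : ℕ} (hk : x ^ k = 1) : y ^ k = 1 := by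
  by_contra hyk
  have hne : x * y ≠ 1 := fun e =>
    h (by rw [eq_inv_of_mul_eq_one_right e]; exact inv_mem (hc.mem x hx))
  have e : (x * y) ^ k = y ^ k := by rw [hxy.mul_pow, hk, one_mul]
  have h1 : comp (y ^ k) = comp y := hc.eq_of_mem y _ hy (pow_mem (hc.mem y hy) k) hyk
  have h2 : comp (y ^ k) = comp (x * y) :=
    hc.eq_of_mem _ _ hne (e ▸ pow_mem (hc.mem _ hne) k) hyk
  have h3 : x * y ∈ comp y := by rw [← h1, h2]; exact hc.mem _ hne
  exact hc.not_mem_symm hx hy h (by simpa using mul_mem h3 (inv_mem (hc.mem y hy)))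

/-- Commuting elements in different components have the same prime order. -/
theorem IsComp.prime_orderOf [Finite Q] (hc : IsComp comp) {x y : Q} (hx : x ≠ 1) (hy : y ≠ 1)
    (h : y ∉ comp x) (hxy : Commute x y) :
    (orderOf x).Prime ∧ orderOf y = orderOf x := by
  have key : ∀ {u v : Q}, u ≠ 1 → v ≠ 1 → v ∉ comp u → Commute u v → orderOf v = orderOf u :=
    fun {u v} hu hv huv hcm => Nat.dvd_antisymm
      (orderOf_dvd_of_pow_eq_one (hc.pow_eq_one hu hv huv hcm (pow_orderOf_eq_one u)))
      (orderOf_dvd_of_pow_eq_one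
        (hc.pow_eq_one hv hu (hc.not_mem_symm hu hv huv) hcm.symm (pow_orderOf_eq_one v)))
  refine ⟨?_, key hx hy h hxy⟩
  have hn : orderOf x ≠ 1 := fun e => hx (orderOf_eq_one_iff.mp e)
  obtain ⟨r, hr, hrd⟩ := Nat.exists_prime_and_dvd hn
  set z := x ^ (orderOf x / r) with hz
  have hzo : orderOf z = r := by
    rw [hz, orderOf_pow_of_dvd (Nat.div_pos (Nat.le_of_dvd (orderOf_pos x) hrd) hr.pos).ne'
      (Nat.div_dvd_of_dvd hrd), Nat.div_div_self hrd (orderOf_pos x).ne']
  have hz1 : z ≠ 1 := fun e => hr.ne_one (by rw [← hzo, e, orderOf_one])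
  have hcz : comp z = comp x := hc.eq_of_mem x z hx (pow_mem (hc.mem x hx) _) hz1
  have h2 := key hz1 hy (hcz ▸ h) (hxy.pow_left _)
  rw [hzo, key hx hy h hxy] at h2
  rwa [h2]

theorem mul_pow_eq_prod {H : Subgroup Q} [IsMulCommutative H] (y : H) {x : Q}
    (hx : x ∈ normalizer (H : Set Q)) (n : ℕ) :
    ((y : Q) * x) ^ n =
      ((∏ i ∈ Finset.range n, (H.normalizerMonoidHom ⟨x, hx⟩ ^ i) y : H) : Q) * x ^ n := by
  induction n with
  | zero => simp
  | succ n ih =>
    have e : (((H.normalizerMonoidHom ⟨x, hx⟩ ^ n) y : H) : Q) = x ^ n * y * (x ^ n)⁻¹ := by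
      rw [← map_pow]; rfl
    rw [pow_succ, ih, Finset.prod_range_succ, Subgroup.coe_mul, e, pow_succ]
    group

/-- Two commuting automorphisms of order `r` with all norms trivial. -/
theorem pow_eq_one_of_norms {M : Type*} [CommGroup M] {r : ℕ} (hr : r.Prime) (A B : MulAut M)
    (hAB : Commute A B) (hB : B ^ r = 1) (y : M)
    (h1 : ∀ j ∈ Finset.range r, ∏ i ∈ Finset.range r, ((A * B ^ j) ^ i) y = 1)
    (h2 : ∏ i ∈ Finset.range r, (B ^ i) y = 1) : y ^ r = 1 := by
  classical
  have h3 : ∏ i ∈ Finset.range r, (A ^ i) (∏ j ∈ Finset.range r, (B ^ (j * i)) y) = 1 := by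
    simp_rw [map_prod]
    rw [Finset.prod_comm]
    refine Finset.prod_eq_one fun j hj => (Finset.prod_congr rfl fun i _ => ?_).trans (h1 j hj)
    rw [(hAB.pow_right j).mul_pow, ← pow_mul, MulAut.mul_apply]
  rw [Finset.prod_eq_single 0] at h3
  · simpa using h3
  · intro i hi hi0
    have him : ∀ j, B ^ (j * i) = B ^ (j * i % r) := fun j => pow_eq_pow_mod _ hB
    have hinj : Set.InjOn (fun j => j * i % r) (Finset.range r : Set ℕ) := by
      intro a ha b hb hab
      have hc : Nat.gcd r i = 1 :=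
        hr.coprime_iff_not_dvd.mpr (Nat.not_dvd_of_pos_of_lt (Nat.pos_of_ne_zero hi0)
          (Finset.mem_range.mp hi))
      exact Nat.ModEq.eq_of_lt_of_lt (Nat.ModEq.cancel_right_of_coprime hc hab)
        (Finset.mem_range.mp ha) (Finset.mem_range.mp hb)
    have himg : (Finset.range r).image (fun j => j * i % r) = Finset.range r :=
      Finset.eq_of_subset_of_card_le
        (fun k hk => by
          obtain ⟨j, -, rfl⟩ := Finset.mem_image.mp hk
          exact Finset.mem_range.mpr (Nat.mod_lt _ hr.pos))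
        (by rw [Finset.card_image_of_injOn hinj])
    have h4 : ∏ j ∈ Finset.range r, (B ^ (j * i)) y = ∏ k ∈ Finset.range r, (B ^ k) y := by
      conv_rhs => rw [← himg, Finset.prod_image hinj]
      exact Finset.prod_congr rfl fun j _ => by rw [him j]
    rw [h4, h2, map_one]
  · exact fun h => absurd (Finset.mem_range.mpr hr.pos) h

/-- In an abelian subgroup the elements of prime order `q` generate a subgroup of order `q`, if
`q ^ 2` does not divide the order. -/
theorem mem_zpowers_of_orderOf [Finite Q] {H : Subgroup Q}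
    (hH : ∀ a ∈ H, ∀ b ∈ H, Commute a b) {q : ℕ} (hq : q.Prime) (hh : ¬ q ^ 2 ∣ Nat.card H)
    {y y' : Q} (hy : y ∈ H) (hy' : y' ∈ H) (ho : orderOf y = q) (ho' : orderOf y' = q) :
    y' ∈ zpowers y := by
  have := Fact.mk hq
  haveI : IsMulCommutative H := ⟨⟨fun a b => Subtype.ext (hH a a.2 b b.2).eq⟩⟩
  let P : Sylow q H := default
  haveI : (P : Subgroup H).Normal := inferInstance
  have hle : ∀ u : H, orderOf u = q → zpowers u ≤ (P : Subgroup H) := fun u hu => by
    obtain ⟨P', hP'⟩ := (IsPGroup.of_card (n := 1)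
      (show Nat.card (zpowers u) = q ^ 1 by rw [Nat.card_zpowers, hu, pow_one])).exists_le_sylow
    have := Sylow.unique_of_normal P inferInstance
    rwa [Subsingleton.elim P P']
  have ho1 : orderOf (⟨y, hy⟩ : H) = q := by rw [Subgroup.orderOf_mk, ho]
  have hPc : Nat.card P ≤ q := by
    obtain ⟨k, hk⟩ := P.isPGroup'.exists_card_eq
    have hd : q ^ k ∣ Nat.card H := hk ▸ card_subgroup_dvd_card _
    rw [hk]
    by_contra hlt
    have hk2 : 2 ≤ k := by
      by_contra h2
      interval_cases k <;> simp_all [hq.one_lt.le]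
    exact hh ((pow_dvd_pow q hk2).trans hd)
  have heq : zpowers (⟨y, hy⟩ : H) = P :=
    eq_of_le_of_card_ge (hle _ ho1) (by rw [Nat.card_zpowers, ho1]; exact hPc)
  have h2 : (⟨y', hy'⟩ : H) ∈ zpowers (⟨y, hy⟩ : H) := by
    rw [heq]; exact hle _ (by rw [Subgroup.orderOf_mk, ho']) (mem_zpowers _)
  obtain ⟨j, hj⟩ := mem_zpowers_iff.mp h2
  exact mem_zpowers_iff.mpr ⟨j, by simpa using congrArg Subtype.val hj⟩

variable [Finite Q]

theorem isPGroup_of_orderOf {Q : Type*} [Group Q] [Finite Q] {p : ℕ} [Fact p.Prime]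
    (h : ∀ q, q.Prime → q ≠ p → ¬ q ∣ Nat.card Q) : IsPGroup p Q :=
  IsPGroup.of_card (Nat.eq_prime_pow_of_unique_prime_dvd Nat.card_pos.ne' fun {d} hd hdd => by
    by_contra hne
    exact h d hd hne hdd)

/-- Isaacs: an equally partitioned group with abelian components is a `p`-group. -/
theorem isPGroup_of_equal (hc : IsComp comp)
    (hcomm : ∀ x, x ≠ 1 → ∀ a ∈ comp x, ∀ b ∈ comp x, Commute a b)
    (h : ℕ) (hcard : ∀ x, x ≠ 1 → Nat.card (comp x) = h) (hne : ∀ x, x ≠ 1 → comp x ≠ ⊤) :
    ∃ p, p.Prime ∧ IsPGroup p Q := by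
  classical
  by_contra hcon
  push Not at hcon
  set g := Nat.card Q with hg
  have hg0 : g ≠ 0 := Nat.card_pos.ne'
  have hgp : ∀ r, r.Prime → ∃ q, q.Prime ∧ q ≠ r ∧ q ∣ g := fun r hr => by
    by_contra hno
    push Not at hno
    have := Fact.mk hr
    exact hcon r hr (isPGroup_of_orderOf fun q hq hqr => hno q hq hqr)
  have hprh : ∀ r, r.Prime → r ∣ g → r ∣ h := fun r hr hrd => by
    have := Fact.mk hr
    obtain ⟨x, hx⟩ := exists_prime_orderOf_dvd_card' (G := Q) r hrd
    have hx1 : x ≠ 1 := fun e => hr.ne_one (by rw [← hx, e, orderOf_one])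
    rw [← hcard x hx1, ← hx]
    exact Subgroup.orderOf_dvd_natCard _ (hc.mem x hx1)
  obtain ⟨q0, hq0, -, hq0g⟩ := hgp 2 Nat.prime_two
  have := Fact.mk hq0
  obtain ⟨x0, hx0⟩ := exists_prime_orderOf_dvd_card' (G := Q) q0 hq0g
  have hx01 : x0 ≠ 1 := fun e => hq0.ne_one (by rw [← hx0, e, orderOf_one])
  obtain ⟨l, hl⟩ : h ∣ g := hcard x0 hx01 ▸ card_subgroup_dvd_card _
  have hh0 : h ≠ 0 := fun e => hg0 (by rw [hl, e, zero_mul])
  have hh1 : 1 < h := lt_of_lt_of_le hq0.one_lt (Nat.le_of_dvd (Nat.pos_of_ne_zero hh0)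
    (hprh q0 hq0 hq0g))
  have hl1 : 1 < l := by
    rcases Nat.lt_or_ge 1 l with h1 | h1
    · exact h1
    interval_cases l
    · omega
    · exact absurd (eq_top_of_card_eq _ (by rw [hcard x0 hx01, ← hg, hl, mul_one])) (hne x0 hx01)
  -- counting the nonidentity elements
  have := Fintype.ofFinite Q
  have hdiv : h - 1 ∣ g - 1 := by
    have h1 : (Finset.univ.erase (1 : Q)).card = g - 1 := by
      rw [Finset.card_erase_of_mem (Finset.mem_univ _), Finset.card_univ, hg,
        Nat.card_eq_fintype_card]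
    rw [← h1, Finset.card_eq_sum_card_image comp]
    refine Finset.dvd_sum fun K hK => ?_
    obtain ⟨x, hx, rfl⟩ := Finset.mem_image.mp hK
    have hx1 : x ≠ 1 := (Finset.mem_erase.mp hx).1
    refine dvd_of_eq ?_
    rw [← hcard x hx1]
    have : (Finset.univ.erase (1 : Q)).filter (fun w => comp w = comp x) =
        ((comp x : Set Q).toFinset).erase 1 := by
      ext w
      simp only [Finset.mem_filter, Finset.mem_erase, Finset.mem_univ, and_true, Set.mem_toFinset,
        SetLike.mem_coe]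
      exact ⟨fun ⟨hw, he⟩ => ⟨hw, he ▸ hc.mem w hw⟩, fun ⟨hw, he⟩ => ⟨hw, hc.eq_of_mem x w hx1 he hw⟩⟩
    rw [this, Finset.card_erase_of_mem (by simp), Set.toFinset_card, ← Nat.card_eq_fintype_card]
    rfl
  have hlh : h ≤ l := by
    have h1 : h - 1 ∣ l - 1 := by
      have e : g - 1 = (h - 1) * l + (l - 1) := by
        obtain ⟨h', rfl⟩ := Nat.exists_eq_add_of_le hh1.le
        obtain ⟨l', rfl⟩ := Nat.exists_eq_add_of_le hl1.le
        rw [hl]; simp only [Nat.add_sub_cancel_left]; ring_nf; omega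
      rw [e] at hdiv
      exact (Nat.dvd_add_right (dvd_mul_right _ _)).mp hdiv
    have := Nat.le_of_dvd (by omega) h1
    omega
  -- the centralizer of a central element of a Sylow subgroup
  have key : ∀ r, r.Prime → r ∣ g → g.factorization r ≤ h.factorization r + 1 ∧
      (h.factorization r < g.factorization r → ∀ q, q.Prime → q ≠ r → q ∣ g →
        ∃ (H : Subgroup Q) (x y : Q), (∀ a ∈ H, ∀ b ∈ H, Commute a b) ∧ Nat.card H = h ∧
          orderOf x = r ∧ orderOf y = q ∧ y ∈ H ∧ x * y * x⁻¹ ∈ H ∧ ¬ Commute x y) := by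
    intro r hr hrd
    have := Fact.mk hr
    let R : Sylow r Q := default
    have hRc : Nat.card R = r ^ g.factorization r := R.card_eq_multiplicity
    haveI : Nontrivial (R : Subgroup Q) := Finite.one_lt_card_iff_nontrivial.mp (by
      rw [hRc]; exact one_lt_pow' hr.one_lt (hr.factorization_pos_of_dvd hg0 hrd).ne')
    haveI := R.isPGroup'.center_nontrivial
    have hZp : IsPGroup r (center (R : Subgroup Q)) := R.isPGroup'.to_subgroup _
    obtain ⟨z', hz'⟩ := exists_prime_orderOf_dvd_card' (G := center (R : Subgroup Q)) r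
      (hZp.card_eq_or_dvd.resolve_left (Finite.one_lt_card (α := center (R : Subgroup Q))).ne')
    set z : Q := ((z' : (R : Subgroup Q)) : Q) with hz
    have hzo : orderOf z = r := by rw [hz, Subgroup.orderOf_coe, Subgroup.orderOf_coe, hz']
    have hz1 : z ≠ 1 := fun e => hr.ne_one (by rw [← hzo, e, orderOf_one])
    have hzR : ∀ u ∈ (R : Subgroup Q), Commute z u := fun u hu =>
      (congrArg Subtype.val (mem_center_iff.mp z'.2 ⟨u, hu⟩)).symm
    set H := comp z with hH
    have hHc : Nat.card H = h := hcard z hz1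
    have hout : ∀ w, Commute z w → w ∉ H → orderOf w = r := fun w hw hwH => by
      rw [← hzo]
      exact (hc.prime_orderOf hz1 (by rintro rfl; exact hwH (one_mem H)) hwH hw).2
    set D := (R : Subgroup Q) ⊓ H
    have hD : Nat.card D ≤ r ^ h.factorization r := by
      obtain ⟨k, hk⟩ := (R.isPGroup'.to_le (inf_le_left : D ≤ R)).exists_card_eq
      rw [hk]
      exact Nat.pow_le_pow_right hr.pos (((hr.pow_dvd_iff_le_factorization hh0).mp
        (hk ▸ hHc ▸ card_dvd_of_le inf_le_right)))
    by_cases hRH : g.factorization r ≤ h.factorization r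
    · exact ⟨by omega, fun hlt => absurd hlt (by omega)⟩
    have hnot : ∀ u : Q, u ∉ H → ∀ w ∈ H, w ≠ 1 → Commute u w → orderOf w = orderOf u :=
      fun u hu w hw hw1 hcm => by
        have hu1 : u ≠ 1 := by rintro rfl; exact hu (one_mem H)
        exact ((hc.prime_orderOf hw1 hu1 (by rw [hc.eq_of_mem z w hz1 hw hw1]; exact hu)
          hcm.symm).2).symm
    obtain ⟨q1, hq1, hq1r, hq1g⟩ := hgp r hr
    have hex : ∀ q, q.Prime → q ∣ g → ∃ y ∈ H, orderOf y = q := fun q hq hqg => by
      have := Fact.mk hq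
      obtain ⟨y, hy⟩ := exists_prime_orderOf_dvd_card' (G := H) q (hHc ▸ hprh q hq hqg)
      exact ⟨y, y.2, by rw [Subgroup.orderOf_coe, hy]⟩
    obtain ⟨y, hyH, hyo⟩ := hex q1 hq1 hq1g
    have hy1 : y ≠ 1 := fun e => hq1.ne_one (by rw [← hyo, e, orderOf_one])
    -- elements commuting with `z` normalize `H`
    have hconj : ∀ c, Commute z c → ∀ w ∈ H, c * w * c⁻¹ ∈ H := by
      intro c hcz w hw
      by_contra hn
      have hcw : Commute z (c * w * c⁻¹) :=
        ((hcz.mul_right (hcomm z hz1 z (hc.mem z hz1) w hw)).mul_right hcz.inv_right)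
      have hwo : orderOf w = r := by
        rw [← hout _ hcw hn]; exact ((MulAut.conj c).orderOf_eq w).symm
      have hwy : Commute w y := hcomm z hz1 w hw y hyH
      have h1 : ∀ v ∈ H, orderOf v ≠ r → c * v * c⁻¹ ∈ H := fun v hv hvo => by
        by_contra hn'
        refine hvo ?_
        rw [← (MulAut.conj c).orderOf_eq v]
        exact hout _ ((hcz.mul_right (hcomm z hz1 z (hc.mem z hz1) v hv)).mul_right hcz.inv_right)
          hn'
      have hwy' : orderOf (w * y) ≠ r := by
        rw [hwy.orderOf_mul_eq_mul_orderOf_of_coprime (by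
          rw [hwo, hyo]; exact (Nat.coprime_primes hr hq1).mpr hq1r.symm), hwo, hyo]
        exact fun e => hq1.ne_one (Nat.eq_of_mul_eq_mul_left hr.pos (by rw [e, mul_one]))
      refine hn ?_
      have := mul_mem (h1 _ (mul_mem hw hyH) hwy') (inv_mem (h1 y hyH (hyo ▸ hq1r)))
      simpa [mul_assoc] using this
    have hnorm : ∀ c, Commute z c → c ∈ normalizer (H : Set Q) := fun c hcz =>
      mem_normalizer_iff.mpr fun w => ⟨hconj c hcz w, fun hw => by
        have := hconj c⁻¹ hcz.inv_right _ hw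
        simpa [mul_assoc] using this⟩
    constructor
    · by_contra hgt
      push Not at hgt
      haveI : IsMulCommutative H :=
        ⟨⟨fun a b => Subtype.ext (hcomm z hz1 a a.2 b b.2).eq⟩⟩
      let φ : (R : Subgroup Q) →* MulAut H :=
        H.normalizerMonoidHom.comp (inclusion fun u hu => hnorm u (hzR u hu))
      set K := H.subgroupOf (R : Subgroup Q) with hK
      have hKn : K.Normal := ⟨fun n hn u => hconj u (hzR u u.2) n hn⟩
      have hKφ : ∀ u : (R : Subgroup Q), u ∈ K → φ u = 1 := fun u hu =>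
        MulEquiv.ext fun w => Subtype.ext (by
          show (u : Q) * w * (u : Q)⁻¹ = w
          rw [(hcomm z hz1 (u : Q) hu w w.2).eq, mul_inv_cancel_right])
      have hexp : ∀ u : (R : Subgroup Q), u ∉ K → u ^ r = 1 := fun u hu => Subtype.ext (by
        rw [Subgroup.coe_pow]; exact orderOf_dvd_iff_pow_eq_one.mp (dvd_of_eq (hout u (hzR u u.2) hu)))
      have hEr : ∀ e : (R : Subgroup Q) ⧸ K, e ^ r = 1 := by
        intro e
        obtain ⟨u, rfl⟩ := QuotientGroup.mk'_surjective K e
        by_cases hu : u ∈ K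
        · rw [QuotientGroup.mk'_apply, (QuotientGroup.eq_one_iff u).mpr hu, one_pow]
        · rw [← map_pow, hexp u hu, map_one]
      have hEc : r < Nat.card ((R : Subgroup Q) ⧸ K) := by
        by_contra hle
        push Not at hle
        have h1 : Nat.card K ≤ r ^ h.factorization r := by
          refine le_trans (le_of_eq ?_) hD
          rw [hK, ← inf_subgroupOf_right]
          exact Nat.card_congr (subgroupOfEquivOfLe inf_le_right).toEquiv |>.trans
            (by rw [inf_comm])
        have h2 : r ^ g.factorization r ≤ r ^ (h.factorization r + 1) := by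
          rw [← hRc, pow_succ', card_eq_card_quotient_mul_card_subgroup K]
          exact Nat.mul_le_mul hle h1
        have := (Nat.pow_le_pow_iff_right hr.one_lt).mp h2
        omega
      haveI : Nontrivial ((R : Subgroup Q) ⧸ K) :=
        Finite.one_lt_card_iff_nontrivial.mp (hr.one_lt.trans hEc)
      haveI := (R.isPGroup'.to_quotient K).center_nontrivial
      obtain ⟨a, ha⟩ := exists_ne (1 : center ((R : Subgroup Q) ⧸ K))
      have ha1 : (a : (R : Subgroup Q) ⧸ K) ≠ 1 := fun e => ha (Subtype.ext e)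
      have hao : orderOf (a : (R : Subgroup Q) ⧸ K) = r := orderOf_eq_prime (hEr _) ha1
      obtain ⟨b, -, hb⟩ : ∃ b ∈ (⊤ : Subgroup ((R : Subgroup Q) ⧸ K)),
          b ∉ zpowers (a : (R : Subgroup Q) ⧸ K) :=
        SetLike.exists_of_lt (lt_top_iff_ne_top.mpr fun e => hEc.ne' (by
          rw [← Subgroup.card_top (G := (R : Subgroup Q) ⧸ K), ← e, Nat.card_zpowers, hao]))
      obtain ⟨a', ha'⟩ := QuotientGroup.mk'_surjective K (a : (R : Subgroup Q) ⧸ K)
      obtain ⟨b', rfl⟩ := QuotientGroup.mk'_surjective K b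
      have hcomm' : Commute (φ a') (φ b') := by
        have h1 : a' * b' * (b' * a')⁻¹ ∈ K := by
          rw [← QuotientGroup.eq_one_iff]
          show QuotientGroup.mk' K _ = 1
          rw [map_mul, map_inv, map_mul, map_mul, ha', mem_center_iff.mp a.2, mul_inv_cancel]
        have := hKφ _ h1
        rwa [map_mul, map_inv, map_mul, map_mul, mul_inv_eq_one] at this
      have hnorms : ∀ u : (R : Subgroup Q), u ∉ K →
          ∏ i ∈ Finset.range r, (φ u ^ i) ⟨y, hyH⟩ = 1 := by
        intro u hu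
        have hyu : (y : Q) * u ∉ H := fun hm =>
          hu (show (u : Q) ∈ H by simpa using mul_mem (inv_mem hyH) hm)
        have h1 := mul_pow_eq_prod ⟨y, hyH⟩ (hnorm u (hzR u u.2)) r
        have h2 : ((y : Q) * u) ^ r = 1 := orderOf_dvd_iff_pow_eq_one.mp (dvd_of_eq
          (hout _ ((hcomm z hz1 z (hc.mem z hz1) y hyH).mul_right (hzR u u.2)) hyu))
        have h3 : (u : Q) ^ r = 1 := congrArg Subtype.val (hexp u hu)
        rw [h2, h3, mul_one] at h1
        exact Subtype.ext h1.symm
      have hbK : b' ∉ K := fun h' => hb (by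
        rw [QuotientGroup.mk'_apply, (QuotientGroup.eq_one_iff b').mpr h']; exact one_mem _)
      have hy := pow_eq_one_of_norms hr (φ a') (φ b') hcomm'
        (by rw [← map_pow, hexp b' hbK, map_one]) ⟨y, hyH⟩
        (fun j _ => by
          rw [← map_pow φ b' j, ← map_mul]
          refine hnorms _ fun h' => ?_
          have h1 : QuotientGroup.mk' K (a' * b' ^ j) = 1 := (QuotientGroup.eq_one_iff _).mpr h'
          rw [map_mul, map_pow, ha'] at h1
          set bb := QuotientGroup.mk' K b'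
          have hmem : (a : (R : Subgroup Q) ⧸ K) ∈ zpowers bb := by
            rw [eq_inv_of_mul_eq_one_left h1]; exact inv_mem (pow_mem (mem_zpowers bb) j)
          have hbo : orderOf bb = r := orderOf_eq_prime (hEr _) fun e => hb (by rw [e]; exact one_mem _)
          exact hb ((eq_of_le_of_card_ge (zpowers_le.mpr hmem)
            (by rw [Nat.card_zpowers, Nat.card_zpowers, hao, hbo])) ▸ mem_zpowers bb))
        (hnorms _ hbK)
      have hyr : orderOf y ∣ r := orderOf_dvd_of_pow_eq_one (by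
        simpa using congrArg Subtype.val hy)
      rw [hyo] at hyr
      exact hq1r ((Nat.prime_dvd_prime_iff_eq hq1 hr).mp hyr)
    · intro hlt q hq hqr hqg
      obtain ⟨y', hy'H, hy'o⟩ := hex q hq hqg
      obtain ⟨x, hxR, hxH⟩ : ∃ x ∈ (R : Subgroup Q), x ∉ H := by
        by_contra hno
        push Not at hno
        have h1 : Nat.card R ≤ r ^ h.factorization r :=
          le_trans (le_of_eq (by rw [show D = (R : Subgroup Q) from inf_eq_left.mpr hno])) hD
        rw [hRc] at h1
        exact absurd ((Nat.pow_le_pow_iff_right hr.one_lt).mp h1) (by omega)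
      refine ⟨H, x, y', hcomm z hz1, hHc, hout x (hzR x hxR) hxH, hy'o, hy'H,
        hconj x (hzR x hxR) y' hy'H, fun hxy => hqr ?_⟩
      rw [← hy'o, ← hout x (hzR x hxR) hxH]
      exact hnot x hxH y' hy'H (fun e => hq.ne_one (by rw [← hy'o, e, orderOf_one])) hxy
  have hl0 : l ≠ 0 := by omega
  have hfg : ∀ r, g.factorization r = h.factorization r + l.factorization r := fun r => by
    rw [hl, Nat.factorization_mul hh0 hl0]; rfl
  have hldvd : l ∣ h := by
    rw [← Nat.factorization_le_iff_dvd hl0 hh0]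
    intro r
    by_cases hr : r.Prime
    · by_cases hrl : r ∣ l
      · have hrg : r ∣ g := hl ▸ hrl.mul_left h
        have h1 := (key r hr hrg).1
        have h2 := hr.factorization_pos_of_dvd hh0 (hprh r hr hrg)
        have h3 := hfg r
        omega
      · rw [Nat.factorization_eq_zero_of_not_dvd hrl]; exact Nat.zero_le _
    · rw [Nat.factorization_eq_zero_of_not_prime l hr]; exact Nat.zero_le _
  have hhl : l = h := le_antisymm (Nat.le_of_dvd (Nat.pos_of_ne_zero hh0) hldvd) hlh
  have hsq : ∀ r, r.Prime → r ∣ g → h.factorization r = 1 ∧ g.factorization r = 2 := fun r hr hrg => by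
    have h1 := (key r hr hrg).1
    have h2 := hr.factorization_pos_of_dvd hh0 (hprh r hr hrg)
    have h3 := hfg r
    rw [hhl] at h3
    omega
  obtain ⟨r, hrmem, hmax⟩ := g.primeFactors.exists_max_image id
    ⟨q0, Nat.mem_primeFactors.mpr ⟨hq0, hq0g, hg0⟩⟩
  obtain ⟨hr, hrg, -⟩ := Nat.mem_primeFactors.mp hrmem
  obtain ⟨q, hq, hqr, hqg⟩ := hgp r hr
  have hqr' : q < r := lt_of_le_of_ne (hmax q (Nat.mem_primeFactors.mpr ⟨hq, hqg, hg0⟩)) hqr
  obtain ⟨H, x, y, hHcomm, hHc, hxo, hyo, hyH, hcy, hnc⟩ :=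
    (key r hr hrg).2 (by obtain ⟨a, b⟩ := hsq r hr hrg; omega) q hq hqr hqg
  refine hnc ?_
  have := Fact.mk hq
  have hmem := mem_zpowers_of_orderOf hHcomm hq (fun hd => by
    have := (hq.pow_dvd_iff_le_factorization hh0).mp (hHc ▸ hd)
    have := (hsq q hq hqg).1
    omega) hyH hcy hyo (((MulAut.conj x).orderOf_eq y).trans hyo)
  obtain ⟨k, hk⟩ := mem_zpowers_iff.mp hmem
  have hit : ∀ i : ℕ, x ^ i * y * (x ^ i)⁻¹ = y ^ (k ^ i) := by
    intro i
    induction i with
    | zero => simp
    | succ i ih =>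
      have : x ^ (i + 1) * y * (x ^ (i + 1))⁻¹ = x ^ i * (x * y * x⁻¹) * (x ^ i)⁻¹ := by
        rw [pow_succ]; group
      rw [this, ← hk]
      have e : x ^ i * y ^ k * (x ^ i)⁻¹ = (x ^ i * y * (x ^ i)⁻¹) ^ k := (conj_zpow).symm
      rw [e, ih, ← zpow_mul, pow_succ]
  have h1 := hit r
  rw [← hxo, pow_orderOf_eq_one, one_mul, inv_one, mul_one, hxo] at h1
  have h2 : ((k : ZMod q)) ^ r = 1 := by
    have h3 : y ^ ((k ^ r) - 1) = 1 := by rw [zpow_sub, ← h1, zpow_one, mul_inv_cancel]
    rw [← orderOf_dvd_iff_zpow_eq_one, hyo, ← ZMod.intCast_zmod_eq_zero_iff_dvd] at h3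
    push_cast at h3
    exact sub_eq_zero.mp h3
  have hk0 : (k : ZMod q) ≠ 0 := fun e => by rw [e, zero_pow hr.ne_zero] at h2; exact zero_ne_one h2
  have h4 : orderOf (k : ZMod q) ∣ Nat.gcd r (q - 1) :=
    Nat.dvd_gcd (orderOf_dvd_of_pow_eq_one h2)
      (orderOf_dvd_of_pow_eq_one (ZMod.pow_card_sub_one_eq_one hk0))
  have h5 : Nat.gcd r (q - 1) = 1 := hr.coprime_iff_not_dvd.mpr fun hd => by
    have := Nat.le_of_dvd (by have := hq.two_le; omega) hd
    omega
  rw [h5, Nat.dvd_one, orderOf_eq_one_iff] at h4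
  have h6 : y ^ (k - 1) = 1 := by
    rw [← orderOf_dvd_iff_zpow_eq_one, hyo, ← ZMod.intCast_zmod_eq_zero_iff_dvd]
    push_cast
    rw [h4, sub_self]
  show x * y = y * x
  have h7 : x * y * x⁻¹ = y := by
    rw [← hk, show k = (k - 1) + 1 by ring, zpow_add, h6, one_mul, zpow_one]
  exact mul_inv_eq_iff_eq_mul.mp h7

end CfsgLib.PGroup.Partition
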