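import Cfsg.Agent.Lib.PGroup.UnitriangularSL
import Mathlib

/-!
The Borel subgroup of the symplectic group in block form: the Levi subgroup `GL_m`, the symmetric matrices of
the Siegel radical, the unipotent subgroup and the radicals of the minimal parabolic subgroups.
-/

set_option autoImplicit false
set_option linter.style.haveILetI false
set_option linter.unusedSectionVars false

namespace CfsgLib.PGroup.BorelSp

open Matrix CfsgLib.PGroup.UnitriangularSL

variable {F : Type*} [Field F] {m : ℕ}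

/-- The symplectic group. -/
abbrev Sp (m : ℕ) (F : Type*) [Field F] := ↥(Matrix.symplecticGroup (Fin m) F)

/-- The upper left block. -/
abbrev b11 (g : Sp m F) : Matrix (Fin m) (Fin m) F := g.1.toBlocks₁₁
/-- The upper right block. -/
abbrev b12 (g : Sp m F) : Matrix (Fin m) (Fin m) F := g.1.toBlocks₁₂
/-- The lower left block. -/
abbrev b21 (g : Sp m F) : Matrix (Fin m) (Fin m) F := g.1.toBlocks₂₁
/-- The lower right block. -/
abbrev b22 (g : Sp m F) : Matrix (Fin m) (Fin m) F := g.1.toBlocks₂₂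

theorem coe_eq (g : Sp m F) : g.1 = fromBlocks (b11 g) (b12 g) (b21 g) (b22 g) := (fromBlocks_toBlocks _).symm

theorem rel (g : Sp m F) : (b11 g)ᵀ * b21 g = (b21 g)ᵀ * b11 g ∧ (b12 g)ᵀ * b22 g = (b22 g)ᵀ * b12 g ∧
    (b11 g)ᵀ * b22 g - (b21 g)ᵀ * b12 g = 1 := by
  have h := g.2
  rw [coe_eq g] at h
  exact SymplecticGroup.fromBlocks_mem_iff.1 h

theorem blocks_mul (g h : Sp m F) :
    b11 (g * h) = b11 g * b11 h + b12 g * b21 h ∧ b12 (g * h) = b11 g * b12 h + b12 g * b22 h ∧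
    b21 (g * h) = b21 g * b11 h + b22 g * b21 h ∧ b22 (g * h) = b21 g * b12 h + b22 g * b22 h := by
  have e : (g * h).1 = g.1 * h.1 := rfl
  simp only [b11, b12, b21, b22, e]
  rw [coe_eq g, coe_eq h, fromBlocks_multiply]
  simp

theorem sp_ext {g h : Sp m F} (h1 : b11 g = b11 h) (h2 : b12 g = b12 h) (h3 : b21 g = b21 h)
    (h4 : b22 g = b22 h) : g = h :=
  Subtype.ext (by rw [coe_eq g, coe_eq h, h1, h2, h3, h4])

theorem blocks_one : b11 (1 : Sp m F) = 1 ∧ b12 (1 : Sp m F) = 0 ∧ b21 (1 : Sp m F) = 0 ∧ b22 (1 : Sp m F) = 1 := by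
  have : (1 : Sp m F).1 = fromBlocks 1 0 0 1 := fromBlocks_one.symm
  unfold b11 b12 b21 b22
  rw [this, toBlocks_fromBlocks₁₁, toBlocks_fromBlocks₁₂, toBlocks_fromBlocks₂₁, toBlocks_fromBlocks₂₂]
  exact ⟨rfl, rfl, rfl, rfl⟩

/-- The Levi subgroup of the Siegel parabolic subgroup. -/
def lev : GL (Fin m) F →* Sp m F where
  toFun M := ⟨fromBlocks M.1 0 0 (M⁻¹).1ᵀ, SymplecticGroup.fromBlocks_mem_iff.2 ⟨by simp, by simp, by
    rw [← transpose_mul, ← Units.val_mul, inv_mul_cancel]; simp⟩⟩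
  map_one' := Subtype.ext (by simp)
  map_mul' M N := Subtype.ext (by
    show fromBlocks _ _ _ _ = fromBlocks _ _ _ _ * fromBlocks _ _ _ _
    rw [fromBlocks_multiply]
    simp)

@[simp] theorem lev_b11 (M : GL (Fin m) F) : b11 (lev M) = M.1 := toBlocks_fromBlocks₁₁ _ _ _ _
@[simp] theorem lev_b12 (M : GL (Fin m) F) : b12 (lev M) = 0 := toBlocks_fromBlocks₁₂ _ _ _ _
@[simp] theorem lev_b21 (M : GL (Fin m) F) : b21 (lev M) = 0 := toBlocks_fromBlocks₂₁ _ _ _ _
@[simp] theorem lev_b22 (M : GL (Fin m) F) : b22 (lev M) = (M⁻¹).1ᵀ := toBlocks_fromBlocks₂₂ _ _ _ _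

/-- The elements of the Siegel radical. -/
def sy (S : Matrix (Fin m) (Fin m) F) (hS : Sᵀ = S) : Sp m F :=
  ⟨fromBlocks 1 S 0 1, SymplecticGroup.fromBlocks_mem_iff.2 ⟨by simp, by simp [hS], by simp⟩⟩

@[simp] theorem sy_b11 (S : Matrix (Fin m) (Fin m) F) (hS : Sᵀ = S) : b11 (sy S hS) = 1 := toBlocks_fromBlocks₁₁ _ _ _ _
@[simp] theorem sy_b12 (S : Matrix (Fin m) (Fin m) F) (hS : Sᵀ = S) : b12 (sy S hS) = S := toBlocks_fromBlocks₁₂ _ _ _ _
@[simp] theorem sy_b21 (S : Matrix (Fin m) (Fin m) F) (hS : Sᵀ = S) : b21 (sy S hS) = 0 := toBlocks_fromBlocks₂₁ _ _ _ _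
@[simp] theorem sy_b22 (S : Matrix (Fin m) (Fin m) F) (hS : Sᵀ = S) : b22 (sy S hS) = 1 := toBlocks_fromBlocks₂₂ _ _ _ _

/-- The elements of the opposite Siegel radical. -/
def syl (S : Matrix (Fin m) (Fin m) F) (hS : Sᵀ = S) : Sp m F :=
  ⟨fromBlocks 1 0 S 1, SymplecticGroup.fromBlocks_mem_iff.2 ⟨by simp [hS], by simp, by simp⟩⟩

@[simp] theorem syl_b11 (S : Matrix (Fin m) (Fin m) F) (hS : Sᵀ = S) : b11 (syl S hS) = 1 := toBlocks_fromBlocks₁₁ _ _ _ _
@[simp] theorem syl_b12 (S : Matrix (Fin m) (Fin m) F) (hS : Sᵀ = S) : b12 (syl S hS) = 0 := toBlocks_fromBlocks₁₂ _ _ _ _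
@[simp] theorem syl_b21 (S : Matrix (Fin m) (Fin m) F) (hS : Sᵀ = S) : b21 (syl S hS) = S := toBlocks_fromBlocks₂₁ _ _ _ _
@[simp] theorem syl_b22 (S : Matrix (Fin m) (Fin m) F) (hS : Sᵀ = S) : b22 (syl S hS) = 1 := toBlocks_fromBlocks₂₂ _ _ _ _

theorem sy_mul (S T : Matrix (Fin m) (Fin m) F) (hS : Sᵀ = S) (hT : Tᵀ = T) :
    sy S hS * sy T hT = sy (T + S) (by rw [transpose_add, hS, hT]) := by
  refine Subtype.ext ?_
  show fromBlocks _ _ _ _ * fromBlocks _ _ _ _ = fromBlocks _ _ _ _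
  rw [fromBlocks_multiply]
  simp

theorem sy_congr {S T : Matrix (Fin m) (Fin m) F} (h : S = T) (hS : Sᵀ = S) (hT : Tᵀ = T) : sy S hS = sy T hT := by
  subst h; rfl

theorem syl_inv (S : Matrix (Fin m) (Fin m) F) (hS : Sᵀ = S) :
    (syl S hS)⁻¹ = syl (-S) (by rw [transpose_neg, hS]) := by
  refine inv_eq_of_mul_eq_one_right (Subtype.ext ?_)
  show fromBlocks _ _ _ _ * fromBlocks _ _ _ _ = 1
  rw [fromBlocks_multiply]
  simp

theorem lev_conj_sy (M : GL (Fin m) F) (S : Matrix (Fin m) (Fin m) F) (hS : Sᵀ = S) :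
    lev M * sy S hS * (lev M)⁻¹ = sy (M.1 * S * M.1ᵀ) (by simp [hS, Matrix.mul_assoc]) := by
  rw [mul_inv_eq_iff_eq_mul]
  have h1 : M.1ᵀ * (M⁻¹).1ᵀ = 1 := by rw [← transpose_mul, ← Units.val_mul, inv_mul_cancel]; simp
  refine Subtype.ext ?_
  show fromBlocks _ _ _ _ * fromBlocks _ _ _ _ = fromBlocks _ _ _ _ * fromBlocks _ _ _ _
  rw [fromBlocks_multiply, fromBlocks_multiply]
  simp [-Matrix.coe_units_inv, Matrix.mul_assoc, h1]

/-- `SL_m` in the Levi subgroup. -/
def levS : Matrix.SpecialLinearGroup (Fin m) F →* Sp m F := lev.comp Matrix.SpecialLinearGroup.toGL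

@[simp] theorem levS_b11 (N : Matrix.SpecialLinearGroup (Fin m) F) : b11 (levS N) = N.1 := lev_b11 _
@[simp] theorem levS_b12 (N : Matrix.SpecialLinearGroup (Fin m) F) : b12 (levS N) = 0 := lev_b12 _
@[simp] theorem levS_b21 (N : Matrix.SpecialLinearGroup (Fin m) F) : b21 (levS N) = 0 := lev_b21 _

/-- Borel decomposition. -/
theorem exists_lev_sy {g : Sp m F} (h : b21 g = 0) :
    ∃ (M : GL (Fin m) F) (S : Matrix (Fin m) (Fin m) F) (hS : Sᵀ = S),
      g = lev M * sy S hS ∧ M.1 = b11 g := by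
  obtain ⟨-, h2, h3⟩ := rel g
  rw [h, transpose_zero, Matrix.zero_mul, sub_zero] at h3
  have h4 : (b22 g)ᵀ * b11 g = 1 := by
    have := congrArg Matrix.transpose h3
    simpa using this
  have h5 : b11 g * (b22 g)ᵀ = 1 := mul_eq_one_comm.1 h4
  let M : GL (Fin m) F := ⟨b11 g, (b22 g)ᵀ, h5, h4⟩
  have hS : ((b22 g)ᵀ * b12 g)ᵀ = (b22 g)ᵀ * b12 g := by
    rw [transpose_mul, transpose_transpose, h2]
  refine ⟨M, (b22 g)ᵀ * b12 g, hS, ?_, rfl⟩
  obtain ⟨e1, e2, e3, e4⟩ := blocks_mul (lev M) (sy ((b22 g)ᵀ * b12 g) hS)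
  refine sp_ext ?_ ?_ ?_ ?_
  · rw [e1]; simp [M]
  · rw [e2]; simp [M, ← Matrix.mul_assoc, h5]
  · rw [e3]; simp [h]
  · rw [e4]; simp [M]

theorem lev_sy_b11 (M : GL (Fin m) F) (S : Matrix (Fin m) (Fin m) F) (hS : Sᵀ = S) :
    b11 (lev M * sy S hS) = M.1 ∧ b12 (lev M * sy S hS) = M.1 * S ∧ b21 (lev M * sy S hS) = 0 := by
  obtain ⟨e1, e2, e3, -⟩ := blocks_mul (lev M) (sy S hS)
  rw [e1, e2, e3]
  simp

variable [Fintype F]

variable (F m) in
/-- The unipotent subgroup. -/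
def U0 : Subgroup (Sp m F) :=
  subgroupOfIdempotent {g : Sp m F | b21 g = 0 ∧ Deep 1 (b11 g - 1)}
    ⟨1, blocks_one.2.2.1, by rw [blocks_one.1, sub_self]; exact fun a b _ => rfl⟩
    (by
      refine Set.Subset.antisymm ?_ fun A hA => ⟨A, hA, 1,
        ⟨blocks_one.2.2.1, by rw [blocks_one.1, sub_self]; exact fun a b _ => rfl⟩, mul_one A⟩
      rintro _ ⟨A, hA, B, hB, rfl⟩
      obtain ⟨e1, -, e3, -⟩ := blocks_mul A B
      refine ⟨by rw [e3, hA.1, hB.1]; simp, ?_⟩
      rw [e1, hB.1, Matrix.mul_zero, add_zero,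
        show b11 A * b11 B - 1 = (b11 A - 1) * (b11 B - 1) + ((b11 A - 1) + (b11 B - 1)) by noncomm_ring]
      exact ((hA.2.mul hB.2).mono (by omega)).add (hA.2.add hB.2))

theorem mem_U0 {g : Sp m F} : g ∈ U0 F m ↔ b21 g = 0 ∧ Deep 1 (b11 g - 1) := Iff.rfl

theorem sy_mem_U0 (S : Matrix (Fin m) (Fin m) F) (hS : Sᵀ = S) : sy S hS ∈ U0 F m :=
  ⟨sy_b21 S hS, by rw [sy_b11, sub_self]; exact fun a b _ => rfl⟩

theorem levS_mem_U0 {N : Matrix.SpecialLinearGroup (Fin m) F} (hN : N ∈ U F m) : levS N ∈ U0 F m :=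
  ⟨levS_b21 N, by rw [levS_b11]; exact hN⟩

theorem exists_levS_sy {g : Sp m F} (hg : g ∈ U0 F m) :
    ∃ (N : Matrix.SpecialLinearGroup (Fin m) F) (S : Matrix (Fin m) (Fin m) F) (hS : Sᵀ = S),
      g = levS N * sy S hS ∧ N ∈ U F m ∧ N.1 = b11 g := by
  obtain ⟨M, S, hS, he, hM⟩ := exists_lev_sy hg.1
  have hdet : M.1.det = 1 := by
    rw [hM, det_of_upperTriangular (fun a b (hab : b < a) => by
      have := hg.2 a b (by omega); simpa [Matrix.one_apply_ne hab.ne'] using this)]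
    exact Finset.prod_eq_one fun a _ => sub_eq_zero.1 (by simpa using hg.2 a a (by omega))
  refine ⟨⟨M.1, hdet⟩, S, hS, ?_, ?_, hM⟩
  · rw [he]
    refine congrArg (fun x : GL (Fin m) F => lev x * sy S hS) ?_
    exact Units.ext rfl
  · show Deep 1 (M.1 - 1)
    rw [hM]
    exact hg.2

theorem b12_entry_mul {g h : Sp m F} (hg : g ∈ U0 F m) (hh : h ∈ U0 F m) {L : Fin m} (hL : (L : ℕ) + 1 = m) :
    b12 (g * h) L L = b12 g L L + b12 h L L := by
  obtain ⟨-, e2, -, -⟩ := blocks_mul g h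
  have hrow : ∀ c, b11 g L c = (1 : Matrix (Fin m) (Fin m) F) L c := fun c => by
    rcases eq_or_ne L c with rfl | hne
    · exact sub_eq_zero.1 (hg.2 L L (by omega))
    · exact sub_eq_zero.1 (hg.2 L c (by have := c.2; omega))
  obtain ⟨N, S, hS, rfl, hN, -⟩ := exists_levS_sy hh
  have hcol : ∀ c, b22 (levS N * sy S hS) c L = (1 : Matrix (Fin m) (Fin m) F) c L := fun c => by
    obtain ⟨-, -, -, f4⟩ := blocks_mul (levS N) (sy S hS)
    rw [f4]
    have h1 : (N⁻¹ : Matrix.SpecialLinearGroup (Fin m) F) ∈ U F m := inv_mem hN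
    have h2 : b22 (levS N) = (N⁻¹ : Matrix.SpecialLinearGroup (Fin m) F).1ᵀ := by
      rw [levS, MonoidHom.comp_apply, lev_b22, ← map_inv]
      rfl
    simp only [levS_b21, Matrix.zero_mul, zero_add, sy_b22, Matrix.mul_one, h2, transpose_apply]
    rcases eq_or_ne L c with rfl | hne
    · rw [Matrix.one_apply_eq]; exact U_diag h1 L
    · rw [U_below h1 (Fin.lt_def.2 (by have := c.2; have := Fin.val_ne_of_ne hne; omega)),
        Matrix.one_apply_ne hne.symm]
  rw [e2, Matrix.add_apply, Matrix.mul_apply, Finset.sum_eq_single L, Matrix.mul_apply, Finset.sum_eq_single L,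
    hrow, hcol, Matrix.one_apply_eq, one_mul, mul_one, add_comm]
  · intro c _ hc; rw [hcol, Matrix.one_apply_ne hc, mul_zero]
  · simp
  · intro c _ hc; rw [hrow, Matrix.one_apply_ne hc.symm, zero_mul]
  · simp

/-- The radical of a short minimal parabolic subgroup. -/
def RS (k k' : Fin m) (hk : (k' : ℕ) = k + 1) : Subgroup (Sp m F) where
  carrier := {g | g ∈ U0 F m ∧ b11 g k k' = 0}
  mul_mem' {g h} hg hh := ⟨mul_mem hg.1 hh.1, by
    obtain ⟨N, S, hS, rfl, hN, -⟩ := exists_levS_sy hg.1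
    obtain ⟨N', S', hS', rfl, hN', -⟩ := exists_levS_sy hh.1
    have e : ∀ (N : Matrix.SpecialLinearGroup (Fin m) F) (S : Matrix (Fin m) (Fin m) F) (hS : Sᵀ = S),
        b11 (levS N * sy S hS) = N.1 := fun N S hS => by rw [(blocks_mul _ _).1]; simp
    rw [(blocks_mul _ _).1, (blocks_mul _ _).2.2.1]
    simp only [e, levS_b21, sy_b21, Matrix.mul_zero, Matrix.zero_mul, add_zero]
    have hh2 : N'.1 k k' = 0 := by rw [← e N' S' hS']; exact hh.2
    have hg2 : N.1 k k' = 0 := by rw [← e N S hS]; exact hg.2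
    rw [← Matrix.SpecialLinearGroup.coe_mul, U_entry_mul hN hN' hk, hg2, hh2, add_zero]⟩
  one_mem' := ⟨one_mem _, by rw [blocks_one.1]; exact Matrix.one_apply_ne (fun e => by subst e; omega)⟩
  inv_mem' {g} hg := ⟨inv_mem hg.1, by
    obtain ⟨N, S, hS, rfl, hN, hNe⟩ := exists_levS_sy hg.1
    rw [_root_.mul_inv_rev, (blocks_mul _ _).1, ← map_inv]
    have h1 : (sy S hS)⁻¹ = sy (-S) (by rw [transpose_neg, hS]) :=
      inv_eq_of_mul_eq_one_right (by
        rw [sy_mul]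
        exact Subtype.ext (by show fromBlocks _ _ _ _ = 1; simp))
    rw [h1]
    simp only [sy_b11, sy_b12, levS_b11, levS_b21, Matrix.one_mul, Matrix.mul_zero, add_zero]
    have h2 := U_entry_mul hN (inv_mem hN) hk
    have hg2 : N.1 k k' = 0 := hNe ▸ hg.2
    rw [mul_inv_cancel, hg2, zero_add] at h2
    rw [← h2]
    exact Matrix.one_apply_ne (fun e => by subst e; omega)⟩

/-- The radical of the long minimal parabolic subgroup. -/
def RL (L : Fin m) (hL : (L : ℕ) + 1 = m) : Subgroup (Sp m F) where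
  carrier := {g | g ∈ U0 F m ∧ b12 g L L = 0}
  mul_mem' hg hh := ⟨mul_mem hg.1 hh.1, by rw [b12_entry_mul hg.1 hh.1 hL, hg.2, hh.2, add_zero]⟩
  one_mem' := ⟨one_mem _, by rw [blocks_one.2.1]; rfl⟩
  inv_mem' {g} hg := ⟨inv_mem hg.1, by
    have h := b12_entry_mul hg.1 (inv_mem hg.1) hL
    rw [mul_inv_cancel, blocks_one.2.1, hg.2, zero_add] at h
    exact h.symm⟩

theorem U0_isPGroup (p : ℕ) [hp : Fact p.Prime] [CharP F p] : IsPGroup p (U0 F m) := by
  intro g
  obtain ⟨N, S, hS, hg, hN, -⟩ := exists_levS_sy g.2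
  obtain ⟨a, ha⟩ := U_isPGroup p ⟨N, hN⟩
  have key : ∀ j : ℕ, ∃ (T : Matrix (Fin m) (Fin m) F) (hT : Tᵀ = T), (g : Sp m F) ^ j = levS (N ^ j) * sy T hT := by
    intro j
    induction j with
    | zero => exact ⟨0, transpose_zero, by
        rw [pow_zero, pow_zero, map_one, one_mul]
        exact Subtype.ext (by show _ = fromBlocks _ _ _ _; simp)⟩
    | succ j ih =>
      obtain ⟨T, hT, he⟩ := ih
      set M := Matrix.SpecialLinearGroup.toGL N
      have hc := lev_conj_sy M⁻¹ T hT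
      rw [map_inv, inv_inv] at hc
      refine ⟨S + (M⁻¹).1 * T * (M⁻¹).1ᵀ, by simp [hS, hT, Matrix.mul_assoc], ?_⟩
      rw [pow_succ, he, hg, pow_succ, map_mul, ← sy_mul _ S (by simp [hT, Matrix.mul_assoc]) hS, ← hc]
      show levS (N ^ j) * sy T hT * (levS N * sy S hS) = _
      rw [show lev M = levS N from rfl]
      group
  obtain ⟨T, hT, he⟩ := key (p ^ a)
  refine ⟨a + 1, Subtype.ext ?_⟩
  rw [Subgroup.coe_pow, pow_add, pow_one, pow_mul, he, show N ^ p ^ a = 1 from congrArg Subtype.val ha, map_one,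
    one_mul]
  have hpow : ∀ j : ℕ, (sy T hT) ^ j = sy ((j : F) • T) (by rw [transpose_smul, hT]) := by
    intro j
    induction j with
    | zero => exact Subtype.ext (by show _ = fromBlocks _ _ _ _; simp)
    | succ j ih => rw [pow_succ, ih, sy_mul]; exact sy_congr (by rw [Nat.cast_succ, add_smul, one_smul, add_comm]) _ _
  rw [hpow, OneMemClass.coe_one]
  exact Subtype.ext (by show fromBlocks _ _ _ _ = 1; simp [CharP.cast_eq_zero F p])

/-- The normalizer of the unipotent subgroup is upper triangular. -/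
theorem upper_of_normalizes {g : Sp m F} (hg : ∀ u ∈ U0 F m, g⁻¹ * u * g ∈ U0 F m) :
    b21 g = 0 ∧ ∀ a b : Fin m, b < a → b11 g a b = 0 := by
  suffices h : ∀ j : ℕ, ∀ x : Fin m, (x : ℕ) = j →
      (∀ y, b21 g y x = 0) ∧ ∀ y, x < y → b11 g y x = 0 from
    ⟨Matrix.ext fun a b => (h b b rfl).1 a, fun a b hab => (h b b rfl).2 a hab⟩
  intro j
  induction j using Nat.strong_induction_on with
  | _ j ih =>
  intro x hx
  -- a conjugate of an element of `U0` sends the `x`th basis vector into the earlier ones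
  have key : ∀ u ∈ U0 F m, (∀ y, (b11 u * b11 g + b12 u * b21 g) y x = b11 g y x +
        ∑ z ∈ Finset.Iio x, b11 g y z * (b11 (g⁻¹ * u * g)) z x) ∧
      ∀ y, (b21 u * b11 g + b22 u * b21 g) y x = b21 g y x := by
    intro u hu
    have hv := hg u hu
    set v := g⁻¹ * u * g
    have e : u * g = g * v := by simp [v, mul_assoc]
    constructor
    · intro y
      rw [← (blocks_mul u g).1, e, (blocks_mul g v).1, hv.1, Matrix.mul_zero, add_zero, Matrix.mul_apply,
        ← Finset.add_sum_erase _ _ (Finset.mem_univ x), show b11 v x x = 1 from sub_eq_zero.1 (by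
          simpa using hv.2 x x (by omega)), mul_one]
      congr 1
      refine (Finset.sum_subset (fun z hz => Finset.mem_erase.2 ⟨(Finset.mem_Iio.1 hz).ne, Finset.mem_univ _⟩) ?_).symm
      intro z hz hz'
      rw [Finset.mem_Iio, not_lt] at hz'
      have hne := (Finset.mem_erase.1 hz).1
      have h0 := hv.2 z x (by have := Fin.le_def.1 hz'; omega)
      rw [Matrix.sub_apply, Matrix.one_apply_ne hne, sub_zero] at h0
      rw [h0, mul_zero]
    · intro y
      rw [← (blocks_mul u g).2.2.1, e, (blocks_mul g v).2.2.1, hv.1, Matrix.mul_zero, add_zero, Matrix.mul_apply,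
        ← Finset.add_sum_erase _ _ (Finset.mem_univ x), show b11 v x x = 1 from sub_eq_zero.1 (by
          simpa using hv.2 x x (by omega)), mul_one, add_eq_left]
      refine Finset.sum_eq_zero fun z hz => ?_
      rcases lt_or_ge z x with hlt | hge
      · rw [(ih z (by omega) z rfl).1 y, zero_mul]
      · have hne := (Finset.mem_erase.1 hz).1
        have h0 := hv.2 z x (by have := Fin.le_def.1 hge; omega)
        rw [Matrix.sub_apply, Matrix.one_apply_ne hne, sub_zero] at h0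
        rw [h0, mul_zero]
  have hlow : ∀ y z : Fin m, x ≤ y → z < x → b11 g y z = 0 := fun y z hy hz =>
    (ih z (by omega) z rfl).2 y (lt_of_lt_of_le hz hy)
  have hsum : ∀ u ∈ U0 F m, ∀ y, x ≤ y → (b11 u * b11 g + b12 u * b21 g) y x = b11 g y x := fun u hu y hy => by
    rw [(key u hu).1 y, Finset.sum_eq_zero fun z hz => by rw [hlow y z hy (Finset.mem_Iio.1 hz), zero_mul], add_zero]
  -- lower left block
  have h21 : ∀ y, b21 g y x = 0 := by
    have hm : 0 < m := x.pos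
    set L : Fin m := ⟨m - 1, by omega⟩
    have hLv : (L : ℕ) = m - 1 := rfl
    have hL0 : b21 g L x = 0 := by
      have h := hsum (sy (single L L 1) (by simp)) (sy_mem_U0 _ _) L (Fin.le_def.2 (by omega))
      rw [sy_b11, sy_b12, Matrix.add_apply, Matrix.one_mul, single_mul', if_pos rfl, one_mul, add_eq_left] at h
      exact h
    suffices ∀ d : ℕ, ∀ y : Fin m, (y : ℕ) + d = m - 1 → b21 g y x = 0 from
      fun y => this (m - 1 - y) y (by omega)
    intro d
    induction d with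
    | zero => intro y hy; rwa [show y = L from Fin.ext (by omega)]
    | succ d ihd =>
      intro y hy
      set y' : Fin m := ⟨(y : ℕ) + 1, by omega⟩
      have hlt : y < y' := Fin.lt_def.2 (show (y : ℕ) < y + 1 by omega)
      have h := (key (levS (X hlt.ne 1)) (levS_mem_U0 (X_mem_U hlt 1))).2 y'
      have h22 : b22 (levS (X hlt.ne (1 : F))) = 1 + single y' y (-1) := by
        rw [levS, MonoidHom.comp_apply, lev_b22, ← map_inv, X_inv]
        show (X hlt.ne (-1 : F)).1ᵀ = _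
        rw [X_coe, transpose_add, transpose_one, transpose_single]
      rw [levS_b21, Matrix.zero_mul, zero_add, h22, Matrix.add_mul, Matrix.one_mul, Matrix.add_apply, single_mul',
        if_pos rfl, add_eq_left, neg_one_mul, neg_eq_zero] at h
      exact h
  refine ⟨h21, fun y hxy => ?_⟩
  set y' : Fin m := ⟨(y : ℕ) - 1, by omega⟩
  have hlt : y' < y := Fin.lt_def.2 (show (y : ℕ) - 1 < y by have := Fin.lt_def.1 hxy; omega)
  have h := hsum (levS (X hlt.ne 1)) (levS_mem_U0 (X_mem_U hlt 1)) y'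
    (Fin.le_def.2 (show (x : ℕ) ≤ (y : ℕ) - 1 by have := Fin.lt_def.1 hxy; omega))
  rw [levS_b11, levS_b12, Matrix.zero_mul, add_zero, X_coe, Matrix.add_mul, Matrix.one_mul, Matrix.add_apply,
    single_mul', if_pos rfl, one_mul, add_eq_left] at h
  exact h

end CfsgLib.PGroup.BorelSp
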