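import Mathlib
import Cfsg.Agent.Lib.PGroup.Frattini
import Cfsg.Agent.Lib.OddOrder.OmegaLemma
import Cfsg.Agent.S0093
import Cfsg.Agent.S0121

/-!
A p'-element fixing every element of order p (and of order 4 when p = 2) of a p-group
centralizes it; the subgroup of elements of small order of a critical subgroup.
-/

set_option autoImplicit false

namespace CfsgLib.PGroup.CoprimeFix

open Subgroup
open scoped commutatorElement

/-- The exponent `p` for odd `p`, and `4` for `p = 2`. -/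
def qq (p : ℕ) : ℕ := if p = 2 then 4 else p

theorem dvd_qq (p : ℕ) : p ∣ qq p := by
  unfold qq; split_ifs with h
  · subst h; norm_num
  · exact dvd_rfl

section ClassTwo

variable {P : Type*} [Group P] [Finite P] {p : ℕ} [Fact p.Prime]

/-- The properties of a critical subgroup used here. -/
structure ClassTwo (p : ℕ) (C : Subgroup P) : Prop where
  comm : ∀ u ∈ C, ∀ v ∈ C, ∀ w ∈ C, Commute ⁅u, v⁆ w
  pow : ∀ u ∈ C, ∀ w ∈ C, Commute (u ^ p) w

theorem ClassTwo.commutator_pow_eq_one {C : Subgroup P} (hC : ClassTwo p C) {u v : P}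
    (hu : u ∈ C) (hv : v ∈ C) : ⁅u, v⁆ ^ p = 1 := by
  have h1 := CfsgLib.OddOrder.OmegaLemma.pow_mul_comm_central (u := v) (v := u) (z := ⁅u, v⁆)
    (by simp [commutatorElement_def, mul_assoc]) (hC.comm u hu v hv u hu) (hC.comm u hu v hv v hv) p
  rw [(hC.pow u hu v hv).eq] at h1
  exact mul_eq_right.mp h1.symm

theorem ClassTwo.mul_pow_eq {C : Subgroup P} (hC : ClassTwo p C) {u v : P} (hu : u ∈ C) (hv : v ∈ C)
    (n : ℕ) : (u * v) ^ n = ⁅v, u⁆ ^ n.choose 2 * (u ^ n * v ^ n) :=
  CfsgLib.OddOrder.OmegaLemma.mul_pow_central (by simp [commutatorElement_def, mul_assoc])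
    (hC.comm v hv u hu v hv) (hC.comm v hv u hu u hu) n

theorem ClassTwo.commutator_pow_choose {C : Subgroup P} (hC : ClassTwo p C) {u v : P}
    (hu : u ∈ C) (hv : v ∈ C) : ⁅u, v⁆ ^ (qq p).choose 2 = 1 := by
  refine orderOf_dvd_iff_pow_eq_one.mp ((orderOf_dvd_of_pow_eq_one
    (hC.commutator_pow_eq_one hu hv)).trans ?_)
  unfold qq; split_ifs with h
  · subst h; decide
  · exact (Fact.out : p.Prime).dvd_choose_self two_ne_zero
      (lt_of_le_of_ne (Fact.out : p.Prime).two_le (Ne.symm h))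

/-- The elements `x` of a class two critical subgroup with `x ^ qq p = 1`. -/
def ClassTwo.small {C : Subgroup P} (hC : ClassTwo p C) : Subgroup P where
  carrier := {x | x ∈ C ∧ x ^ qq p = 1}
  one_mem' := ⟨one_mem _, one_pow _⟩
  mul_mem' := fun {a b} ha hb => ⟨mul_mem ha.1 hb.1, by
    rw [hC.mul_pow_eq ha.1 hb.1, hC.commutator_pow_choose hb.1 ha.1, ha.2, hb.2, one_mul, one_mul]⟩
  inv_mem' := fun {a} ha => ⟨inv_mem ha.1, by rw [inv_pow, ha.2, inv_one]⟩

/-- The critical subgroup, with its class two properties. -/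
theorem exists_critical (hP : IsPGroup p P) :
    ∃ C : Subgroup P, C.Characteristic ∧ ClassTwo p C ∧
      ∀ a : MulAut P, (orderOf a).Coprime p → (∀ x ∈ C, a x = x) → a = 1 := by
  obtain ⟨C, hc, h1, h2, h3⟩ := Cfsg.Agent.S0093.result hP
  refine ⟨C, hc, ⟨fun u hu v hv w hw => ?_, fun u hu w hw => ?_⟩,
    fun a ha h => Cfsg.Agent.S0121.result hP C hc h1 h2 h3 a ha h⟩
  · exact ((h2 (commutator_mem_commutator hu (mem_top v))).2 w hw).symm
  · have : u ^ p ∈ (frattini C).map C.subtype :=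
      ⟨⟨u, hu⟩ ^ p, Frattini.pow_mem_frattini (hP.to_subgroup C) ⟨u, hu⟩, rfl⟩
    exact ((h1 this) w hw).symm

/-- A p'-automorphism of a p-group fixing all small elements is trivial. -/
theorem eq_one_of_fix (hP : IsPGroup p P) (a : MulAut P) (ha : (orderOf a).Coprime p)
    (h : ∀ x : P, x ^ qq p = 1 → a x = x) : a = 1 := by
  obtain ⟨C, hc, hC, hcrit⟩ := exists_critical hP
  have hp : p.Prime := Fact.out
  refine hcrit a ha fun x hx => ?_
  induction hn : orderOf x using Nat.strong_induction_on generalizing x with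
  | h n ih =>
  subst hn
  by_cases hx1 : x = 1
  · rw [hx1, map_one]
  obtain ⟨k, hk⟩ := hP x
  obtain ⟨i, -, hi⟩ := (Nat.dvd_prime_pow hp).mp (orderOf_dvd_of_pow_eq_one hk)
  have hi0 : i ≠ 0 := fun h0 => hx1 (orderOf_eq_one_iff.mp (by rw [hi, h0, pow_zero]))
  have hxp : a (x ^ p) = x ^ p := ih _ (by
    rw [orderOf_pow, Nat.gcd_eq_right (hi ▸ dvd_pow_self p hi0)]
    exact Nat.div_lt_self (orderOf_pos x) hp.one_lt) _ (pow_mem hx p) rfl
  set w := x⁻¹ * a x with hw
  have hax : a x = x * w := by rw [hw, mul_inv_cancel_left]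
  have hwC : w ∈ C := mul_mem (inv_mem hx) (characteristic_iff_map_le.mp hc a ⟨x, hx, rfl⟩)
  have hwp : w ^ p = (⁅w, x⁆ ^ p.choose 2)⁻¹ := by
    have h1 : (x * w) ^ p = x ^ p := by rw [← hax, ← map_pow, hxp]
    have hz : Commute (⁅w, x⁆ ^ p.choose 2) (x ^ p) :=
      ((hC.comm w hwC x hx x hx).pow_left _).pow_right p
    rw [hC.mul_pow_eq hx hwC, ← mul_assoc, hz.eq, mul_assoc, mul_eq_left,
      mul_eq_one_iff_inv_eq] at h1
    exact h1.symm
  have hwq : w ^ qq p = 1 := by
    unfold qq; split_ifs with h2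
    · subst h2
      rw [show (4 : ℕ) = 2 * 2 by norm_num, pow_mul, hwp, show Nat.choose 2 2 = 1 from rfl, pow_one,
        inv_pow, hC.commutator_pow_eq_one hwC hx, inv_one]
    · rw [hwp, inv_eq_one, ← orderOf_dvd_iff_pow_eq_one]
      exact (orderOf_dvd_of_pow_eq_one (hC.commutator_pow_eq_one hwC hx)).trans
        (hp.dvd_choose_self two_ne_zero (lt_of_le_of_ne hp.two_le (Ne.symm h2)))
  have haw := h w hwq
  have hit : ∀ j : ℕ, (a ^ j) x = x * w ^ j := by
    intro j
    induction j with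
    | zero => simp
    | succ j ih' =>
      rw [pow_succ', MulAut.mul_apply, ih', map_mul, map_pow, haw, hax, mul_assoc, ← pow_succ']
  have h1 := hit (orderOf a)
  rw [pow_orderOf_eq_one, MulAut.one_apply, left_eq_mul] at h1
  obtain ⟨k', hk'⟩ := hP w
  have : w = 1 := orderOf_eq_one_iff.mp (Nat.dvd_one.mp ((Nat.Coprime.pow_right k' ha) ▸
    Nat.dvd_gcd (orderOf_dvd_of_pow_eq_one h1) (orderOf_dvd_of_pow_eq_one hk')))
  rw [hax, this, mul_one]

end ClassTwo

variable {G : Type*} [Group G] [Finite G] {p : ℕ} [Fact p.Prime]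

/-- A p'-element normalizing a p-subgroup and fixing its small elements centralizes it. -/
theorem centralizes_of_fix {H : Subgroup G} (hH : IsPGroup p H) {g : G}
    (hg : g ∈ normalizer (H : Set G)) (ho : (orderOf g).Coprime p)
    (h : ∀ x ∈ H, x ^ qq p = 1 → g * x = x * g) : g ∈ centralizer (H : Set G) := by
  let f := H.normalizerMonoidHom
  have hd : (orderOf (f ⟨g, hg⟩)).Coprime p :=
    ho.coprime_dvd_left ((orderOf_map_dvd f _).trans (by rw [Subgroup.orderOf_mk]))
  have ha := eq_one_of_fix hH (f ⟨g, hg⟩) hd fun x hx => Subtype.ext (by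
    show g * (x : G) * g⁻¹ = x
    rw [h x x.2 (congrArg Subtype.val hx), mul_inv_cancel_right])
  intro x hx
  have h' := congrArg Subtype.val (DFunLike.congr_fun ha (⟨x, hx⟩ : H))
  have : g * x * g⁻¹ = x := h'
  exact (mul_inv_eq_iff_eq_mul.mp this).symm

end CfsgLib.PGroup.CoprimeFix
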