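import Cfsg.Agent.Lib.PGroup.SelfNormSylow
import Cfsg.Agent.Lib.SmallGroups.Simplicity
import Cfsg.Agent.Lib.SmallGroups.PrimeDegree
import Cfsg.Agent.Lib.SmallGroups.JordanCycle
import Cfsg.Agent.S0713

/-! Permutation groups with a cycle of prime length greater than half the degree; the exceptional
degrees six, seven and thirteen. -/

set_option autoImplicit false

namespace CfsgLib.PGroup.AltGen

open MulAction Equiv Subgroup
open scoped Pointwise

variable {X : Type*} [Fintype X] [DecidableEq X]

theorem isPreprimitive_of_long_cycle {G : Subgroup (Perm X)} [IsPretransitive G X] {y : Perm X}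
    (hyc : y.IsCycle) (hyG : y ∈ G) (hq : y.support.card.Prime)
    (hd : Fintype.card X < 2 * y.support.card) : IsPreprimitive G X := by
  classical
  obtain ⟨a, ha⟩ := Finset.card_pos.1 hq.pos
  refine IsPreprimitive.of_isTrivialBlock_base a (fun {B} haB hB => ?_)
  by_cases hyB : (⟨y, hyG⟩ : G) • B = B
  · right
    refine hB.eq_univ_of_card_lt ?_
    have hpow : ∀ n : ℕ, (y ^ n) a ∈ B := by
      intro n
      induction n with
      | zero => simpa using haB
      | succ n ih =>
        rw [pow_succ', Perm.mul_apply, ← hyB]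
        exact Set.smul_mem_smul_set ih
    have hsub : (y.support : Set X) ⊆ B := fun z hz => by
      obtain ⟨n, rfl⟩ := hyc.exists_pow_eq (Perm.mem_support.1 ha) (Perm.mem_support.1 hz)
      exact hpow n
    have := Set.ncard_le_ncard hsub (Set.toFinite _)
    rw [Set.ncard_coe_finset] at this
    rw [Nat.card_eq_fintype_card]; omega
  · left
    -- the translates by powers of `y` are disjoint
    set g : G := ⟨y, hyG⟩ with hg
    set q := y.support.card with hqdef
    have hgq : orderOf g = q := by
      rw [← Subgroup.orderOf_coe, hg, hyc.orderOf]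
    have hfact := Fact.mk hq
    by_contra hns
    have h2 : 2 ≤ B.ncard := Set.one_lt_ncard_iff_nontrivial.2 (Set.not_subsingleton_iff.1 hns)
    have hinj : Function.Injective fun i : Fin q => g ^ (i : ℕ) • B := by
      intro i j hij
      simp only at hij
      by_contra hne
      apply hyB
      wlog hlt : (i : ℕ) < j generalizing i j
      · exact this hij.symm (Ne.symm hne)
          (lt_of_le_of_ne (not_lt.1 hlt) fun e => hne (Fin.ext e.symm))
      have hk : g ^ ((j : ℕ) - i) • B = B := by
        apply smul_left_cancel (g ^ (i : ℕ))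
        rw [smul_smul, ← pow_add, Nat.add_sub_cancel' hlt.le]
        exact hij.symm
      have hmem : g ^ ((j : ℕ) - i) ∈ stabilizer G B := hk
      have hcop : Nat.Coprime ((j : ℕ) - i) (orderOf g) := by
        rw [hgq, Nat.coprime_comm, hq.coprime_iff_not_dvd]
        intro hd'
        have := Nat.le_of_dvd (by omega) hd'
        omega
      obtain ⟨k, hk'⟩ := exists_pow_eq_self_of_coprime hcop
      have h3 : (g ^ ((j : ℕ) - i)) ^ k ∈ stabilizer G B := pow_mem hmem k
      rw [hk'] at h3
      exact h3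
    have hne : B.Nonempty := ⟨a, haB⟩
    have horb := hB.ncard_block_mul_ncard_orbit_eq hne
    have : q ≤ (orbit G B).ncard := by
      have hr : Set.range (fun i : Fin q => g ^ (i : ℕ) • B) ⊆ orbit G B := by
        rintro _ ⟨i, rfl⟩; exact mem_orbit B _
      calc q = (Set.range fun i : Fin q => g ^ (i : ℕ) • B).ncard := by
            rw [Set.ncard_range_of_injective hinj, Nat.card_eq_fintype_card, Fintype.card_fin]
        _ ≤ _ := Set.ncard_le_ncard hr (Set.toFinite _)
    rw [Nat.card_eq_fintype_card] at horb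
    have := Nat.mul_le_mul h2 this
    omega

theorem card_le_factorial {G : Subgroup (Perm X)} (hX : 5 ≤ Fintype.card X)
    (hG : G ≤ alternatingGroup X) (hne : G ≠ alternatingGroup X) :
    Nat.card (alternatingGroup X) ≤ (G.relIndex (alternatingGroup X)).factorial := by
  have : IsSimpleGroup (alternatingGroup X) :=
    alternatingGroup.isSimpleGroup (by rw [Nat.card_eq_fintype_card]; exact hX)
  set H := G.subgroupOf (alternatingGroup X)
  have hH : H ≠ ⊤ := fun h => hne (le_antisymm hG (subgroupOf_eq_top.1 h))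
  rcases (MonoidHom.normal_ker (MulAction.toPermHom (alternatingGroup X)
    (alternatingGroup X ⧸ H))).eq_bot_or_eq_top with h | h
  · have h1 := Nat.card_le_card_of_injective _ ((MonoidHom.ker_eq_bot_iff _).1 h)
    rwa [Nat.card_perm] at h1
  · exfalso
    refine hH (eq_top_iff.2 fun g _ => ?_)
    have h1 : g ∈ (MulAction.toPermHom (alternatingGroup X) (alternatingGroup X ⧸ H)).ker :=
      h ▸ Subgroup.mem_top g
    have h2 := congrArg (fun σ => σ (QuotientGroup.mk (1 : alternatingGroup X))) (MonoidHom.mem_ker.1 h1)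
    simp only [toPermHom_apply, toPerm_apply, Perm.one_apply] at h2
    change QuotientGroup.mk (g * 1) = QuotientGroup.mk (1 : alternatingGroup X) at h2
    rw [QuotientGroup.eq] at h2
    simpa using H.inv_mem h2

theorem card_alternating {n : ℕ} (hX : Fintype.card X = n) (hn : 2 ≤ n) :
    Nat.card (alternatingGroup X) = n.factorial / 2 := by
  have : Nontrivial X := Fintype.one_lt_card_iff_nontrivial.1 (by omega)
  rw [nat_card_alternatingGroup, Nat.card_eq_fintype_card, hX]

theorem alternatingGroup_mulEquiv {Y : Type*} [Fintype Y] [DecidableEq Y] {n : ℕ}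
    (h : Fintype.card Y = n) : Nonempty (alternatingGroup Y ≃* alternatingGroup (Fin n)) :=
  ⟨Equiv.altCongrHom (Fintype.equivFinOfCardEq h)⟩

/-- A subgroup of index six in the alternating group of degree six is alternating of degree five. -/
theorem index_six (hX : Fintype.card X = 6) {G : Subgroup (Perm X)} (hG : G ≤ alternatingGroup X)
    (h60 : Nat.card G = 60) : Nonempty (G ≃* alternatingGroup (Fin 5)) := by
  classical
  have : IsSimpleGroup (alternatingGroup X) :=
    alternatingGroup.isSimpleGroup (by rw [Nat.card_eq_fintype_card]; omega)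
  have hA : Nat.card (alternatingGroup X) = 360 := by
    rw [card_alternating hX (by norm_num)]; rfl
  let H : Subgroup (alternatingGroup X) := G.subgroupOf (alternatingGroup X)
  have hH : Nat.card H = 60 := by rw [Nat.card_congr (subgroupOfEquivOfLe hG).toEquiv, h60]
  let Y := alternatingGroup X ⧸ H
  have : Fintype Y := Fintype.ofFinite _
  have hY : Fintype.card Y = 6 := by
    have e := H.index_mul_card
    rw [hH, hA, index_eq_card, Nat.card_eq_fintype_card] at e
    exact Nat.eq_of_mul_eq_mul_right (by norm_num : 0 < 60) (e.trans (by norm_num : 360 = 6 * 60))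
  let f := MulAction.toPermHom (alternatingGroup X) Y
  have hstab : ∀ g : alternatingGroup X, f g ((1 : alternatingGroup X) : Y) = ((1 : alternatingGroup X) : Y)
      ↔ g ∈ H := by
    intro g
    change ((g * 1 : alternatingGroup X) : Y) = ((1 : alternatingGroup X) : Y) ↔ _
    rw [QuotientGroup.eq]
    simp
  have hf : Function.Injective f := by
    rw [← MonoidHom.ker_eq_bot_iff]
    refine (MonoidHom.normal_ker f).eq_bot_or_eq_top.resolve_right fun h => ?_
    have hle : (⊤ : Subgroup (alternatingGroup X)) ≤ H := fun g _ => (hstab g).1 (by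
      rw [MonoidHom.mem_ker.1 (h ▸ Subgroup.mem_top g : g ∈ f.ker)]; rfl)
    have := congrArg (fun K : Subgroup _ => Nat.card K) (top_le_iff.1 hle)
    simp only [hH, Subgroup.card_top, hA] at this
    omega
  have hsign : ∀ g, f g ∈ alternatingGroup Y := by
    intro g
    rw [Perm.mem_alternatingGroup]
    rcases (MonoidHom.normal_ker (Perm.sign.comp f)).eq_bot_or_eq_top with h | h
    · have h1 := Nat.card_le_card_of_injective _ ((MonoidHom.ker_eq_bot_iff _).1 h)
      rw [hA, Nat.card_eq_fintype_card, Fintype.card_units_int] at h1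
      omega
    · exact MonoidHom.mem_ker.1 (h ▸ Subgroup.mem_top g : g ∈ (Perm.sign.comp f).ker)
  let f' := f.codRestrict (alternatingGroup Y) hsign
  have hf' : Function.Bijective f' := by
    rw [Fintype.bijective_iff_injective_and_card]
    refine ⟨fun a b h => hf (congrArg Subtype.val h), ?_⟩
    rw [← Nat.card_eq_fintype_card, ← Nat.card_eq_fintype_card, hA, card_alternating hY (by norm_num)]
    rfl
  let s : Finset Y := ({((1 : alternatingGroup X) : Y)} : Finset Y)ᶜ
  have hs : H.map f' = (alternatingGroup.ofSubtype s).range := by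
    ext k
    rw [alternatingGroup.mem_range_ofSubtype_iff]
    constructor
    · rintro ⟨g, hg, rfl⟩ y hy
      rw [Perm.mem_support] at hy
      simp only [s, Finset.mem_compl, Finset.mem_singleton]
      rintro rfl
      exact hy ((hstab g).2 hg)
    · intro hk
      obtain ⟨g, rfl⟩ := hf'.2 k
      refine ⟨g, (hstab g).1 ?_, rfl⟩
      by_contra hne
      have := hk (Perm.mem_support.2 hne)
      simp [s] at this
  have hs5 : Fintype.card s = 5 := by
    rw [Fintype.card_coe, Finset.card_compl, Finset.card_singleton, hY]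
  obtain ⟨e1⟩ := alternatingGroup_mulEquiv hs5
  exact ⟨(subgroupOfEquivOfLe hG).symm.trans ((H.equivMapOfInjective f' hf'.1).trans
    ((MulEquiv.subgroupCongr hs).trans ((MonoidHom.ofInjective (fun a b h =>
      alternatingGroup.ofSubtype_inj.1 h)).symm.trans e1)))⟩

theorem fixes_fixed {c t : Perm X} (ht : t ∈ normalizer (zpowers c : Set (Perm X))) {z : X}
    (hz : c z = z) : c (t z) = t z := by
  have h1 : t⁻¹ * c * t⁻¹⁻¹ ∈ zpowers c :=
    (mem_normalizer_iff.1 (inv_mem ht) c).1 (mem_zpowers c)
  obtain ⟨i, hi⟩ := mem_zpowers_iff.1 h1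
  have h2 : (c ^ i) z = z := Perm.zpow_apply_eq_self_of_apply_eq_self hz i
  rw [hi, inv_inv, Perm.mul_apply, Perm.mul_apply, Perm.inv_eq_iff_eq] at h2
  exact h2

theorem normalizes_map {G : Subgroup (Perm X)} {J : Subgroup G} {c : J} {t : J}
    (ht : t ∈ normalizer (zpowers c : Set J)) :
    ((t : G) : Perm X) ∈ normalizer (zpowers ((c : G) : Perm X) : Set (Perm X)) := by
  have h := Subgroup.le_normalizer_map (G.subtype.comp J.subtype) ⟨t, ht, rfl⟩
  rwa [MonoidHom.map_zpowers] at h

/-- An element commuting with a cycle and fixing every other point is a power of the cycle. -/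
theorem eq_pow_of_commute {c h : Perm X} (hc : c.IsCycle) (hcomm : Commute c h)
    (hfix : ∀ z, c z = z → h z = z) : h ∈ zpowers c := by
  obtain ⟨a, ha, hcy⟩ := id hc
  have hha : c (h a) ≠ h a := by
    intro e
    apply ha
    apply h.injective
    rw [← Perm.mul_apply, ← hcomm.eq, Perm.mul_apply, e]
  obtain ⟨i, hi⟩ := hcy hha
  refine mem_zpowers_iff.2 ⟨i, Equiv.ext fun z => ?_⟩
  by_cases hz : c z = z
  · rw [hfix z hz, Perm.zpow_apply_eq_self_of_apply_eq_self hz]
  · obtain ⟨j, rfl⟩ := hcy hz
    rw [← Perm.mul_apply h, ← (hcomm.zpow_left j).eq, Perm.mul_apply, ← hi, ← Perm.mul_apply,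
      ← Perm.mul_apply, ← zpow_add, ← zpow_add, add_comm]

theorem card_mul_stabilizer {G : Subgroup (Perm X)} [IsPretransitive G X] (a : X) :
    Fintype.card X * Nat.card (stabilizer G a) = Nat.card G := by
  rw [← Nat.card_eq_fintype_card (α := X), ← (stabilizer G a).index_mul_card,
    index_stabilizer_of_transitive]

/-- A cycle of prime length fixing exactly two points in a primitive group gives triple
transitivity. -/
theorem three_pretransitive {G : Subgroup (Perm X)} (hG : IsPreprimitive G X) {c : Perm X}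
    (hc : c.IsCycle) (hcG : c ∈ G) (hp : c.support.card.Prime)
    (hn : Fintype.card X = c.support.card + 2) : IsMultiplyPretransitive G X 3 := by
  have hmp : IsMultiplyPreprimitive G X (1 + 2) := by
    refine hG.isMultiplyPreprimitive (s := (c.support : Set X)ᶜ) ?_ ?_ ?_
    · rw [← Finset.coe_compl, Set.ncard_coe_finset, Finset.card_compl]; omega
    · rw [Nat.card_eq_fintype_card]; have := hp.two_le; omega
    · have := Perm.isPretransitive_of_isCycle_mem hc hcG
      apply IsPreprimitive.of_prime_card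
      convert hp using 1
      classical
      rw [Nat.card_eq_fintype_card, Fintype.card_subtype]
      congr 1
      ext x
      simp [SubMulAction.mem_ofFixingSubgroup_iff]
  exact hmp.isMultiplyPretransitive

theorem card_mul_fixing {G : Subgroup (Perm X)} (hG : IsPreprimitive G X) {c : Perm X}
    (hc : c.IsCycle) (hcG : c ∈ G) (hp : c.support.card.Prime)
    (hn : Fintype.card X = c.support.card + 2) :
    Fintype.card X * (Fintype.card X - 1) * Nat.card (fixingSubgroup G ((c.support : Set X)ᶜ)) =
      Nat.card G := by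
  have h3 := three_pretransitive hG hc hcG hp hn
  have h2 : IsMultiplyPretransitive G X 2 := by
    refine isMultiplyPretransitive_of_le' (n := 3) (by omega) ?_
    rw [ENat.card_eq_coe_natCard, Nat.card_eq_fintype_card]
    exact_mod_cast (by have := hp.two_le; omega : 3 ≤ Fintype.card X)
  have hs : ((c.support : Set X)ᶜ).ncard = 2 := by
    rw [← Finset.coe_compl, Set.ncard_coe_finset, Finset.card_compl]; omega
  have h := h2.index_of_fixingSubgroup_mul hs
  obtain ⟨k, hk⟩ : ∃ k, Fintype.card X = k + 2 := ⟨_, hn⟩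
  rw [Nat.card_eq_fintype_card, hk, Nat.add_sub_cancel, Nat.factorial_succ, Nat.factorial_succ,
    ← mul_assoc] at h
  have h' := Nat.eq_of_mul_eq_mul_right (Nat.factorial_pos k) h
  rw [← (fixingSubgroup G ((c.support : Set X)ᶜ)).index_mul_card, h', hk]
  simp only [show k + 2 - 1 = k + 1 by omega, show k + 1 + 1 = k + 2 by omega]

/-- If the two-point stabiliser is generated by the cycle, the degree minus one is a prime power. -/
theorem fixing_ne_self {G : Subgroup (Perm X)} (hG : IsPreprimitive G X) {c : Perm X}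
    (hc : c.IsCycle) (hcG : c ∈ G) {p r s : ℕ} (hp : p.Prime) (hcp : c.support.card = p)
    (hn : Fintype.card X = p + 2) [Fact r.Prime] [Fact s.Prime] (hr : r ∣ p + 1) (hs : s ∣ p + 1)
    (hrs : r ≠ s) : Nat.card (fixingSubgroup G ((c.support : Set X)ᶜ)) ≠ p := by
  classical
  intro hK
  have := Fact.mk hp
  have := hG.toIsPretransitive
  have hmul := card_mul_fixing hG hc hcG (hcp ▸ hp) (by rw [hcp, hn])
  obtain ⟨a, ha⟩ : ∃ a, a ∉ c.support := by
    by_contra h
    push Not at h
    have := congrArg Finset.card (Finset.eq_univ_iff_forall.2 h)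
    rw [Finset.card_univ, hcp, hn] at this
    omega
  have hca : c a = a := Perm.notMem_support.1 ha
  have hJ := card_mul_stabilizer (G := G) a
  rw [← hmul, hK, hn, mul_assoc] at hJ
  have hJc : Nat.card (stabilizer G a) = (p + 1) * p := by
    simpa using Nat.eq_of_mul_eq_mul_left (by omega : 0 < p + 2) hJ
  let cJ : stabilizer G a := ⟨⟨c, hcG⟩, hca⟩
  have hord : orderOf cJ = p := by
    rw [← Subgroup.orderOf_coe, ← Subgroup.orderOf_coe, hc.orderOf, hcp]
  refine SelfNormSylow.absurd_of_two_primes (r := r) (s := s) cJ hord ?_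
    (by rw [hJc, mul_comm]) hr hs hrs
  intro t ht
  have htn := normalizes_map ht
  have htK : (t : G) ∈ fixingSubgroup G ((c.support : Set X)ᶜ) := by
    refine (mem_fixingSubgroup_iff _).2 fun z hz => ?_
    rw [Set.mem_compl_iff, Finset.mem_coe] at hz
    have hta : ((t : G) : Perm X) a = a := t.2
    by_cases hza : z = a
    · rw [hza]; exact hta
    have h2 : (c.support)ᶜ = {a, z} := by
      refine (Finset.eq_of_subset_of_card_le ?_ ?_).symm
      · intro w hw
        rw [Finset.mem_insert, Finset.mem_singleton] at hw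
        rcases hw with rfl | rfl
        · exact Finset.mem_compl.2 ha
        · exact Finset.mem_compl.2 hz
      · rw [Finset.card_compl, hcp, hn, Finset.card_insert_of_notMem (by simpa using Ne.symm hza),
          Finset.card_singleton]
        omega
    have htz : ((t : G) : Perm X) z ∈ (c.support)ᶜ := by
      rw [Finset.mem_compl, Perm.notMem_support]
      exact fixes_fixed htn (Perm.notMem_support.1 hz)
    rw [h2, Finset.mem_insert, Finset.mem_singleton] at htz
    rcases htz with h | h
    · exact absurd (((t : G) : Perm X).injective (h.trans hta.symm)) hza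
    · exact h
  have hle : zpowers (⟨c, hcG⟩ : G) ≤ fixingSubgroup G ((c.support : Set X)ᶜ) := by
    rw [zpowers_le, mem_fixingSubgroup_iff]
    intro z hz
    exact Perm.notMem_support.1 (by simpa using hz)
  have heq : zpowers (⟨c, hcG⟩ : G) = fixingSubgroup G ((c.support : Set X)ᶜ) :=
    Subgroup.eq_of_le_of_card_ge hle
      (by rw [hK, Nat.card_zpowers, ← Subgroup.orderOf_coe, hc.orderOf, hcp])
  rw [← heq] at htK
  obtain ⟨i, hi⟩ := mem_zpowers_iff.1 htK
  exact mem_zpowers_iff.2 ⟨i, Subtype.ext (by simpa [cJ] using hi)⟩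

theorem deg_six {G : Subgroup (Perm X)} (hX : Fintype.card X = 6) (hGA : G ≤ alternatingGroup X)
    (hG : IsPreprimitive G X) {c : Perm X} (hc : c.IsCycle) (hcG : c ∈ G) (hc5 : c.support.card = 5)
    {x : Perm X} (hxG : x ∈ G) (hx3 : orderOf x = 3) :
    G = alternatingGroup X ∨ Nonempty (G ≃* alternatingGroup (Fin 5)) := by
  classical
  by_cases hne : G = alternatingGroup X
  · exact Or.inl hne
  right
  refine index_six hX hGA ?_
  have := hG.toIsPretransitive
  have hA : Nat.card (alternatingGroup X) = 360 := by rw [card_alternating hX (by norm_num)]; rfl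
  have hk := card_le_factorial (by omega) hGA hne
  rw [hA] at hk
  have hdvd : Nat.card G ∣ 360 := hA ▸ Subgroup.card_dvd_of_le hGA
  have hmul : G.relIndex (alternatingGroup X) * Nat.card G = 360 := by
    have := Subgroup.relIndex_mul_relIndex ⊥ G _ bot_le hGA
    rw [relIndex_bot_left, relIndex_bot_left, mul_comm, hA] at this
    exact this
  have h30 : 30 ∣ Nat.card G := by
    have e3 : 3 ∣ Nat.card G := hx3 ▸ Subgroup.orderOf_dvd_natCard _ hxG
    have e5 : 5 ∣ Nat.card G := by
      have h := Subgroup.orderOf_dvd_natCard _ hcG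
      rwa [hc.orderOf, hc5] at h
    have e6 : 6 ∣ Nat.card G := by
      obtain ⟨a⟩ := Fintype.card_pos_iff.1 (show 0 < Fintype.card X by omega)
      have h := card_mul_stabilizer (G := G) a
      rw [hX] at h
      exact Dvd.intro _ h
    omega
  obtain ⟨j, hj⟩ := h30
  have hj12 : j ∣ 12 := by
    obtain ⟨k, hk'⟩ := hdvd
    exact ⟨k, by rw [hj, mul_assoc] at hk'; omega⟩
  have hk6 : 6 ≤ G.relIndex (alternatingGroup X) := by
    by_contra h
    have := Nat.factorial_le (show G.relIndex (alternatingGroup X) ≤ 5 by omega)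
    norm_num [Nat.factorial] at this
    omega
  have hjle : j ≤ 2 := by
    by_contra h
    have := Nat.mul_le_mul hk6 (show 30 * 3 ≤ Nat.card G by omega)
    omega
  have hj0 : j ≠ 0 := by rintro rfl; norm_num at hj12
  rcases (show j = 1 ∨ j = 2 by omega) with rfl | rfl
  · exfalso
    have : Fact (Nat.Prime 5) := ⟨by norm_num⟩
    have : Fact (Nat.Prime 2) := ⟨by norm_num⟩
    have : Fact (Nat.Prime 3) := ⟨by norm_num⟩
    refine SelfNormSylow.absurd_of_two_primes (p := 5) (r := 2) (s := 3) (⟨c, hcG⟩ : G)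
      (by rw [← Subgroup.orderOf_coe, hc.orderOf, hc5]) ?_ (by omega) (by norm_num) (by norm_num)
      (by norm_num)
    intro t ht
    obtain ⟨a, ha⟩ := Finset.card_eq_one.1
      (show (c.supportᶜ).card = 1 by rw [Finset.card_compl, hc5, hX])
    have hfix : ∀ z, c z = z ↔ z = a := fun z => by
      rw [← Perm.notMem_support, ← Finset.mem_compl, ha, Finset.mem_singleton]
    have h2 := card_mul_stabilizer (G := G) a
    have heq : zpowers (⟨c, hcG⟩ : G) = stabilizer G a := by
      refine Subgroup.eq_of_le_of_card_ge ?_ ?_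
      · rw [zpowers_le]; exact (hfix a).2 rfl
      · rw [Nat.card_zpowers, ← Subgroup.orderOf_coe, hc.orderOf, hc5]
        rw [hX, hj] at h2; omega
    rw [heq]
    have hmem := Subgroup.le_normalizer_map G.subtype ⟨t, ht, rfl⟩
    rw [MonoidHom.map_zpowers] at hmem
    exact (hfix _).1 (fixes_fixed hmem ((hfix a).2 rfl))
  · omega

theorem deg_seven {G : Subgroup (Perm X)} (hX : Fintype.card X = 7) (hGA : G ≤ alternatingGroup X)
    (hG : IsPreprimitive G X) {c : Perm X} (hc : c.IsCycle) (hcG : c ∈ G) (hc5 : c.support.card = 5) :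
    G = alternatingGroup X := by
  by_contra hne
  have hA : Nat.card (alternatingGroup X) = 2520 := by rw [card_alternating hX (by norm_num)]; rfl
  have hk := card_le_factorial (by omega) hGA hne
  rw [hA] at hk
  have hmul : G.relIndex (alternatingGroup X) * Nat.card G = 2520 := by
    have := Subgroup.relIndex_mul_relIndex ⊥ G _ bot_le hGA
    rw [relIndex_bot_left, relIndex_bot_left, mul_comm, hA] at this
    exact this
  have hk7 : 7 ≤ G.relIndex (alternatingGroup X) := by
    by_contra h
    have := Nat.factorial_le (show G.relIndex (alternatingGroup X) ≤ 6 by omega)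
    norm_num [Nat.factorial] at this
    omega
  set K := fixingSubgroup G ((c.support : Set X)ᶜ)
  have hcard := card_mul_fixing hG hc hcG (hc5 ▸ by norm_num) (by omega)
  rw [hX] at hcard
  have hcK : (⟨c, hcG⟩ : G) ∈ K := (mem_fixingSubgroup_iff _).2 fun z hz =>
    Perm.notMem_support.1 (by simpa using hz)
  obtain ⟨j, hj⟩ : 5 ∣ Nat.card K := by
    have := Subgroup.orderOf_dvd_natCard _ hcK
    rwa [← Subgroup.orderOf_coe, hc.orderOf, hc5] at this
  have hj1 : j ≤ 1 := by
    by_contra h
    have := Nat.mul_le_mul hk7 (show 420 ≤ Nat.card G by rw [← hcard, hj]; omega)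
    omega
  have : Fact (Nat.Prime 2) := ⟨by norm_num⟩
  have : Fact (Nat.Prime 3) := ⟨by norm_num⟩
  refine fixing_ne_self hG hc hcG (p := 5) (r := 2) (s := 3) (by norm_num) hc5 (by omega)
    (by norm_num) (by norm_num) (by norm_num) ?_
  have := Nat.card_pos (α := K)
  show Nat.card K = 5
  omega


theorem five_dvd_fixing {G : Subgroup (Perm X)} (hX : Fintype.card X = 13)
    (hGA : G ≤ alternatingGroup X) (hG : IsPreprimitive G X) {c : Perm X} (hc : c.IsCycle)
    (hcG : c ∈ G) (hc11 : c.support.card = 11) :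
    5 ∣ Nat.card (fixingSubgroup G ((c.support : Set X)ᶜ)) := by
  classical
  by_contra h5
  have hp : Nat.Prime 11 := by norm_num
  have := Fact.mk hp
  have : Fact (Nat.Prime 2) := ⟨by norm_num⟩
  have : Fact (Nat.Prime 3) := ⟨by norm_num⟩
  set s : Set X := (c.support : Set X)ᶜ with hs
  set K := fixingSubgroup G s with hKdef
  have hcK : (⟨c, hcG⟩ : G) ∈ K := (mem_fixingSubgroup_iff _).2 fun z hz =>
    Perm.notMem_support.1 (by simpa [hs] using hz)
  let cK : K := ⟨⟨c, hcG⟩, hcK⟩
  have hord : orderOf cK = 11 := by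
    rw [← Subgroup.orderOf_coe, ← Subgroup.orderOf_coe, hc.orderOf, hc11]
  have hfixK : ∀ (t : K) (z : X), c z = z → ((t : G) : Perm X) z = z := fun t z hz =>
    (mem_fixingSubgroup_iff _).1 t.2 z (by simpa [hs] using hz)
  have h121 : ¬ 11 ^ 2 ∣ Nat.card K := by
    intro h
    have h' := (h.trans (Subgroup.card_subgroup_dvd_card K)).trans (Subgroup.card_subgroup_dvd_card G)
    rw [Nat.card_perm, Nat.card_eq_fintype_card, hX] at h'
    norm_num [Nat.factorial] at h'
  have hfac : (Nat.card K).factorization 11 = 1 := by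
    have h1 : 11 ∣ Nat.card K := hord ▸ _root_.orderOf_dvd_natCard cK
    have h2 := (hp.dvd_iff_one_le_factorization Nat.card_pos.ne').1 h1
    have h3 : ¬ 2 ≤ (Nat.card K).factorization 11 := fun h =>
      h121 ((hp.pow_dvd_iff_le_factorization Nat.card_pos.ne').2 h)
    omega
  let P : Sylow 11 K := Sylow.ofCard (zpowers cK) (by rw [Nat.card_zpowers, hord, hfac, pow_one])
  have hC : Subgroup.centralizer ((zpowers cK : Subgroup K) : Set K) ≤ zpowers cK := by
    intro t ht
    have hcomm : cK * t = t * cK := ht cK (mem_zpowers cK)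
    have h1 : ((t : G) : Perm X) ∈ zpowers c := eq_pow_of_commute hc
      (congrArg (fun u : K => ((u : G) : Perm X)) hcomm) (hfixK t)
    obtain ⟨i, hi⟩ := mem_zpowers_iff.1 h1
    exact mem_zpowers_iff.2 ⟨i, Subtype.ext (Subtype.ext (by simpa [cK] using hi))⟩
  have hN : normalizer ((zpowers cK : Subgroup K) : Set K) ≤ zpowers cK := by
    have hdvd := CfsgLib.SmallGroups.PrimeDegree.card_normalizer_dvd (p := 11) (zpowers cK)
      (by rw [Nat.card_zpowers, hord])
    have hCc : Nat.card (Subgroup.centralizer ((zpowers cK : Subgroup K) : Set K)) ∣ 11 := by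
      have := Subgroup.card_dvd_of_le hC
      rwa [Nat.card_zpowers, hord] at this
    have h110 : Nat.card (normalizer ((zpowers cK : Subgroup K) : Set K)) ∣ 11 * 10 :=
      hdvd.trans (Nat.mul_dvd_mul_right hCc _)
    have h5' : ¬ 5 ∣ Nat.card (normalizer ((zpowers cK : Subgroup K) : Set K)) :=
      fun h => h5 (h.trans (Subgroup.card_subgroup_dvd_card _))
    have h22 : Nat.card (normalizer ((zpowers cK : Subgroup K) : Set K)) ∣ 22 :=
      (Nat.Coprime.dvd_of_dvd_mul_right (Nat.coprime_comm.1
        ((Nat.prime_five.coprime_iff_not_dvd).2 h5')) (by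
          rw [show 22 * 5 = 11 * 10 by norm_num]; exact h110))
    by_cases h2 : 2 ∣ Nat.card (normalizer ((zpowers cK : Subgroup K) : Set K))
    · exfalso
      obtain ⟨⟨t, ht⟩, hto⟩ := exists_prime_orderOf_dvd_card' 2 h2
      rw [Subgroup.orderOf_mk] at hto
      set τ : Perm X := ((t : G) : Perm X) with hτ
      have hτo : orderOf τ = 2 := by rw [hτ, Subgroup.orderOf_coe, Subgroup.orderOf_coe, hto]
      have htn := normalizes_map ht
      obtain ⟨j, hj⟩ := mem_zpowers_iff.1
        ((mem_normalizer_iff.1 htn c).1 (mem_zpowers c))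
      have hτfix : ∀ z, c z = z → τ z = z := hfixK t
      have hone : ∀ z w, c z ≠ z → c w ≠ w → τ z = z → τ w = w → z = w := by
        intro z w hz hw hzf hwf
        obtain ⟨i, rfl⟩ := hc.sameCycle hz hw
        by_contra hne
        have hji : τ * c ^ i * τ⁻¹ = c ^ (j * i) := by
          rw [zpow_mul, hj, conj_zpow]
        have h1 : (c ^ (j * i)) z = (c ^ i) z := by
          rw [← hji, Perm.mul_apply, Perm.mul_apply,
            show τ⁻¹ z = z from Perm.inv_eq_iff_eq.2 hzf.symm, hwf]
        have h2 : (c ^ ((j - 1) * i)) z = z := by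
          rw [sub_mul, one_mul, zpow_sub, ← zpow_neg, ← zpow_add, add_comm, zpow_add, Perm.mul_apply,
            h1, ← Perm.mul_apply, ← zpow_add, neg_add_cancel, zpow_zero, Perm.one_apply]
        have h3 : c ^ ((j - 1) * i) = 1 := Equiv.ext fun v => by
          by_cases hv : c v = v
          · rw [Perm.zpow_apply_eq_self_of_apply_eq_self hv, Perm.one_apply]
          · obtain ⟨l, rfl⟩ := hc.sameCycle hz hv
            rw [← Perm.mul_apply, ← zpow_add, add_comm, zpow_add, Perm.mul_apply, h2, Perm.one_apply]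
        rw [← orderOf_dvd_iff_zpow_eq_one, hc.orderOf, hc11] at h3
        rcases (Nat.prime_iff_prime_int.1 hp).dvd_or_dvd h3 with h | h
        · -- `t` centralises
          have hcomm : Commute c τ := by
            have e : c ^ j = c := by
              obtain ⟨k, hk⟩ := h
              rw [show j = ((11 : ℕ) : ℤ) * k + 1 by omega, zpow_add, zpow_one, zpow_mul,
                zpow_natCast, ← hc11, ← hc.orderOf, pow_orderOf_eq_one, one_zpow, one_mul]
            rw [e] at hj
            exact (mul_inv_eq_iff_eq_mul.1 hj.symm).symm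
          have h4 := Subgroup.orderOf_dvd_natCard _ (eq_pow_of_commute hc hcomm hτfix)
          rw [hτo, Nat.card_zpowers, hc.orderOf, hc11] at h4
          norm_num at h4
        · apply hne
          obtain ⟨k, rfl⟩ := h
          rw [zpow_mul, zpow_natCast, ← hc11, ← hc.orderOf, pow_orderOf_eq_one, one_zpow,
            Perm.one_apply]
      have hτ2 : τ ^ 2 = 1 := hτo ▸ pow_orderOf_eq_one τ
      have hct := Perm.cycleType_of_pow_prime_eq_one hτ2
      have hsum := Perm.sum_cycleType τ
      rw [hct, Multiset.sum_replicate, smul_eq_mul] at hsum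
      have hsub : τ.support ⊆ c.support := fun z hz => by
        rw [Perm.mem_support] at hz ⊢
        exact fun h => hz (hτfix z h)
      have hle1 : (c.support \ τ.support).card ≤ 1 := by
        refine Finset.card_le_one.2 fun z hz w hw => ?_
        simp only [Finset.mem_sdiff, Perm.mem_support, ne_eq, not_not] at hz hw
        exact hone z w hz.1 hw.1 hz.2 hw.2
      rw [Finset.card_sdiff_of_subset hsub, hc11] at hle1
      have hle2 := Finset.card_le_card hsub
      have hm : τ.cycleType.card = 5 := by omega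
      have hsgn := Perm.mem_alternatingGroup.1 (hGA ((t : G)).2)
      rw [← hτ, Perm.sign_of_cycleType, hct, hm] at hsgn
      simp at hsgn
      exact absurd hsgn (by decide)
    · have h11 : Nat.card (normalizer ((zpowers cK : Subgroup K) : Set K)) ∣ 11 :=
        (Nat.Coprime.dvd_of_dvd_mul_right (Nat.coprime_comm.1
          ((Nat.prime_two.coprime_iff_not_dvd).2 h2)) (by
            rw [show 11 * 2 = 22 by norm_num]; exact h22))
      refine le_of_eq (Subgroup.eq_of_le_of_card_ge le_normalizer ?_).symm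
      rw [Nat.card_zpowers, hord]
      exact Nat.le_of_dvd (by norm_num) h11
  have hle : normalizer ((P : Subgroup K) : Set K) ≤ Subgroup.centralizer ((P : Subgroup K) : Set K) := by
    rw [Sylow.coe_ofCard]
    refine hN.trans ?_
    intro t ht
    obtain ⟨i, rfl⟩ := mem_zpowers_iff.1 ht
    intro y hy
    obtain ⟨k, rfl⟩ := mem_zpowers_iff.1 hy
    exact (Commute.zpow_zpow_self cK k i).eq
  have hcompl := MonoidHom.ker_transferSylow_isComplement' P hle
  have hnd := MonoidHom.not_dvd_card_ker_transferSylow P hle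
  set M := (MonoidHom.transferSylow P hle).ker
  have hM : M = ⊥ := by
    by_contra hne
    apply hnd
    have : IsPretransitive K (SubMulAction.ofFixingSubgroup G s) :=
      Perm.isPretransitive_of_isCycle_mem hc hcG
    have hcardX : Nat.card (SubMulAction.ofFixingSubgroup G s) = 11 := by
      rw [Nat.card_eq_fintype_card, Fintype.card_subtype, ← hc11]
      congr 1
      ext x
      simp [SubMulAction.mem_ofFixingSubgroup_iff, hs]
    have : IsPreprimitive K (SubMulAction.ofFixingSubgroup G s) :=
      IsPreprimitive.of_prime_card (hcardX ▸ hp)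
    have : FaithfulSMul K (SubMulAction.ofFixingSubgroup G s) := ⟨fun {k k'} h => by
      apply Subtype.ext; apply Subtype.ext
      refine Equiv.ext fun z => ?_
      by_cases hz : c z = z
      · rw [hfixK k z hz, hfixK k' z hz]
      · exact congrArg Subtype.val (h ⟨z, by simp [SubMulAction.mem_ofFixingSubgroup_iff, hs, hz]⟩)⟩
    have := CfsgLib.SmallGroups.Simplicity.card_dvd_card_normal_of_primitive
      (X := SubMulAction.ofFixingSubgroup G s) M (MonoidHom.normal_ker _) hne
    rwa [hcardX] at this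
  rw [hM, isComplement'_bot_left, Sylow.coe_ofCard] at hcompl
  refine fixing_ne_self hG hc hcG (p := 11) (r := 2) (s := 3) hp hc11 (by omega) (by norm_num)
    (by norm_num) (by norm_num) ?_
  show Nat.card K = 11
  rw [← hord, ← Nat.card_zpowers, hcompl, Subgroup.card_top]

theorem deg_thirteen {G : Subgroup (Perm X)} (hX : Fintype.card X = 13)
    (hGA : G ≤ alternatingGroup X) (hG : IsPreprimitive G X) {c : Perm X} (hc : c.IsCycle)
    (hcG : c ∈ G) (hc11 : c.support.card = 11) : alternatingGroup X ≤ G := by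
  classical
  have h5p : Nat.Prime 5 := by norm_num
  have := Fact.mk h5p
  have hjor : ∀ e : Perm X, e ∈ G → e.IsCycle → e.support.card = 5 → alternatingGroup X ≤ G :=
    fun e he hec h => Cfsg.Agent.S0713.result G hG h5p (by omega) (by omega) hec h he
  have hperm : (Nat.card (Perm X)).factorization 5 = 2 := by
    rw [Nat.card_perm, Nat.card_eq_fintype_card, hX]
    rw [show (13 : ℕ).factorial = 5 ^ 2 * 249080832 by norm_num [Nat.factorial],
      Nat.factorization_mul (by norm_num) (by norm_num), Finsupp.add_apply, h5p.factorization_pow,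
      Finsupp.single_eq_same, Nat.factorization_eq_zero_of_not_dvd (by norm_num)]
  by_cases h25 : 25 ∣ Nat.card G
  · -- a Sylow subgroup of `G` is one of the symmetric group
    obtain ⟨H, hH⟩ := Sylow.exists_subgroup_card_pow_prime (G := G) 5 (n := 2) (show 5 ^ 2 ∣ Nat.card G from h25)
    let Q : Sylow 5 (Perm X) := Sylow.ofCard (H.map G.subtype) (by
      rw [hperm, Nat.card_congr (H.equivMapOfInjective _ G.subtype_injective).toEquiv.symm, hH])
    obtain ⟨e, he⟩ := (Equiv.Perm.exists_with_cycleType_iff X (m := {5})).2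
      ⟨by simp [hX], by simp⟩
    have hec : e.IsCycle := by rw [← Perm.card_cycleType_eq_one, he]; simp
    have hes : e.support.card = 5 := by rw [← Perm.sum_cycleType, he]; simp
    obtain ⟨R, hR⟩ := (IsPGroup.of_card (p := 5) (n := 1)
      (by rw [Nat.card_zpowers, hec.orderOf, hes, pow_one]) : IsPGroup 5 (zpowers e)).exists_le_sylow
    obtain ⟨t, ht⟩ := MulAction.exists_smul_eq (Perm X) R Q
    have hmem : t * e * t⁻¹ ∈ (Q : Subgroup (Perm X)) := by
      rw [← ht, Sylow.coe_subgroup_smul]
      exact ⟨e, hR (mem_zpowers e), rfl⟩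
    rw [Sylow.coe_ofCard] at hmem
    obtain ⟨u, -, hu⟩ := hmem
    refine hjor (t * e * t⁻¹) ?_ (hec.conj) ?_
    · rw [← hu]; exact u.2
    · rw [← Perm.sum_cycleType, Perm.cycleType_conj, he]; simp
  set s : Set X := (c.support : Set X)ᶜ with hs
  obtain ⟨g, hg⟩ := exists_prime_orderOf_dvd_card' 5 (five_dvd_fixing hX hGA hG hc hcG hc11)
  set γ : Perm X := ((g : G) : Perm X) with hγ
  have hγo : orderOf γ = 5 := by rw [hγ, Subgroup.orderOf_coe, Subgroup.orderOf_coe, hg]
  have hct := Perm.cycleType_of_pow_prime_eq_one (hγo ▸ pow_orderOf_eq_one γ : γ ^ 5 = 1)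
  set k := γ.cycleType.card
  have hsum : 5 * k = γ.support.card := by
    rw [← Perm.sum_cycleType, hct, Multiset.sum_replicate, smul_eq_mul, mul_comm]
  have hle : γ.support.card ≤ 11 := by
    rw [← hc11]
    refine Finset.card_le_card fun z hz => ?_
    by_contra h
    exact Perm.mem_support.1 hz ((mem_fixingSubgroup_iff _).1 g.2 z (by simpa [hs] using h))
  have hk0 : k ≠ 0 := by
    intro h
    have : γ = 1 := Perm.cycleType_eq_zero.1 (by rw [hct, h]; rfl)
    rw [this, orderOf_one] at hγo
    omega
  rcases (show k = 1 ∨ k = 2 by omega) with hk | hk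
  · exact hjor γ (g : G).2 (Perm.card_cycleType_eq_one.1 hk) (by omega)
  have hF : (γ.support)ᶜ.card = 3 := by rw [Finset.card_compl, hX]; omega
  obtain ⟨a, b, z, hab, haz, hbz, hF3⟩ := Finset.card_eq_three.1 hF
  have hfix : ∀ w, γ w = w ↔ w = a ∨ w = b ∨ w = z := fun w => by
    rw [← Perm.notMem_support, ← Finset.mem_compl, hF3]; simp
  set F : Set X := {a, b, z}
  set GF := fixingSubgroup G F
  have hF5 : (Nat.card GF).factorization 5 ≤ 1 := by
    by_contra h
    apply h25
    have h' : 5 ^ 2 ∣ Nat.card GF :=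
      (h5p.pow_dvd_iff_le_factorization Nat.card_pos.ne').2 (Nat.succ_le_of_lt (not_le.1 h))
    exact (show 25 ∣ Nat.card GF from h').trans (Subgroup.card_subgroup_dvd_card GF)
  -- lift permutations of `F` to elements normalising `⟨γ⟩`
  have hlift : ∀ a' b' z', a' ≠ b' → a' ≠ z' → b' ≠ z' →
      (∀ w, w = a' ∨ w = b' ∨ w = z' ↔ w = a ∨ w = b ∨ w = z) →
      ∃ t : Perm X, t ∈ G ∧ t a = a' ∧ t b = b' ∧ t z = z' ∧ ∃ i : ℤ, t * γ * t⁻¹ = γ ^ i := by
    intro a' b' z' h1 h2 h3 hset
    have h3t := three_pretransitive hG hc hcG (hc11 ▸ by norm_num) (by omega)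
    let e1 : Fin 3 ↪ X := ⟨![a, b, z], by
      intro i j hij
      fin_cases i <;> fin_cases j <;> first
        | rfl
        | exact absurd hij hab | exact absurd hij.symm hab | exact absurd hij haz
        | exact absurd hij.symm haz | exact absurd hij hbz | exact absurd hij.symm hbz⟩
    let e2 : Fin 3 ↪ X := ⟨![a', b', z'], by
      intro i j hij
      fin_cases i <;> fin_cases j <;> first
        | rfl
        | exact absurd hij h1 | exact absurd hij.symm h1 | exact absurd hij h2
        | exact absurd hij.symm h2 | exact absurd hij h3 | exact absurd hij.symm h3⟩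
    obtain ⟨t0, ht0⟩ := exists_smul_eq G e1 e2
    have ha : (t0 : Perm X) a = a' := DFunLike.congr_fun ht0 0
    have hb : (t0 : Perm X) b = b' := DFunLike.congr_fun ht0 1
    have hz : (t0 : Perm X) z = z' := DFunLike.congr_fun ht0 2
    have hgF : (g : G) ∈ GF := (mem_fixingSubgroup_iff _).2 fun w hw => (hfix w).2 (by simpa [F] using hw)
    have hg'F : t0 * g * t0⁻¹ ∈ GF := by
      refine (mem_fixingSubgroup_iff _).2 fun w hw => ?_
      show (t0 : Perm X) (γ ((t0 : Perm X)⁻¹ w)) = w
      rcases (hset w).2 (by simpa [F] using hw) with rfl | rfl | rfl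
      · rw [show (t0 : Perm X)⁻¹ _ = a from Perm.inv_eq_iff_eq.2 ha.symm, (hfix a).2 (Or.inl rfl), ha]
      · rw [show (t0 : Perm X)⁻¹ _ = b from Perm.inv_eq_iff_eq.2 hb.symm,
          (hfix b).2 (Or.inr (Or.inl rfl)), hb]
      · rw [show (t0 : Perm X)⁻¹ _ = z from Perm.inv_eq_iff_eq.2 hz.symm,
          (hfix z).2 (Or.inr (Or.inr rfl)), hz]
    have ho1 : orderOf (⟨g, hgF⟩ : GF) = 5 := by
      rw [← Subgroup.orderOf_coe, ← Subgroup.orderOf_coe, ← hγ, hγo]
    have ho2 : orderOf (⟨t0 * g * t0⁻¹, hg'F⟩ : GF) = 5 := by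
      rw [← Subgroup.orderOf_coe]
      show orderOf (t0 * g * t0⁻¹) = 5
      rw [show t0 * g * t0⁻¹ = MulAut.conj t0 g from rfl, MulEquiv.orderOf_eq, ← Subgroup.orderOf_coe,
        ← hγ, hγo]
    have hf1 : (Nat.card GF).factorization 5 = 1 := by
      have := (h5p.dvd_iff_one_le_factorization Nat.card_pos.ne').1
        (ho1 ▸ _root_.orderOf_dvd_natCard (⟨g, hgF⟩ : GF))
      omega
    let P1 : Sylow 5 GF := Sylow.ofCard (zpowers (⟨g, hgF⟩ : GF))
      (by rw [Nat.card_zpowers, ho1, hf1, pow_one])
    let P2 : Sylow 5 GF := Sylow.ofCard (zpowers (⟨t0 * g * t0⁻¹, hg'F⟩ : GF))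
      (by rw [Nat.card_zpowers, ho2, hf1, pow_one])
    obtain ⟨u, hu⟩ := MulAction.exists_smul_eq GF P2 P1
    have hmem : u * ⟨t0 * g * t0⁻¹, hg'F⟩ * u⁻¹ ∈ (P1 : Subgroup GF) := by
      rw [← hu, Sylow.coe_subgroup_smul]
      exact ⟨_, by simp [P2], rfl⟩
    obtain ⟨i, hi⟩ := mem_zpowers_iff.1 (by simpa [P1] using hmem :
      u * ⟨t0 * g * t0⁻¹, hg'F⟩ * u⁻¹ ∈ zpowers (⟨g, hgF⟩ : GF))
    have hu' : ∀ w, w = a' ∨ w = b' ∨ w = z' → ((u : G) : Perm X) w = w := fun w hw =>
      (mem_fixingSubgroup_iff _).1 u.2 w (by simpa [F] using (hset w).1 hw)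
    refine ⟨((u : G) : Perm X) * t0, mul_mem (u : G).2 t0.2, ?_, ?_, ?_, i, ?_⟩
    · rw [Perm.mul_apply, ha, hu' a' (Or.inl rfl)]
    · rw [Perm.mul_apply, hb, hu' b' (Or.inr (Or.inl rfl))]
    · rw [Perm.mul_apply, hz, hu' z' (Or.inr (Or.inr rfl))]
    · have := congrArg (fun v : GF => ((v : G) : Perm X)) hi
      simp only [SubgroupClass.coe_zpow, Subgroup.coe_mul, InvMemClass.coe_inv, ← hγ] at this
      rw [this, mul_inv_rev]
      simp only [mul_assoc]
  obtain ⟨t1, h1G, h1a, h1b, h1z, i, hi⟩ := hlift b a z hab.symm hbz haz (fun w => by tauto)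
  obtain ⟨t2, h2G, h2a, h2b, h2z, j, hj⟩ := hlift a z b haz hab hbz.symm (fun w => by tauto)
  set u := (t2 * t1)⁻¹ * (t1 * t2)
  have huG : u ∈ G := mul_mem (inv_mem (mul_mem h2G h1G)) (mul_mem h1G h2G)
  have e12 : t1 * t2 * γ * (t1 * t2)⁻¹ = γ ^ (i * j) := by
    calc t1 * t2 * γ * (t1 * t2)⁻¹ = t1 * (t2 * γ * t2⁻¹) * t1⁻¹ := by group
      _ = (t1 * γ * t1⁻¹) ^ j := by rw [hj, conj_zpow]
      _ = _ := by rw [hi, zpow_mul]
  have e21 : t2 * t1 * γ * (t2 * t1)⁻¹ = γ ^ (i * j) := by
    calc t2 * t1 * γ * (t2 * t1)⁻¹ = t2 * (t1 * γ * t1⁻¹) * t2⁻¹ := by group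
      _ = (t2 * γ * t2⁻¹) ^ i := by rw [hi, conj_zpow]
      _ = _ := by rw [hj, mul_comm, zpow_mul]
  have huC : u ∈ Subgroup.centralizer ({γ} : Set (Perm X)) := by
    refine mem_centralizer_iff.2 fun w hw => ?_
    rw [Set.mem_singleton_iff.1 hw]
    have e : (t2 * t1)⁻¹ * (t1 * t2 * γ * (t1 * t2)⁻¹) * (t2 * t1) = γ := by
      rw [e12, ← e21]; group
    calc γ * u = (t2 * t1)⁻¹ * (t1 * t2 * γ * (t1 * t2)⁻¹) * (t2 * t1) * u := by rw [e]
      _ = u * γ := by simp only [u]; group
  have hinv : ∀ v w, (t2 * t1) v = w → (t2 * t1)⁻¹ w = v := fun v w h =>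
    Perm.inv_eq_iff_eq.2 h.symm
  have hua : u a = z := by
    show (t2 * t1)⁻¹ (t1 (t2 a)) = z
    rw [h2a, h1a]
    exact hinv _ _ (by rw [Perm.mul_apply, h1z, h2z])
  have huz : u z = b := by
    show (t2 * t1)⁻¹ (t1 (t2 z)) = b
    rw [h2z, h1b]
    exact hinv _ _ (by rw [Perm.mul_apply, h1b, h2a])
  have hub : u b = a := by
    show (t2 * t1)⁻¹ (t1 (t2 b)) = a
    rw [h2b, h1z]
    exact hinv _ _ (by rw [Perm.mul_apply, h1a, h2b])
  set w := u ^ 100 with hw
  set C := Subgroup.centralizer ({γ} : Set (Perm X))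
  have hC : Nat.card C = 300 := by
    rw [Perm.nat_card_centralizer, hct, hk, hX]
    decide
  have hu300 : u ^ 300 = 1 := orderOf_dvd_iff_pow_eq_one.1 (hC ▸ Subgroup.orderOf_dvd_natCard _ huC)
  have hwa : w a = z := by
    have h3 : (u ^ 3) a = a := by
      simp only [pow_succ, pow_zero, one_mul, Perm.mul_apply, hua, huz, hub]
    rw [hw, show 100 = 1 + 3 * 33 by norm_num, pow_add, pow_one, pow_mul, Perm.mul_apply,
      Perm.pow_apply_eq_self_of_apply_eq_self h3, hua]
  have hwo : orderOf w = 3 := by
    have h3 : w ^ 3 = 1 := by rw [hw, ← pow_mul]; exact hu300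
    rcases (Nat.dvd_prime Nat.prime_three).1 (orderOf_dvd_of_pow_eq_one h3) with h | h
    · rw [orderOf_eq_one_iff] at h
      rw [h, Perm.one_apply] at hwa
      exact absurd hwa haz
    · exact h
  set τ := Equiv.swap a b * Equiv.swap a z
  have hτ : τ.IsThreeCycle := Perm.isThreeCycle_swap_mul_swap_same hab haz hbz
  have hτC : τ ∈ C := by
    refine mem_centralizer_iff.2 fun v hv => ?_
    rw [Set.mem_singleton_iff.1 hv]
    refine (Perm.Disjoint.commute fun v => ?_).eq
    by_cases h : γ v = v
    · exact Or.inl h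
    · right
      rw [hfix] at h
      push Not at h
      simp [τ, Equiv.swap_apply_of_ne_of_ne h.1 h.2.2, Equiv.swap_apply_of_ne_of_ne h.1 h.2.1]
  have : Fact (Nat.Prime 3) := ⟨by norm_num⟩
  have hC3 : (Nat.card C).factorization 3 = 1 := by
    rw [hC, show 300 = 3 * 100 by norm_num, Nat.factorization_mul (by norm_num) (by norm_num),
      Finsupp.add_apply, Nat.prime_three.factorization_self,
      Nat.factorization_eq_zero_of_not_dvd (by norm_num)]
  let wC : C := ⟨w, pow_mem huC 100⟩
  let τC : C := ⟨τ, hτC⟩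
  let S1 : Sylow 3 C := Sylow.ofCard (zpowers wC) (by
    rw [Nat.card_zpowers, hC3, ← Subgroup.orderOf_coe, hwo, pow_one])
  let S2 : Sylow 3 C := Sylow.ofCard (zpowers τC) (by
    rw [Nat.card_zpowers, hC3, ← Subgroup.orderOf_coe, hτ.orderOf, pow_one])
  obtain ⟨v, hv⟩ := MulAction.exists_smul_eq C S1 S2
  have hmem : v * wC * v⁻¹ ∈ (S2 : Subgroup C) := by
    rw [← hv, Sylow.coe_subgroup_smul]
    exact ⟨_, by simp [S1], rfl⟩
  obtain ⟨n, hn⟩ := mem_zpowers_iff.1 (by simpa [S2] using hmem : v * wC * v⁻¹ ∈ zpowers τC)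
  have hw3 : w.IsThreeCycle := by
    have e := congrArg (fun x : C => (x : Perm X)) hn
    simp only [SubgroupClass.coe_zpow, Subgroup.coe_mul, InvMemClass.coe_inv] at e
    change τ ^ n = (v : Perm X) * w * (v : Perm X)⁻¹ at e
    have hne : τ ^ n ≠ 1 := by
      rw [e]
      intro h
      rw [conj_eq_one_iff] at h
      rw [h, orderOf_one] at hwo
      omega
    have hsupp : (τ ^ n).support.card = w.support.card := by
      rw [e, ← Perm.sum_cycleType, ← Perm.sum_cycleType, Perm.cycleType_conj]
    have hle' : (τ ^ n).support.card ≤ 3 :=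
      (Finset.card_le_card (Perm.support_zpow_le τ n)).trans hτ.card_support.le
    have h2 : 2 ≤ (τ ^ n).support.card := Perm.two_le_card_support_of_ne_one hne
    have hwct := Perm.cycleType_of_pow_prime_eq_one (p := 3)
      (hwo ▸ pow_orderOf_eq_one w : w ^ 3 = 1)
    have hws : w.support.card = 3 * w.cycleType.card := by
      rw [← Perm.sum_cycleType, hwct, Multiset.sum_replicate, smul_eq_mul, mul_comm,
        ← hwct]
    exact card_support_eq_three_iff.1 (by omega)
  exact Perm.alternatingGroup_le_of_isPreprimitive_of_isThreeCycle_mem hG hw3 (pow_mem huG 100)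


end CfsgLib.PGroup.AltGen
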