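import Cfsg.Agent.Lib.PGroup.PSL2BinaryCen

set_option autoImplicit false
set_option linter.unusedSectionVars false
set_option linter.style.haveILetI false
set_option maxRecDepth 8000

/-!
Subgroups of `PSL(2, F)` containing the centraliser of each of their involutions.
-/

namespace CfsgLib.PGroup.PSL2Binary

open Matrix OnePoint CfsgLib.Classical.Dickson CfsgLib.KnownC.PSL2Classes
open scoped MatrixGroups
open SL2Triangle (tr comp)

variable {F : Type*} [Field F] [Fintype F] [DecidableEq F] (p : ℕ) [hp : Fact p.Prime] [CharP F p]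

local notation "G₂" => ProjectiveSpecialLinearGroup (Fin 2) F
local notation "PG" => ProjGenLinGroup (Fin 2) F

theorem cyclic_involution_unique {G : Type*} [Group G] [Finite G] {c a b : G}
    (ha : a ∈ Subgroup.zpowers c) (hb : b ∈ Subgroup.zpowers c) (ha2 : orderOf a = 2)
    (hb2 : orderOf b = 2) : a = b := by
  classical
  by_contra hne
  haveI := Fintype.ofFinite (Subgroup.zpowers c)
  have h := IsCyclic.card_pow_eq_one_le (α := Subgroup.zpowers c) (show 0 < 2 by norm_num)
  have hsq : ∀ {x : G}, orderOf x = 2 → x ^ 2 = 1 := fun hx => hx ▸ pow_orderOf_eq_one _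
  have hsub : ({1, ⟨a, ha⟩, ⟨b, hb⟩} : Finset (Subgroup.zpowers c)) ⊆
      Finset.univ.filter fun x : Subgroup.zpowers c => x ^ 2 = 1 := by
    intro x hx
    simp only [Finset.mem_insert, Finset.mem_singleton] at hx
    simp only [Finset.mem_filter, Finset.mem_univ, true_and]
    rcases hx with rfl | rfl | rfl
    · exact one_pow 2
    · exact Subtype.ext (by simpa using hsq ha2)
    · exact Subtype.ext (by simpa using hsq hb2)
  have := (Finset.card_le_card hsub).trans h
  rw [Finset.card_eq_three.2 ⟨1, ⟨a, ha⟩, ⟨b, hb⟩,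
    fun e => by obtain rfl : (1 : G) = a := congrArg Subtype.val e; simp at ha2,
    fun e => by obtain rfl : (1 : G) = b := congrArg Subtype.val e; simp at hb2,
    fun e => hne (congrArg Subtype.val e), rfl⟩] at this
  omega

theorem dihedral_cen_le (n : ℕ) [NeZero n] :
    Nat.card {y : DihedralGroup n // y * .sr 0 = .sr 0 * y} ≤ 4 := by
  classical
  have key : ∀ i : ZMod n, -i = i → i = 0 ∨ i = ((n / 2 : ℕ) : ZMod n) := by
    intro i hi
    rcases Nat.eq_zero_or_pos i.val with h | h
    · exact Or.inl ((ZMod.val_eq_zero i).1 h)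
    · refine Or.inr ?_
      have h1 : (((i.val + i.val : ℕ)) : ZMod n) = 0 := by
        rw [Nat.cast_add, ZMod.natCast_zmod_val]
        nth_rw 1 [← hi]
        exact neg_add_cancel i
      obtain ⟨k, hk⟩ := (ZMod.natCast_eq_zero_iff _ n).1 h1
      have := ZMod.val_lt i
      have : k = 1 := by
        rcases k with _ | _ | k
        · omega
        · rfl
        · have : n * 2 ≤ n * (k + 1 + 1) := Nat.mul_le_mul_left n (by omega)
          omega
      rw [this, mul_one] at hk
      rw [show n / 2 = i.val by omega, ZMod.natCast_zmod_val]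
  refine (card_le_of_le_range (α := Bool × Bool) (fun x => cond x.1
    (DihedralGroup.r (cond x.2 (0 : ZMod n) ((n / 2 : ℕ) : ZMod n)))
    (DihedralGroup.sr (cond x.2 (0 : ZMod n) ((n / 2 : ℕ) : ZMod n)))) _ ?_).trans (by simp)
  rintro (i | i) h
  · simp only [DihedralGroup.r_mul_sr, DihedralGroup.sr_mul_r, DihedralGroup.sr.injEq] at h
    rcases key i (by simpa using h) with rfl | rfl
    · exact ⟨(true, true), rfl⟩
    · exact ⟨(true, false), rfl⟩
  · simp only [DihedralGroup.sr_mul_sr, DihedralGroup.r.injEq] at h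
    rcases key i (by simpa using h) with rfl | rfl
    · exact ⟨(false, true), rfl⟩
    · exact ⟨(false, false), rfl⟩

/-- The involution of `A₄`. -/
def invFour : alternatingGroup (Fin 4) :=
  ⟨Equiv.swap 0 1 * Equiv.swap 2 3, by rw [Equiv.Perm.mem_alternatingGroup]; decide⟩

/-- An involution of `A₅`. -/
def invFive : alternatingGroup (Fin 5) :=
  ⟨Equiv.swap 0 1 * Equiv.swap 2 3, by rw [Equiv.Perm.mem_alternatingGroup]; decide⟩

theorem invFour_spec : invFour ≠ 1 ∧ invFour * invFour = 1 ∧
    Fintype.card {y : alternatingGroup (Fin 4) // y * invFour = invFour * y} = 4 := by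
  decide +kernel

theorem invFive_spec : invFive ≠ 1 ∧ invFive * invFive = 1 ∧
    Fintype.card {y : alternatingGroup (Fin 5) // y * invFive = invFive * y} = 4 := by
  decide +kernel

theorem swapFour_spec : (Equiv.swap (0 : Fin 4) 1) ≠ 1 ∧
    Fintype.card {y : Equiv.Perm (Fin 4) // y * Equiv.swap 0 1 = Equiv.swap 0 1 * y} = 4 := by
  decide +kernel

theorem altFour_commute : ∀ a b : alternatingGroup (Fin 4), a * a = 1 → b * b = 1 → a * b = b * a := by
  decide +kernel

include p hp in
/-- In odd characteristic only `PSL₂` contains all these centralisers. -/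
theorem odd_top (h2 : (2 : F) ≠ 0) (hq : 7 ≤ Fintype.card F) (L : Subgroup PG) (hsl : L ≤ sln F)
    {t : PG} (htL : t ∈ L) (ht : orderOf t = 2)
    (hall : ∀ u ∈ L, orderOf u = 2 → cen u ≤ L) : L = sln F := by
  classical
  have hp2 := prime_ne_two (F := F) p h2
  have hodd : Fintype.card F % 2 = 1 := SL2Triangle.odd_card h2
  have hdd : dd F = 2 := by rcases dd_cases (F := F) with ⟨-, e⟩ | ⟨e, -⟩ <;> omega
  have hne : ∀ {u : PG}, orderOf u = 2 → u ≠ 1 := fun hu e => by rw [e, orderOf_one] at hu; omega
  have hcen : ∀ u ∈ L, orderOf u = 2 →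
      Nat.card (cen u) + 1 = Fintype.card F ∨ Nat.card (cen u) = Fintype.card F + 1 := by
    intro u hu hu2
    obtain ⟨T, -, hcard, hT⟩ := card_cen_semisimple p (by omega) (c := u)
      (fun hd => hp2 ((Nat.prime_dvd_prime_iff_eq hp.out Nat.prime_two).1 (hu2 ▸ hd))) (hne hu2) (hsl hu)
    rw [hdd] at hT
    rw [hu2, if_pos rfl] at hcard
    rcases hT with ⟨-, e⟩ | ⟨-, e⟩ <;> omega
  have hsix : ∀ u ∈ L, orderOf u = 2 → 6 ≤ Nat.card (cen u) := fun u hu hu2 => by
    rcases hcen u hu hu2 with e | e <;> omega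
  have hsmall : ∀ u ∈ L, orderOf u = 2 → Nat.card {y : L // (y : PG) * u = u * y} ≤ 5 → False := by
    intro u hu hu2 hle
    have h := Nat.card_le_card_of_injective
      (fun y : cen u => (⟨⟨y.1, hall u hu hu2 y.2⟩, (mem_cen.1 y.2).2⟩ :
        {y : L // (y : PG) * u = u * y}))
      (fun y y' e => Subtype.ext (by simpa using congrArg (fun z => ((z.1 : L) : PG)) e))
    have := hsix u hu hu2
    omega
  have hiso : ∀ {D : Type} [Group D] (e : L ≃* D) (u₀ : D), u₀ ≠ 1 → u₀ * u₀ = 1 →
      Nat.card {y : D // y * u₀ = u₀ * y} ≤ 5 → False := by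
    intro D _ e u₀ h1 h2 hle
    have ho : orderOf ((e.symm u₀ : L) : PG) = 2 := by
      rw [Subgroup.orderOf_coe, MulEquiv.orderOf_eq]
      exact orderOf_eq_prime (by rw [pow_two]; exact h2) h1
    refine hsmall _ (e.symm u₀).2 ho (le_of_eq_of_le (Nat.card_congr (Equiv.subtypeEquiv e.toEquiv fun y => ?_)) hle)
    show _ ↔ e y * u₀ = u₀ * e y
    constructor
    · intro h
      have := congrArg e (Subtype.ext h : y * e.symm u₀ = e.symm u₀ * y)
      simpa using this
    · intro h
      have := congrArg e.symm h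
      simp only [map_mul, MulEquiv.symm_apply_apply] at this
      simpa using congrArg Subtype.val this
  obtain ⟨i, hiL, hi, hit, hic⟩ : ∃ i ∈ L, orderOf i = 2 ∧ i ≠ t ∧ i * t = t * i := by
    by_contra! hcon
    obtain ⟨c, rfl⟩ := exists_of_mem_sln (hsl htL)
    rw [orderOf_emb] at ht
    have hc1 : c ≠ 1 := fun e => by rw [e, orderOf_one] at ht; omega
    have hc2 : c * c = 1 := by
      have := pow_orderOf_eq_one c
      rwa [ht, pow_two] at this
    have hsub : ∀ g ∈ cen (emb c), ∃ b : Bool, cond b (emb c) 1 = g := by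
      intro g hg
      obtain ⟨d, rfl⟩ := exists_of_mem_sln (mem_cen.1 hg).1
      have hdc : d * c = c * d := emb_injective (by
        rw [map_mul, map_mul]; exact (mem_cen.1 hg).2)
      obtain ⟨i, j, hi, hj, rfl⟩ := cen_generated p hc1 hc2 hdc
      have key : ∀ x : G₂, x * x = 1 ∧ x * c = c * x → x = 1 ∨ x = c := by
        rintro x ⟨hx2, hxc⟩
        by_contra! hx
        have hxe : emb x * emb c = emb c * emb x := by rw [← map_mul, ← map_mul, hxc]
        exact hcon (emb x) (hall _ htL (by rwa [orderOf_emb]) (mem_cen.2 ⟨emb_mem_sln x, hxe⟩))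
          (by rw [orderOf_emb]; exact orderOf_eq_prime (by rw [pow_two, hx2]) hx.1)
          (fun e => hx.2 (emb_injective e)) hxe
      rcases key i hi with rfl | rfl <;> rcases key j hj with rfl | rfl
      · exact ⟨false, by simp⟩
      · exact ⟨true, by simp⟩
      · exact ⟨true, by simp⟩
      · exact ⟨false, by simp [hc2]⟩
    have := (card_le_of_le_range (fun b : Bool => cond b (emb c) (1 : PG))
      (fun g => g ∈ cen (emb c)) hsub).trans_lt (show Nat.card Bool < 6 by simp)
    have h6 := hsix _ htL (by rwa [orderOf_emb])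
    change Nat.card (cen (emb c)) < 6 at this
    omega
  cases kind p L with
  | fixed x h => exact (no_fixed_of_klein p h2 hi ht hit hic (h i hiL) (h t htL)).elim
  | cyclic c hc hpc =>
    exact (hit (cyclic_involution_unique (hc ▸ hiL) (hc ▸ htL) hi ht)).elim
  | dihedral c hc hpc hn hG =>
    obtain ⟨e⟩ := hG
    haveI : NeZero (orderOf c) := ⟨by omega⟩
    exact (hiso e (.sr 0) (by rw [DihedralGroup.one_def]; exact fun e => by cases e) (DihedralGroup.sr_mul_self 0)
      ((dihedral_cen_le _).trans (by norm_num))).elim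
  | a4 h =>
    obtain ⟨e⟩ := h
    exact (hiso e invFour invFour_spec.1 invFour_spec.2.1
      (by rw [Nat.card_eq_fintype_card, invFour_spec.2.2]; norm_num)).elim
  | s4 h =>
    obtain ⟨e⟩ := h
    exact (hiso e (Equiv.swap 0 1) swapFour_spec.1 (Equiv.swap_mul_self _ _)
      (by rw [Nat.card_eq_fintype_card, swapFour_spec.2]; norm_num)).elim
  | a5 h =>
    obtain ⟨e⟩ := h
    exact (hiso e invFive invFive_spec.1 invFive_spec.2.1
      (by rw [Nat.card_eq_fintype_card, invFive_spec.2.2]; norm_num)).elim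
  | pgl A h hG =>
    have hG' : L.map (MulAut.conj h).toMonoidHom = ratPGL A := hG
    have hL : Nat.card L = (Nat.card A + 1) * Nat.card A * (Nat.card A - 1) := by
      rw [← card_map_conj h L, hG', card_ratPGL]
    rcases subfield_card A with hA | ⟨hA, -⟩
    · have h1 := card_sln (F := F)
      have h2' := Nat.le_of_dvd Nat.card_pos (Subgroup.card_dvd_of_le hsl)
      rw [hA] at hL
      rw [hdd, ← hL] at h1
      have : 0 < Nat.card (sln F) := Nat.card_pos
      omega
    exfalso
    have hu0 : (aff (-1) 0 : PG) ∈ ratPGL A :=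
      mk_mem_ratPGL fun i j => by fin_cases i <;> fin_cases j <;> simp [affGL]
    obtain ⟨u, huL, hu⟩ := hG'.symm ▸ hu0
    have hu' : MulAut.conj h u = aff (-1) 0 := hu
    have hu2 : orderOf u = 2 := by
      rw [← MulEquiv.orderOf_eq (MulAut.conj h) u, hu']
      refine orderOf_eq_prime (by rw [pow_two, aff_mul, aff_eq_one_iff]; simp) fun e => h2 ?_
      have := congrArg (fun u : Fˣ => (u : F)) (aff_eq_one_iff.1 e).1
      simp at this
      linear_combination -this
    have h4 := Nat.card_le_card_of_injective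
      (fun y : cen u => (⟨MulAut.conj h y.1, ⟨hG' ▸ ⟨y.1, hall u huL hu2 y.2, rfl⟩, by
          rw [← hu', ← map_mul, ← map_mul, (mem_cen.1 y.2).2]⟩⟩ :
        {g : PG // g ∈ ratPGL A ∧ g * aff (-1) 0 = aff (-1) 0 * g}))
      (fun y y' e => Subtype.ext ((MulAut.conj h).injective (congrArg Subtype.val e)))
    have h5 := h4.trans (card_pgl_cen_le h2 A)
    have h6 := hsix u huL hu2
    rcases hcen u huL hu2 with e | e <;> nlinarith [Nat.sub_le (Nat.card A) 1]
  | psl A hA h hG =>
    have hG' : L.map (MulAut.conj h).toMonoidHom = ratPSL A := hG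
    have hL : 2 * Nat.card L = (Nat.card A + 1) * Nat.card A * (Nat.card A - 1) := by
      rw [← card_map_conj h L, hG']
      have := card_ratPSL A
      rwa [show Nat.gcd 2 (Nat.card A - 1) = 2 from Nat.gcd_eq_left (by omega)] at this
    rcases subfield_card A with hA' | ⟨hA', hdvd⟩
    · refine Subgroup.eq_of_le_of_card_ge hsl (le_of_eq ?_)
      have h1 := card_sln (F := F)
      rw [hdd] at h1
      rw [hA'] at hL
      omega
    exfalso
    set u₀ := ProjGenLinGroup.map (n := Fin 2) A.subtype (SpecialLinearGroup.toPGL (comp (0 : A))) with hu₀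
    have hu0 : u₀ ∈ ratPSL A := ⟨comp 0, rfl⟩
    obtain ⟨u, huL, hu⟩ := hG'.symm ▸ hu0
    have hu' : MulAut.conj h u = u₀ := hu
    have hu2 : orderOf u = 2 := by
      rw [← MulEquiv.orderOf_eq (MulAut.conj h) u, hu', hu₀,
        orderOf_injective _ (map_injective_subfield A)]
      refine orderOf_eq_prime ?_ fun e => ?_
      · rw [pow_two, ← map_mul, show comp (0 : A) * comp 0 = -1 from Subtype.ext (Matrix.ext fun i j => by
          fin_cases i <;> fin_cases j <;> simp [Matrix.mul_apply, Fin.sum_univ_two]), toPGL_neg, map_one]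
      · rcases sl_scalar_of_toPGL_one e with e | e <;>
          simpa using congrArg (fun g : SL(2, A) => g.1 1 0) e
    have h4 := Nat.card_le_card_of_injective
      (fun y : cen u => (⟨MulAut.conj h y.1, ⟨hG' ▸ ⟨y.1, hall u huL hu2 y.2, rfl⟩, by
          rw [← hu', ← map_mul, ← map_mul, (mem_cen.1 y.2).2]⟩⟩ :
        {g : PG // g ∈ ratPSL A ∧ g * u₀ = u₀ * g}))
      (fun y y' e => Subtype.ext ((MulAut.conj h).injective (congrArg Subtype.val e)))
    have h5 := h4.trans (card_psl_cen_le A u₀ hu₀)
    have h6 := hsix u huL hu2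
    have hA2 : 2 ≤ Nat.card A := Finite.one_lt_card
    rcases Nat.lt_or_ge (Nat.card A) 5 with ha | ha
    · have ha3 : Nat.card A = 3 := by omega
      rw [ha3] at hdvd hL h5
      have hd := Subgroup.card_dvd_of_le (hall u huL hu2)
      rw [show Nat.card L = 12 by omega] at hd
      have hle := Nat.le_of_dvd (by norm_num) hd
      rcases hcen u huL hu2 with e | e <;> interval_cases hc : Nat.card (cen u) <;> omega
    · rcases hcen u huL hu2 with e | e <;> nlinarith

end CfsgLib.PGroup.PSL2Binary
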