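import Cfsg.Agent.Lib.PGroup.MaxClassCube

/-! The tower over an exceptional element and the sign contradictions in maximal class. -/

set_option autoImplicit false

namespace CfsgLib.PGroup.MaxDeg

open Subgroup
open scoped commutatorElement

section Bilinear

variable {Q : Type*} [Group Q]

theorem comm_zpow_right {g a : Q} (hz : ∀ x, x * ⁅g, a⁆ = ⁅g, a⁆ * x) (l : ℤ) : ⁅g, a ^ l⁆ = ⁅g, a⁆ ^ l := by
  have h1 : g * a * g⁻¹ = ⁅g, a⁆ * a := by simp [commutatorElement_def]
  rw [commutatorElement_def, ← conj_zpow, h1, (show Commute ⁅g, a⁆ a from (hz a).symm).mul_zpow, mul_assoc,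
    mul_inv_cancel, mul_one]

theorem comm_zpow_zpow {g a : Q} (hz : ∀ x, x * ⁅g, a⁆ = ⁅g, a⁆ * x) (m l : ℤ) :
    ⁅g ^ m, a ^ l⁆ = ⁅g, a⁆ ^ (m * l) := by
  have h1 := comm_zpow_right hz l
  have hz' : ∀ x, x * ⁅a ^ l, g⁆ = ⁅a ^ l, g⁆ * x := fun x => by
    rw [← commutatorElement_inv, h1]
    exact (((show Commute x ⁅g, a⁆ from hz x).zpow_right l).inv_right).eq
  rw [← commutatorElement_inv, comm_zpow_right hz' m, ← commutatorElement_inv g (a ^ l), h1, ← inv_zpow, inv_inv,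
    ← zpow_mul, mul_comm]

/-- Commutators with factors commuting past the relevant elements. -/
theorem comm_bil {g a b c : Q} (hz : ∀ x, x * ⁅g, a⁆ = ⁅g, a⁆ * x) (hca : c * a = a * c) (hcb : c * b = b * c)
    (hgb : g * b = b * g) (m l : ℤ) : ⁅g ^ m * c, a ^ l * b⁆ = ⁅g, a⁆ ^ (m * l) := by
  have h1 : ⁅c, a ^ l * b⁆ = 1 :=
    commutatorElement_eq_one_iff_mul_comm.2 (((show Commute c a from hca).zpow_right l).mul_right hcb).eq
  have h2 : ⁅g ^ m, b⁆ = 1 := commutatorElement_eq_one_iff_mul_comm.2 ((show Commute g b from hgb).zpow_left m).eq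
  rw [show ⁅g ^ m * c, a ^ l * b⁆ = g ^ m * ⁅c, a ^ l * b⁆ * (g ^ m)⁻¹ * ⁅g ^ m, a ^ l * b⁆ by
    simp [commutatorElement_def, mul_assoc], h1, mul_one, mul_inv_cancel, one_mul,
    show ⁅g ^ m, a ^ l * b⁆ = ⁅g ^ m, a ^ l⁆ * (a ^ l * ⁅g ^ m, b⁆ * (a ^ l)⁻¹) by
      simp [commutatorElement_def, mul_assoc], h2, mul_one, mul_inv_cancel, mul_one, comm_zpow_zpow hz]

end Bilinear

variable {G : Type*} [Group G] {p : ℕ} [hpf : Fact p.Prime] [Finite G] {n : ℕ}

namespace IsMC

/-- The subgroup generated by `u` and the `i`-th upper layer. -/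
def M (u : G) (n i : ℕ) : Subgroup G := zpowers u ⊔ L G (n - i)

variable (h : IsMC G p n) {u : G} (huC : u ∈ C G (n - 2)) (hu1 : u ∉ L G 1) (hu : u ^ p = 1)

omit [Finite G] hpf in
theorem notMem_two (hu1 : u ∉ L G 1) : u ∉ L G 2 := fun hh => hu1 (L_le_one (i := 2) (by omega) hh)

include h

theorem M_le_C (huC : u ∈ C G (n - 2)) {i : ℕ} (hi : i ≤ n - 2) : M u n i ≤ C G (n - 2) :=
  sup_le (zpowers_le.2 huC) ((L_anti (by have := h.hn; omega : 2 ≤ n - i)).trans (L_two_le_C (by have := h.hn; omega)))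

include hu1 hu

theorem card_M {i : ℕ} (hi : i ≤ n - 2) : Nat.card (M u n i) = p ^ (i + 1) := by
  have := h.hn
  rw [M, card_sup_zpowers hu fun hh => notMem_two hu1 (L_anti (by omega) hh), h.card_L (by omega) (by omega),
    show n - (n - i) = i by omega, pow_succ']

theorem M_inf_two {i : ℕ} (hi : i ≤ n - 2) : M u n i ⊓ L G 2 = L G (n - i) := by
  have := h.hn
  refine (Subgroup.eq_of_le_of_card_ge (le_inf le_sup_right (L_anti (by omega))) ?_).symm
  have hlt : M u n i ⊓ L G 2 < M u n i :=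
    inf_lt_left.2 fun hle => notMem_two hu1 (hle (mem_sup_left (mem_zpowers u)))
  have h1 := Fusion.MaxClass.card_mul_le_of_lt h.isPGroup hlt
  rw [h.card_M hu1 hu hi, pow_succ'] at h1
  rw [h.card_L (by omega) (by omega), show n - (n - i) = i by omega]
  exact Nat.le_of_mul_le_mul_left h1 hpf.out.pos

include huC

theorem C_eq_M : C G (n - 2) = M u n (n - 2) := by
  have := h.hn
  refine (Subgroup.eq_of_le_of_card_ge (h.M_le_C huC le_rfl) ?_).symm
  have h1 := Subgroup.card_mul_index (C G (n - 2))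
  rw [h.index_C (by omega) le_rfl, h.card, show n = n - 2 + 1 + 1 by omega, pow_succ,
    show n - 2 + 1 + 1 - 2 = n - 2 by omega] at h1
  rw [h.card_M hu1 hu le_rfl]
  exact (Nat.eq_of_mul_eq_mul_right hpf.out.pos h1).le

theorem normalizer_M {i : ℕ} (hi : 2 ≤ i) (hin : i ≤ n - 3) :
    normalizer (M u n i : Set G) = M u n (i + 1) := by
  have := h.hn
  have hu2 := notMem_two hu1
  have hL : L G (n - (i + 1)) ≤ normalizer (M u n i : Set G) := fun y hy => mem_normalizer_of_le fun e he => by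
    have h1 : ⁅y, e⁆ ∈ L G (n - i) := by
      have := step (by omega : 1 ≤ n - (i + 1)) hy e
      rw [show n - (i + 1) + 1 = n - i by omega] at this
      rw [← commutatorElement_inv]
      exact inv_mem this
    have := mul_mem ((le_sup_right : L G (n - i) ≤ M u n i) h1) he
    rwa [show ⁅y, e⁆ * e = y * e * y⁻¹ by simp [commutatorElement_def]] at this
  refine le_antisymm (fun y hy => ?_) (sup_le ((zpowers_le.2 (mem_sup_left (mem_zpowers u))).trans Subgroup.le_normalizer) hL)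
  have hcomm : ∀ z, z ∈ normalizer (M u n i : Set G) → ⁅z, u⁆ ∈ L G (n - i) := fun z hz => by
    rw [← h.M_inf_two hu1 hu (by omega)]
    refine ⟨?_, ?_⟩
    · rw [commutatorElement_def]
      exact (M u n i).mul_mem ((Subgroup.mem_normalizer_iff.1 hz u).1 (mem_sup_left (mem_zpowers u)))
        ((M u n i).inv_mem (mem_sup_left (mem_zpowers u)))
    · rw [L_two, _root_.commutator_def]
      exact commutator_mem_commutator (mem_top z) (mem_top u)
  have hyC : y ∈ C G (n - 2) := by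
    by_contra hyC
    exact h.comm_notMem_three (h.index_C (by omega) le_rfl) (L_two_le_C (by omega)) hyC huC hu2
      (L_anti (by omega) (hcomm y hy))
  rw [h.C_eq_M huC hu1 hu] at hyC
  obtain ⟨_, hz, d, hd, rfl⟩ := Subgroup.mem_sup_of_normal_right.1 hyC
  refine mul_mem (mem_sup_left hz) (mem_sup_right ?_)
  rw [show n - (n - 2) = 2 by omega] at hd
  have hdN : d ∈ normalizer (M u n i : Set G) := by
    have := mul_mem (inv_mem (Subgroup.le_normalizer (mem_sup_left hz : _ ∈ M u n i))) hy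
    rwa [inv_mul_cancel_left] at this
  have hgo : ∀ k, 2 ≤ k → k ≤ n - (i + 1) → d ∈ L G k := by
    intro k hk
    induction k, hk using Nat.le_induction with
    | base => intro _; exact hd
    | succ k hk ih =>
      intro hkn
      by_contra hno
      refine h.strict' (by omega) (by omega) hu1 (ih (by omega)) hno (L_anti (by omega : k + 2 ≤ n - i) ?_)
      rw [← commutatorElement_inv]
      exact inv_mem (hcomm d hdN)
  exact hgo _ (by omega) le_rfl

omit huC hu1 hu

/-- An exceptional element acting as an inversion gives a contradiction. -/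
theorem contra_C (heven : Even n) (h6 : 6 ≤ n) (huC : u ∈ C G (n - 2)) (hu1 : u ∉ L G 1) (hne : C G (n - 2) ≠ L G 1)
    {f : G → G} (hmul : ∀ a ∈ C G (n - 2), ∀ b ∈ C G (n - 2), f (a * b) = f a * f b)
    (hinv : ∀ k, 2 ≤ k → k ≤ n - 2 → ∀ a ∈ L G k, f a ∈ L G k)
    (hfu : (u * f u) ∈ L G 2)
    (hfx : ∀ x ∈ L G (n - 3), x⁻¹ * f x ∈ L G (n - 2))
    {v w : G} (hv : v ∈ L G (n - 2)) (hv' : v ∉ L G (n - 1)) (hw : w ∈ L G (n - 2))
    (hwv : w ∉ zpowers v) (hfv : f v = v⁻¹) (hfw : f w = w) (hwp : w ^ p = 1) : False := by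
  have := h.hn
  let F : (C G (n - 2) : Subgroup G) →* G := MonoidHom.mk' (fun a => f a) fun a b => hmul a a.2 b b.2
  have hfz : ∀ {a : G}, a ∈ C G (n - 2) → ∀ l : ℤ, f (a ^ l) = f a ^ l := fun {a} ha l => map_zpow F ⟨a, ha⟩ l
  have hfi : ∀ {a : G}, a ∈ C G (n - 2) → f a⁻¹ = (f a)⁻¹ := fun {a} ha => map_inv F ⟨a, ha⟩
  have hfc : ∀ {a b : G}, a ∈ C G (n - 2) → b ∈ C G (n - 2) → f ⁅a, b⁆ = ⁅f a, f b⁆ := fun {a b} ha hb =>
    map_commutatorElement F ⟨a, ha⟩ ⟨b, hb⟩
  have hLC : ∀ {k}, 2 ≤ k → ∀ {a : G}, a ∈ L G k → a ∈ C G (n - 2) := fun {k} hk {a} ha =>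
    L_two_le_C (by omega) (L_anti hk ha)
  have hsign : ∀ d, d ≤ n - 5 → ∀ y ∈ L G (n - 3 - d), (y ^ ((-1 : ℤ) ^ d))⁻¹ * f y ∈ L G (n - 3 - d + 1) := by
    intro d
    induction d with
    | zero =>
      intro _ y hy
      rw [pow_zero, zpow_one, Nat.sub_zero, show n - 3 + 1 = n - 2 by omega]
      exact hfx y hy
    | succ d ih =>
      intro hd y hy
      set k := n - 3 - (d + 1) with hk
      have hk2 : 2 ≤ k := by omega
      have hk1 : n - 3 - d = k + 1 := by omega
      obtain ⟨a, ha, ha'⟩ := SetLike.exists_of_lt (h.L_lt hk2 (by omega))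
      have hk' := hinv k hk2 (by omega) a ha
      obtain ⟨α, b, hb, hfa⟩ := h.exists_rep (by omega) ha ha' hk'
      have he : ⁅u, a⁆ ∈ L G (k + 1) := step (by omega) ha u
      have he' : ⁅u, a⁆ ∉ L G (k + 2) := h.strict' (by omega) (by omega) hu1 ha ha'
      let π := QuotientGroup.mk' (L G (k + 2))
      have hcz : ∀ {z : G}, z ∈ L G (k + 1) → ∀ g : G, π g * π z = π z * π g := fun {z} hz g => by
        rw [← commutatorElement_eq_one_iff_mul_comm, ← map_commutatorElement, QuotientGroup.mk'_apply,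
          QuotientGroup.eq_one_iff]
        exact step (by omega) hz g
      have hcl : π (u * f u) * π a = π a * π (u * f u) := by
        rw [← commutatorElement_eq_one_iff_mul_comm, ← map_commutatorElement, QuotientGroup.mk'_apply,
          QuotientGroup.eq_one_iff, show k + 2 = 2 + k by omega]
        exact comm_L_L le_rfl hk2 (commutator_mem_commutator hfu ha)
      have hcom : f ⁅u, a⁆ = ⁅u⁻¹ * (u * f u), a ^ α * b⁆ := by
        rw [hfc huC (hLC hk2 ha), ← hfa, inv_mul_cancel_left]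
      have h1 : π (f ⁅u, a⁆) = π ⁅u, a⁆ ^ (-α) := by
        rw [hcom, map_commutatorElement, map_mul, map_mul π (a ^ α), map_inv, map_zpow, ← zpow_neg_one]
        rw [comm_bil (by
          intro x
          obtain ⟨x, rfl⟩ := QuotientGroup.mk'_surjective _ x
          rw [← map_commutatorElement]
          exact hcz he x) hcl (hcz hb _) (hcz hb _), neg_one_mul, ← map_commutatorElement]
      have h2 : π (f ⁅u, a⁆) = π ⁅u, a⁆ ^ ((-1 : ℤ) ^ d) := by
        have := ih (by omega) ⁅u, a⁆ (by rwa [hk1])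
        rw [hk1] at this
        have h3 : π ((⁅u, a⁆ ^ ((-1 : ℤ) ^ d))⁻¹ * f ⁅u, a⁆) = 1 := (QuotientGroup.eq_one_iff _).2 this
        rw [map_mul, map_inv, map_zpow, inv_mul_eq_one] at h3
        exact h3.symm
      have hord : orderOf (π ⁅u, a⁆) = p := by
        refine orderOf_eq_prime ?_ fun e => he' ((QuotientGroup.eq_one_iff _).1 e)
        have hm : Nat.card ((L G (k + 1)).map π) = p := by
          have e1 : Nat.card ((L G (k + 1)).map π) * Nat.card (L G (k + 2)) = Nat.card (L G (k + 1)) := by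
            rw [← Subgroup.relIndex_bot_left, ← Subgroup.relIndex_bot_left, ← Subgroup.relIndex_bot_left,
              ← Subgroup.relIndex_comap, MonoidHom.comap_bot, QuotientGroup.ker_mk', mul_comm,
              Subgroup.relIndex_mul_relIndex _ _ _ bot_le (L_anti (by omega))]
          rw [h.card_L (by omega) (by omega), h.card_L (by omega) (by omega),
            show n - (k + 1) = n - (k + 2) + 1 by omega, pow_succ'] at e1
          exact Nat.eq_of_mul_eq_mul_right (pow_pos hpf.out.pos _) e1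
        exact congrArg Subtype.val (hm ▸ pow_card_eq_one' (x := (⟨π ⁅u, a⁆, mem_map_of_mem π he⟩ : (L G (k + 1)).map π)))
      have hdvd : (p : ℤ) ∣ α - (-1 : ℤ) ^ (d + 1) := by
        rw [h1, zpow_eq_zpow_iff_modEq, hord] at h2
        have h5 := Int.modEq_iff_dvd.1 h2
        have : α - (-1 : ℤ) ^ (d + 1) = (-1 : ℤ) ^ d - -α := by rw [pow_succ]; ring
        rw [this]
        exact h5
      obtain ⟨c, hc⟩ := hdvd
      obtain ⟨l, m, hm, rfl⟩ := h.exists_rep (by omega) ha ha' hy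
      have hfm : f m ∈ L G (k + 1) := hinv (k + 1) (by omega) (by omega) m hm
      let π1 := QuotientGroup.mk' (L G (k + 1))
      refine (QuotientGroup.eq_one_iff _).1 ?_
      show π1 (((a ^ l * m) ^ ((-1 : ℤ) ^ (d + 1)))⁻¹ * f (a ^ l * m)) = 1
      have hπm : π1 m = 1 := (QuotientGroup.eq_one_iff _).2 hm
      have hπfm : π1 (f m) = 1 := (QuotientGroup.eq_one_iff _).2 hfm
      have hπb : π1 b = 1 := (QuotientGroup.eq_one_iff _).2 hb
      have hap : π1 a ^ (p : ℤ) = 1 := by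
        rw [zpow_natCast, ← map_pow]
        refine (QuotientGroup.eq_one_iff _).2 ?_
        haveI : ((L G (k + 1)).subgroupOf (L G k)).Normal := inferInstance
        have hidx : (L G (k + 1)).relIndex (L G k) = p := by
          have e1 := Subgroup.relIndex_mul_relIndex ⊥ (L G (k + 1)) (L G k) bot_le (L_anti (by omega))
          rw [Subgroup.relIndex_bot_left, Subgroup.relIndex_bot_left, h.card_L hk2 (by omega),
            h.card_L (by omega) (by omega), show n - k = n - (k + 1) + 1 by omega, pow_succ] at e1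
          exact Nat.eq_of_mul_eq_mul_left (pow_pos hpf.out.pos _) e1
        have hh := Subgroup.pow_index_mem ((L G (k + 1)).subgroupOf (L G k)) ⟨a, ha⟩
        rw [show ((L G (k + 1)).subgroupOf (L G k)).index = p from hidx] at hh
        exact hh
      rw [map_mul π1 _ (f (a ^ l * m)), map_inv, map_zpow, hmul _ (hLC hk2 (zpow_mem ha l)) _ (hLC (by omega) hm),
        hfz (hLC hk2 ha), hfa, map_mul π1 (a ^ l) m, map_mul π1 _ (f m), map_zpow, map_zpow π1 (a ^ α * b),
        map_mul π1 (a ^ α), map_zpow, hπm, hπfm, hπb, mul_one, mul_one, mul_one, inv_mul_eq_one, ← zpow_mul, ← zpow_mul,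
        show α * l = l * (-1) ^ (d + 1) + (p : ℤ) * (c * l) by rw [← mul_assoc, ← hc]; ring, zpow_add, zpow_mul _ (p : ℤ),
        hap, one_zpow, mul_one]
  obtain ⟨e₂, he, he'⟩ := SetLike.exists_of_lt (h.L_lt (le_refl 2) (by omega : 2 < n))
  obtain ⟨x, hx, hx'⟩ := SetLike.exists_of_lt (h.L_lt (by omega : 2 ≤ n - 3) (by omega))
  rw [show n - 3 + 1 = n - 2 by omega] at hx'
  have hz1 : ⁅e₂, x⁆ ≠ 1 := (h.exceptional hne).2 e₂ he he' x hx hx'
  have hzL : ⁅e₂, x⁆ ∈ L G (n - 1) := by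
    have := comm_L_L le_rfl (by omega : 2 ≤ n - 3) (commutator_mem_commutator he hx)
    rwa [show 2 + (n - 3) = n - 1 by omega] at this
  have hs := hsign (n - 5) le_rfl e₂ (by rwa [show n - 3 - (n - 5) = 2 by omega])
  obtain ⟨r, hr⟩ := heven
  rw [show n - 3 - (n - 5) + 1 = 3 by omega, show ((-1 : ℤ) ^ (n - 5)) = -1 from
    Odd.neg_one_pow ⟨r - 3, by omega⟩, zpow_neg_one, inv_inv] at hs
  have hxm := hfx x hx
  have hcom : f ⁅e₂, x⁆ = ⁅e₂, x⁆⁻¹ := by
    have hcentral : ∀ g : G, g * ⁅e₂, x⁆ = ⁅e₂, x⁆ * g := fun g => by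
      rw [← commutatorElement_eq_one_iff_mul_comm, ← Subgroup.mem_bot, ← h.L_bot (by omega : n ≤ n - 1 + 1)]
      exact step (by omega) hzL g
    rw [hfc (hLC le_rfl he) (hLC (by omega) hx)]
    have e1 : f e₂ = e₂ ^ (-1 : ℤ) * (e₂ * f e₂) := by rw [zpow_neg_one, inv_mul_cancel_left]
    have e2 : f x = x ^ (1 : ℤ) * (x⁻¹ * f x) := by rw [zpow_one, mul_inv_cancel_left]
    rw [e1, e2, comm_bil hcentral (h.comm_eq_one (by omega) (by omega) (by omega : n ≤ 3 + (n - 3)) hs hx)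
      (h.comm_eq_one (by omega) (by omega) (by omega : n ≤ 3 + (n - 2)) hs hxm)
      (h.comm_eq_one (by omega) (by omega) (by omega : n ≤ 2 + (n - 2)) he hxm), mul_one, zpow_neg_one]
  have hgen : L G (n - 2) ≤ zpowers v ⊔ L G (n - 1) := by
    have := h.gen (by omega : 1 ≤ n - 2) hv (by rwa [show n - 2 + 1 = n - 1 by omega])
    rwa [show n - 2 + 1 = n - 1 by omega] at this
  have hv1 : v ≠ 1 := fun e => hv' (e ▸ one_mem _)
  have hgen' : L G (n - 1) ≤ zpowers ⁅e₂, x⁆ := by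
    have := h.gen (by omega : 1 ≤ n - 1) hzL (by rw [h.L_bot (show n ≤ n - 1 + 1 by omega)]; simpa using hz1)
    rwa [h.L_bot (show n ≤ n - 1 + 1 by omega), sup_bot_eq] at this
  obtain ⟨_, hz2, y, hy, hwe⟩ := Subgroup.mem_sup_of_normal_right.1 (hgen hw)
  obtain ⟨a, rfl⟩ := mem_zpowers_iff.1 hz2
  obtain ⟨b, rfl⟩ := mem_zpowers_iff.1 (hgen' hy)
  have hvC : v ∈ C G (n - 2) := hLC (by omega) hv
  have hzC : ⁅e₂, x⁆ ∈ C G (n - 2) := hLC (by omega) hzL
  have hcm : Commute (v ^ a) (⁅e₂, x⁆ ^ b) := by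
    refine (Commute.zpow_zpow ?_ a b)
    exact h.comm_eq_one (by omega) (by omega) (by omega : n ≤ n - 2 + (n - 1)) hv hzL
  have hinvw : f w = w⁻¹ := by
    rw [← hwe, hmul _ (zpow_mem hvC a) _ (zpow_mem hzC b), hfz hvC, hfz hzC, hfv, hcom, mul_inv_rev, inv_zpow, inv_zpow]
    exact (hcm.inv_inv).eq
  rw [hfw] at hinvw
  have hw2 : w ^ 2 = 1 := by rw [pow_two]; nth_rewrite 1 [hinvw]; exact inv_mul_cancel w
  have hw1 : w = 1 := orderOf_eq_one_iff.1 (Nat.eq_one_of_dvd_coprimes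
    (show Nat.Coprime 2 p from (Nat.coprime_primes Nat.prime_two hpf.out).2 (by have := h.hp; omega))
    (orderOf_dvd_of_pow_eq_one hw2) (orderOf_dvd_of_pow_eq_one hwp))
  exact hwv (hw1 ▸ one_mem _)

omit huC in
/-- The layer congruence of an automorphism. -/
theorem step_sign (T : MulAut G) {s : G} {r : ℤ} {l : G} (hs1 : s ∉ L G 1) (hl : l ∈ L G 1) (hTs : T s = s ^ r * l)
    {k : ℕ} (hk : 1 ≤ k) (hkn : k ≤ n - 3) {a : G} (ha : a ∈ L G k) (ha' : a ∉ L G (k + 1)) {α β : ℤ}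
    (hTa : (a ^ α)⁻¹ * T a ∈ L G (k + 1)) (hlay : ∀ y ∈ L G (k + 1), (y ^ β)⁻¹ * T y ∈ L G (k + 2)) :
    (p : ℤ) ∣ β - r * α := by
  have := h.hn
  have he : ⁅s, a⁆ ∈ L G (k + 1) := step hk ha s
  have he' : ⁅s, a⁆ ∉ L G (k + 2) := h.strict' hk hkn hs1 ha ha'
  let π := QuotientGroup.mk' (L G (k + 2))
  have hcz : ∀ {z : G}, z ∈ L G (k + 1) → ∀ g : G, π g * π z = π z * π g := fun {z} hz g => by
    rw [← commutatorElement_eq_one_iff_mul_comm, ← map_commutatorElement, QuotientGroup.mk'_apply,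
      QuotientGroup.eq_one_iff]
    exact step (by omega) hz g
  have hla : π l * π a = π a * π l := by
    rw [← commutatorElement_eq_one_iff_mul_comm, ← map_commutatorElement, QuotientGroup.mk'_apply,
      QuotientGroup.eq_one_iff]
    rcases Nat.lt_or_ge k 2 with hk2 | hk2
    · obtain rfl : k = 1 := by omega
      exact h.comm_gain (j := 2) (by omega) (fun i hi hi' => absurd hi (by omega)) 1 1 le_rfl le_rfl le_rfl
        (commutator_mem_commutator hl ha)
    · exact h.mem_C hk2 hkn hl ha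
  have h1 : π (T ⁅s, a⁆) = π ⁅s, a⁆ ^ (r * α) := by
    rw [map_commutatorElement T, hTs, show T a = a ^ α * ((a ^ α)⁻¹ * T a) by rw [mul_inv_cancel_left],
      map_commutatorElement π, map_mul, map_mul π (a ^ α), map_zpow, map_zpow]
    rw [comm_bil (by
      intro x
      obtain ⟨x, rfl⟩ := QuotientGroup.mk'_surjective _ x
      rw [← map_commutatorElement]
      exact hcz he x) hla (hcz hTa _) (hcz hTa _), ← map_commutatorElement]
  have h2 : π (T ⁅s, a⁆) = π ⁅s, a⁆ ^ β := by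
    have h3 : π ((⁅s, a⁆ ^ β)⁻¹ * T ⁅s, a⁆) = 1 := (QuotientGroup.eq_one_iff _).2 (hlay _ he)
    rw [map_mul, map_inv, map_zpow, inv_mul_eq_one] at h3
    exact h3.symm
  have hord : orderOf (π ⁅s, a⁆) = p := by
    refine orderOf_eq_prime ?_ fun e => he' ((QuotientGroup.eq_one_iff _).1 e)
    have hm : Nat.card ((L G (k + 1)).map π) = p := by
      have e1 : Nat.card ((L G (k + 1)).map π) * Nat.card (L G (k + 2)) = Nat.card (L G (k + 1)) := by
        rw [← Subgroup.relIndex_bot_left, ← Subgroup.relIndex_bot_left, ← Subgroup.relIndex_bot_left,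
          ← Subgroup.relIndex_comap, MonoidHom.comap_bot, QuotientGroup.ker_mk', mul_comm,
          Subgroup.relIndex_mul_relIndex _ _ _ bot_le (L_anti (by omega))]
      rw [h.card_L (by omega) (by omega), h.card_L (by omega) (by omega),
        show n - (k + 1) = n - (k + 2) + 1 by omega, pow_succ'] at e1
      exact Nat.eq_of_mul_eq_mul_right (pow_pos hpf.out.pos _) e1
    exact congrArg Subtype.val (hm ▸ pow_card_eq_one' (x := (⟨π ⁅s, a⁆, mem_map_of_mem π he⟩ : (L G (k + 1)).map π)))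
  rw [h1, zpow_eq_zpow_iff_modEq, hord] at h2
  exact Int.modEq_iff_dvd.1 h2

omit huC in
/-- An automorphism inverting the first layer and fixing the next two cannot exist. -/
theorem contra_signs (T : MulAut G) {k : ℕ} (hk : 2 ≤ k) (hkn : k ≤ n - 3) {a : G} (ha : a ∈ L G 1)
    (ha' : a ∉ L G 2) (hTa : a * T a ∈ L G 2) (hfix : ∀ y ∈ L G k, y⁻¹ * T y ∈ L G (k + 1))
    (hfix' : ∀ y ∈ L G (k + 1), y⁻¹ * T y ∈ L G (k + 2))
    (hmid : k = 2 ∨ (k = 3 ∧ ∀ γ : ℤ, ∀ e ∈ L G 2, e ∉ L G 3 → (e ^ γ)⁻¹ * T e ∈ L G 3 →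
      ∀ y ∈ L G 2, (y ^ γ)⁻¹ * T y ∈ L G 3)) : False := by
  have := h.hn
  have hp5 := h.hp
  obtain ⟨s, hs1, -, -⟩ := h.exists_avoid h.index_one h.index_one h.index_one
  obtain ⟨_, hz, l, hl, hTs⟩ := Subgroup.mem_sup_of_normal_right.1
    ((show (⊤ : Subgroup G) ≤ zpowers s ⊔ L G 1 from (Subgroup.index_eq_one.1 (((Nat.dvd_prime hpf.out).1
      (h.index_one ▸ Subgroup.index_dvd_of_le le_sup_right)).resolve_right fun e => hs1 (by
        have he : L G 1 = zpowers s ⊔ L G 1 := Subgroup.eq_of_le_of_card_ge le_sup_right (by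
          have h1 := Subgroup.card_mul_index (zpowers s ⊔ L G 1)
          have h2 := Subgroup.card_mul_index (L G 1)
          rw [e] at h1
          rw [h.index_one] at h2
          exact (Nat.eq_of_mul_eq_mul_right hpf.out.pos (h1.trans h2.symm)).le)
        exact he ▸ mem_sup_left (mem_zpowers s)))).ge) (mem_top (T s)))
  obtain ⟨r, rfl⟩ := mem_zpowers_iff.1 hz
  obtain ⟨b, hb, hb'⟩ := SetLike.exists_of_lt (h.L_lt' (by omega : 1 ≤ k) (by omega : k < n))
  have hr := h.step_sign T hs1 hl hTs.symm (by omega) hkn hb hb' (α := 1) (β := 1) (by rw [zpow_one]; exact hfix b hb)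
    fun y hy => by rw [zpow_one]; exact hfix' y hy
  have hTa1 : (a ^ (-1 : ℤ))⁻¹ * T a ∈ L G 2 := by rwa [zpow_neg_one, inv_inv]
  rcases hmid with rfl | ⟨rfl, hmid⟩
  · have h2 := h.step_sign T hs1 hl hTs.symm le_rfl (by omega) ha ha' hTa1 (β := 1)
      fun y hy => by rw [zpow_one]; exact hfix y hy
    have : (p : ℤ) ∣ 2 := by
      have h3 := dvd_add hr h2
      rw [show 1 - r * 1 + (1 - r * -1) = (2 : ℤ) by ring] at h3
      exact h3
    have := Int.le_of_dvd (by omega) this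
    omega
  · obtain ⟨e, he, he'⟩ := SetLike.exists_of_lt (h.L_lt (le_refl 2) (by omega : 2 < n))
    obtain ⟨γ, w, hw, hTe⟩ := h.exists_rep (by omega : 1 ≤ 2) he he' (map_mem_L T he)
    have hγ : (e ^ γ)⁻¹ * T e ∈ L G 3 := by rw [hTe, inv_mul_cancel_left]; exact hw
    have h1 := h.step_sign T hs1 hl hTs.symm le_rfl (by omega) ha ha' hTa1 (hmid γ e he he' hγ)
    have h2 := h.step_sign T hs1 hl hTs.symm (by omega : 1 ≤ 2) (by omega) he he' hγ (β := 1)
      fun y hy => by rw [zpow_one]; exact hfix y hy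
    have : (p : ℤ) ∣ 2 := by
      have h3 := dvd_add (dvd_add h2 (dvd_mul_of_dvd_right h1 r)) (dvd_mul_of_dvd_right hr (1 + r))
      rw [show 1 - r * γ + r * (γ - r * -1) + (1 + r) * (1 - r * 1) = (2 : ℤ) by ring] at h3
      exact h3
    have := Int.le_of_dvd (by omega) this
    omega

theorem hmid_of_aut (T : MulAut G) {γ : ℤ} {e : G} (he : e ∈ L G 2) (he' : e ∉ L G 3) (hTe : (e ^ γ)⁻¹ * T e ∈ L G 3) :
    ∀ y ∈ L G 2, (y ^ γ)⁻¹ * T y ∈ L G 3 := by
  intro y hy
  obtain ⟨m, c, hc, rfl⟩ := h.exists_rep (by omega) he he' hy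
  let π := QuotientGroup.mk' (L G 3)
  refine (QuotientGroup.eq_one_iff _).1 ?_
  show π (((e ^ m * c) ^ γ)⁻¹ * T (e ^ m * c)) = 1
  have h1 : π ((e ^ γ)⁻¹ * T e) = 1 := (QuotientGroup.eq_one_iff _).2 hTe
  have h2 : π c = 1 := (QuotientGroup.eq_one_iff _).2 hc
  have h3 : π (T c) = 1 := (QuotientGroup.eq_one_iff _).2 (map_mem_L T hc)
  rw [map_mul, map_inv, map_zpow, inv_mul_eq_one] at h1
  rw [map_mul π _ (T _), map_inv, map_zpow, map_mul T, map_zpow T, map_mul π (e ^ m), map_mul π (T e ^ m), map_zpow,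
    map_zpow, h2, h3, mul_one, mul_one, ← h1, ← zpow_mul, ← zpow_mul, mul_comm, inv_mul_cancel]

end IsMC

end CfsgLib.PGroup.MaxDeg
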