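import Mathlib
import Cfsg.Agent.Lib.PGroup.PolySeq
import Cfsg.Agent.Lib.Fusion.MaxClass

/-!
p-groups with an element of order p whose centralizer has order p²: maximal class and rank at most p.
-/

set_option autoImplicit false
set_option linter.style.haveILetI false
set_option linter.deprecated false

namespace CfsgLib.PGroup.SmallCentralizer

open Subgroup CfsgLib.PGroup.PolySeq
open scoped commutatorElement

variable {G : Type*} [Group G]

/-- The lower central series, indexed from zero. -/
abbrev lcs (G : Type*) [Group G] (i : ℕ) : Subgroup G := (⊤ : Subgroup G).lowerCentralSeries i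

theorem lcs_normal (i : ℕ) : (lcs G i).Normal := inferInstance

/-- The filtration starting twice at `lcs G i`; commutators drop one extra step. -/
def shiftFilt (i : ℕ) (hi : 1 ≤ i) : Filt G where
  F k := lcs G (i + (k - 2))
  anti h := Subgroup.lowerCentralSeries_antitone _ (by omega)
  comm a b := (commutator_lcs_le _ _).trans (Subgroup.lowerCentralSeries_antitone _ (by omega))

/-- Iterated differences of a product, modulo one step further down. -/
theorem diff_mul {i : ℕ} {hi : 1 ≤ i} : ∀ (l : ℕ) {m k : ℕ} {g h : ℕ → G}, l ≤ m → 1 ≤ k →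
    Poly (shiftFilt i hi) m k g → Poly (shiftFilt i hi) m k h →
    (D^[l] g 0 * D^[l] h 0)⁻¹ * D^[l] (fun n => g n * h n) 0 ∈ (shiftFilt i hi).F (k + l + 1) := by
  intro l
  induction l with
  | zero => intro m k g h _ _ _ _; simp
  | succ l ih =>
    intro m k g h hm hk hg hh
    obtain ⟨m, rfl⟩ : ∃ m', m = m' + 1 := ⟨m - 1, by omega⟩
    have he : Poly (shiftFilt i hi) m (k + 1 + 1) (fun n => ⁅(h n)⁻¹, D g n⁆) :=
      ((closure_props m).2.2 k (k + 1) _ _ hh.lower.inv hg.2).shift (by omega)
    have hu : Poly (shiftFilt i hi) m (k + 1) (fun n => D g n * D h n) := hg.2.mul hh.2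
    have h1 := ih (by omega) (by omega) (he.shift (Nat.le_succ _)) hu
    have h2 := ih (by omega) (by omega) hg.2 hh.2
    have hA : D^[l] (fun n => ⁅(h n)⁻¹, D g n⁆) 0 ∈ (shiftFilt i hi).F (k + 1 + l + 1) := by
      have key : ∀ (q : ℕ) {k' m' : ℕ} {f : ℕ → G}, q ≤ m' → Poly (shiftFilt i hi) m' k' f →
          D^[q] f 0 ∈ (shiftFilt i hi).F (k' + q) := by
        intro q
        induction q with
        | zero => intro k' m' f _ hf; exact hf.mem 0
        | succ q ihq =>
          intro k' m' f hq hf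
          obtain ⟨m', rfl⟩ : ∃ a, m' = a + 1 := ⟨m' - 1, by omega⟩
          rw [Function.iterate_succ_apply, show k' + (q + 1) = k' + 1 + q by omega]
          exact ihq (by omega) hf.2
      exact (shiftFilt i hi).anti (by omega) (key l (show l ≤ m by omega) he)
    rw [Function.iterate_succ_apply, Function.iterate_succ_apply, Function.iterate_succ_apply,
      show D (fun n => g n * h n) = fun n => ⁅(h n)⁻¹, D g n⁆ * (D g n * D h n) from
        funext fun n => by simp [D, commutatorElement_def, mul_assoc],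
      show k + (l + 1) + 1 = k + 1 + l + 1 by omega]
    generalize D^[l] (fun n => ⁅(h n)⁻¹, D g n⁆) 0 = A at h1 hA
    generalize D^[l] (fun n => D g n * D h n) 0 = U at h1 h2
    generalize D^[l] (fun n => ⁅(h n)⁻¹, D g n⁆ * (D g n * D h n)) 0 = X at h1 ⊢
    generalize D^[l] (D g) 0 * D^[l] (D h) 0 = V at h2 ⊢
    have hn : ((shiftFilt i hi).F (k + 1 + l + 1)).Normal := lcs_normal (G := G) _
    have h3 := mul_mem (mul_mem h2 (hn.conj_mem _ hA U⁻¹)) h1
    rwa [show V⁻¹ * U * (U⁻¹ * A * U⁻¹⁻¹) * ((A * U)⁻¹ * X) = V⁻¹ * X by group] at h3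

theorem diff_one (l : ℕ) : D^[l] (fun _ : ℕ => (1 : G)) = fun _ => 1 :=
  Function.iterate_fixed (funext fun n => by simp [D]) l

theorem diff_choose (a : G) : ∀ j : ℕ, D^[j + 1] (fun t : ℕ => a ^ t.choose j) = fun _ => 1 := by
  intro j
  induction j with
  | zero => funext t; simp [D]
  | succ j ih =>
    rw [Function.iterate_succ_apply, show D (fun n : ℕ => a ^ n.choose (j + 1)) = fun n => a ^ n.choose j from
      funext fun n => by
        simp only [D, Nat.choose_succ_succ, pow_add]
        rw [(Commute.pow_pow_self a (n.choose j) (n.choose j.succ)).eq, inv_mul_cancel_left]]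
    exact ih

theorem diff_of_vanish : ∀ (t : ℕ) (g : ℕ → G), (∀ n, n < t → g n = 1) → D^[t] g 0 = g t := by
  intro t
  induction t with
  | zero => intro g _; rfl
  | succ t ih =>
    intro g hv
    rw [Function.iterate_succ_apply, ih _ fun n hn => by simp [D, hv n (by omega), hv (n + 1) (by omega)]]
    simp [D, hv t (by omega)]

/-- The iterated commutators with `x`. -/
def cseq (x a : G) : ℕ → G
  | 0 => a
  | j + 1 => (cseq x a j)⁻¹ * (x * cseq x a j * x⁻¹)

theorem cseq_mem {x a : G} {i : ℕ} (ha : a ∈ lcs G i) : ∀ j, cseq x a j ∈ lcs G (i + j) := by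
  intro j
  induction j with
  | zero => exact ha
  | succ j ih =>
    rw [show cseq x a (j + 1) = ⁅(cseq x a j)⁻¹, x⁆ by simp [cseq, commutatorElement_def, mul_assoc],
      show i + (j + 1) = i + j + 1 by omega, lcs, Subgroup.lowerCentralSeries_succ]
    exact commutator_mem_commutator (inv_mem ih) (mem_top x)

variable {p : ℕ} [hp : Fact p.Prime]

/-- If `(a x)^p = x^p = 1` then `a^p` cancels the `(p-1)`-fold commutator, one step further down. -/
theorem pow_mul_cseq_mem {x a : G} {i : ℕ} (hi : 1 ≤ i) (hp2 : p ≠ 2) (hx : x ^ p = 1)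
    (hax : (a * x) ^ p = 1) (ha : a ∈ lcs G i) (hdeep : ∀ b ∈ lcs G (i + 1), b ^ p ∈ lcs G (i + p)) :
    a ^ p * cseq x a (p - 1) ∈ lcs G (i + p) := by
  set Φ := shiftFilt (G := G) i hi
  have h3 : 3 ≤ p := by have := hp.out.two_le; omega
  have hn : ∀ q, (lcs G q).Normal := fun q => lcs_normal q
  let g : ℕ → ℕ → G := fun j t => x ^ t * cseq x a j * (x ^ t)⁻¹
  have hDg : ∀ j, D (g j) = g (j + 1) := fun j => funext fun t => by
    simp only [g, D, cseq, pow_succ]; group
  have hgp : ∀ m j, Poly Φ m (j + 2) (g j) := by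
    intro m
    induction m with
    | zero =>
      intro j n
      show _ ∈ lcs G (i + (j + 2 - 2))
      exact (hn _).conj_mem _ (by simpa using cseq_mem ha j) _
    | succ m ih =>
      intro j
      refine ⟨fun n => ?_, hDg j ▸ ih (j + 1)⟩
      show _ ∈ lcs G (i + (j + 2 - 2))
      exact (hn _).conj_mem _ (by simpa using cseq_mem ha j) _
  let P : ℕ → G := fun t => (a * x) ^ t * (x ^ t)⁻¹
  have hDP : D P = g 0 := funext fun t => by
    simp only [P, g, D, cseq, pow_succ]; group
  have hP1 : ∀ t, P t ∈ lcs G i := by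
    intro t
    induction t with
    | zero => simp [P]
    | succ t ih =>
      rw [show P (t + 1) = P t * D P t by simp [D], hDP]
      exact mul_mem ih ((hn _).conj_mem _ ha _)
  have hPp : Poly Φ p 1 P := by
    obtain ⟨m, rfl⟩ : ∃ m, p = m + 1 := ⟨p - 1, by omega⟩
    exact ⟨fun n => by show _ ∈ lcs G (i + (1 - 2)); simpa using hP1 n, hDP ▸ hgp m 0⟩
  have hiter : ∀ q j, D^[q] (g j) = g (j + q) := by
    intro q
    induction q with
    | zero => intro j; rfl
    | succ q ih => intro j; rw [Function.iterate_succ_apply, hDg, ih, show j + 1 + q = j + (q + 1) by omega]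
  have hPd : D^[p] P 0 = cseq x a (p - 1) := by
    obtain ⟨m, rfl⟩ : ∃ m, p = m + 1 := ⟨p - 1, by omega⟩
    rw [Function.iterate_succ_apply, hDP, hiter]
    simp [g]
  have hN : Φ.F (1 + p + 1) = lcs G (i + p) := by show lcs G (i + (1 + p + 1 - 2)) = _; congr 1; omega
  -- one correction step leaves the top difference unchanged
  have hstep : ∀ (f : ℕ → G) (c : G) (j : ℕ), j < p → c ∈ Φ.F (1 + j) → Poly Φ p 1 f →
      Poly Φ p 1 (fun t => c⁻¹ ^ t.choose j * f t) ∧
        (D^[p] f 0)⁻¹ * D^[p] (fun t => c⁻¹ ^ t.choose j * f t) 0 ∈ lcs G (i + p) := by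
    intro f c j hj hc hf
    have hcp := poly_choose (Φ := Φ) p j 1 (inv_mem hc)
    refine ⟨hcp.mul hf, ?_⟩
    have h := diff_mul p le_rfl le_rfl hcp hf
    rw [hN] at h
    have h1 : D^[p] (fun t : ℕ => c⁻¹ ^ t.choose j) = fun _ => (1 : G) := by
      rw [show p = (p - (j + 1)) + (j + 1) by omega, Function.iterate_add_apply, diff_choose, diff_one]
    rwa [h1, one_mul] at h
  suffices H : ∀ k, 2 ≤ k → k ≤ p → ∃ f : ℕ → G, Poly Φ p 1 f ∧ (∀ t, t < k → f t = 1) ∧
      (cseq x a (p - 1))⁻¹ * D^[p] f 0 ∈ lcs G (i + p) ∧ a ^ p * f p ∈ lcs G (i + p) by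
    obtain ⟨f, -, hv, hd, hf⟩ := H p hp.out.two_le le_rfl
    rw [diff_of_vanish p f hv] at hd
    have := mul_mem hf (inv_mem hd)
    rwa [mul_inv_rev, inv_inv, ← mul_assoc, mul_inv_cancel_right] at this
  intro k
  induction k with
  | zero => omega
  | succ k ih =>
    intro hk2 hkp
    rcases Nat.lt_or_ge k 2 with hk | hk
    · obtain rfl : k = 1 := by omega
      obtain ⟨h1, h2⟩ := hstep P a 1 (by omega) (by show a ∈ lcs G (i + (1 + 1 - 2)); simpa using ha) hPp
      refine ⟨_, h1, fun t ht => ?_, ?_, ?_⟩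
      · interval_cases t <;> simp [P]
      · rwa [hPd] at h2
      · simp [P, hax, hx]
    · obtain ⟨f, hf, hv, hd, hfp⟩ := ih hk (by omega)
      have hfk : f k ∈ Φ.F (1 + k) := mem_of_vanish k (by omega) hf hv
      obtain ⟨h1, h2⟩ := hstep f (f k) k (by omega) hfk hf
      refine ⟨_, h1, fun t ht => ?_, ?_, ?_⟩
      · rcases Nat.lt_succ_iff_lt_or_eq.mp ht with h | rfl
        · simp [hv t h, Nat.choose_eq_zero_of_lt h]
        · simp
      · have := mul_mem hd h2
        rwa [← mul_assoc, mul_inv_cancel_right] at this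
      · show a ^ p * ((f k)⁻¹ ^ p.choose k * f p) ∈ lcs G (i + p)
        obtain ⟨c, hc⟩ := hp.out.dvd_choose_self (show k ≠ 0 by omega) (show k < p by omega)
        have hmem : (f k)⁻¹ ^ p.choose k ∈ lcs G (i + p) := by
          rw [hc, mul_comm, pow_mul]
          refine hdeep _ (pow_mem (inv_mem ?_) _)
          exact Subgroup.lowerCentralSeries_antitone _ (by omega) hfk
        have h5 := mul_mem ((hn (i + p)).conj_mem _ hmem (a ^ p)) hfp
        rwa [show a ^ p * (f k)⁻¹ ^ p.choose k * (a ^ p)⁻¹ * (a ^ p * f p) =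
          a ^ p * ((f k)⁻¹ ^ p.choose k * f p) by group] at h5

variable [Finite G]

/-- An element with centralizer of order `p²` gives maximal class. -/
theorem class_eq {n : ℕ} (hn : Nat.card G = p ^ n) {x : G}
    (hC : Nat.card (centralizer ({x} : Set G)) = p ^ 2) : Group.nilpotencyClass G = n - 1 := by
  refine Fusion.MaxClass.class_eq_of_selfcentralizing n G hn _ hC ?_
  haveI : IsMulCommutative (centralizer ({x} : Set G)) := IsPGroup.isMulCommutative_of_card_eq_prime_sq hC
  refine le_antisymm (Subgroup.centralizer_le ?_) (Subgroup.le_centralizer _)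
  rintro y rfl
  exact mem_centralizer_singleton_iff.mpr rfl

theorem two_le_of_centralizer {n : ℕ} (hn : Nat.card G = p ^ n) {x : G}
    (hC : Nat.card (centralizer ({x} : Set G)) = p ^ 2) : 2 ≤ n := by
  have h := Subgroup.card_le_card_group (centralizer ({x} : Set G))
  rw [hC, hn] at h
  exact (Nat.pow_le_pow_iff_right hp.out.one_lt).mp h

variable {n : ℕ} (hn : Nat.card G = p ^ n) {x : G}
  (hC : Nat.card (centralizer ({x} : Set G)) = p ^ 2)

include hn hC

theorem lcs_top_ne_bot (hn3 : 3 ≤ n) : lcs G (n - 2) ≠ ⊥ := fun h => by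
  haveI := (IsPGroup.of_card hn).isNilpotent
  have := Subgroup.lowerCentralSeries_eq_bot_iff_nilpotencyClass_le.mp h
  rw [class_eq hn hC] at this
  omega

theorem lcs_bot : lcs G (n - 1) = ⊥ := by
  haveI := (IsPGroup.of_card hn).isNilpotent
  exact Subgroup.lowerCentralSeries_eq_bot_iff_nilpotencyClass_le.mpr (class_eq hn hC).le

theorem card_lcs : ∀ l, 1 ≤ l → l ≤ n - 1 → Nat.card (lcs G l) = p ^ (n - 1 - l) := by
  have hP : IsPGroup p G := IsPGroup.of_card hn
  have h2 := two_le_of_centralizer hn hC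
  have lower : ∀ j l, l + j = n - 1 → 1 ≤ l → p ^ j ≤ Nat.card (lcs G l) := by
    intro j
    induction j with
    | zero => intro l _ _; simpa using Nat.one_le_iff_ne_zero.mpr Nat.card_pos.ne'
    | succ j ih =>
      intro l hl hl1
      have hne : lcs G l ≠ ⊥ := fun h => lcs_top_ne_bot hn hC (by omega)
        (le_bot_iff.mp (h ▸ Subgroup.lowerCentralSeries_antitone _ (by omega)))
      have := Fusion.MaxClass.card_mul_le_of_lt hP (Fusion.MaxClass.lcs_strict hP hne)
      calc p ^ (j + 1) = p * p ^ j := pow_succ' _ _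
        _ ≤ p * Nat.card (lcs G (l + 1)) := Nat.mul_le_mul_left _ (ih (l + 1) (by omega) (by omega))
        _ ≤ _ := this
  intro l hl hln
  obtain ⟨l, rfl⟩ : ∃ l', l = l' + 1 := ⟨l - 1, by omega⟩
  refine le_antisymm ?_ (lower _ _ (by omega) hl)
  rcases Fusion.MaxClass.card_lcs_le hP h2 hn l with h | h
  · rw [lcs, h, Subgroup.card_bot]; exact Nat.one_le_pow _ _ hp.out.pos
  · refine Nat.le_of_mul_le_mul_left (h.trans (le_of_eq ?_)) (pow_pos hp.out.pos (l + 2))
    rw [← pow_add]; congr 1; omega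

theorem card_lcs_succ {l : ℕ} (hl : 1 ≤ l) (h : lcs G l ≠ ⊥) :
    Nat.card (lcs G l) = p * Nat.card (lcs G (l + 1)) := by
  have hl' : l + 1 ≤ n - 1 := by
    by_contra h'
    exact h (le_bot_iff.mp (lcs_bot hn hC ▸ Subgroup.lowerCentralSeries_antitone _ (by omega)))
  rw [card_lcs hn hC l hl (by omega), card_lcs hn hC (l + 1) (by omega) hl',
    show n - 1 - l = n - 1 - (l + 1) + 1 by omega, pow_succ']

/-- Every element of `x γ₁` is conjugate to `x`. -/
theorem conj_of_mem {c : G} (hc : c ∈ lcs G 1) : ∃ g : G, g * x * g⁻¹ = c * x := by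
  have h2 := two_le_of_centralizer hn hC
  set C := centralizer ({x} : Set G)
  let f : G ⧸ C → lcs G 1 := fun q => ⟨⁅q.out, x⁆, by
    rw [lcs, Subgroup.top_lowerCentralSeries_one]
    exact commutator_mem_commutator (mem_top _) (mem_top _)⟩
  have hf : Function.Injective f := fun q r h => by
    have h' : q.out * x * q.out⁻¹ = r.out * x * r.out⁻¹ := by
      have := congrArg (fun t : lcs G 1 => (t : G) * x) h
      simpa [f, commutatorElement_def] using this
    rw [← q.out_eq', ← r.out_eq']
    refine QuotientGroup.eq.mpr (mem_centralizer_singleton_iff.mpr ?_)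
    calc q.out⁻¹ * r.out * x = q.out⁻¹ * (r.out * x * r.out⁻¹) * r.out := by group
      _ = x * (q.out⁻¹ * r.out) := by rw [← h']; group
  have hcard : Nat.card (lcs G 1) = Nat.card (G ⧸ C) := by
    have h := Subgroup.card_eq_card_quotient_mul_card_subgroup C
    rw [hn, hC, show n = n - 2 + 2 by omega, pow_add] at h
    rw [card_lcs hn hC 1 le_rfl (by omega), ← Nat.eq_of_mul_eq_mul_right (pow_pos hp.out.pos 2) h]
    congr 1
  obtain ⟨q, hq⟩ := (Function.Injective.bijective_of_nat_card_le hf hcard.le).2 ⟨c, hc⟩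
  have hq' : ⁅q.out, x⁆ = c := congrArg Subtype.val hq
  exact ⟨q.out, by rw [← hq', commutatorElement_def]; group⟩

theorem pow_notMem_one (hx1 : x ≠ 1) : x ∉ lcs G 1 := fun h => by
  obtain ⟨g, hg⟩ := conj_of_mem hn hC (inv_mem h)
  rw [inv_mul_cancel, conj_eq_one_iff] at hg
  exact hx1 hg

/-- Commutation with `x` moves each layer exactly one step. -/
theorem commutator_notMem (hx : x ^ p = 1) (hx1 : x ≠ 1) {l : ℕ} (hl : 1 ≤ l)
    (hne : lcs G (l + 1) ≠ ⊥) {a : G} (ha : a ∈ lcs G l) (ha' : a ∉ lcs G (l + 1)) :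
    ⁅a, x⁆ ∉ lcs G (l + 2) := by
  intro hax
  have hnl : lcs G l ≠ ⊥ := fun h => hne (le_bot_iff.mp (h ▸ Subgroup.lowerCentralSeries_antitone _ (Nat.le_succ l)))
  have hN : (lcs G (l + 2)).Normal := lcs_normal _
  let T : Subgroup G :=
    { carrier := {u | ⁅u, x⁆ ∈ lcs G (l + 2)}
      one_mem' := by simp
      mul_mem' := fun {u v} hu hv => by
        show ⁅u * v, x⁆ ∈ lcs G (l + 2)
        rw [show ⁅u * v, x⁆ = u * ⁅v, x⁆ * u⁻¹ * ⁅u, x⁆ by simp [commutatorElement_def, mul_assoc]]
        exact mul_mem (hN.conj_mem _ hv u) hu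
      inv_mem' := fun {u} hu => by
        show ⁅u⁻¹, x⁆ ∈ lcs G (l + 2)
        rw [show ⁅u⁻¹, x⁆ = u⁻¹ * ⁅u, x⁆⁻¹ * u⁻¹⁻¹ by simp [commutatorElement_def, mul_assoc]]
        exact hN.conj_mem _ (inv_mem hu) _ }
  have hTl : lcs G l ≤ T := by
    have hlow : lcs G (l + 1) ≤ T ⊓ lcs G l := le_inf (fun u hu => by
      show ⁅u, x⁆ ∈ lcs G (l + 1 + 1)
      rw [lcs, Subgroup.lowerCentralSeries_succ]
      exact commutator_mem_commutator hu (mem_top x)) (Subgroup.lowerCentralSeries_antitone _ (Nat.le_succ l))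
    have hlt : lcs G (l + 1) < T ⊓ lcs G l := lt_of_le_not_ge hlow fun h => ha' (h ⟨hax, ha⟩)
    have h1 := Fusion.MaxClass.card_mul_le_of_lt (IsPGroup.of_card hn) hlt
    rw [← card_lcs_succ hn hC hl hnl] at h1
    exact inf_eq_right.mp (Subgroup.eq_of_le_of_card_ge inf_le_right h1)
  have hCl : Nat.card (lcs G l ⊓ centralizer ({x} : Set G) : Subgroup G) ≤ p := by
    have hd : Nat.card (lcs G l ⊓ centralizer ({x} : Set G) : Subgroup G) ∣ p ^ 2 :=
      hC ▸ Subgroup.card_dvd_of_le inf_le_right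
    obtain ⟨k, hk2, hk⟩ := (Nat.dvd_prime_pow hp.out).mp hd
    interval_cases k
    · rw [hk, pow_zero]; exact hp.out.one_le
    · rw [hk, pow_one]
    · exfalso
      have he := Subgroup.eq_of_le_of_card_ge (inf_le_right : lcs G l ⊓ centralizer ({x} : Set G) ≤ _)
        (by rw [hk, hC])
      have hxl : x ∈ lcs G l := by
        have : x ∈ centralizer ({x} : Set G) := mem_centralizer_singleton_iff.mpr rfl
        rw [← he] at this
        exact this.1
      exact pow_notMem_one hn hC hx1 (Subgroup.lowerCentralSeries_antitone _ hl hxl)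
  set K := lcs G l ⊓ centralizer ({x} : Set G)
  let φ : lcs G l ⧸ K.subgroupOf (lcs G l) → lcs G (l + 2) := fun q => ⟨⁅(q.out : G), x⁆, hTl q.out.2⟩
  have hφ : Function.Injective φ := fun q r h => by
    have h' : (q.out : G) * x * (q.out : G)⁻¹ = (r.out : G) * x * (r.out : G)⁻¹ := by
      have := congrArg (fun t : lcs G (l + 2) => (t : G) * x) h
      simpa [φ, commutatorElement_def] using this
    rw [← q.out_eq', ← r.out_eq']
    refine QuotientGroup.eq.mpr ⟨(q.out⁻¹ * r.out).2, mem_centralizer_singleton_iff.mpr ?_⟩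
    show (q.out : G)⁻¹ * r.out * x = x * ((q.out : G)⁻¹ * r.out)
    calc (q.out : G)⁻¹ * r.out * x = (q.out : G)⁻¹ * ((r.out : G) * x * (r.out : G)⁻¹) * r.out := by group
      _ = x * ((q.out : G)⁻¹ * r.out) := by rw [← h']; group
  have h3 := Nat.card_le_card_of_injective φ hφ
  have h4 : Nat.card (lcs G l) ≤ Nat.card (lcs G (l + 2)) * p := by
    rw [Subgroup.card_eq_card_quotient_mul_card_subgroup (K.subgroupOf (lcs G l))]
    refine Nat.mul_le_mul h3 ?_
    rwa [Nat.card_congr (Subgroup.subgroupOfEquivOfLe inf_le_left).toEquiv]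
  rw [card_lcs_succ hn hC hl hnl, card_lcs_succ hn hC (by omega) hne] at h4
  have hpos : 0 < Nat.card (lcs G (l + 1 + 1)) := Nat.card_pos
  have h2le := hp.out.two_le
  rw [show l + 2 = l + 1 + 1 by omega, mul_comm (Nat.card (lcs G (l + 1 + 1))) p] at h4
  have h5 := Nat.le_of_mul_le_mul_left h4 hp.out.pos
  nlinarith

/-- A subgroup containing a representative of every layer of `H` contains `H ⊓ γ₁`. -/
theorem le_of_layers {H K : Subgroup G} (hKH : K ≤ H)
    (hrep : ∀ l, 1 ≤ l → ∀ a ∈ H, a ∈ lcs G l → a ∉ lcs G (l + 1) →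
      ∃ k ∈ K, k ∈ lcs G l ∧ k ∉ lcs G (l + 1)) : H ⊓ lcs G 1 ≤ K := by
  have main : ∀ j l, n - 1 ≤ l + j → 1 ≤ l → H ⊓ lcs G l ≤ K := by
    intro j
    induction j with
    | zero =>
      intro l hl _ h hh
      have : lcs G l = ⊥ := le_bot_iff.mp (lcs_bot hn hC ▸ Subgroup.lowerCentralSeries_antitone _ (by omega))
      have h1 : h ∈ lcs G l := hh.2
      rw [this, mem_bot] at h1
      exact h1 ▸ one_mem K
    | succ j ih =>
      intro l hl hl1 h hh
      by_cases hh' : h ∈ lcs G (l + 1)
      · exact ih (l + 1) (by omega) (by omega) ⟨hh.1, hh'⟩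
      obtain ⟨k, hkK, hk, hk'⟩ := hrep l hl1 h hh.1 hh.2 hh'
      have hne : lcs G l ≠ ⊥ := fun e => hh' (by
        have h1 : h ∈ lcs G l := hh.2
        rw [e, mem_bot] at h1
        exact h1 ▸ one_mem _)
      have hnorm : (lcs G (l + 1)).Normal := lcs_normal _
      -- the layer is generated by `k`
      have hle : lcs G l ≤ zpowers k ⊔ lcs G (l + 1) := by
        have h1 : zpowers k ⊔ lcs G (l + 1) ≤ lcs G l :=
          sup_le (zpowers_le.mpr hk) (Subgroup.lowerCentralSeries_antitone _ (Nat.le_succ l))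
        refine (Subgroup.eq_of_le_of_card_ge h1 ?_).ge
        rw [card_lcs_succ hn hC hl1 hne]
        exact Fusion.MaxClass.card_mul_le_of_lt (IsPGroup.of_card hn) (lt_of_le_not_ge le_sup_right
          fun e => hk' (e (mem_sup_left (mem_zpowers k))))
      obtain ⟨u, hu, v, hv, huv⟩ := Subgroup.mem_sup_of_normal_right.mp (hle hh.2)
      obtain ⟨i, rfl⟩ := mem_zpowers_iff.mp hu
      have hvH : v ∈ H := by
        have := mul_mem (inv_mem (hKH (zpow_mem hkK i))) hh.1
        rwa [← huv, inv_mul_cancel_left] at this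
      rw [← huv]
      exact mul_mem (zpow_mem hkK i) (ih (l + 1) (by omega) (by omega) ⟨hvH, hv⟩)
  exact main n 1 (by omega) le_rfl

variable (hp2 : p ≠ 2) (hx : x ^ p = 1) (hx1 : x ≠ 1)

include hp2 hx hx1

/-- The `p`-th power map moves each layer exactly `p - 1` steps. -/
theorem pow_layer : ∀ (j l : ℕ), n ≤ l + j → 1 ≤ l → ∀ a ∈ lcs G l, a ^ p ∈ lcs G (l + (p - 1)) ∧
    (a ∉ lcs G (l + 1) → lcs G (l + (p - 1)) ≠ ⊥ → a ^ p ∉ lcs G (l + p)) := by
  have h3 : 3 ≤ p := by have := hp.out.two_le; omega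
  intro j
  induction j with
  | zero =>
    intro l hl _ a ha
    have : lcs G l = ⊥ := le_bot_iff.mp (lcs_bot hn hC ▸ Subgroup.lowerCentralSeries_antitone _ (by omega))
    rw [this, mem_bot] at ha
    subst ha
    exact ⟨by simp, fun h => absurd (one_mem _) h⟩
  | succ j ih =>
    intro l hl hl1 a ha
    have hdeep : ∀ b ∈ lcs G (l + 1), b ^ p ∈ lcs G (l + p) := fun b hb => by
      have := (ih (l + 1) (by omega) (by omega) b hb).1
      rwa [show l + 1 + (p - 1) = l + p by omega] at this
    obtain ⟨g, hg⟩ := conj_of_mem hn hC (Subgroup.lowerCentralSeries_antitone _ hl1 ha)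
    have hax : (a * x) ^ p = 1 := by rw [← hg, conj_pow, hx]; group
    have key := pow_mul_cseq_mem hl1 hp2 hx hax ha hdeep
    have hd := cseq_mem (x := x) ha (p - 1)
    refine ⟨?_, fun hna hne hbad => ?_⟩
    · have := mul_mem (Subgroup.lowerCentralSeries_antitone _ (by omega) key) (inv_mem hd)
      rwa [mul_inv_cancel_right] at this
    · have hds : ∀ i, i ≤ p - 1 → cseq x a i ∉ lcs G (l + i + 1) := by
        intro i
        induction i with
        | zero => intro _; exact hna
        | succ i ihi =>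
          intro hi hmem
          have hne' : lcs G (l + i + 1) ≠ ⊥ := fun h => hne
            (le_bot_iff.mp (h ▸ Subgroup.lowerCentralSeries_antitone _ (by omega)))
          refine commutator_notMem hn hC hx hx1 (l := l + i) (by omega) hne' (inv_mem (cseq_mem ha i))
            (fun h => ihi (by omega) (inv_mem_iff.mp h)) ?_
          rw [show cseq x a (i + 1) = ⁅(cseq x a i)⁻¹, x⁆ by
            simp [cseq, commutatorElement_def, mul_assoc]] at hmem
          rwa [show l + (i + 1) + 1 = l + i + 2 by omega] at hmem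
      refine hds (p - 1) le_rfl ?_
      rw [show l + (p - 1) + 1 = l + p by omega]
      have := mul_mem (inv_mem hbad) key
      rwa [inv_mul_cancel_left] at this

/-- A subgroup of the derived subgroup needs at most `p - 1` generators. -/
theorem exists_gen_le_derived (H : Subgroup G) (hH : H ≤ lcs G 1) :
    ∃ T : Finset G, T.card ≤ p - 1 ∧ closure (T : Set G) = H := by
  classical
  have h3 : 3 ≤ p := by have := hp.out.two_le; omega
  let I : ℕ → Prop := fun l => 1 ≤ l ∧ ∃ a ∈ H, a ∈ lcs G l ∧ a ∉ lcs G (l + 1)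
  have hIn : ∀ l, I l → l < n - 1 := by
    intro l hl
    obtain ⟨-, a, -, ha, ha'⟩ := hl
    by_contra h
    have : lcs G l = ⊥ := le_bot_iff.mp (lcs_bot hn hC ▸ Subgroup.lowerCentralSeries_antitone _ (by omega))
    rw [this, mem_bot] at ha
    exact ha' (ha ▸ one_mem _)
  have hIup : ∀ k l, I l → l + k * (p - 1) < n - 1 → I (l + k * (p - 1)) := by
    intro k
    induction k with
    | zero => intro l hl _; simpa using hl
    | succ k ih =>
      intro l hl hlt
      have he : l + (k + 1) * (p - 1) = l + k * (p - 1) + (p - 1) := by ring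
      obtain ⟨hl1, a, haH, ha, ha'⟩ := ih l hl (by omega)
      rw [he] at hlt ⊢
      have hne : lcs G (l + k * (p - 1) + (p - 1)) ≠ ⊥ := fun h => by
        have := card_lcs hn hC (l + k * (p - 1) + (p - 1)) (by omega) (by omega)
        rw [h, Subgroup.card_bot] at this
        exact (Nat.one_lt_pow (by omega) hp.out.one_lt).ne this
      obtain ⟨hm, hnm⟩ := pow_layer hn hC hp2 hx hx1 n _ (by omega) hl1 a ha
      exact ⟨by omega, a ^ p, pow_mem haH p, hm,
        by rw [show l + k * (p - 1) + (p - 1) + 1 = l + k * (p - 1) + p by omega]; exact hnm ha' hne⟩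
  let J : Finset ℕ := (Finset.range n).filter fun l => I l ∧ ∀ j, I j → j + (p - 1) ≠ l
  have hJ : J.card ≤ p - 1 := by
    refine (Finset.card_le_card_of_injOn (fun l => l % (p - 1)) (fun l _ =>
      Finset.mem_range.mpr (Nat.mod_lt l (by omega))) ?_).trans (Finset.card_range _).le
    have key : ∀ u v, u < v → I u → I v → (∀ j, I j → j + (p - 1) ≠ v) → u % (p - 1) ≠ v % (p - 1) := by
      intro u v huv hu hv hmin hmod
      obtain ⟨k, hk⟩ := (Nat.modEq_iff_dvd' huv.le).mp hmod
      obtain ⟨k', rfl⟩ : ∃ k', k = k' + 1 := ⟨k - 1, by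
        rcases Nat.eq_zero_or_pos k with rfl | h
        · simp at hk; omega
        · omega⟩
      have he : u + k' * (p - 1) + (p - 1) = v := by
        have : (p - 1) * (k' + 1) = k' * (p - 1) + (p - 1) := by ring
        omega
      exact hmin _ (hIup k' u hu (by have := hIn v hv; omega)) he
    intro u hu v hv huv
    simp only [Finset.mem_coe, J, Finset.mem_filter] at hu hv
    rcases Nat.lt_trichotomy u v with h | h | h
    · exact absurd huv (key u v h hu.2.1 hv.2.1 hv.2.2)
    · exact h
    · exact absurd huv.symm (key v u h hv.2.1 hu.2.1 hu.2.2)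
  have hch : ∀ l, ∃ a : G, a ∈ H ∧ (I l → a ∈ lcs G l ∧ a ∉ lcs G (l + 1)) := fun l => by
    by_cases h : I l
    · obtain ⟨a, ha, ha'⟩ := h.2; exact ⟨a, ha, fun _ => ha'⟩
    · exact ⟨1, one_mem H, fun h' => absurd h' h⟩
  choose f hfH hf using hch
  refine ⟨J.image f, Finset.card_image_le.trans hJ, le_antisymm ?_ ?_⟩
  · refine (closure_le _).mpr fun a ha => ?_
    obtain ⟨l, -, rfl⟩ := Finset.mem_image.mp (Finset.mem_coe.mp ha)
    exact hfH l
  set K := closure ((J.image f : Finset G) : Set G)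
  have hKH : K ≤ H := (closure_le _).mpr fun a ha => by
    obtain ⟨l, -, rfl⟩ := Finset.mem_image.mp (Finset.mem_coe.mp ha)
    exact hfH l
  have hrep : ∀ l, I l → ∃ k ∈ K, k ∈ lcs G l ∧ k ∉ lcs G (l + 1) := by
    intro l
    induction l using Nat.strong_induction_on with
    | _ l ih =>
      intro hl
      by_cases hlJ : l ∈ J
      · exact ⟨f l, subset_closure (Finset.mem_coe.mpr (Finset.mem_image_of_mem f hlJ)), hf l hl⟩
      · have : ∃ j, I j ∧ j + (p - 1) = l := by
          by_contra hcon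
          exact hlJ (Finset.mem_filter.mpr ⟨Finset.mem_range.mpr (by have := hIn l hl; omega), hl,
            fun j hj he => hcon ⟨j, hj, he⟩⟩)
        obtain ⟨j, hj, rfl⟩ := this
        obtain ⟨k, hkK, hk, hk'⟩ := ih j (by omega) hj
        have hne : lcs G (j + (p - 1)) ≠ ⊥ := fun h => by
          obtain ⟨-, a, -, ha, ha'⟩ := hl
          rw [h, mem_bot] at ha
          exact ha' (ha ▸ one_mem _)
        obtain ⟨hm, hnm⟩ := pow_layer hn hC hp2 hx hx1 n j (by omega) hj.1 k hk
        exact ⟨k ^ p, pow_mem hkK p, hm,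
          by rw [show j + (p - 1) + 1 = j + p by omega]; exact hnm hk' hne⟩
  exact fun h hh => le_of_layers hn hC hKH (fun l hl a haH ha ha' => hrep l ⟨hl, a, haH, ha, ha'⟩) ⟨hh, hH hh⟩

omit hp2 hx hx1 in
/-- The derived quotient of a group with such an element has order `p²`. -/
theorem two_gen : ∃ T : Finset G, T.card ≤ 2 ∧ closure (T : Set G) = ⊤ := by
  classical
  have hP : IsPGroup p G := IsPGroup.of_card hn
  have h2 := two_le_of_centralizer hn hC
  have hne : lcs G 1 ≠ ⊤ := fun h => by
    have := card_lcs hn hC 1 le_rfl (by omega)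
    rw [h, Subgroup.card_top, hn] at this
    have := Nat.pow_right_injective hp.out.two_le this
    omega
  obtain ⟨y, -, hy⟩ := SetLike.not_le_iff_exists.mp (fun h => hne (top_le_iff.mp h))
  have hnorm : (lcs G 1).Normal := lcs_normal _
  have hlt : lcs G 1 < lcs G 1 ⊔ zpowers y := lt_of_le_not_ge le_sup_left fun e =>
    hy (e (mem_sup_right (mem_zpowers y)))
  obtain ⟨z, hz⟩ : ∃ z, lcs G 1 ⊔ zpowers y ⊔ zpowers z = ⊤ := by
    by_cases e : lcs G 1 ⊔ zpowers y = ⊤
    · exact ⟨1, by rw [e, top_sup_eq]⟩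
    obtain ⟨z, -, hz⟩ := SetLike.not_le_iff_exists.mp (fun h => e (top_le_iff.mp h))
    refine ⟨z, Subgroup.eq_top_of_le_card _ ?_⟩
    have h1 := Fusion.MaxClass.card_mul_le_of_lt hP hlt
    have h2' := Fusion.MaxClass.card_mul_le_of_lt hP (lt_of_le_not_ge
      (le_sup_left : lcs G 1 ⊔ zpowers y ≤ lcs G 1 ⊔ zpowers y ⊔ zpowers z)
      fun e' => hz (e' (mem_sup_right (mem_zpowers z))))
    refine le_trans ?_ ((Nat.mul_le_mul_left p h1).trans h2')
    rw [hn, card_lcs hn hC 1 le_rfl (by omega), ← pow_succ', ← pow_succ']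
    exact Nat.pow_le_pow_right hp.out.pos (by omega)
  refine ⟨{y, z}, Finset.card_le_two, ?_⟩
  haveI := hP.isNilpotent
  by_contra hlt'
  obtain ⟨M, hM, hle⟩ := (eq_top_or_exists_le_coatom (closure ((({y, z} : Finset G)) : Set G))).resolve_left hlt'
  haveI := Subgroup.NormalizerCondition.normal_of_coatom M Group.normalizerCondition_of_isNilpotent hM
  refine hM.1 (top_le_iff.mp (hz.ge.trans (sup_le (sup_le ?_ ?_) ?_)))
  · rw [lcs, Subgroup.top_lowerCentralSeries_one, _root_.commutator_def, commutator_le]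
    exact fun u _ v _ => frattini_le_coatom hM (CfsgLib.PGroup.Frattini.commutatorElement_mem_frattini hP u v)
  · exact zpowers_le.mpr (hle (subset_closure (by simp)))
  · exact zpowers_le.mpr (hle (subset_closure (by simp)))

omit hn hC hp2 hx hx1 in
/-- A subgroup with an element of small centralizer is generated by two elements. -/
theorem two_gen_of_small {G : Type*} [Group G] [Finite G] (hP : IsPGroup p G) {H : Subgroup G} {y : G}
    (hyH : y ∈ H) (hyC : Nat.card (centralizer ({y} : Set G)) ≤ p ^ 2) :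
    ∃ T : Finset G, T.card ≤ 2 ∧ closure (T : Set G) = H := by
  classical
  obtain ⟨m, hm⟩ := IsPGroup.iff_card.mp (hP.to_subgroup H)
  let y' : H := ⟨y, hyH⟩
  have hle : Nat.card (centralizer ({y'} : Set H)) ≤ p ^ 2 := by
    refine le_trans (Nat.card_le_card_of_injective
      (fun u : centralizer ({y'} : Set H) => (⟨u.1.1, mem_centralizer_singleton_iff.mpr
        (congrArg Subtype.val (mem_centralizer_singleton_iff.mp u.2))⟩ : centralizer ({y} : Set G)))
      fun u v h => ?_) hyC
    exact Subtype.ext (Subtype.ext (congrArg (fun t : centralizer ({y} : Set G) => (t : G)) h))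
  have htwo : ∃ T : Finset H, T.card ≤ 2 ∧ closure (T : Set H) = ⊤ := by
    obtain ⟨k, hk⟩ := IsPGroup.iff_card.mp ((hP.to_subgroup H).to_subgroup (centralizer ({y'} : Set H)))
    have hk2 : k ≤ 2 := (Nat.pow_le_pow_iff_right hp.out.one_lt).mp (hk ▸ hle)
    rcases Nat.lt_or_ge k 2 with hk1 | hk1
    · -- then `H` has order at most `p`
      have hy1 : Nat.card H ≤ p := by
        by_contra hbig
        push_neg at hbig
        haveI : Nontrivial H := Finite.one_lt_card_iff_nontrivial.mp (by linarith [hp.out.one_lt])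
        have hC1 : center H ≤ centralizer ({y'} : Set H) := center_le_centralizer _
        have hZ : center H ≠ ⊥ := (hP.to_subgroup H).center_nontrivial |> (Subgroup.nontrivial_iff_ne_bot _).mp
        obtain ⟨j, hj⟩ := IsPGroup.iff_card.mp ((hP.to_subgroup H).to_subgroup (center H))
        have hj1 : 1 ≤ j := by
          rcases Nat.eq_zero_or_pos j with rfl | h
          · exact absurd ((card_le_one_iff_eq_bot _).mp (by rw [hj]; simp)) hZ
          · exact h
        have hCeq : centralizer ({y'} : Set H) = center H := by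
          refine (Subgroup.eq_of_le_of_card_ge hC1 ?_).symm
          rw [hk, hj]
          exact Nat.pow_le_pow_right hp.out.pos (by omega)
        have hyc : y' ∈ center H := hCeq ▸ mem_centralizer_singleton_iff.mpr rfl
        have htop : centralizer ({y'} : Set H) = ⊤ := eq_top_iff.mpr fun u _ =>
          mem_centralizer_singleton_iff.mpr (Subgroup.mem_center_iff.mp hyc u)
        rw [htop, Subgroup.card_top] at hk
        rw [hk] at hbig
        have : p ^ k ≤ p ^ 1 := Nat.pow_le_pow_right hp.out.pos (by omega)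
        rw [pow_one] at this
        omega
      haveI : IsCyclic H := by
        rcases Nat.lt_or_ge m 1 with h | h
        · haveI : Subsingleton H := (Nat.card_eq_one_iff_unique.mp (by rw [hm, show m = 0 by omega]; simp)).1
          infer_instance
        · refine isCyclic_of_prime_card (p := p) (le_antisymm hy1 ?_)
          rw [hm]
          exact Nat.le_self_pow (by omega) p
      obtain ⟨g, hg⟩ := IsCyclic.exists_generator (α := H)
      refine ⟨{g}, by simp, ?_⟩
      rw [Finset.coe_singleton, ← zpowers_eq_closure, eq_top_iff]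
      exact fun u _ => hg u
    · exact two_gen hm (show Nat.card (centralizer ({y'} : Set H)) = p ^ 2 by rw [hk, show k = 2 by omega])
  obtain ⟨T, hT, hTcl⟩ := htwo
  refine ⟨T.image H.subtype, Finset.card_image_le.trans hT, ?_⟩
  rw [Finset.coe_image, ← MonoidHom.map_closure, hTcl, ← MonoidHom.range_eq_map, Subgroup.range_subtype]

/-- Every subgroup needs at most `p` generators. -/
theorem exists_gen (H : Subgroup G) : ∃ T : Finset G, T.card ≤ p ∧ closure (T : Set G) = H := by
  classical
  have h3 : 3 ≤ p := by have := hp.out.two_le; omega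
  have hP : IsPGroup p G := IsPGroup.of_card hn
  have h2 := two_le_of_centralizer hn hC
  have hnorm : (lcs G 1).Normal := lcs_normal _
  by_cases hy : ∃ y ∈ H, Nat.card (centralizer ({y} : Set G)) ≤ p ^ 2
  · obtain ⟨y, hyH, hyC⟩ := hy
    obtain ⟨T, hT, hTH⟩ := two_gen_of_small hP hyH hyC
    exact ⟨T, hT.trans (by omega), hTH⟩
  push_neg at hy
  obtain ⟨T, hT, hTcl⟩ := exists_gen_le_derived hn hC hp2 hx hx1 (H ⊓ lcs G 1) inf_le_right
  by_cases hHle : H ≤ lcs G 1
  · exact ⟨T, hT.trans (Nat.sub_le p 1), by rwa [inf_eq_left.mpr hHle] at hTcl⟩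
  obtain ⟨h, hhH, hh⟩ := SetLike.not_le_iff_exists.mp hHle
  refine ⟨insert h T, (Finset.card_insert_le h T).trans (by omega), ?_⟩
  rw [Finset.coe_insert, Set.insert_eq, Subgroup.closure_union, ← zpowers_eq_closure, hTcl]
  refine le_antisymm (sup_le (zpowers_le.mpr hhH) inf_le_left) ?_
  -- `H γ₁` is proper
  have hproper : H ⊔ lcs G 1 ≠ ⊤ := fun htop => by
    obtain ⟨u, hu, v, hv, huv⟩ := Subgroup.mem_sup_of_normal_right.mp (htop ▸ mem_top x : x ∈ H ⊔ lcs G 1)
    obtain ⟨g, hg⟩ := conj_of_mem hn hC (hnorm.conj_mem _ (inv_mem hv) x)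
    have hux : g * x * g⁻¹ = u := by rw [hg, ← huv]; group
    have := hy u hu
    rw [← hux] at this
    have hcard : Nat.card (centralizer ({g * x * g⁻¹} : Set G)) ≤ Nat.card (centralizer ({x} : Set G)) := by
      refine Nat.card_le_card_of_injective (fun w : centralizer ({g * x * g⁻¹} : Set G) =>
        (⟨g⁻¹ * w * g, mem_centralizer_singleton_iff.mpr ?_⟩ : centralizer ({x} : Set G))) fun w w' e => ?_
      · calc g⁻¹ * w * g * x = g⁻¹ * ((w : G) * (g * x * g⁻¹)) * g := by group
          _ = g⁻¹ * ((g * x * g⁻¹) * w) * g := by rw [mem_centralizer_singleton_iff.mp w.2]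
          _ = x * (g⁻¹ * w * g) := by group
      · have e' := congrArg (fun t : centralizer ({x} : Set G) => g * (t : G) * g⁻¹) e
        exact Subtype.ext (by simpa [mul_assoc] using e')
    omega
  have heq : H ⊔ lcs G 1 = lcs G 1 ⊔ zpowers h := by
    refine (Subgroup.eq_of_le_of_card_ge (sup_le le_sup_right ((zpowers_le.mpr hhH).trans le_sup_left)) ?_).symm
    have h1 := Fusion.MaxClass.card_mul_le_of_lt hP (lt_top_iff_ne_top.mpr hproper)
    have h2' := Fusion.MaxClass.card_mul_le_of_lt hP (lt_of_le_not_ge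
      (le_sup_left : lcs G 1 ≤ lcs G 1 ⊔ zpowers h) fun e => hh (e (mem_sup_right (mem_zpowers h))))
    rw [Subgroup.card_top, hn] at h1
    rw [card_lcs hn hC 1 le_rfl (by omega)] at h2'
    refine Nat.le_of_mul_le_mul_left (h1.trans ?_) hp.out.pos
    refine le_trans ?_ (Nat.mul_le_mul_left p h2')
    rw [← pow_succ', ← pow_succ']
    exact Nat.pow_le_pow_right hp.out.pos (by omega)
  intro w hw
  obtain ⟨c, hc, d, hd, rfl⟩ := Subgroup.mem_sup_of_normal_right.mp (sup_comm (lcs G 1) (zpowers h) ▸ heq ▸ mem_sup_left hw :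
    w ∈ zpowers h ⊔ lcs G 1)
  refine mul_mem_sup hc ⟨?_, hd⟩
  have := mul_mem (inv_mem (zpowers_le.mpr hhH hc)) hw
  rwa [inv_mul_cancel_left] at this

end CfsgLib.PGroup.SmallCentralizer
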