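import Mathlib
import Cfsg.Agent.Lib.PGroup.SmallCentralizerRank

/-!
3-groups with an element of order 3 whose centralizer has order 9: two generators suffice for every
subgroup, apart from the Sylow 3-subgroup of `S₉`.
-/

set_option autoImplicit false
set_option linter.style.haveILetI false
set_option linter.unusedSectionVars false

namespace CfsgLib.PGroup.SmallCentralizer

open Subgroup CfsgLib.PGroup.PolySeq
open scoped commutatorElement

variable {G : Type*} [Group G] [Finite G] [hp : Fact (Nat.Prime 3)] {n : ℕ}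
  (hn : Nat.card G = 3 ^ n) {x : G} (hC : Nat.card (centralizer ({x} : Set G)) = 3 ^ 2)
  (hx : x ^ 3 = 1) (hx1 : x ≠ 1) (h4 : 4 ≤ n)

/-- The centralizer of the first two-step section. -/
def twoStep (G : Type*) [Group G] : Subgroup G where
  carrier := {g | ∀ a ∈ lcs G 1, ⁅a, g⁆ ∈ lcs G 3}
  one_mem' := fun a _ => by simp
  mul_mem' := fun {g h} hg hh a ha => by
    show ⁅a, g * h⁆ ∈ lcs G 3
    rw [show ⁅a, g * h⁆ = ⁅a, g⁆ * (g * ⁅a, h⁆ * g⁻¹) by simp [commutatorElement_def, mul_assoc]]
    exact mul_mem (hg a ha) ((lcs_normal (G := G) 3).conj_mem _ (hh a ha) g)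
  inv_mem' := fun {g} hg a ha => by
    show ⁅a, g⁻¹⁆ ∈ lcs G 3
    rw [show ⁅a, g⁻¹⁆ = g⁻¹ * ⁅a, g⁆⁻¹ * g⁻¹⁻¹ by simp [commutatorElement_def, mul_assoc]]
    exact (lcs_normal (G := G) 3).conj_mem _ (inv_mem (hg a ha)) _

omit [Finite G] hp in
theorem comm_step {i : ℕ} {a : G} (ha : a ∈ lcs G i) (g : G) : ⁅a, g⁆ ∈ lcs G (i + 1) := by
  rw [lcs, Subgroup.lowerCentralSeries_succ]
  exact commutator_mem_commutator ha (mem_top g)

omit [Finite G] hp in
theorem one_le_twoStep : lcs G 1 ≤ twoStep G := fun g hg a ha =>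
  commutator_lcs_le 1 1 (commutator_mem_commutator ha hg)

omit [Finite G] hp in
/-- A two-step centralizing element centralizes every pair of consecutive deep steps through cubes. -/
theorem cube_comm_step {l : ℕ} (hl : 1 ≤ l) {g c : G} (hgc : ⁅g, c⁆ ∈ lcs G (l + 2)) (hc : c ∈ lcs G l)
    (hcube : ∀ b ∈ lcs G (l + 2), b ^ 3 ∈ lcs G (l + 4)) : ⁅c ^ 3, g⁆ ∈ lcs G (l + 4) := by
  set N := lcs G (l + 4)
  haveI : N.Normal := lcs_normal _
  set w := ⁅g, c⁆ with hw
  have hcw : ⁅w, c⁆ ∈ N := Subgroup.lowerCentralSeries_antitone _ (by omega)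
    (commutator_lcs_le (l + 2) l (commutator_mem_commutator hgc hc))
  let π := QuotientGroup.mk' N
  have hwc : Commute (π w) (π c) := by
    rw [Commute, SemiconjBy, ← commutatorElement_eq_one_iff_mul_comm, ← map_commutatorElement,
      QuotientGroup.mk'_apply, QuotientGroup.eq_one_iff]
    exact hcw
  have hw3 : π w ^ 3 = 1 := by
    rw [← map_pow, QuotientGroup.mk'_apply, QuotientGroup.eq_one_iff]
    exact hcube w hgc
  have hconj : π g * π c ^ 3 * (π g)⁻¹ = π c ^ 3 := by
    have h1 : π g * π c * (π g)⁻¹ = π w * π c := by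
      rw [← map_mul π w c, hw]; simp [commutatorElement_def]
    rw [← conj_pow, h1, hwc.mul_pow, hw3, one_mul]
  rw [← QuotientGroup.eq_one_iff, ← QuotientGroup.mk'_apply, map_commutatorElement, map_pow,
    commutatorElement_eq_one_iff_mul_comm]
  calc π c ^ 3 * π g = (π g * π c ^ 3 * (π g)⁻¹) * π g := by rw [hconj]
    _ = π g * π c ^ 3 := by group

include hn hC hx hx1 h4

theorem notMem_twoStep : x ∉ twoStep G := by
  intro h
  have hne2 : lcs G 2 ≠ ⊥ := fun e => lcs_top_ne_bot hn hC (by omega)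
    (le_bot_iff.mp (e ▸ Subgroup.lowerCentralSeries_antitone _ (by omega)))
  have hne1 : lcs G 1 ≠ ⊥ := fun e => hne2
    (le_bot_iff.mp (e ▸ Subgroup.lowerCentralSeries_antitone _ (by omega)))
  obtain ⟨a, ha, ha'⟩ := SetLike.exists_of_lt
    (Fusion.MaxClass.lcs_strict (IsPGroup.of_card hn) hne1)
  exact commutator_notMem hn hC hx hx1 le_rfl hne2 ha ha' (h a ha)

/-- Every element is a power of `x` times a two-step centralizing element. -/
theorem exists_pow_mul (g : G) : ∃ j : ℤ, g * (x ^ j)⁻¹ ∈ twoStep G := by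
  have hne2 : lcs G 2 ≠ ⊥ := fun e => lcs_top_ne_bot hn hC (by omega)
    (le_bot_iff.mp (e ▸ Subgroup.lowerCentralSeries_antitone _ (by omega)))
  have hne1 : lcs G 1 ≠ ⊥ := fun e => hne2
    (le_bot_iff.mp (e ▸ Subgroup.lowerCentralSeries_antitone _ (by omega)))
  obtain ⟨a, ha, ha'⟩ := SetLike.exists_of_lt
    (Fusion.MaxClass.lcs_strict (IsPGroup.of_card hn) hne1)
  haveI : (lcs G 3).Normal := lcs_normal _
  haveI : (lcs G 2).Normal := lcs_normal _
  let π := QuotientGroup.mk' (lcs G 3)
  have hcent : ∀ b ∈ lcs G 2, ∀ u : G, Commute (π b) (π u) := fun b hb u => by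
    rw [Commute, SemiconjBy, ← commutatorElement_eq_one_iff_mul_comm, ← map_commutatorElement,
      QuotientGroup.mk'_apply, QuotientGroup.eq_one_iff]
    exact comm_step hb u
  -- commutation with `a` is a homomorphism to `γ₂/γ₃`
  let φ : G →* G ⧸ lcs G 3 := MonoidHom.mk' (fun u => π ⁅a, u⁆) fun u v => by
    rw [show ⁅a, u * v⁆ = ⁅a, u⁆ * (u * ⁅a, v⁆ * u⁻¹) by simp [commutatorElement_def, mul_assoc],
      map_mul, map_mul π (u * ⁅a, v⁆), map_mul, ← (hcent _ (comm_step ha v) u).eq, map_inv,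
      mul_inv_cancel_right]
  have hker : φ.ker ≤ twoStep G := fun u hu b hb => by
    have hgen : lcs G 1 ≤ zpowers a ⊔ lcs G 2 := by
      refine (Subgroup.eq_of_le_of_card_ge (sup_le (zpowers_le.mpr ha)
        (Subgroup.lowerCentralSeries_antitone _ (by omega))) ?_).ge
      rw [card_lcs_succ hn hC le_rfl hne1]
      exact Fusion.MaxClass.card_mul_le_of_lt (IsPGroup.of_card hn) (lt_of_le_not_ge le_sup_right
        fun e => ha' (e (mem_sup_left (mem_zpowers a))))
    obtain ⟨s, hs, c, hc, rfl⟩ := Subgroup.mem_sup_of_normal_right.mp (hgen hb)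
    obtain ⟨i, rfl⟩ := mem_zpowers_iff.mp hs
    have h1 : Commute (π a) (π u) := by
      rw [Commute, SemiconjBy, ← commutatorElement_eq_one_iff_mul_comm, ← map_commutatorElement]
      exact hu
    have h2 : π ⁅a ^ i * c, u⁆ = 1 := by
      rw [map_commutatorElement, commutatorElement_eq_one_iff_mul_comm, map_mul, map_zpow]
      exact ((h1.zpow_left i).mul_left (hcent c hc u)).eq
    exact (QuotientGroup.eq_one_iff _).mp h2
  have hxne : φ x ≠ 1 := fun h => commutator_notMem hn hC hx hx1 le_rfl hne2 ha ha'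
    ((QuotientGroup.eq_one_iff _).mp h)
  have hrange : φ.range ≤ zpowers (φ x) := by
    have hmap : φ.range ≤ (lcs G 2).map π := by
      rintro _ ⟨u, rfl⟩
      exact mem_map_of_mem π (comm_step ha u)
    have hmc : Nat.card ((lcs G 2).map π) = 3 := by
      have h : Nat.card ((lcs G 2).map π) * Nat.card (lcs G 3) = Nat.card (lcs G 2) := by
        rw [← Subgroup.relIndex_bot_left, ← Subgroup.relIndex_bot_left, ← Subgroup.relIndex_bot_left,
          ← Subgroup.relIndex_comap, MonoidHom.comap_bot, QuotientGroup.ker_mk', mul_comm,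
          Subgroup.relIndex_mul_relIndex _ _ _ bot_le (Subgroup.lowerCentralSeries_antitone _ (by omega))]
      rw [card_lcs_succ hn hC (by omega) hne2] at h
      exact Nat.eq_of_mul_eq_mul_right Nat.card_pos h
    intro q hq
    obtain ⟨k, hk⟩ := mem_zpowers_of_prime_card hmc
      (g := (⟨φ x, hmap ⟨x, rfl⟩⟩ : (lcs G 2).map π)) (g' := ⟨q, hmap hq⟩) (fun e => hxne (congrArg Subtype.val e))
    exact ⟨k, congrArg Subtype.val hk⟩
  obtain ⟨j, hj⟩ := mem_zpowers_iff.mp (hrange ⟨g, rfl⟩)
  refine ⟨j, hker ?_⟩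
  rw [MonoidHom.mem_ker, map_mul, map_inv, map_zpow, hj, mul_inv_cancel]

/-- The two-step centralizer centralizes every pair of consecutive layers. -/
theorem step_twoStep : ∀ (l : ℕ), 1 ≤ l → ∀ g ∈ twoStep G, ∀ b ∈ lcs G l, ⁅b, g⁆ ∈ lcs G (l + 2) := by
  have hcube : ∀ l, 1 ≤ l → ∀ b ∈ lcs G l, b ^ 3 ∈ lcs G (l + 2) := fun l hl b hb =>
    (pow_layer hn hC (by norm_num) hx hx1 n l (by omega) hl b hb).1
  have h2 : ∀ g ∈ twoStep G, ∀ b ∈ lcs G 2, ⁅b, g⁆ ∈ lcs G 4 := by
    intro g hg b hb
    haveI : (lcs G 4).Normal := lcs_normal _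
    have hM1 : ⁅lcs G 1, twoStep G⁆ ≤ lcs G 3 := commutator_le.mpr fun a ha u hu => hu a ha
    have h11 : ⁅lcs G 1, lcs G 1⁆ ≤ lcs G 4 := by
      haveI : (lcs G 2).Normal := lcs_normal _
      have hne1 : lcs G 1 ≠ ⊥ := fun e => lcs_top_ne_bot hn hC (by omega)
        (le_bot_iff.mp (e ▸ Subgroup.lowerCentralSeries_antitone _ (by omega)))
      obtain ⟨a, ha, ha'⟩ := SetLike.exists_of_lt
        (Fusion.MaxClass.lcs_strict (IsPGroup.of_card hn) hne1)
      have hgen : lcs G 1 ≤ zpowers a ⊔ lcs G 2 := by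
        refine (Subgroup.eq_of_le_of_card_ge (sup_le (zpowers_le.mpr ha)
          (Subgroup.lowerCentralSeries_antitone _ (by omega))) ?_).ge
        rw [card_lcs_succ hn hC le_rfl hne1]
        exact Fusion.MaxClass.card_mul_le_of_lt (IsPGroup.of_card hn) (lt_of_le_not_ge le_sup_right
          fun e => ha' (e (mem_sup_left (mem_zpowers a))))
      let π := QuotientGroup.mk' (lcs G 4)
      have hc12 : ∀ u ∈ lcs G 1, ∀ v ∈ lcs G 2, Commute (π u) (π v) := fun u hu v hv => by
        rw [Commute, SemiconjBy, ← commutatorElement_eq_one_iff_mul_comm, ← map_commutatorElement,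
          QuotientGroup.mk'_apply, QuotientGroup.eq_one_iff]
        exact commutator_lcs_le 1 2 (commutator_mem_commutator hu hv)
      rw [commutator_le]
      intro u hu v hv
      obtain ⟨s, hs, c, hc, rfl⟩ := Subgroup.mem_sup_of_normal_right.mp (hgen hu)
      obtain ⟨i, rfl⟩ := mem_zpowers_iff.mp hs
      obtain ⟨t, ht, d, hd, rfl⟩ := Subgroup.mem_sup_of_normal_right.mp (hgen hv)
      obtain ⟨j, rfl⟩ := mem_zpowers_iff.mp ht
      rw [← QuotientGroup.eq_one_iff, ← QuotientGroup.mk'_apply, map_commutatorElement,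
        commutatorElement_eq_one_iff_mul_comm, map_mul, map_mul, map_zpow, map_zpow]
      exact (((Commute.refl (π a)).zpow_zpow i j).mul_right
        (by rw [← map_zpow]; exact hc12 _ (zpow_mem ha i) d hd)).mul_left
        ((by rw [← map_zpow]; exact (hc12 _ (zpow_mem ha j) c hc).symm : Commute (π c) (π a ^ j)).mul_right
          (hc12 c (Subgroup.lowerCentralSeries_antitone _ (by omega) hc) d hd)) |>.eq
    have hGM : ⁅(⊤ : Subgroup G), twoStep G⁆ ≤ lcs G 1 := by
      rw [lcs, Subgroup.top_lowerCentralSeries_one, _root_.commutator_def]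
      exact commutator_mono le_rfl le_top
    have h := three_subgroups (lcs G 1) ⊤ (twoStep G) (lcs G 4)
      ((commutator_mono hGM le_rfl).trans h11)
      (by
        rw [commutator_comm (twoStep G)]
        refine (commutator_mono hM1 le_rfl).trans ?_
        rw [lcs, lcs, ← Subgroup.lowerCentralSeries_succ])
    rw [lcs, lcs, ← Subgroup.lowerCentralSeries_succ] at h
    exact h (commutator_mem_commutator hb hg)
  intro l
  induction l using Nat.strong_induction_on with
  | _ l ih =>
    intro hl g hg b hb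
    rcases Nat.lt_or_ge l 3 with h3 | h3
    · interval_cases l
      · exact hg b hb
      · exact h2 g hg b hb
    obtain ⟨m, rfl⟩ : ∃ m, l = m + 2 := ⟨l - 2, by omega⟩
    by_cases hne : lcs G (m + 2) = ⊥
    · rw [hne, mem_bot] at hb
      subst hb
      simp
    have hne1 : lcs G m ≠ ⊥ := fun e => hne (le_bot_iff.mp (e ▸ Subgroup.lowerCentralSeries_antitone _ (by omega)))
    obtain ⟨c, hc, hc'⟩ := SetLike.exists_of_lt (Fusion.MaxClass.lcs_strict (IsPGroup.of_card hn) hne1)
    obtain ⟨hc3, hc3'⟩ := pow_layer hn hC (by norm_num) hx hx1 n m (by omega) (by omega) c hc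
    have hc3n : c ^ 3 ∉ lcs G (m + 2 + 1) := hc3' hc' hne
    haveI : (lcs G (m + 2 + 1)).Normal := lcs_normal _
    have hgen : lcs G (m + 2) ≤ zpowers (c ^ 3) ⊔ lcs G (m + 2 + 1) := by
      refine (Subgroup.eq_of_le_of_card_ge (sup_le (zpowers_le.mpr hc3)
        (Subgroup.lowerCentralSeries_antitone _ (Nat.le_succ _))) ?_).ge
      rw [card_lcs_succ hn hC (by omega) hne]
      exact Fusion.MaxClass.card_mul_le_of_lt (IsPGroup.of_card hn) (lt_of_le_not_ge le_sup_right
        fun e => hc3n (e (mem_sup_left (mem_zpowers _))))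
    have hgc : ⁅g, c⁆ ∈ lcs G (m + 2) := by
      rw [← commutatorElement_inv c g]
      exact inv_mem (ih m (by omega) (by omega) g hg c hc)
    have hkey : ⁅c ^ 3, g⁆ ∈ lcs G (m + 4) := cube_comm_step (by omega) hgc hc fun u hu => by
      have := hcube (m + 2) (by omega) u hu
      exact this
    haveI : (lcs G (m + 4)).Normal := lcs_normal _
    obtain ⟨s, hs, u, hu, rfl⟩ := Subgroup.mem_sup_of_normal_right.mp (hgen hb)
    obtain ⟨i, rfl⟩ := mem_zpowers_iff.mp hs
    let π := QuotientGroup.mk' (lcs G (m + 4))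
    have h1 : Commute (π (c ^ 3)) (π g) := by
      rw [Commute, SemiconjBy, ← commutatorElement_eq_one_iff_mul_comm, ← map_commutatorElement,
        QuotientGroup.mk'_apply, QuotientGroup.eq_one_iff]
      exact hkey
    have h5 : Commute (π u) (π g) := by
      rw [Commute, SemiconjBy, ← commutatorElement_eq_one_iff_mul_comm, ← map_commutatorElement,
        QuotientGroup.mk'_apply, QuotientGroup.eq_one_iff]
      exact comm_step (i := m + 2 + 1) hu g
    rw [← QuotientGroup.eq_one_iff, ← QuotientGroup.mk'_apply, map_commutatorElement,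
      commutatorElement_eq_one_iff_mul_comm, map_mul, map_zpow]
    exact ((h1.zpow_left i).mul_left h5).eq

/-- Elements outside the two-step centralizer have small centralizers. -/
theorem small_of_notMem {y : G} (hy : y ∉ twoStep G) :
    Nat.card (centralizer ({y} : Set G)) ≤ 3 ^ 2 ∧ centralizer ({y} : Set G) ⊓ twoStep G ≤ lcs G (n - 2) := by
  obtain ⟨j, hj⟩ := exists_pow_mul hn hC hx hx1 h4 y
  set x' := x ^ j with hx'
  have hj3 : ¬ (3 : ℤ) ∣ j := by
    rintro ⟨k, rfl⟩
    rw [hx', zpow_mul, show x ^ (3 : ℤ) = 1 by exact_mod_cast hx, one_zpow, inv_one, mul_one] at hj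
    exact hy hj
  have hord : orderOf x = 3 := orderOf_eq_prime hx hx1
  have hx'1 : x' ≠ 1 := by
    rw [hx', Ne, ← orderOf_dvd_iff_zpow_eq_one, hord]
    exact_mod_cast hj3
  have hx'3 : x' ^ 3 = 1 := by
    rw [hx', ← zpow_natCast, ← zpow_mul, mul_comm, zpow_mul, zpow_natCast, hx, one_zpow]
  have hgenx : x ∈ zpowers x' := by
    obtain ⟨k, hk⟩ := mem_zpowers_of_prime_card (p := 3) (G := zpowers x) (by rw [Nat.card_zpowers, hord])
      (g := ⟨x', zpow_mem (mem_zpowers x) j⟩) (g' := ⟨x, mem_zpowers x⟩) (fun e => hx'1 (congrArg Subtype.val e))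
    exact ⟨k, congrArg Subtype.val hk⟩
  have hC' : Nat.card (centralizer ({x'} : Set G)) = 3 ^ 2 := by
    have : centralizer ({x'} : Set G) = centralizer ({x} : Set G) := by
      ext u
      rw [mem_centralizer_singleton_iff, mem_centralizer_singleton_iff]
      constructor
      · intro h
        obtain ⟨k, hk⟩ := mem_zpowers_iff.mp hgenx
        rw [← hk]
        exact (Commute.zpow_right (show Commute u x' from h) k).eq
      · intro h
        exact (Commute.zpow_right (show Commute u x from h) j).eq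
    rw [this, hC]
  -- `y` moves every layer
  have hmove : ∀ b, b ∈ lcs G 1 → ⁅b, y⁆ = 1 → b ∈ lcs G (n - 2) := by
    intro b hb hby
    by_contra hbn
    have hex : ∃ l, 1 ≤ l ∧ b ∈ lcs G l ∧ b ∉ lcs G (l + 1) := by
      by_contra hcon
      push Not at hcon
      exact hbn (Nat.le_induction (P := fun l _ => b ∈ lcs G l) hb (fun l hl h => hcon l hl h)
        (n - 2) (by omega))
    obtain ⟨l, hl, hbl, hbl'⟩ := hex
    have hln : l + 1 ≤ n - 2 := by
      by_contra h
      exact hbn (Subgroup.lowerCentralSeries_antitone _ (by omega) hbl)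
    have hne : lcs G (l + 1) ≠ ⊥ := fun e => lcs_top_ne_bot hn hC (by omega)
      (le_bot_iff.mp (e ▸ Subgroup.lowerCentralSeries_antitone _ hln))
    refine commutator_notMem hn hC' hx'3 hx'1 hl hne hbl hbl' ?_
    haveI : (lcs G (l + 2)).Normal := lcs_normal _
    let π := QuotientGroup.mk' (lcs G (l + 2))
    have h1 : Commute (π b) (π (y * x'⁻¹)) := by
      rw [Commute, SemiconjBy, ← commutatorElement_eq_one_iff_mul_comm, ← map_commutatorElement,
        QuotientGroup.mk'_apply, QuotientGroup.eq_one_iff]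
      exact step_twoStep hn hC hx hx1 h4 l hl _ hj b hbl
    have h2 : Commute (π b) (π y) := by
      rw [Commute, SemiconjBy, ← map_mul, ← map_mul, commutatorElement_eq_one_iff_mul_comm.mp hby]
    rw [← QuotientGroup.eq_one_iff, ← QuotientGroup.mk'_apply, map_commutatorElement,
      commutatorElement_eq_one_iff_mul_comm, show x' = (y * x'⁻¹)⁻¹ * y by group, map_mul π (y * x'⁻¹)⁻¹ y,
      map_inv]
    exact (h1.inv_right.mul_right h2).eq
  have hinf : centralizer ({y} : Set G) ⊓ twoStep G ≤ lcs G (n - 2) := by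
    rintro m ⟨hmy, hm⟩
    by_cases hm1 : m ∈ lcs G 1
    · exact hmove m hm1 (commutatorElement_eq_one_iff_mul_comm.mpr (mem_centralizer_singleton_iff.mp hmy))
    exfalso
    -- then `G/γ₂` would be abelian
    haveI : (lcs G 2).Normal := lcs_normal _
    haveI : (lcs G 1).Normal := lcs_normal _
    have h2n : 2 ≤ n := by omega
    have hlt1 : lcs G 1 < lcs G 1 ⊔ zpowers m := lt_of_le_not_ge le_sup_left fun e =>
      hm1 (e (mem_sup_right (mem_zpowers m)))
    have hlt2 : lcs G 1 ⊔ zpowers m < lcs G 1 ⊔ zpowers m ⊔ zpowers y := lt_of_le_not_ge le_sup_left fun e =>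
      hy ((sup_le one_le_twoStep (zpowers_le.mpr hm)) (e (mem_sup_right (mem_zpowers y))))
    have htop : lcs G 1 ⊔ zpowers m ⊔ zpowers y = ⊤ := Subgroup.eq_top_of_le_card _ (by
      refine le_trans ?_ ((Nat.mul_le_mul_left 3 (Fusion.MaxClass.card_mul_le_of_lt (IsPGroup.of_card hn) hlt1)).trans
        (Fusion.MaxClass.card_mul_le_of_lt (IsPGroup.of_card hn) hlt2))
      rw [hn, card_lcs hn hC 1 le_rfl (by omega), ← pow_succ', ← pow_succ']
      exact Nat.pow_le_pow_right (by norm_num) (by omega))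
    let π := QuotientGroup.mk' (lcs G 2)
    have hab : ∀ u v : G, Commute (π u) (π v) := by
      have hgen : ∀ u : G, π u ∈ closure ((lcs G 1).map π ∪ {π m, π y} : Set (G ⧸ lcs G 2)) := fun u => by
        have hu : u ∈ lcs G 1 ⊔ zpowers m ⊔ zpowers y := htop ▸ mem_top u
        refine (show lcs G 1 ⊔ zpowers m ⊔ zpowers y ≤
          (closure ((lcs G 1).map π ∪ {π m, π y} : Set (G ⧸ lcs G 2))).comap π from
            sup_le (sup_le ?_ ?_) ?_) hu
        · exact fun w hw => subset_closure (Or.inl (mem_map_of_mem π hw))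
        · exact zpowers_le.mpr (subset_closure (Or.inr (Or.inl rfl)))
        · exact zpowers_le.mpr (subset_closure (Or.inr (Or.inr rfl)))
      have hcl : ∀ a ∈ ((lcs G 1).map π ∪ {π m, π y} : Set (G ⧸ lcs G 2)),
          ∀ b ∈ ((lcs G 1).map π ∪ {π m, π y} : Set (G ⧸ lcs G 2)), Commute a b := by
        have hz : ∀ w ∈ lcs G 1, ∀ v : G, Commute (π w) (π v) := fun w hw v => by
          rw [Commute, SemiconjBy, ← commutatorElement_eq_one_iff_mul_comm, ← map_commutatorElement,
            QuotientGroup.mk'_apply, QuotientGroup.eq_one_iff]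
          exact comm_step hw v
        have hmy' : Commute (π m) (π y) := by
          rw [Commute, SemiconjBy, ← map_mul, ← map_mul, mem_centralizer_singleton_iff.mp hmy]
        rintro a (⟨w, hw, rfl⟩ | rfl | rfl) b (⟨w', hw', rfl⟩ | rfl | rfl)
        all_goals first | exact hz _ hw _ | exact (hz _ hw' _).symm | exact Commute.refl _ | exact hmy' | exact hmy'.symm
      haveI := Subgroup.isMulCommutative_closure (fun a ha b hb => (hcl a ha b hb).eq)
      intro u v
      exact congrArg Subtype.val (‹IsMulCommutative _›.1.1 ⟨π u, hgen u⟩ ⟨π v, hgen v⟩)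
    have hle : lcs G 1 ≤ lcs G 2 := by
      rw [lcs, Subgroup.top_lowerCentralSeries_one, _root_.commutator_def, commutator_le]
      intro u _ v _
      rw [← QuotientGroup.eq_one_iff, ← QuotientGroup.mk'_apply, map_commutatorElement,
        commutatorElement_eq_one_iff_mul_comm]
      exact (hab u v).eq
    have hne1 : lcs G 1 ≠ ⊥ := fun e => lcs_top_ne_bot hn hC (by omega)
      (le_bot_iff.mp (e ▸ Subgroup.lowerCentralSeries_antitone _ (by omega)))
    exact (Fusion.MaxClass.lcs_strict (IsPGroup.of_card hn) hne1).not_ge hle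
  refine ⟨?_, hinf⟩
  -- two cosets outside
  set C := centralizer ({y} : Set G)
  have hd : Nat.card C ≤ 3 * Nat.card (C ⊓ twoStep G : Subgroup G) := by
    rw [Subgroup.card_eq_card_quotient_mul_card_subgroup ((twoStep G).subgroupOf C),
      show Nat.card ((twoStep G).subgroupOf C) = Nat.card (C ⊓ twoStep G : Subgroup G) by
        rw [← Subgroup.inf_subgroupOf_left, Nat.card_congr (Subgroup.subgroupOfEquivOfLe inf_le_left).toEquiv]]
    refine Nat.mul_le_mul_right _ ?_
    choose jj hjj using fun u : G => exists_pow_mul hn hC hx hx1 h4 u⁻¹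
    have hzp : Nat.card (zpowers x) = 3 := by rw [Nat.card_zpowers, hord]
    refine (Nat.card_le_card_of_injective
      (fun q : C ⧸ (twoStep G).subgroupOf C => (⟨x ^ jj (q.out : G), zpow_mem (mem_zpowers x) _⟩ : zpowers x))
      fun q r e => ?_).trans hzp.le
    refine (QuotientGroup.out_eq' q).symm.trans (Eq.trans ?_ (QuotientGroup.out_eq' r))
    refine QuotientGroup.eq.mpr ?_
    have h1 := hjj (q.out : G)
    have h2 := hjj (r.out : G)
    have e' : x ^ jj (q.out : G) = x ^ jj (r.out : G) := congrArg Subtype.val e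
    have h3 := mul_mem h1 (inv_mem h2)
    rw [e'] at h3
    show (q.out : G)⁻¹ * r.out ∈ twoStep G
    simpa [mul_assoc] using h3
  refine hd.trans ?_
  have h9 := Subgroup.card_le_of_le hinf
  rw [card_lcs hn hC (n - 2) (by omega) (by omega), show n - 1 - (n - 2) = 1 by omega] at h9
  omega

/-- Iterated cubes keep walking two layers at a time. -/
theorem iterate_layer {H : Subgroup G} {k : G} (hk : k ∈ H) {l : ℕ} (hl : 1 ≤ l) (h1 : k ∈ lcs G l)
    (h2 : k ∉ lcs G (l + 1)) : ∀ i, lcs G (l + 2 * i) ≠ ⊥ →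
      ∃ u ∈ H, u ∈ lcs G (l + 2 * i) ∧ u ∉ lcs G (l + 2 * i + 1) := by
  intro i
  induction i with
  | zero => exact fun _ => ⟨k, hk, h1, h2⟩
  | succ i ih =>
    intro hne
    obtain ⟨u, hu, hu1, hu2⟩ := ih fun e => hne (le_bot_iff.mp (e ▸ Subgroup.lowerCentralSeries_antitone _ (by omega)))
    obtain ⟨h3, h3'⟩ := pow_layer hn hC (by norm_num) hx hx1 n (l + 2 * i) (by omega) (by omega) u hu1
    exact ⟨u ^ 3, pow_mem hu 3, h3, h3' hu2 hne⟩

/-- Cubes of two-step centralizing elements outside `γ₁`. -/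
theorem cube_twoStep (h5 : 5 ≤ n) {h : G} (hh : h ∈ twoStep G) (hh1 : h ∉ lcs G 1) :
    h ^ 3 ∈ lcs G 2 ∧ h ^ 3 ∉ lcs G 3 := by
  haveI : (lcs G 3).Normal := lcs_normal _
  haveI : (lcs G 2).Normal := lcs_normal _
  haveI : (lcs G 1).Normal := lcs_normal _
  set c1 := ⁅h⁻¹, x⁆ with hc1
  have hc1m : c1 ∈ lcs G 1 := by
    rw [lcs, Subgroup.top_lowerCentralSeries_one]
    exact commutator_mem_commutator (mem_top _) (mem_top _)
  -- the first commutator is nontrivial modulo `γ₂`
  have hxM := notMem_twoStep hn hC hx hx1 h4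
  have hc12 : c1 ∉ lcs G 2 := by
    intro hc
    have hlt1 : lcs G 1 < lcs G 1 ⊔ zpowers h := lt_of_le_not_ge le_sup_left fun e =>
      hh1 (e (mem_sup_right (mem_zpowers h)))
    have hlt2 : lcs G 1 ⊔ zpowers h < lcs G 1 ⊔ zpowers h ⊔ zpowers x := lt_of_le_not_ge le_sup_left fun e =>
      hxM ((sup_le one_le_twoStep (zpowers_le.mpr hh)) (e (mem_sup_right (mem_zpowers x))))
    have htop : lcs G 1 ⊔ zpowers h ⊔ zpowers x = ⊤ := Subgroup.eq_top_of_le_card _ (by
      refine le_trans ?_ ((Nat.mul_le_mul_left 3 (Fusion.MaxClass.card_mul_le_of_lt (IsPGroup.of_card hn) hlt1)).trans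
        (Fusion.MaxClass.card_mul_le_of_lt (IsPGroup.of_card hn) hlt2))
      rw [hn, card_lcs hn hC 1 le_rfl (by omega), ← pow_succ', ← pow_succ']
      exact Nat.pow_le_pow_right (by norm_num) (by omega))
    let π := QuotientGroup.mk' (lcs G 2)
    have hz : ∀ w ∈ lcs G 1, ∀ v : G, Commute (π w) (π v) := fun w hw v => by
      rw [Commute, SemiconjBy, ← commutatorElement_eq_one_iff_mul_comm, ← map_commutatorElement,
        QuotientGroup.mk'_apply, QuotientGroup.eq_one_iff]
      exact comm_step hw v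
    have hhx : Commute (π h) (π x) := by
      have h1 : Commute (π h⁻¹) (π x) := by
        rw [Commute, SemiconjBy, ← commutatorElement_eq_one_iff_mul_comm, ← map_commutatorElement,
          QuotientGroup.mk'_apply, QuotientGroup.eq_one_iff]
        exact hc
      rw [map_inv] at h1
      exact Commute.inv_left_iff.mp h1
    have hgen : ∀ u v : G, Commute (π u) (π v) := by
      have hT : ∀ w : G, Commute (π w) (π h) → Commute (π w) (π x) → ∀ v : G, Commute (π w) (π v) := by
        intro w w1 w2 v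
        have hv : v ∈ lcs G 1 ⊔ zpowers h ⊔ zpowers x := htop ▸ mem_top v
        refine Subgroup.mem_centralizer_singleton_iff.mp ((show lcs G 1 ⊔ zpowers h ⊔ zpowers x ≤
          (centralizer ({π w} : Set (G ⧸ lcs G 2))).comap π from sup_le (sup_le ?_ ?_) ?_) hv) |>.symm
        · exact fun u hu => mem_centralizer_singleton_iff.mpr (hz u hu w).eq
        · exact zpowers_le.mpr (mem_centralizer_singleton_iff.mpr w1.symm.eq)
        · exact zpowers_le.mpr (mem_centralizer_singleton_iff.mpr w2.symm.eq)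
      intro u v
      exact hT u (hT h (Commute.refl _) hhx u).symm (hT x hhx.symm (Commute.refl _) u).symm v
    have hle : lcs G 1 ≤ lcs G 2 := by
      rw [lcs, Subgroup.top_lowerCentralSeries_one, _root_.commutator_def, commutator_le]
      intro u _ v _
      rw [← QuotientGroup.eq_one_iff, ← QuotientGroup.mk'_apply, map_commutatorElement,
        commutatorElement_eq_one_iff_mul_comm]
      exact (hgen u v).eq
    have hne1 : lcs G 1 ≠ ⊥ := fun e => lcs_top_ne_bot hn hC (by omega)
      (le_bot_iff.mp (e ▸ Subgroup.lowerCentralSeries_antitone _ (by omega)))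
    exact (Fusion.MaxClass.lcs_strict (IsPGroup.of_card hn) hne1).not_ge hle
  have hne2 : lcs G 2 ≠ ⊥ := fun e => lcs_top_ne_bot hn hC (by omega)
    (le_bot_iff.mp (e ▸ Subgroup.lowerCentralSeries_antitone _ (by omega)))
  set c2 := ⁅c1⁻¹, x⁆ with hc2
  have hc2m : c2 ∈ lcs G 2 := comm_step (inv_mem hc1m) x
  have hc2n : c2 ∉ lcs G 3 := commutator_notMem hn hC hx hx1 le_rfl hne2 (inv_mem hc1m)
    fun e => hc12 (inv_mem_iff.mp e)
  -- `h x` has small centralizer
  have hy : h * x ∉ twoStep G := fun e => hxM (by simpa using mul_mem (inv_mem hh) e)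
  have hy3 : (h * x) ^ 3 ∈ lcs G 3 := by
    have hN : (twoStep G).Normal := ⟨fun u hu g a ha => by
      have h1 := hu (g⁻¹ * a * g) (by simpa using (inferInstance : (lcs G 1).Normal).conj_mem a ha g⁻¹)
      have h2 := (inferInstance : (lcs G 3).Normal).conj_mem _ h1 g
      show ⁅a, g * u * g⁻¹⁆ ∈ lcs G 3
      simpa [commutatorElement_def, mul_assoc] using h2⟩
    have hM : (h * x) ^ 3 ∈ twoStep G := by
      have hidx : (twoStep G).index ∣ 3 := by
        have hle : (twoStep G).index ≤ 3 := by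
          choose jj hjj using fun u : G => exists_pow_mul hn hC hx hx1 h4 u⁻¹
          have hzp : Nat.card (zpowers x) = 3 := by
            rw [Nat.card_zpowers, orderOf_eq_prime hx hx1]
          rw [Subgroup.index_eq_card]
          refine (Nat.card_le_card_of_injective
            (fun q : G ⧸ twoStep G => (⟨x ^ jj q.out, zpow_mem (mem_zpowers x) _⟩ : zpowers x))
            fun q r e => ?_).trans hzp.le
          refine (QuotientGroup.out_eq' q).symm.trans (Eq.trans ?_ (QuotientGroup.out_eq' r))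
          refine QuotientGroup.eq.mpr ?_
          have e' : x ^ jj q.out = x ^ jj r.out := congrArg Subtype.val e
          have h3 := mul_mem (hjj q.out) (inv_mem (hjj r.out))
          rw [e'] at h3
          simpa [mul_assoc] using h3
        obtain ⟨k, hk⟩ := (IsPGroup.of_card hn).index (twoStep G)
        rw [hk] at hle ⊢
        exact pow_dvd_pow 3 ((Nat.pow_le_pow_iff_right (by norm_num)).mp (hle.trans (by norm_num : 3 ≤ 3 ^ 1))) |>.trans
          (by norm_num)
      obtain ⟨d, hd⟩ := hidx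
      rw [hd, pow_mul]
      exact pow_mem ((twoStep G).pow_index_mem (h * x)) d
    exact Subgroup.lowerCentralSeries_antitone _ (by omega) ((small_of_notMem hn hC hx hx1 h4 hy).2
      ⟨mem_centralizer_singleton_iff.mpr (Commute.pow_self (h * x) 3).eq, hM⟩)
  -- expand the cube modulo `γ₃`
  let π := QuotientGroup.mk' (lcs G 3)
  have hMc : ∀ u ∈ lcs G 1, Commute (π u) (π h) := fun u hu => by
    rw [Commute, SemiconjBy, ← commutatorElement_eq_one_iff_mul_comm, ← map_commutatorElement,
      QuotientGroup.mk'_apply, QuotientGroup.eq_one_iff]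
    exact hh u hu
  have hc13 : c1 ^ 3 ∈ lcs G 3 := (pow_layer hn hC (by norm_num) hx hx1 n 1 (by omega) le_rfl c1 hc1m).1
  have hexp : π ((h * x) ^ 3) = π h ^ 3 * π c2 := by
    have e1 : (h * x) ^ 3 = h * (h * c1) * (h * c1 * (c1 * c2)) * x ^ 3 := by
      rw [hc2, hc1]; simp [commutatorElement_def, pow_succ, mul_assoc]
    rw [e1, hx, mul_one, map_mul, map_mul, map_mul, map_mul, map_mul, map_mul]
    calc π h * (π h * π c1) * (π h * π c1 * (π c1 * π c2))
        = π h * π h * (π c1 * π h) * π c1 * π c1 * π c2 := by group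
      _ = π h * π h * (π h * π c1) * π c1 * π c1 * π c2 := by rw [(hMc c1 hc1m).eq]
      _ = π h ^ 3 * π (c1 ^ 3) * π c2 := by rw [map_pow]; simp only [pow_succ, pow_zero, one_mul, mul_assoc]
      _ = π h ^ 3 * π c2 := by
          rw [show π (c1 ^ 3) = 1 from (QuotientGroup.eq_one_iff _).mpr hc13, mul_one]
  have hkey : π (h ^ 3 * c2) = 1 := by
    rw [map_mul, map_pow, ← hexp]
    exact (QuotientGroup.eq_one_iff _).mpr hy3
  have hmem : h ^ 3 * c2 ∈ lcs G 3 := (QuotientGroup.eq_one_iff _).mp hkey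
  refine ⟨?_, fun e => hc2n ?_⟩
  · have := mul_mem (Subgroup.lowerCentralSeries_antitone _ (by omega) hmem : h ^ 3 * c2 ∈ lcs G 2) (inv_mem hc2m)
    rwa [mul_inv_cancel_right] at this
  · have := mul_mem (inv_mem e) hmem
    rwa [inv_mul_cancel_left] at this

/-- Two generators suffice unless the two-step centralizer is elementary of order 27. -/
theorem two_gen_three :
    (∀ H : Subgroup G, ∃ T : Finset G, T.card ≤ 2 ∧ closure (T : Set G) = H) ∨
      (n = 4 ∧ IsMulCommutative (twoStep G) ∧ ∀ m ∈ twoStep G, m ^ 3 = 1) := by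
  classical
  have hP : IsPGroup 3 G := IsPGroup.of_card hn
  haveI : (lcs G 1).Normal := lcs_normal _
  have hMsplit : ∀ h ∈ twoStep G, h ∉ lcs G 1 → twoStep G = zpowers h ⊔ lcs G 1 := by
    intro h hh hh1
    have hxM := notMem_twoStep hn hC hx hx1 h4
    refine (Subgroup.eq_of_le_of_card_ge (sup_le (zpowers_le.mpr hh) one_le_twoStep) ?_).symm
    have h1 := Fusion.MaxClass.card_mul_le_of_lt hP (lt_top_iff_ne_top.mpr
      fun e : twoStep G = ⊤ => hxM (e ▸ mem_top x))
    have h2 := Fusion.MaxClass.card_mul_le_of_lt hP (lt_of_le_not_ge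
      (le_sup_right : lcs G 1 ≤ zpowers h ⊔ lcs G 1) fun e => hh1 (e (mem_sup_left (mem_zpowers h))))
    rw [Subgroup.card_top, hn] at h1
    rw [card_lcs hn hC 1 le_rfl (by omega), ← pow_succ'] at h2
    refine Nat.le_of_mul_le_mul_left (h1.trans ?_) (by norm_num : 0 < 3)
    refine le_trans ?_ (Nat.mul_le_mul_left 3 h2)
    rw [← pow_succ']
    exact Nat.pow_le_pow_right (by norm_num) (by omega)
  by_cases hexc : n = 4 ∧ IsMulCommutative (twoStep G) ∧ ∀ m ∈ twoStep G, m ^ 3 = 1
  · exact Or.inr hexc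
  left
  intro H
  by_cases hy : ∃ y ∈ H, Nat.card (centralizer ({y} : Set G)) ≤ 3 ^ 2
  · obtain ⟨y, hyH, hyC⟩ := hy
    exact two_gen_of_small hP hyH hyC
  have hHM : H ≤ twoStep G := fun y hyH => by
    by_contra hyM
    exact hy ⟨y, hyH, (small_of_notMem hn hC hx hx1 h4 hyM).1⟩
  obtain ⟨T, hT, hTH⟩ := exists_gen_le_derived hn hC (by norm_num) hx hx1 (H ⊓ lcs G 1) inf_le_right
  by_cases hH1 : H ≤ lcs G 1
  · exact ⟨T, hT.trans (by norm_num), by rwa [inf_eq_left.mpr hH1] at hTH⟩
  obtain ⟨h, hhH, hh1⟩ := SetLike.not_le_iff_exists.mp hH1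
  have hHsplit : H ≤ zpowers h ⊔ (H ⊓ lcs G 1) := fun w hw => by
    obtain ⟨c, hc, d, hd, rfl⟩ := Subgroup.mem_sup_of_normal_right.mp ((hMsplit h (hHM hhH) hh1).le (hHM hw))
    refine mul_mem_sup hc ⟨?_, hd⟩
    have := mul_mem (inv_mem (zpowers_le.mpr hhH hc)) hw
    rwa [inv_mul_cancel_left] at this
  rcases Nat.lt_or_ge n 5 with h5 | h5
  · -- order 81
    obtain rfl : n = 4 := by omega
    have h3 : lcs G 3 = ⊥ := lcs_bot hn hC
    have hM : IsMulCommutative (twoStep G) := by
      have hc : ∀ a ∈ lcs G 1, ∀ u ∈ twoStep G, a * u = u * a := fun a ha u hu => by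
        have := hu a ha
        rw [h3, mem_bot] at this
        exact commutatorElement_eq_one_iff_mul_comm.mp this
      refine ⟨⟨fun u v => Subtype.ext ?_⟩⟩
      obtain ⟨c, hcz, d, hd, hcd⟩ := Subgroup.mem_sup_of_normal_right.mp ((hMsplit h (hHM hhH) hh1).le u.2)
      obtain ⟨c', hcz', d', hd', hcd'⟩ := Subgroup.mem_sup_of_normal_right.mp ((hMsplit h (hHM hhH) hh1).le v.2)
      obtain ⟨i, rfl⟩ := mem_zpowers_iff.mp hcz
      obtain ⟨i', rfl⟩ := mem_zpowers_iff.mp hcz'
      show (u : G) * v = v * u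
      rw [← hcd, ← hcd']
      have h1 : Commute (h ^ i) (h ^ i') := (Commute.refl h).zpow_zpow i i'
      have h2 : Commute (h ^ i) d' := (hc d' hd' _ (zpow_mem (hHM hhH) i)).symm
      have h3 : Commute d (h ^ i') := hc d hd _ (zpow_mem (hHM hhH) i')
      have h4' : Commute d d' := hc d hd d' (one_le_twoStep hd')
      exact ((h1.mul_right h2).mul_left (h3.mul_right h4')).eq
    -- some element of `M` has order 9
    by_cases hHeq : twoStep G ≤ H
    · obtain ⟨m, hm, hm3⟩ : ∃ m ∈ twoStep G, m ^ 3 ≠ 1 := by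
        by_contra hcon
        push Not at hcon
        exact hexc ⟨rfl, hM, hcon⟩
      have hm1 : m ∉ lcs G 1 := fun e => hm3 (by
        have := (pow_layer hn hC (by norm_num) hx hx1 4 1 (by omega) le_rfl m e).1
        rwa [h3, mem_bot] at this)
      obtain ⟨a, ha, ham⟩ : ∃ a ∈ lcs G 1, a ∉ zpowers m := by
        by_contra hcon
        push Not at hcon
        have hcyc : IsCyclic (lcs G 1) := isCyclic_of_le (show lcs G 1 ≤ zpowers m from hcon)
        obtain ⟨g, hg⟩ := hcyc.exists_generator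
        have h9 : orderOf g = 9 := by
          rw [orderOf_eq_card_of_forall_mem_zpowers hg, card_lcs hn hC 1 le_rfl (by omega)]
          norm_num
        have hg3 : g ^ 3 = 1 := Subtype.ext (by
          have := (pow_layer hn hC (by norm_num) hx hx1 4 1 (by omega) le_rfl (g : G) g.2).1
          rw [h3, mem_bot] at this
          rw [SubmonoidClass.coe_pow, this, OneMemClass.coe_one])
        have := Nat.le_of_dvd (by norm_num) (orderOf_dvd_of_pow_eq_one hg3)
        omega
      refine ⟨{m, a}, Finset.card_le_two, ?_⟩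
      refine le_antisymm ((closure_le _).mpr ?_) ?_
      · intro w hw
        simp only [Finset.coe_insert, Finset.coe_singleton, Set.mem_insert_iff, Set.mem_singleton_iff] at hw
        rcases hw with rfl | rfl
        · exact hHeq hm
        · exact hHeq (one_le_twoStep ha)
      · refine (hHM.trans (hMsplit m hm hm1).le).trans ?_
        have hmin : zpowers m ≤ closure (({m, a} : Finset G) : Set G) :=
          zpowers_le.mpr (subset_closure (by simp))
        have hain : a ∈ closure (({m, a} : Finset G) : Set G) := subset_closure (by simp)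
        refine sup_le hmin ?_
        -- `⟨m⟩` and `a` already give order 27
        set K := closure (({m, a} : Finset G) : Set G)
        have hKM : K ≤ twoStep G := (closure_le _).mpr (by
          intro w hw
          simp only [Finset.coe_insert, Finset.coe_singleton, Set.mem_insert_iff, Set.mem_singleton_iff] at hw
          rcases hw with rfl | rfl
          · exact hm
          · exact one_le_twoStep ha)
        refine one_le_twoStep.trans (Subgroup.eq_of_le_of_card_ge hKM ?_).ge
        have h1 := Fusion.MaxClass.card_mul_le_of_lt hP (lt_of_le_not_ge hmin fun e => ham (e hain))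
        have h2 : 9 ≤ Nat.card (zpowers m) := by
          obtain ⟨k, hk⟩ := IsPGroup.iff_card.mp (hP.to_subgroup (zpowers m))
          have hk2 : 2 ≤ k := by
            by_contra hk2
            exact hm3 (orderOf_dvd_iff_pow_eq_one.mp (by
              rw [← Nat.card_zpowers, hk]
              exact (pow_dvd_pow 3 (show k ≤ 1 by omega)).trans (by norm_num)))
          rw [hk]
          exact le_trans (by norm_num) (Nat.pow_le_pow_right (by norm_num) hk2)
        have h5' := Fusion.MaxClass.card_mul_le_of_lt hP (lt_top_iff_ne_top.mpr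
          fun e : twoStep G = ⊤ => notMem_twoStep hn hC hx hx1 (by omega) (e ▸ mem_top x))
        rw [Subgroup.card_top, hn] at h5'
        norm_num at h5'
        omega
    · -- then `H ⊓ γ₁` has order at most 3
      have hlt : H ⊓ lcs G 1 < lcs G 1 := lt_of_le_not_ge inf_le_right fun e => hHeq (by
        rw [hMsplit h (hHM hhH) hh1]
        exact sup_le (zpowers_le.mpr hhH) (e.trans inf_le_left))
      have h1 := Fusion.MaxClass.card_mul_le_of_lt hP hlt
      rw [card_lcs hn hC 1 le_rfl (by omega)] at h1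
      haveI : IsCyclic (H ⊓ lcs G 1 : Subgroup G) := by
        obtain ⟨k, hk⟩ := IsPGroup.iff_card.mp (hP.to_subgroup (H ⊓ lcs G 1))
        rw [hk, ← pow_succ'] at h1
        have := (Nat.pow_le_pow_iff_right (by norm_num : 1 < 3)).mp h1
        rcases (show k = 0 ∨ k = 1 by omega) with rfl | rfl
        · haveI : Subsingleton (H ⊓ lcs G 1 : Subgroup G) := (Nat.card_eq_one_iff_unique.mp (by simpa using hk)).1
          infer_instance
        · exact isCyclic_of_prime_card (p := 3) (by simpa using hk)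
      obtain ⟨g, hg⟩ := IsCyclic.exists_generator (α := (H ⊓ lcs G 1 : Subgroup G))
      refine ⟨{h, (g : G)}, Finset.card_le_two, le_antisymm ((closure_le _).mpr ?_) (hHsplit.trans (sup_le ?_ ?_))⟩
      · intro w hw
        simp only [Finset.coe_insert, Finset.coe_singleton, Set.mem_insert_iff, Set.mem_singleton_iff] at hw
        rcases hw with rfl | rfl
        · exact hhH
        · exact g.2.1
      · exact zpowers_le.mpr (subset_closure (by simp))
      · intro w hw
        obtain ⟨i, hi⟩ := mem_zpowers_iff.mp (hg ⟨w, hw⟩)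
        have hi' : (g : G) ^ i = w := congrArg Subtype.val hi
        rw [← hi']
        exact zpow_mem (subset_closure (by simp)) i
  · obtain ⟨hc, hc'⟩ := cube_twoStep hn hC hx hx1 h4 h5 (hHM hhH) hh1
    -- the least odd layer
    let I : ℕ → Prop := fun l => Odd l ∧ ∃ a ∈ H, a ∈ lcs G l ∧ a ∉ lcs G (l + 1)
    obtain ⟨f, hfH, hf⟩ : ∃ f ∈ H, ∀ l, I l → ∃ l₀, Odd l₀ ∧ l₀ ≤ l ∧ f ∈ lcs G l₀ ∧ f ∉ lcs G (l₀ + 1) := by
      by_cases he : ∃ l, I l
      · obtain ⟨hodd, a, haH, ha, ha'⟩ := Nat.find_spec he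
        exact ⟨a, haH, fun l hl => ⟨_, hodd, Nat.find_min' he hl, ha, ha'⟩⟩
      · exact ⟨1, one_mem H, fun l hl => absurd ⟨l, hl⟩ he⟩
    set K := closure (({h, f} : Finset G) : Set G)
    have hKH : K ≤ H := (closure_le _).mpr (by
      intro w hw
      simp only [Finset.coe_insert, Finset.coe_singleton, Set.mem_insert_iff, Set.mem_singleton_iff] at hw
      rcases hw with rfl | rfl
      · exact hhH
      · exact hfH)
    have hhK : h ∈ K := subset_closure (by simp)
    have hfK : f ∈ K := subset_closure (by simp)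
    refine ⟨{h, f}, Finset.card_le_two, le_antisymm hKH (hHsplit.trans (sup_le (zpowers_le.mpr hhK) ?_))⟩
    refine le_of_layers hn hC hKH fun l hl a haH ha ha' => ?_
    have hne : lcs G l ≠ ⊥ := fun e => by
      rw [e, mem_bot] at ha
      exact ha' (ha ▸ one_mem _)
    rcases Nat.even_or_odd l with ⟨i, rfl⟩ | hodd
    · have := iterate_layer hn hC hx hx1 h4 (pow_mem hhK 3) (by omega : 1 ≤ 2) hc hc' (i - 1)
      rw [show 2 + 2 * (i - 1) = i + i by omega] at this
      exact this hne
    · obtain ⟨l₀, hodd₀, hle, hf0, hf0'⟩ := hf l ⟨hodd, a, haH, ha, ha'⟩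
      obtain ⟨u, hu⟩ := hodd
      obtain ⟨v, hv⟩ := hodd₀
      have := iterate_layer hn hC hx hx1 h4 hfK (by omega : 1 ≤ l₀) hf0 hf0' (u - v)
      rw [show l₀ + 2 * (u - v) = l by omega] at this
      exact this hne

/-- The exceptional group is a Sylow 3-subgroup of `S₉`. -/
theorem equiv_sylow_perm_nine (hn4 : n = 4) (hM : IsMulCommutative (twoStep G))
    (hexp : ∀ m ∈ twoStep G, m ^ 3 = 1) :
    ∃ W : Sylow 3 (Equiv.Perm (Fin 9)), Nonempty (G ≃* (W : Subgroup (Equiv.Perm (Fin 9)))) := by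
  classical
  subst hn4
  have hP : IsPGroup 3 G := IsPGroup.of_card hn
  set M := twoStep G
  have hxM : x ∉ M := notMem_twoStep hn hC hx hx1 le_rfl
  have hMc : Nat.card M = 27 := by
    obtain ⟨k, hk⟩ := IsPGroup.iff_card.mp (hP.to_subgroup M)
    have h1 := Fusion.MaxClass.card_mul_le_of_lt hP (lt_top_iff_ne_top.mpr fun e : M = ⊤ => hxM (e ▸ mem_top x))
    rw [Subgroup.card_top, hn, hk, ← pow_succ'] at h1
    have hk3 := (Nat.pow_le_pow_iff_right (by norm_num : 1 < 3)).mp h1
    have h2 : Nat.card G ≤ 3 * Nat.card M := by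
      choose jj hjj using fun u : G => exists_pow_mul hn hC hx hx1 le_rfl u⁻¹
      have hzp : Nat.card (zpowers x) = 3 := by rw [Nat.card_zpowers, orderOf_eq_prime hx hx1]
      rw [Subgroup.card_eq_card_quotient_mul_card_subgroup M]
      refine Nat.mul_le_mul_right _ ((Nat.card_le_card_of_injective
        (fun q : G ⧸ M => (⟨x ^ jj q.out, zpow_mem (mem_zpowers x) _⟩ : zpowers x))
        fun q r e => ?_).trans hzp.le)
      refine (QuotientGroup.out_eq' q).symm.trans (Eq.trans ?_ (QuotientGroup.out_eq' r))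
      refine QuotientGroup.eq.mpr ?_
      have e' : x ^ jj q.out = x ^ jj r.out := congrArg Subtype.val e
      have h3 := mul_mem (hjj q.out) (inv_mem (hjj r.out))
      rw [e'] at h3
      simpa [mul_assoc] using h3
    rw [hn, hk, ← pow_succ'] at h2
    have := (Nat.pow_le_pow_iff_right (by norm_num : 1 < 3)).mp h2
    rw [hk, show k = 3 by omega]
    norm_num
  -- the centre is `γ₂`
  set Z := lcs G 2 with hZ
  have hZc : Nat.card Z = 3 := by rw [hZ, card_lcs hn hC 2 (by omega) (by omega)]; norm_num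
  have hcen : center G ≤ Z := fun z hz => by
    have hxc : z ∈ centralizer ({x} : Set G) := center_le_centralizer _ hz
    by_cases hzM : z ∈ M
    · exact (small_of_notMem hn hC hx hx1 le_rfl hxM).2 ⟨hxc, hzM⟩
    · exfalso
      refine hzM fun a ha => ?_
      rw [commutatorElement_eq_one_iff_mul_comm.mpr (mem_center_iff.mp hz a)]
      exact one_mem _
  -- a subgroup of order 9 of `M` avoiding `Z`
  have hZM : Z ≤ M := (Subgroup.lowerCentralSeries_antitone _ (by omega : 1 ≤ 2)).trans one_le_twoStep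
  obtain ⟨a, haM, haZ⟩ : ∃ a ∈ M, a ∉ Z := SetLike.not_le_iff_exists.mp fun e => by
    have := Subgroup.card_le_of_le e
    omega
  haveI : Z.Normal := lcs_normal _
  have hord : ∀ u ∈ M, u ≠ 1 → orderOf u = 3 := fun u hu h1 => orderOf_eq_prime (hexp u hu) h1
  have ha1 : a ≠ 1 := fun e => haZ (e ▸ one_mem _)
  obtain ⟨b, hbM, hb⟩ : ∃ b ∈ M, b ∉ zpowers a ⊔ Z := SetLike.not_le_iff_exists.mp fun e => by
    have h1 := Subgroup.card_le_of_le e
    have h2 : Nat.card (zpowers a ⊔ Z : Subgroup G) ≤ 9 := by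
      refine le_trans (Nat.card_le_card_of_surjective (fun q : zpowers a × Z =>
        (⟨(q.1 : G) * q.2, mul_mem_sup q.1.2 q.2.2⟩ : (zpowers a ⊔ Z : Subgroup G))) fun w => ?_) ?_
      · obtain ⟨u, hu, v, hv, huv⟩ := Subgroup.mem_sup_of_normal_right.mp w.2
        exact ⟨(⟨u, hu⟩, ⟨v, hv⟩), Subtype.ext huv⟩
      · rw [Nat.card_prod, Nat.card_zpowers, hord a haM ha1, hZc]
    omega
  have hab : Commute a b := congrArg Subtype.val (hM.1.1 ⟨a, haM⟩ ⟨b, hbM⟩)
  have hb1 : b ≠ 1 := fun e => hb (e ▸ one_mem _)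
  set K := zpowers a ⊔ zpowers b
  have hmem : ∀ w, w ∈ K ↔ ∃ i j : ℤ, a ^ i * b ^ j = w := fun w => by
    constructor
    · intro hw
      have hn' : zpowers b ≤ normalizer (zpowers a : Set G) :=
        zpowers_le.mpr (Subgroup.centralizer_le_normalizer _ (mem_centralizer_iff.mpr fun u hu => by
          obtain ⟨i, rfl⟩ := mem_zpowers_iff.mp hu
          exact (hab.zpow_left i).eq))
      have hw' : w ∈ ((zpowers a ⊔ zpowers b : Subgroup G) : Set G) := hw
      rw [Subgroup.coe_mul_of_right_le_normalizer_left _ _ hn'] at hw'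
      obtain ⟨u, hu, v, hv, rfl⟩ := hw'
      obtain ⟨i, rfl⟩ := mem_zpowers_iff.mp hu
      obtain ⟨j, rfl⟩ := mem_zpowers_iff.mp hv
      exact ⟨i, j, rfl⟩
    · rintro ⟨i, j, rfl⟩
      exact mul_mem_sup (zpow_mem (mem_zpowers a) i) (zpow_mem (mem_zpowers b) j)
  have hdis : Disjoint (zpowers a) (zpowers b) := by
    rw [disjoint_iff, eq_bot_iff]
    intro w hw
    by_contra hw1
    refine hb (mem_sup_left ?_)
    obtain ⟨i, hi⟩ := mem_zpowers_iff.mp hw.2
    obtain ⟨k, hk⟩ := mem_zpowers_of_prime_card (p := 3) (G := zpowers b) (by rw [Nat.card_zpowers, hord b hbM hb1])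
      (g := ⟨w, hw.2⟩) (g' := ⟨b, mem_zpowers b⟩) (fun e => hw1 (mem_bot.mpr (congrArg Subtype.val e)))
    have hk' : w ^ k = b := congrArg Subtype.val hk
    rw [← hk']
    exact Subgroup.zpow_mem _ hw.1 k
  have hKc : Nat.card K = 9 := by
    have h1 : Nat.card K = Nat.card (zpowers a × zpowers b) := by
      refine (Nat.card_eq_of_bijective (fun q : zpowers a × zpowers b =>
        (⟨(q.1 : G) * q.2, mul_mem_sup q.1.2 q.2.2⟩ : K)) ⟨fun q r e => ?_, fun w => ?_⟩).symm
      · have e' : (q.1 : G) * q.2 = r.1 * r.2 := congrArg Subtype.val e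
        exact Subgroup.mul_injective_of_disjoint hdis e'
      · obtain ⟨i, j, hij⟩ := (hmem w).mp w.2
        exact ⟨(⟨_, zpow_mem (mem_zpowers a) i⟩, ⟨_, zpow_mem (mem_zpowers b) j⟩), Subtype.ext hij⟩
    rw [h1, Nat.card_prod, Nat.card_zpowers, Nat.card_zpowers, hord a haM ha1, hord b hbM hb1]
  have hKZ : ¬ Z ≤ K := by
    intro hle
    have hlt : zpowers a < zpowers a ⊔ Z := lt_of_le_not_ge le_sup_left fun e => by
      have hz' : Z ≤ zpowers a := le_sup_right.trans e
      have := Subgroup.eq_of_le_of_card_ge hz' (by rw [Nat.card_zpowers, hord a haM ha1, hZc])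
      exact haZ (this ▸ mem_zpowers a)
    have h1 := Fusion.MaxClass.card_mul_le_of_lt hP hlt
    rw [Nat.card_zpowers, hord a haM ha1] at h1
    have he : zpowers a ⊔ Z = K := Subgroup.eq_of_le_of_card_ge (sup_le le_sup_left hle) (by omega)
    exact hb (he ▸ mem_sup_right (mem_zpowers b))
  -- the action on the nine cosets is faithful
  let φ := MulAction.toPermHom G (G ⧸ K)
  have hker : φ.ker = ⊥ := by
    rw [← Subgroup.normalCore_eq_ker]
    by_contra hne
    haveI : Nontrivial K.normalCore := (Subgroup.nontrivial_iff_ne_bot _).mpr hne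
    haveI := hP.isNilpotent
    obtain ⟨z, hz, hzc, hz1⟩ : ∃ z, z ∈ K.normalCore ∧ z ∈ center G ∧ z ≠ 1 := by
      have := CfsgLib.Solvable.FrattiniFitting.inf_center_ne_bot K.normalCore hne
      obtain ⟨z, hz, hz1⟩ := (Subgroup.bot_or_exists_ne_one _).resolve_left this
      exact ⟨z, hz.1, hz.2, hz1⟩
    refine hKZ fun w hw => ?_
    obtain ⟨k, hk⟩ := mem_zpowers_of_prime_card hZc
      (g := ⟨z, hcen hzc⟩) (g' := ⟨w, hw⟩) (fun e => hz1 (congrArg Subtype.val e))
    have hk' : z ^ k = w := congrArg Subtype.val hk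
    rw [← hk']
    exact zpow_mem (Subgroup.normalCore_le K hz) k
  have hcard : Nat.card (G ⧸ K) = 9 := by
    have h := Subgroup.card_eq_card_quotient_mul_card_subgroup K
    rw [hn, hKc] at h
    omega
  haveI : Fintype (G ⧸ K) := Fintype.ofFinite _
  let e : (G ⧸ K) ≃ Fin 9 := Fintype.equivFinOfCardEq (by rwa [← Nat.card_eq_fintype_card])
  let ψ : G →* Equiv.Perm (Fin 9) := e.permCongrHom.toMonoidHom.comp φ
  have hψ : Function.Injective ψ := e.permCongrHom.injective.comp ((MonoidHom.ker_eq_bot_iff φ).mp hker)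
  have hR : IsPGroup 3 ψ.range := hP.of_surjective _ ψ.rangeRestrict_surjective
  obtain ⟨W, hW⟩ := hR.exists_le_sylow
  have hWeq : ψ.range = (W : Subgroup (Equiv.Perm (Fin 9))) := by
    refine Subgroup.eq_of_le_of_card_ge hW ?_
    rw [← Nat.card_congr (MonoidHom.ofInjective hψ).toEquiv, hn, W.card_eq_multiplicity, Nat.card_perm, Nat.card_fin]
    refine Nat.pow_le_pow_right (by norm_num) ?_
    by_contra h5
    have := (Nat.Prime.pow_dvd_iff_le_factorization (k := 5) Nat.prime_three (Nat.factorial_ne_zero 9)).mpr (by omega)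
    norm_num [Nat.factorial] at this
  exact ⟨W, ⟨(MonoidHom.ofInjective hψ).trans (MulEquiv.subgroupCongr hWeq)⟩⟩

end CfsgLib.PGroup.SmallCentralizer
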