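import Mathlib
import Cfsg.Agent.Lib.FusionSystem.MetacyclicNormal
import Cfsg.Agent.Lib.Fusion.ClassThree

/-!
Automorphisms of a group of order `p²` and exponent `p`; an eigenvalue criterion for `x ^ p = 1`.
-/

set_option autoImplicit false
set_option linter.style.haveILetI false

open scoped commutatorElement

namespace CfsgLib.PGroup.RankTwoPlane

variable {p : ℕ} [hp : Fact p.Prime]

theorem zpow_congr {G : Type*} [Group G] {x : G} (hx : x ^ p = 1) {a b : ℤ}
    (h : (a : ZMod p) = b) : x ^ a = x ^ b := by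
  rw [zpow_eq_zpow_iff_modEq]
  exact ((ZMod.intCast_eq_intCast_iff _ _ _).mp h).of_dvd
    (Int.natCast_dvd_natCast.mpr (orderOf_dvd_of_pow_eq_one hx))

theorem cast_eq_of_zpow_eq {G : Type*} [Group G] {x : G} (hx : x ^ p = 1) (hx1 : x ≠ 1) {a b : ℤ}
    (h : x ^ a = x ^ b) : (a : ZMod p) = b := by
  rw [zpow_eq_zpow_iff_modEq, orderOf_eq_prime hx hx1] at h
  exact (ZMod.intCast_eq_intCast_iff _ _ _).mpr h

theorem mem_zpowers_of_zpow_mem {G : Type*} [Group G] {x : G} {H : Subgroup G} (hx : x ^ p ∈ H) {i : ℤ}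
    (hi : (i : ZMod p) ≠ 0) (h : x ^ i ∈ H) : x ∈ H := by
  have hcop : IsCoprime i (p : ℤ) := ((Nat.prime_iff_prime_int.mp hp.out).coprime_iff_not_dvd.mpr
    (fun hd => hi ((ZMod.intCast_zmod_eq_zero_iff_dvd _ _).mpr hd))).symm
  obtain ⟨u, v, huv⟩ := hcop
  rw [← zpow_one x, ← huv, zpow_add, mul_comm u, mul_comm v, zpow_mul, zpow_mul, zpow_natCast]
  exact H.mul_mem (H.zpow_mem h u) (H.zpow_mem hx v)

variable {V : Type*} [Group V] [Finite V]

theorem comm_of_card (hcard : Nat.card V = p ^ 2) (a b : V) : a * b = b * a :=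
  (IsPGroup.isMulCommutative_of_card_eq_prime_sq (p := p) hcard).1.1 a b

/-- Coordinates with respect to an independent pair. -/
theorem exists_coords (hcard : Nat.card V = p ^ 2) (hexp : ∀ v : V, v ^ p = 1) {v y : V} (hv : v ≠ 1)
    (hy : y ∉ Subgroup.zpowers v) : ∀ u : V, ∃ i j : ℤ, u = v ^ i * y ^ j := by
  intro u
  haveI : (Subgroup.zpowers v).Normal :=
    ⟨fun a ha b => by rw [comm_of_card hcard b a, mul_inv_cancel_right]; exact ha⟩
  have htop : Subgroup.zpowers v ⊔ Subgroup.zpowers y = ⊤ := by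
    by_contra h
    have hne : Subgroup.zpowers v ≠ ⊥ := fun h' => hv (Subgroup.zpowers_eq_bot.mp h')
    have h1 := Fsys.MetaNormal.card_proper hcard hexp
      (fun h' => hne (le_bot_iff.mp (h' ▸ le_sup_left : Subgroup.zpowers v ≤ ⊥))) h
    have := Subgroup.eq_of_le_of_card_ge (le_sup_left : Subgroup.zpowers v ≤ Subgroup.zpowers v ⊔ Subgroup.zpowers y)
      (by rw [h1, Nat.card_zpowers, orderOf_eq_prime (hexp v) hv])
    exact hy (this ▸ Subgroup.mem_sup_right (Subgroup.mem_zpowers y))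
  obtain ⟨a, ⟨i, rfl⟩, b, ⟨j, rfl⟩, h⟩ := Subgroup.mem_sup_of_normal_left.mp (htop.ge (Subgroup.mem_top u))
  exact ⟨i, j, h.symm⟩

/-- A non-trivial automorphism of order `p` is a transvection. -/
theorem exists_shift (hcard : Nat.card V = p ^ 2) (hexp : ∀ v : V, v ^ p = 1) {τ : MulAut V} (hτp : τ ^ p = 1)
    (hτ1 : τ ≠ 1) : ∃ v : V, v ≠ 1 ∧ τ v = v ∧ (∀ x, x⁻¹ * τ x ∈ Subgroup.zpowers v) ∧
      ∀ x, τ x = x → x ∈ Subgroup.zpowers v := by
  haveI : Fintype V := Fintype.ofFinite V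
  have hc := comm_of_card hcard
  let D : V →* V := MonoidHom.mk' (fun x => x⁻¹ * τ x) fun a b => by
    rw [map_mul, mul_inv_rev, mul_assoc b⁻¹, hc b⁻¹, ← mul_assoc, mul_assoc, hc (τ b) b⁻¹]
  have hker : D.ker ≠ ⊥ := by
    have hzp : IsPGroup p (Subgroup.zpowers τ) := by
      obtain ⟨j, -, hj⟩ := (Nat.dvd_prime_pow hp.out).mp (show orderOf τ ∣ p ^ 1 by
        rw [pow_one]; exact orderOf_dvd_of_pow_eq_one hτp)
      exact IsPGroup.of_card (n := j) (by rw [Nat.card_zpowers, hj])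
    obtain ⟨v, hv, hv1⟩ := hzp.exists_fixed_point_of_prime_dvd_card_of_fixed_point V
      (hcard ▸ dvd_pow_self p two_ne_zero) (a := 1) (fun t => map_one (t : MulAut V))
    intro h
    have : v ∈ D.ker := by
      show v⁻¹ * τ v = 1
      rw [show τ v = v from hv ⟨τ, Subgroup.mem_zpowers τ⟩, inv_mul_cancel]
    rw [h, Subgroup.mem_bot] at this
    exact hv1 this.symm
  have hr1 : D.range ≠ ⊥ := fun h => hτ1 (MulEquiv.ext fun x => by
    have : D x = 1 := Subgroup.mem_bot.mp (h ▸ ⟨x, rfl⟩)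
    exact (inv_mul_eq_one.mp this).symm)
  have hmul : Nat.card D.range * Nat.card D.ker = p ^ 2 := by
    rw [← hcard, Subgroup.card_eq_card_quotient_mul_card_subgroup D.ker,
      Nat.card_congr (QuotientGroup.quotientKerEquivRange D).toEquiv]
  have hrt : D.range ≠ ⊤ := fun h => hker ((Subgroup.card_le_one_iff_eq_bot _).mp (by
    rw [h, Subgroup.card_top, hcard] at hmul
    exact (Nat.mul_eq_left (pow_ne_zero 2 hp.out.ne_zero)).mp hmul |>.le))
  have hW := Fsys.MetaNormal.card_proper hcard hexp hr1 hrt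
  have hfix := Fsys.MetaNormal.fix_of_invariant hW hτp (fun w ⟨x, hx⟩ => ⟨τ x, by
    rw [← hx]; show (τ x)⁻¹ * τ (τ x) = τ (x⁻¹ * τ x); rw [map_mul, map_inv]⟩)
  obtain ⟨x0, hx0⟩ : ∃ x, D x ≠ 1 := by
    by_contra h
    push Not at h
    exact hr1 ((Subgroup.eq_bot_iff_forall _).mpr (by rintro _ ⟨x, rfl⟩; exact h x))
  set v := D x0
  have hle : Subgroup.zpowers v = D.range := Subgroup.eq_of_le_of_card_ge
    (Subgroup.zpowers_le.mpr ⟨x0, rfl⟩) (by rw [hW, Nat.card_zpowers, orderOf_eq_prime (hexp _) hx0])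
  refine ⟨v, hx0, hfix _ ⟨x0, rfl⟩, fun x => hle ▸ ⟨x, rfl⟩, fun x hx => ?_⟩
  have hkc : Nat.card D.ker = p := by
    rw [hW, pow_two] at hmul
    exact Nat.eq_of_mul_eq_mul_left hp.out.pos hmul
  have hle2 : Subgroup.zpowers v = D.ker := Subgroup.eq_of_le_of_card_ge
    (Subgroup.zpowers_le.mpr (show v⁻¹ * τ v = 1 by rw [hfix _ ⟨x0, rfl⟩, inv_mul_cancel]))
    (by rw [hkc, Nat.card_zpowers, orderOf_eq_prime (hexp _) hx0])
  rw [hle2]
  show x⁻¹ * τ x = 1
  rw [hx, inv_mul_cancel]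

omit [Finite V] in
theorem pow_shift {τ : MulAut V} {v y s : V} (hv : τ v = v) (hy : τ y = y * s) (hs : τ s = s) :
    ∀ n : ℕ, (τ ^ n) v = v ∧ (τ ^ n) y = y * s ^ n := by
  intro n
  induction n with
  | zero => simp
  | succ n ih =>
    constructor
    · rw [pow_succ', MulAut.mul_apply, ih.1, hv]
    · rw [pow_succ', MulAut.mul_apply, ih.2, map_mul, map_pow, hy, hs, mul_assoc, ← pow_succ']

/-- A group containing two transvections with different centres contains a diagonal element. -/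
theorem exists_diag (hcard : Nat.card V = p ^ 2) (hexp : ∀ v : V, v ^ p = 1) (A : Subgroup (MulAut V))
    {τ a : MulAut V} (hτA : τ ∈ A) (haA : a ∈ A) (hτ1 : τ ≠ 1) {v : V} (hv : v ≠ 1) (hτv : τ v = v)
    (hsh : ∀ x, x⁻¹ * τ x ∈ Subgroup.zpowers v) (hav : a v ∉ Subgroup.zpowers v) (l m : ℤ)
    (hlm : (l : ZMod p) * m = 1) :
    ∃ h ∈ A, h v = v ^ l ∧ h (a v) = a v ^ m := by
  have hc := comm_of_card hcard
  have hcc : ∀ a b : V, Commute a b := hc
  set y := a v with hy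
  have hy1 : y ≠ 1 := fun h => hav (by rw [h]; exact one_mem _)
  have hgen := exists_coords hcard hexp hv hav
  obtain ⟨c, hcy⟩ := Subgroup.mem_zpowers_iff.mp (hsh y)
  have hτy : τ y = y * v ^ c := by rw [hcy, mul_inv_cancel_left]
  have hc0 : (c : ZMod p) ≠ 0 := fun h => hτ1 (MulEquiv.ext fun u => by
    obtain ⟨i, j, rfl⟩ := hgen u
    rw [map_mul, map_zpow, map_zpow, hτv, hτy, zpow_congr (hexp v) (h.trans Int.cast_zero.symm), zpow_zero, mul_one]
    rfl)
  have hsurj : ∀ u : V, ∃ u', a u' = u := fun u => a.surjective u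
  set σ := a * τ * a⁻¹ with hσ
  have hσA : σ ∈ A := mul_mem (mul_mem haA hτA) (inv_mem haA)
  have hσy : σ y = y := by
    rw [hσ, MulAut.mul_apply, MulAut.mul_apply, hy, MulAut.inv_apply_self, hτv]
  obtain ⟨w, hw⟩ := hsurj v
  obtain ⟨d, hd⟩ := Subgroup.mem_zpowers_iff.mp (hsh w)
  have hσv : σ v = v * y ^ d := by
    rw [hσ, MulAut.mul_apply, MulAut.mul_apply, ← hw, MulAut.inv_apply_self,
      show τ w = w * v ^ d by rw [hd, mul_inv_cancel_left], map_mul, map_zpow, hw]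
  have hd0 : (d : ZMod p) ≠ 0 := fun h => by
    have h1 : τ w = w := by
      rw [← mul_inv_cancel_left w (τ w), ← hd, zpow_congr (hexp v) (h.trans Int.cast_zero.symm), zpow_zero, mul_one]
    obtain ⟨i, j, hij⟩ := hgen w
    have h2 : v ^ (c * j) = v ^ (0 : ℤ) := by
      rw [hij, map_mul, map_zpow, map_zpow, hτv, hτy, (hcc _ _).mul_zpow, ← zpow_mul] at h1
      rw [zpow_zero]
      exact mul_eq_left.mp (mul_left_cancel h1)
    have hj : (j : ZMod p) = 0 := by
      have := cast_eq_of_zpow_eq (hexp v) hv h2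
      rw [Int.cast_mul, Int.cast_zero, mul_eq_zero] at this
      exact this.resolve_left hc0
    have hvy : v = y ^ i := by
      rw [← hw, hij, zpow_congr (hexp y) (hj.trans Int.cast_zero.symm), zpow_zero, mul_one, map_zpow]
    refine hav ?_
    have hi : (i : ZMod p) ≠ 0 := fun h => hv (by
      rw [hvy, zpow_congr (hexp y) (h.trans Int.cast_zero.symm), zpow_zero])
    exact mem_zpowers_of_zpow_mem (by rw [hexp y]; exact one_mem _) hi (hvy ▸ Subgroup.mem_zpowers v)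
  have hT : ∀ s : ℤ, ∃ T ∈ A, T v = v ∧ T y = y * v ^ s := fun s => by
    refine ⟨τ ^ ((s : ZMod p) * (c : ZMod p)⁻¹).val, pow_mem hτA _, ?_⟩
    obtain ⟨h1, h2⟩ := pow_shift (s := v ^ c) hτv hτy (by rw [map_zpow, hτv]) ((s : ZMod p) * (c : ZMod p)⁻¹).val
    refine ⟨h1, ?_⟩
    rw [h2, ← zpow_natCast, ← zpow_mul]
    congr 1
    refine zpow_congr (hexp v) ?_
    push_cast
    rw [ZMod.natCast_zmod_val, mul_comm (c : ZMod p), mul_assoc, inv_mul_cancel₀ hc0, mul_one]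
  have hL : ∀ r : ℤ, ∃ L ∈ A, L y = y ∧ L v = v * y ^ r := fun r => by
    refine ⟨σ ^ ((r : ZMod p) * (d : ZMod p)⁻¹).val, pow_mem hσA _, ?_⟩
    obtain ⟨h1, h2⟩ := pow_shift (s := y ^ d) hσy hσv (by rw [map_zpow, hσy]) ((r : ZMod p) * (d : ZMod p)⁻¹).val
    refine ⟨h1, ?_⟩
    rw [h2, ← zpow_natCast, ← zpow_mul]
    congr 1
    refine zpow_congr (hexp y) ?_
    push_cast
    rw [ZMod.natCast_zmod_val, mul_comm (d : ZMod p), mul_assoc, inv_mul_cancel₀ hd0, mul_one]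
  have hw' : ∀ s r : ℤ, (s : ZMod p) * r = -1 → ∃ W ∈ A, W v = y ^ r ∧ W y = v ^ s := fun s r hsr => by
    obtain ⟨T, hTA, hTv, hTy⟩ := hT s
    obtain ⟨L, hLA, hLy, hLv⟩ := hL r
    have hT' : ∀ i j : ℤ, T (v ^ i * y ^ j) = v ^ (i + s * j) * y ^ j := fun i j => by
      rw [map_mul, map_zpow, map_zpow, hTv, hTy, (hcc _ _).mul_zpow, ← zpow_mul, hc (y ^ j), ← mul_assoc, ← zpow_add]
    have hL' : ∀ i j : ℤ, L (v ^ i * y ^ j) = v ^ i * y ^ (j + r * i) := fun i j => by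
      rw [map_mul, map_zpow, map_zpow, hLv, hLy, (hcc _ _).mul_zpow, ← zpow_mul, mul_assoc, ← zpow_add, add_comm j]
    have hz : ∀ i j i' j' : ℤ, (i : ZMod p) = i' → (j : ZMod p) = j' → v ^ i * y ^ j = v ^ i' * y ^ j' :=
      fun i j i' j' h1 h2 => by rw [zpow_congr (hexp v) h1, zpow_congr (hexp y) h2]
    refine ⟨T * L * T, mul_mem (mul_mem hTA hLA) hTA, ?_, ?_⟩
    · have h := congrArg (fun u => T (L (T u))) (show v ^ (1 : ℤ) * y ^ (0 : ℤ) = v by simp)
      simp only [hT', hL'] at h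
      rw [MulAut.mul_apply, MulAut.mul_apply, ← h, ← one_mul (y ^ r), ← zpow_zero v]
      exact hz _ _ _ _ (by push_cast; linear_combination hsr) (by push_cast; ring)
    · have h := congrArg (fun u => T (L (T u))) (show v ^ (0 : ℤ) * y ^ (1 : ℤ) = y by simp)
      simp only [hT', hL'] at h
      rw [MulAut.mul_apply, MulAut.mul_apply, ← h, ← mul_one (v ^ s), ← zpow_zero y]
      exact hz _ _ _ _ (by push_cast; linear_combination (s : ZMod p) * hsr) (by push_cast; linear_combination hsr)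
  obtain ⟨W1, hW1, hW1v, hW1y⟩ := hw' (-1) 1 (by push_cast; ring)
  obtain ⟨W2, hW2, hW2v, hW2y⟩ := hw' l (-m) (by push_cast; rw [mul_neg, hlm])
  refine ⟨W2 * W1, mul_mem hW2 hW1, ?_, ?_⟩
  · rw [MulAut.mul_apply, hW1v, zpow_one, hW2y]
  · rw [MulAut.mul_apply, hW1y, map_zpow, hW2v, ← zpow_mul]
    congr 1
    ring

/-- Over an exponent-`p` subgroup with small commutators the `p`-th power of a product is that of the first factor. -/
theorem pow_mul_of_small {G : Type*} [Group G] (hp3 : 3 < p) {E L Z : Subgroup G} [E.Normal] [L.Normal]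
    (hZ : Z ≤ Subgroup.center G) (hLE : L ≤ E) (hE : ∀ e ∈ E, e ^ p = 1) (hGE : ∀ g : G, ∀ e ∈ E, ⁅g, e⁆ ∈ L)
    (hGL : ∀ g : G, ∀ u ∈ L, ⁅g, u⁆ ∈ Z) {x e : G} (he : e ∈ E) (k : ℤ) :
    (x ^ k * e) ^ p = (x ^ k) ^ p := by
  set H := Subgroup.zpowers x ⊔ E with hH
  have hxH : x ∈ H := Subgroup.mem_sup_left (Subgroup.mem_zpowers x)
  have hcom : ∀ u w : H, ⁅(u : G), (w : G)⁆ ∈ L := by
    rintro ⟨u, hu⟩ ⟨w, hw⟩
    show ⁅u, w⁆ ∈ L
    obtain ⟨_, ⟨i, rfl⟩, a, ha, rfl⟩ := Subgroup.mem_sup_of_normal_right.mp hu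
    obtain ⟨_, ⟨j, rfl⟩, b, hb, rfl⟩ := Subgroup.mem_sup_of_normal_right.mp hw
    have hc : ∀ g : G, ∀ f ∈ E, Commute (QuotientGroup.mk' L f) (QuotientGroup.mk' L g) := fun g f hf => by
      refine Commute.symm ?_
      rw [← commutatorElement_eq_one_iff_commute, ← map_commutatorElement]
      exact (QuotientGroup.eq_one_iff _).mpr (hGE g f hf)
    rw [← QuotientGroup.eq_one_iff, ← QuotientGroup.mk'_apply, map_commutatorElement,
      commutatorElement_eq_one_iff_commute, map_mul]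
    refine Commute.mul_left ?_ (hc _ a ha)
    rw [map_mul]
    refine Commute.mul_right ?_ (hc _ b hb).symm
    simp only [map_zpow]
    exact Commute.zpow_zpow_self _ _ _
  have hsm : Fusion.ClassThree.SmallClass p H := by
    refine ⟨by omega, fun g h k => ?_, Or.inl hp3⟩
    have h1 : ⁅(g : G), ((⁅h, k⁆ : H) : G)⁆ ∈ Z := hGL _ _ (by
      simpa [commutatorElement_def] using hcom h k)
    refine Subgroup.mem_center_iff.mpr fun t => Subtype.ext ?_
    have h2 := Subgroup.mem_center_iff.mp (hZ h1) (t : G)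
    simpa [commutatorElement_def, mul_assoc] using h2
  have hpow := Fusion.ClassThree.pow_mul hsm (⟨x ^ k, H.zpow_mem hxH k⟩ : H) ⟨e, Subgroup.mem_sup_right he⟩
    (fun u w => Subtype.ext (by
      have := hE _ (hLE (hcom u w))
      simpa [commutatorElement_def] using this))
  have h := congrArg Subtype.val hpow
  simpa [hE e he] using h

end CfsgLib.PGroup.RankTwoPlane
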