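import Cfsg.Agent.Lib.PGroup.DegreeSeven
import Cfsg.Agent.Lib.PGroup.AltGen
import Mathlib

/-!
The permutation groups on at most eight points, inside the alternating group of degree eight, with trivial
2-core and trivial odd core.
-/

set_option autoImplicit false
set_option linter.style.haveILetI false

namespace CfsgLib.PGroup.SubgroupsA8

open scoped Pointwise
open Subgroup Equiv CfsgLib.PGroup.TrivialCores CfsgLib.PGroup.DegreeSeven CfsgLib.PGroup.AltGen

variable {X : Type*} [Fintype X] [DecidableEq X]

theorem primeFactors_eq {K : Type*} [Group K] [Finite K] (h : Good K) {N : ℕ} (hN : N ≠ 0)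
    (hd : Nat.card K ∣ N) {s : Finset ℕ} (hs : N.primeFactors ⊆ s) (h3 : s.card ≤ 3) :
    (Nat.card K).primeFactors = s :=
  Finset.eq_of_subset_of_card_le ((Nat.primeFactors_mono hd hN).trans hs) (h3.trans h.three_primes)

theorem perm_top_equiv {m : ℕ} {K : Subgroup (Perm X)} (hX : Fintype.card X = m) (hK : K = ⊤) :
    Nonempty (K ≃* Perm (Fin m)) := by
  subst hK
  exact ⟨Subgroup.topEquiv.trans (Fintype.equivFinOfCardEq hX).permCongrHom⟩

theorem alternating_equiv {m : ℕ} {K : Subgroup (Perm X)} (hX : Fintype.card X = m) (hK : K = alternatingGroup X) :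
    Nonempty (K ≃* alternatingGroup (Fin m)) := by
  subst hK
  exact alternatingGroup_mulEquiv hX

theorem card_pos_of {m : ℕ} (hX : Fintype.card X = m) (hm : 2 ≤ m) :
    Nat.card (alternatingGroup X) = m.factorial / 2 ∧ Nat.card (Perm X) = m.factorial :=
  ⟨card_alternating hX hm, by rw [Nat.card_perm, Nat.card_eq_fintype_card, hX]⟩

theorem degree_five {K : Subgroup (Perm X)} (hX : Fintype.card X = 5) (h : Good K) :
    Nonempty (K ≃* alternatingGroup (Fin 5)) ∨ Nonempty (K ≃* Perm (Fin 5)) := by
  have hP : Nat.card (Perm X) = 120 := (card_pos_of hX (by norm_num)).2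
  haveI : Nontrivial X := Fintype.one_lt_card_iff_nontrivial.1 (by omega)
  have hd : Nat.card K ∣ 120 := hP ▸ card_subgroup_dvd_card K
  have hpf := primeFactors_eq h (by norm_num) hd (s := {2, 3, 5}) (by
    rw [show (120 : ℕ) = 2 ^ 3 * (3 * 5) by rfl, Nat.primeFactors_mul (by norm_num) (by norm_num),
      Nat.primeFactors_mul (by norm_num) (by norm_num), Nat.primeFactors_prime_pow (by norm_num) Nat.prime_two,
      Nat.Prime.primeFactors Nat.prime_three, Nat.Prime.primeFactors Nat.prime_five]
    rfl) (by rfl)
  have h60 : 60 ∣ Nat.card K := by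
    have h4 := h.four_dvd
    have h3 : 3 ∣ Nat.card K := Nat.dvd_of_mem_primeFactors (by rw [hpf]; simp)
    have h5 : 5 ∣ Nat.card K := Nat.dvd_of_mem_primeFactors (by rw [hpf]; simp)
    omega
  have hle := Nat.le_of_dvd (by norm_num) hd
  have hc := K.card_mul_index
  rw [hP] at hc
  obtain ⟨q, hq⟩ := h60
  rw [hq] at hle hc
  have hq2 : q ≤ 2 := by omega
  interval_cases q
  · rw [mul_zero, zero_mul] at hc; omega
  · exact Or.inl (alternating_equiv hX (Perm.eq_alternatingGroup_of_index_eq_two (by omega)))
  · exact Or.inr (perm_top_equiv hX (index_eq_one.mp (by omega)))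

/-- A normal subgroup of a symmetric group meeting the alternating group trivially has order at most two. -/
theorem card_le_two_of_inf_eq_bot {N : Subgroup (Perm X)} (h : N ⊓ alternatingGroup X = ⊥) : Nat.card N ≤ 2 := by
  have hinj : Function.Injective (Perm.sign.comp N.subtype) := by
    rw [← MonoidHom.ker_eq_bot_iff, eq_bot_iff]
    intro g hg
    exact mem_bot.mpr (Subtype.ext (mem_bot.mp (h ▸ mem_inf.mpr ⟨g.2, Perm.mem_alternatingGroup.mpr hg⟩)))
  refine (Nat.card_le_card_of_injective _ hinj).trans_eq ?_
  rw [Nat.card_eq_fintype_card, Fintype.card_units_int]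

theorem eq_bot_of_card_le_two (hX : 3 ≤ Fintype.card X) {N : Subgroup (Perm X)} [hN : N.Normal]
    (h : Nat.card N ≤ 2) : N = ⊥ := by
  by_contra hne
  obtain ⟨g, hg, hg1⟩ := N.bot_or_exists_ne_one.resolve_left hne
  have hcent : ∀ σ : Perm X, σ * g * σ⁻¹ = g := by
    intro σ
    by_contra hne'
    haveI : Fintype N := Fintype.ofFinite N
    have h3 : ({⟨1, one_mem N⟩, ⟨g, hg⟩, ⟨σ * g * σ⁻¹, hN.conj_mem g hg σ⟩} : Finset N).card ≤ Fintype.card N :=
      Finset.card_le_univ _
    rw [Finset.card_insert_of_notMem, Finset.card_pair, ← Nat.card_eq_fintype_card] at h3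
    · omega
    · simpa [Subtype.ext_iff] using Ne.symm hne'
    · simp only [Finset.mem_insert, Finset.mem_singleton, Subtype.ext_iff, not_or]
      exact ⟨Ne.symm hg1, fun h1 => hg1 (conj_eq_one_iff.mp h1.symm)⟩
  obtain ⟨x, hx⟩ : ∃ x, g x ≠ x := by
    by_contra hall
    push Not at hall
    exact hg1 (Equiv.ext hall)
  obtain ⟨y, -, hy⟩ := Finset.exists_mem_notMem_of_card_lt_card
    (show ({x, g x} : Finset X).card < (Finset.univ : Finset X).card by
      rw [Finset.card_univ]; exact lt_of_le_of_lt Finset.card_le_two (by omega))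
  simp only [Finset.mem_insert, Finset.mem_singleton, not_or] at hy
  have h2 := congrArg (fun q : Perm X => q x) (mul_inv_eq_iff_eq_mul.mp (hcent (Equiv.swap (g x) y)))
  simp only [Perm.mul_apply, Equiv.swap_apply_left] at h2
  rw [Equiv.swap_apply_of_ne_of_ne (Ne.symm hx) (fun h => hy.1 h.symm)] at h2
  exact hy.2 h2

/-- Small index subgroups in degree six. -/
theorem index_ge_six {K : Subgroup (Perm X)} (hX : Fintype.card X = 6) (hidx : 3 ≤ K.index) : 6 ≤ K.index := by
  by_contra hlt
  haveI : IsSimpleGroup (alternatingGroup X) :=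
    alternatingGroup.isSimpleGroup (by rw [Nat.card_eq_fintype_card]; omega)
  set N := K.normalCore
  have hN : N.index ∣ K.index.factorial := by
    have h1 : N.index = Nat.card (MulAction.toPermHom (Perm X) (Perm X ⧸ K)).range := by
      rw [← Subgroup.index_ker, ← Subgroup.normalCore_eq_ker]
    rw [h1, index_eq_card, ← Nat.card_perm]
    exact card_subgroup_dvd_card _
  rcases (inferInstance : (N.subgroupOf (alternatingGroup X)).Normal).eq_bot_or_eq_top with hb | ht
  · have hbot : N = ⊥ := by
      refine eq_bot_of_card_le_two (by omega) (card_le_two_of_inf_eq_bot ?_)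
      rw [← subgroupOf_map_subtype, hb, Subgroup.map_bot]
    rw [hbot, index_bot, (card_pos_of hX (by norm_num)).2] at hN
    have := Nat.le_of_dvd (Nat.factorial_pos _) hN
    have := Nat.factorial_le (show K.index ≤ 5 by omega)
    norm_num [Nat.factorial] at *
    omega
  · have hle : alternatingGroup X ≤ K := (subgroupOf_eq_top.mp ht).trans (normalCore_le K)
    haveI : Nontrivial X := Fintype.one_lt_card_iff_nontrivial.1 (by omega)
    have := Nat.le_of_dvd (by norm_num) (alternatingGroup.index_eq_two (α := X) ▸ index_dvd_of_le hle)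
    omega

theorem degree_six {K : Subgroup (Perm X)} (hX : Fintype.card X = 6) (h : Good K) :
    Nonempty (K ≃* alternatingGroup (Fin 5)) ∨ Nonempty (K ≃* alternatingGroup (Fin 6)) ∨
      Nonempty (K ≃* Perm (Fin 5)) ∨ Nonempty (K ≃* Perm (Fin 6)) := by
  obtain ⟨hA, hP⟩ := card_pos_of hX (by norm_num)
  rw [show (6 : ℕ).factorial / 2 = 360 from rfl] at hA
  rw [show (6 : ℕ).factorial = 720 from rfl] at hP
  haveI : Nontrivial X := Fintype.one_lt_card_iff_nontrivial.1 (by omega)
  have hd : Nat.card K ∣ 720 := hP ▸ card_subgroup_dvd_card K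
  have hpf := primeFactors_eq h (by norm_num) hd (s := {2, 3, 5}) (by
    rw [show (720 : ℕ) = 2 ^ 4 * (3 ^ 2 * 5) by rfl, Nat.primeFactors_mul (by norm_num) (by norm_num),
      Nat.primeFactors_mul (by norm_num) (by norm_num), Nat.primeFactors_prime_pow (by norm_num) Nat.prime_two,
      Nat.primeFactors_prime_pow (by norm_num) Nat.prime_three, Nat.Prime.primeFactors Nat.prime_five]
    rfl) (by rfl)
  have h60 : 60 ∣ Nat.card K := by
    have h4 := h.four_dvd
    have h3 : 3 ∣ Nat.card K := Nat.dvd_of_mem_primeFactors (by rw [hpf]; simp)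
    have h5 : 5 ∣ Nat.card K := Nat.dvd_of_mem_primeFactors (by rw [hpf]; simp)
    omega
  have hc := K.card_mul_index
  rw [hP] at hc
  obtain ⟨q, hq⟩ := h60
  rw [hq] at hc hd
  have hq12 : q ≤ 12 := by have := Nat.le_of_dvd (by norm_num : 0 < 720) hd; omega
  have hsix := fun hi => index_ge_six (K := K) hX hi
  interval_cases q <;> try omega
  · -- order 60
    left
    have hle : K ≤ alternatingGroup X := by
      have hrel : (alternatingGroup X).relIndex K ∣ 2 := by
        rw [← alternatingGroup.index_eq_two (α := X)]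
        exact relIndex_dvd_index_of_normal _ _
      refine relIndex_eq_one.mp (((Nat.dvd_prime Nat.prime_two).mp hrel).resolve_right fun h2 => ?_)
      set M := (alternatingGroup X).subgroupOf K
      have hcM : Nat.card M = 30 := by
        have hm := M.card_mul_index
        rw [show M.index = 2 from h2, hq] at hm
        omega
      have hMG := h.normal (M := M) (fun hb => by rw [hb, card_bot] at hcM; omega)
      have := hMG.four_dvd
      omega
    exact index_six hX hle hq
  · -- order 120
    right; right; left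
    let f := MulAction.toPermHom (Perm X) (Perm X ⧸ K)
    have hidx : K.index = 6 := by omega
    haveI : Fintype (Perm X ⧸ K) := Fintype.ofFinite _
    classical
    have hY : Fintype.card (Perm X ⧸ K) = 6 := by rw [← Nat.card_eq_fintype_card, ← index_eq_card, hidx]
    have hker : f.ker = ⊥ := by
      haveI : IsSimpleGroup (alternatingGroup X) :=
        alternatingGroup.isSimpleGroup (by rw [Nat.card_eq_fintype_card]; omega)
      rcases (inferInstance : (f.ker.subgroupOf (alternatingGroup X)).Normal).eq_bot_or_eq_top with hb | ht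
      · refine eq_bot_of_card_le_two (by omega) (card_le_two_of_inf_eq_bot ?_)
        rw [← subgroupOf_map_subtype, hb, Subgroup.map_bot]
      · have hle : alternatingGroup X ≤ K := (subgroupOf_eq_top.mp ht).trans
          (Subgroup.normalCore_eq_ker K ▸ normalCore_le K)
        have := Nat.le_of_dvd (by norm_num) (alternatingGroup.index_eq_two (α := X) ▸ index_dvd_of_le hle)
        omega
    have hfinj : Function.Injective f := (MonoidHom.ker_eq_bot_iff _).mp hker
    let y0 : Perm X ⧸ K := ((1 : Perm X) : Perm X ⧸ K)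
    have hstab : ∀ g : K, f g y0 = y0 := fun g => by
      show (((g : Perm X) * 1 : Perm X) : Perm X ⧸ K) = ((1 : Perm X) : Perm X ⧸ K)
      rw [QuotientGroup.eq, mul_one, mul_one]
      exact inv_mem g.2
    have hp : ∀ (g : K) (y : Perm X ⧸ K), f g y ≠ y0 ↔ y ≠ y0 := fun g y => by
      constructor
      · rintro hne rfl; exact hne (hstab g)
      · intro hne he; exact hne ((f g).injective (he.trans (hstab g).symm))
    let φ : K →* Perm {y : Perm X ⧸ K // y ≠ y0} :=
      { toFun := fun g => (f g).subtypePerm (hp g)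
        map_one' := Equiv.ext fun y => Subtype.ext (by
          show f ((1 : K) : Perm X) y = y
          rw [OneMemClass.coe_one, map_one, Perm.one_apply])
        map_mul' := fun a b => Equiv.ext fun y => Subtype.ext (by
          show f ((a * b : K) : Perm X) y = f a (f b y)
          rw [Subgroup.coe_mul, map_mul, Perm.mul_apply]) }
    have hφ : Function.Injective φ := fun a b hab => Subtype.ext (hfinj (Equiv.ext fun y => by
      by_cases hy : y = y0
      · subst hy; rw [hstab, hstab]
      · exact congrArg Subtype.val (DFunLike.congr_fun hab ⟨y, hy⟩)))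
    have hc5 : Fintype.card {y : Perm X ⧸ K // y ≠ y0} = 5 := by
      rw [Fintype.card_subtype_compl, Fintype.card_subtype_eq, hY]
    have hbij : Function.Bijective φ := hφ.bijective_of_nat_card_le (by
      rw [Nat.card_perm, Nat.card_eq_fintype_card, hc5, hq]; rfl)
    exact ⟨(MulEquiv.ofBijective φ hbij).trans (Fintype.equivFinOfCardEq hc5).permCongrHom⟩
  · -- order 360
    exact Or.inr (Or.inl (alternating_equiv hX (Perm.eq_alternatingGroup_of_index_eq_two (by omega))))
  · -- order 720
    exact Or.inr (Or.inr (Or.inr (perm_top_equiv hX (index_eq_one.mp (by omega)))))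

theorem dvd_card_of_pretransitive {Y : Type*} [Finite Y] [Nonempty Y] {G : Type*} [Group G] [MulAction G Y]
    [MulAction.IsPretransitive G Y] : Nat.card Y ∣ Nat.card G := by
  rw [← MulAction.index_stabilizer_of_transitive G (Classical.arbitrary Y)]
  exact index_dvd_card _

theorem degree_seven {K : Subgroup (Perm X)} (hX : Fintype.card X = 7) (hK : K ≤ alternatingGroup X) (h : Good K)
    [hT : MulAction.IsPretransitive K X] :
    (IsSimpleGroup K ∧ Nat.card K = 168) ∨ Nonempty (K ≃* alternatingGroup (Fin 7)) := by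
  haveI : Fact (Nat.Prime 7) := ⟨by norm_num⟩
  obtain ⟨hA, -⟩ := card_pos_of hX (by norm_num)
  rw [show (7 : ℕ).factorial / 2 = 2520 from rfl] at hA
  have hd : Nat.card K ∣ 2520 := hA ▸ card_dvd_of_le hK
  haveI : Nonempty X := Fintype.card_pos_iff.mp (by omega)
  have h7 : 7 ∣ Nat.card K := by
    have := dvd_card_of_pretransitive (G := K) (Y := X)
    rwa [Nat.card_eq_fintype_card, hX] at this
  let P : Sylow 7 K := default
  obtain ⟨n, N, hP, hn, hN, hKn, hNP⟩ := sylow_data hK (by omega) h7 P
  rcases hN with rfl | rfl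
  · -- self-normalising: a normal complement
    exfalso
    obtain ⟨M, hM, hMc⟩ := exists_complement P hP hNP
    haveI := hM
    have h4 := h.four_dvd
    have hMb : M ≠ ⊥ := fun hb => by rw [hb, card_bot] at hMc; omega
    obtain ⟨g, hgM, hg1⟩ := M.bot_or_exists_ne_one.resolve_left hMb
    obtain ⟨x, hx⟩ : ∃ x : X, g • x ≠ x := by
      by_contra hall
      push Not at hall
      exact hg1 (Subtype.ext (Equiv.ext hall))
    have hblock : MulAction.IsBlock K (MulAction.orbit M x) := MulAction.IsBlock.orbit_of_normal x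
    have hdvd := hblock.ncard_dvd_card ⟨x, MulAction.mem_orbit_self x⟩
    rw [Nat.card_eq_fintype_card, hX] at hdvd
    have hcard : 7 = (MulAction.orbit M x).ncard := by
      refine (((Nat.dvd_prime (by norm_num : Nat.Prime 7)).mp hdvd).resolve_left fun h1 => hx ?_).symm
      obtain ⟨y, hy⟩ := Set.ncard_eq_one.mp h1
      have e1 : (g • x : X) ∈ MulAction.orbit M x := MulAction.mem_orbit x (⟨g, hgM⟩ : M)
      have e2 : x ∈ MulAction.orbit M x := MulAction.mem_orbit_self x
      rw [hy, Set.mem_singleton_iff] at e1 e2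
      rw [e1, e2]
    have h7M : 7 ∣ Nat.card M := by
      rw [hcard, ← MulAction.index_stabilizer]
      exact index_dvd_card _
    obtain ⟨t, ht⟩ := h7M
    have : 7 * 7 ∣ Nat.card K := ⟨t, by rw [← hMc, ht]; ring⟩
    exact absurd (this.trans hd) (by norm_num)
  · have hn120 : n ∣ 120 := Nat.dvd_of_mul_dvd_mul_left (k := 21) (by norm_num) (by rw [← hKn]; exact hd)
    have hmem : n ∈ (Nat.divisors 120).filter (fun k => k % 7 = 1) :=
      Finset.mem_filter.mpr ⟨Nat.mem_divisors.mpr ⟨hn120, by norm_num⟩, hn⟩
    rw [show (Nat.divisors 120).filter (fun k => k % 7 = 1) = {1, 8, 15, 120} by decide] at hmem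
    simp only [Finset.mem_insert, Finset.mem_singleton] at hmem
    rcases hmem with rfl | rfl | rfl | rfl
    · exfalso
      exact absurd h.four_dvd (by rw [hKn]; norm_num)
    · left
      refine ⟨isSimpleGroup_of h P hP hNP (by rw [hKn]; norm_num) ?_, by rw [hKn]⟩
      rw [hKn, show 21 * 8 = 2 ^ 3 * (3 * 7) by rfl, Nat.primeFactors_mul (by norm_num) (by norm_num),
        Nat.primeFactors_mul (by norm_num) (by norm_num), Nat.primeFactors_prime_pow (by norm_num) Nat.prime_two,
        Nat.Prime.primeFactors Nat.prime_three, Nat.Prime.primeFactors (by norm_num : Nat.Prime 7)]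
      decide
    · exfalso
      exact absurd h.four_dvd (by rw [hKn]; norm_num)
    · right
      exact alternating_equiv hX (eq_of_le_of_card_ge hK (by rw [hA, hKn]))

theorem primitive_of_five {K : Subgroup (Perm X)} (hX : Fintype.card X = 8) [MulAction.IsPretransitive K X]
    {c : Perm X} (hcK : c ∈ K) (hc : c.IsCycle) (hc5 : c.support.card = 5) : MulAction.IsPreprimitive K X := by
  obtain ⟨a, ha⟩ : ∃ a, a ∉ c.support := by
    by_contra hall
    push Not at hall
    have : c.support = Finset.univ := Finset.eq_univ_iff_forall.mpr hall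
    rw [this, Finset.card_univ, hX] at hc5
    omega
  refine MulAction.IsPreprimitive.of_isTrivialBlock_base a fun {B} haB hB => ?_
  let cK : K := ⟨c, hcK⟩
  have hpow : ∀ (n : ℕ) (z : X), cK ^ n • z = (c ^ n) z := fun n z => rfl
  have hBn : B.ncard ∣ 8 := by
    have := hB.ncard_dvd_card ⟨a, haB⟩
    rwa [Nat.card_eq_fintype_card, hX] at this
  have hcB : ∀ n : ℕ, (cK ^ n) • B = B := fun n =>
    hB.smul_eq_of_mem haB (by rw [hpow, Perm.pow_apply_eq_self_of_apply_eq_self (Perm.notMem_support.mp ha)]; exact haB)
  by_cases hmov : ∃ x ∈ B, x ∈ c.support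
  · -- then `B` contains the whole cycle and `a`
    obtain ⟨x, hxB, hxS⟩ := hmov
    right
    have hsub : (↑(insert a c.support) : Set X) ⊆ B := by
      intro y hy
      rw [Finset.coe_insert, Set.mem_insert_iff, Finset.mem_coe] at hy
      rcases hy with rfl | hy
      · exact haB
      · obtain ⟨n, rfl⟩ := hc.exists_pow_eq (Perm.mem_support.mp hxS) (Perm.mem_support.mp hy)
        rw [← hcB n]
        exact ⟨x, hxB, hpow n x⟩
    have h6 := Set.ncard_le_ncard hsub (Set.toFinite B)
    rw [Set.ncard_coe_finset, Finset.card_insert_of_notMem ha, hc5] at h6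
    refine (Set.eq_univ_iff_ncard B).mpr ?_
    rw [Nat.card_eq_fintype_card, hX]
    have := Nat.le_of_dvd (by norm_num) hBn
    interval_cases h : B.ncard <;> omega
  · push Not at hmov
    by_contra htriv
    have hsub : B ⊆ ↑c.supportᶜ := fun y hy => by simpa using hmov y hy
    have h3 := Set.ncard_le_ncard hsub (Set.toFinite _)
    rw [Set.ncard_coe_finset, Finset.card_compl, hc5, hX] at h3
    have h2 : B.ncard = 2 := by
      have hpos : 0 < B.ncard := (Set.ncard_pos (Set.toFinite B)).mpr ⟨a, haB⟩
      have h1 : B.ncard ≠ 1 := fun h1 => htriv (Or.inl (Set.ncard_le_one_iff_subsingleton.mp h1.le))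
      interval_cases h : B.ncard <;> omega
    obtain ⟨x, hx⟩ := Finset.card_pos.mp (by omega : 0 < c.support.card)
    obtain ⟨g, hg⟩ := MulAction.exists_smul_eq K a x
    have hB' : MulAction.IsBlock K (g • B) := hB.translate g
    have hxB' : x ∈ g • B := ⟨a, haB, hg⟩
    -- the translates by powers of the cycle are disjoint pairs
    have hB'2 : (g • B).ncard = 2 := by
      have : g • B = (fun z => g • z) '' B := rfl
      rw [this, Set.ncard_image_of_injective _ (MulAction.injective g), h2]
    have hfix : cK • (g • B) ≠ g • B := by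
      intro he
      have hall : ∀ n : ℕ, (c ^ n) x ∈ g • B := by
        intro n
        induction n with
        | zero => exact hxB'
        | succ n ih =>
          rw [pow_succ', Perm.mul_apply, ← he]
          exact ⟨_, ih, rfl⟩
      have hs : (↑c.support : Set X) ⊆ g • B := fun y hy => by
        obtain ⟨n, rfl⟩ := hc.exists_pow_eq (Perm.mem_support.mp hx) (Perm.mem_support.mp (Finset.mem_coe.mp hy))
        exact hall n
      have := Set.ncard_le_ncard hs (Set.toFinite _)
      rw [Set.ncard_coe_finset, hc5, hB'2] at this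
      omega
    have hord : orderOf c = 5 := by rw [hc.orderOf, hc5]
    have hne : ∀ i j : Fin 5, i ≠ j → (cK ^ (i : ℕ)) • (g • B) ≠ (cK ^ (j : ℕ)) • (g • B) := by
      intro i j hij he
      apply hfix
      have hco : ((i : ℕ) : ℤ) - j ≠ 0 := by
        rw [sub_ne_zero]
        exact fun h => hij (Fin.ext (by exact_mod_cast h))
      have hstab : cK ^ (((i : ℕ) : ℤ) - j) ∈ MulAction.stabilizer K (g • B) := by
        rw [MulAction.mem_stabilizer_iff, zpow_sub, zpow_natCast, zpow_natCast,
          (Commute.pow_pow_self cK (i : ℕ) (j : ℕ)).inv_right.eq, mul_smul, he, inv_smul_smul]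
      have hmem : cK ∈ zpowers (cK ^ (((i : ℕ) : ℤ) - j)) := by
        rw [mem_zpowers_zpow_iff]
        rw [show orderOf cK = 5 by rw [← Subgroup.orderOf_coe]; exact hord]
        have hi := i.2
        have hj := j.2
        have hd : ¬ (5 : ℤ) ∣ ((i : ℕ) : ℤ) - j := by omega
        exact (Nat.prime_five.coprime_iff_not_dvd.mpr (fun h => hd (Int.natCast_dvd.mpr h))).symm
      exact zpowers_le.mpr hstab hmem
    have hdisj : ∀ i j : Fin 5, i ≠ j → Disjoint ((cK ^ (i : ℕ)) • (g • B)) ((cK ^ (j : ℕ)) • (g • B)) :=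
      fun i j hij => hB' (hne i j hij)
    have h10 : 10 ≤ Fintype.card X := by
      have hinj : Function.Injective (fun q : Fin 5 × ↥(g • B) => (cK ^ (q.1 : ℕ)) • (q.2 : X)) := by
        rintro ⟨i, y⟩ ⟨j, z⟩ he
        simp only at he
        have hij : i = j := by
          by_contra hij
          exact Set.disjoint_left.mp (hdisj i j hij) ⟨(y : X), y.2, rfl⟩ ⟨(z : X), z.2, he.symm⟩
        subst hij
        exact Prod.ext rfl (Subtype.ext (MulAction.injective _ he))
      have := Nat.card_le_card_of_injective _ hinj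
      rwa [Nat.card_prod, Nat.card_fin, Nat.card_coe_set_eq, hB'2, Nat.card_eq_fintype_card] at this
    omega

theorem degree_eight {K : Subgroup (Perm X)} (hX : Fintype.card X = 8) (hK : K ≤ alternatingGroup X) (h : Good K)
    [hT : MulAction.IsPretransitive K X] :
    (IsSimpleGroup K ∧ (Nat.card K = 168 ∨ Nat.card K = 1344)) ∨ K = alternatingGroup X := by
  haveI : Fact (Nat.Prime 7) := ⟨by norm_num⟩
  obtain ⟨hA, -⟩ := card_pos_of hX (by norm_num)
  rw [show (8 : ℕ).factorial / 2 = 20160 from rfl] at hA
  have hd : Nat.card K ∣ 20160 := hA ▸ card_dvd_of_le hK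
  by_cases h5 : 5 ∣ Nat.card K
  · -- a five-cycle: four-fold transitivity
    right
    haveI := Fact.mk Nat.prime_five
    obtain ⟨c0, hc0⟩ := exists_prime_orderOf_dvd_card' (G := K) 5 h5
    set c : Perm X := (c0 : Perm X)
    have hcord : orderOf c = 5 := by rw [Subgroup.orderOf_coe, hc0]
    obtain ⟨n, hn⟩ := Perm.cycleType_prime_order (σ := c) (by rw [hcord]; exact Nat.prime_five)
    have hsum := c.sum_cycleType
    rw [hn, hcord, Multiset.sum_replicate, smul_eq_mul] at hsum
    have := c.support.card_le_univ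
    obtain rfl : n = 0 := by omega
    have hcy : c.IsCycle := Perm.card_cycleType_eq_one.mp (by rw [hn, Multiset.card_replicate])
    have hc5 : c.support.card = 5 := hsum.symm
    have hprim := primitive_of_five hX c0.2 hcy hc5
    haveI := Perm.isPretransitive_of_isCycle_mem hcy c0.2
    have h4 : MulAction.IsMultiplyPreprimitive K X (2 + 2) := by
      refine hprim.isMultiplyPreprimitive (s := (c.supportᶜ : Set X)) ?_ (by rw [Nat.card_eq_fintype_card]; omega) ?_
      · rw [← Finset.coe_compl, Set.ncard_coe_finset, Finset.card_compl, hc5, hX]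
      · refine MulAction.IsPreprimitive.of_prime_card ?_
        classical
        convert! Nat.prime_five
        rw [Nat.card_eq_fintype_card, Fintype.card_subtype, ← hc5]
        apply congr_arg
        ext y
        simp [SubMulAction.mem_ofFixingSubgroup_iff]
    haveI : MulAction.IsMultiplyPretransitive K X (2 + 2) := MulAction.IsMultiplyPreprimitive.isMultiplyPretransitive ..
    haveI : Nonempty (Fin (2 + 2) ↪ X) :=
      Function.Embedding.nonempty_of_card_le (by rw [Fintype.card_fin]; omega)
    have h1680 : 1680 ∣ Nat.card K := by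
      have := @dvd_card_of_pretransitive (Fin (2 + 2) ↪ X) _ _ K _ _ ‹MulAction.IsMultiplyPretransitive K X (2 + 2)›
      rw [Nat.card_eq_fintype_card, Fintype.card_embedding_eq, Fintype.card_fin, hX] at this
      exact this
    by_contra hne
    have hfac := card_le_factorial (by omega) hK hne
    have hmul : Nat.card K * K.relIndex (alternatingGroup X) = 20160 := by
      rw [← hA, ← relIndex_bot_left K, ← relIndex_bot_left (alternatingGroup X)]
      exact relIndex_mul_relIndex _ _ _ bot_le hK
    obtain ⟨q, hq⟩ := h1680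
    rw [hq] at hmul hd
    have hk12 : q * K.relIndex (alternatingGroup X) = 12 := by
      have : 1680 * (q * K.relIndex (alternatingGroup X)) = 1680 * 12 := by rw [← mul_assoc, hmul]
      omega
    have hk8 : 8 ≤ K.relIndex (alternatingGroup X) := by
      by_contra hlt
      have := Nat.factorial_le (show K.relIndex (alternatingGroup X) ≤ 7 by omega)
      rw [hA] at hfac
      norm_num [Nat.factorial] at this
      omega
    have hq1 : q = 1 := by nlinarith
    subst hq1
    rw [mul_one] at hq
    -- a point stabiliser of order 210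
    haveI : Nonempty X := Fintype.card_pos_iff.mp (by omega)
    let a : X := Classical.arbitrary X
    let S : Subgroup (Perm X) := K ⊓ MulAction.stabilizer (Perm X) a
    have hS : Nat.card S = 210 := by
      have h1 := MulAction.index_stabilizer_of_transitive K a
      have h2 := (MulAction.stabilizer K a).card_mul_index
      rw [h1, hq, Nat.card_eq_fintype_card (α := X), hX] at h2
      have h3 : Nat.card (MulAction.stabilizer K a) = Nat.card S := Nat.card_congr
        { toFun := fun g => ⟨(g.1 : Perm X), mem_inf.mpr ⟨g.1.2, g.2⟩⟩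
          invFun := fun g => ⟨⟨g.1, (mem_inf.mp g.2).1⟩, (mem_inf.mp g.2).2⟩
          left_inv := fun g => rfl
          right_inv := fun g => rfl }
      omega
    obtain ⟨n, N, -, hn7, hN, hSn, -⟩ := sylow_data (K := S) (inf_le_left.trans hK) (by omega)
      (by rw [hS]; norm_num) default
    rw [hS] at hSn
    rcases hN with rfl | rfl
    · have : n = 30 := by omega
      omega
    · have : n = 10 := by omega
      omega
  · -- no element of order five
    have hd4032 : Nat.card K ∣ 4032 :=
      ((Nat.Prime.coprime_iff_not_dvd Nat.prime_five).mpr h5).symm.dvd_of_dvd_mul_right hd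
    have hpf := primeFactors_eq h (by norm_num) hd4032 (s := {2, 3, 7}) (by
      rw [show (4032 : ℕ) = 2 ^ 6 * (3 ^ 2 * 7) by rfl, Nat.primeFactors_mul (by norm_num) (by norm_num),
        Nat.primeFactors_mul (by norm_num) (by norm_num), Nat.primeFactors_prime_pow (by norm_num) Nat.prime_two,
        Nat.primeFactors_prime_pow (by norm_num) Nat.prime_three, Nat.Prime.primeFactors (by norm_num : Nat.Prime 7)]
      rfl) (by rfl)
    have h7 : 7 ∣ Nat.card K := Nat.dvd_of_mem_primeFactors (by rw [hpf]; simp)
    have h3 : 3 ∣ Nat.card K := Nat.dvd_of_mem_primeFactors (by rw [hpf]; simp)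
    let P : Sylow 7 K := default
    obtain ⟨n, N, hP, hn, hN, hKn, hNP⟩ := sylow_data hK (by omega) h7 P
    rcases hN with rfl | rfl
    · exfalso
      obtain ⟨M, hM, hMc⟩ := exists_complement P hP hNP
      haveI := hM
      have hMb : M ≠ ⊥ := fun hb => by rw [hb, card_bot] at hMc; omega
      have hMd : Nat.card M ∣ 576 := Nat.dvd_of_mul_dvd_mul_right (k := 7) (by norm_num) (hMc ▸ hd4032)
      have h3p := (h.normal hMb).three_primes
      have := Finset.card_le_card (Nat.primeFactors_mono hMd (by norm_num))
      rw [show (576 : ℕ) = 2 ^ 6 * 3 ^ 2 by rfl, Nat.primeFactors_mul (by norm_num) (by norm_num),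
        Nat.primeFactors_prime_pow (by norm_num) Nat.prime_two,
        Nat.primeFactors_prime_pow (by norm_num) Nat.prime_three] at this
      have h2 : (({2} : Finset ℕ) ∪ {3}).card ≤ 2 := by decide
      omega
    · have hn192 : n ∣ 192 := Nat.dvd_of_mul_dvd_mul_left (k := 21) (by norm_num) (by rw [← hKn]; exact hd4032)
      have hmem : n ∈ (Nat.divisors 192).filter (fun k => k % 7 = 1) :=
        Finset.mem_filter.mpr ⟨Nat.mem_divisors.mpr ⟨hn192, by norm_num⟩, hn⟩
      rw [show (Nat.divisors 192).filter (fun k => k % 7 = 1) = {1, 8, 64} by decide] at hmem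
      simp only [Finset.mem_insert, Finset.mem_singleton] at hmem
      rcases hmem with rfl | rfl | rfl
      · exact absurd h.four_dvd (by rw [hKn]; norm_num)
      · exact Or.inl ⟨isSimpleGroup_of h P hP hNP (by rw [hKn]; norm_num) (le_of_eq hpf), Or.inl (by rw [hKn])⟩
      · exact Or.inl ⟨isSimpleGroup_of h P hP hNP (by rw [hKn]; norm_num) (le_of_eq hpf), Or.inr (by rw [hKn])⟩

/-- Restriction to a long orbit. -/
theorem classification {K : Subgroup (Perm (Fin 8))} (hK : K ≤ alternatingGroup (Fin 8)) (h : Good K) :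
    (∃ n : ℕ, 5 ≤ n ∧ n ≤ 8 ∧ Nonempty (K ≃* alternatingGroup (Fin n))) ∨ Nonempty (K ≃* Perm (Fin 5)) ∨
      Nonempty (K ≃* Perm (Fin 6)) ∨ (IsSimpleGroup K ∧ (Nat.card K = 168 ∨ Nat.card K = 1344)) := by
  classical
  by_cases hsmall : ∀ a : Fin 8, Nat.card (MulAction.orbit K a) ≤ 4
  · refine absurd ?_ h.not_solvable
    have hs : ∀ a : Fin 8, ∃ n, derivedSeries (Perm (MulAction.orbit K a)) n = ⊥ := fun a =>
      (Group.isSolvable_def _).mp (isSolvable_perm_of_card_le (hsmall a))
    choose d hd using hs
    refine (Group.isSolvable_def _).mpr ⟨Finset.univ.sup d, eq_bot_iff.mpr fun g hg => ?_⟩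
    rw [mem_bot]
    refine Subtype.ext (Equiv.ext fun a => ?_)
    have h1 : derivedSeries K (Finset.univ.sup d) ≤ derivedSeries K (d a) :=
      derivedSeries_antitone K (Finset.le_sup (Finset.mem_univ a))
    have h2 := map_derivedSeries_le_derivedSeries (MulAction.toPermHom K (MulAction.orbit K a)) (d a)
      (mem_map_of_mem _ (h1 hg))
    rw [hd a, mem_bot] at h2
    exact congrArg Subtype.val (DFunLike.congr_fun h2 ⟨a, MulAction.mem_orbit_self a⟩)
  push Not at hsmall
  obtain ⟨a, ha⟩ := hsmall
  set O := MulAction.orbit K a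
  let r := MulAction.toPermHom K O
  have hOc : Fintype.card O = Nat.card O := (Nat.card_eq_fintype_card).symm
  have hO8 : Fintype.card O ≤ 8 := (set_fintype_card_le_univ O).trans (by rw [Fintype.card_fin])
  have hinv : ∀ (g : K) (x : Fin 8), x ∈ O → (g : Perm (Fin 8)) x ∈ O := fun g x hx =>
    (MulAction.mem_orbit_of_mem_orbit g hx : g • x ∈ O)
  have hr : r.ker = ⊥ := by
    by_contra hne
    have hG := h.normal (M := r.ker) hne
    have hfix : ∀ (g : r.ker) (x : Fin 8), x ∈ O → ((g : K) : Perm (Fin 8)) x = x := fun g x hx =>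
      (congrArg Subtype.val (DFunLike.congr_fun (MonoidHom.mem_ker.mp g.2) ⟨x, hx⟩) :)
    have hpres : ∀ (g : r.ker) (x : Fin 8), ((g : K) : Perm (Fin 8)) x ∉ O ↔ x ∉ O := fun g x => by
      constructor
      · intro h1 h2; exact h1 (hinv _ x h2)
      · intro h1 h2; exact h1 (((g : K) : Perm (Fin 8)).injective (hfix g _ h2) ▸ h2)
    let ψ : r.ker →* Perm {x : Fin 8 // x ∉ O} :=
      { toFun := fun g => ((g : K) : Perm (Fin 8)).subtypePerm (hpres g)
        map_one' := Equiv.ext fun x => rfl
        map_mul' := fun g g' => Equiv.ext fun x => rfl }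
    have hψ : Function.Injective ψ := fun g g' hg => Subtype.ext (Subtype.ext (Equiv.ext fun x => by
      by_cases hx : x ∈ O
      · rw [hfix g x hx, hfix g' x hx]
      · exact congrArg Subtype.val (DFunLike.congr_fun hg ⟨x, hx⟩)))
    haveI : Group.IsSolvable (Perm {x : Fin 8 // x ∉ O}) := isSolvable_perm_of_card_le (by
      rw [Nat.card_eq_fintype_card, Fintype.card_subtype_compl, Fintype.card_fin]
      have : Fintype.card {x : Fin 8 // x ∈ O} = Fintype.card O := Fintype.card_congr (Equiv.refl _)
      omega)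
    exact hG.not_solvable (Group.isSolvable_of_isSolvable_injective hψ)
  let e : K ≃* r.range := MonoidHom.ofInjective ((MonoidHom.ker_eq_bot_iff r).mp hr)
  have hG := h.of_equiv e
  haveI : MulAction.IsPretransitive r.range O := ⟨fun x y => by
    obtain ⟨g, hg⟩ := MulAction.exists_smul_eq K x y
    exact ⟨⟨r g, g, rfl⟩, hg⟩⟩
  have hm : Fintype.card O = 5 ∨ Fintype.card O = 6 ∨ Fintype.card O = 7 ∨ Fintype.card O = 8 := by omega
  rcases hm with hm | hm | hm | hm
  · rcases degree_five hm hG with hh | hh <;> obtain ⟨f⟩ := hh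
    · exact Or.inl ⟨5, le_rfl, by norm_num, ⟨e.trans f⟩⟩
    · exact Or.inr (Or.inl ⟨e.trans f⟩)
  · rcases degree_six hm hG with hh | hh | hh | hh <;> obtain ⟨f⟩ := hh
    · exact Or.inl ⟨5, le_rfl, by norm_num, ⟨e.trans f⟩⟩
    · exact Or.inl ⟨6, by norm_num, by norm_num, ⟨e.trans f⟩⟩
    · exact Or.inr (Or.inl ⟨e.trans f⟩)
    · exact Or.inr (Or.inr (Or.inl ⟨e.trans f⟩))
  · -- the seven-point orbit: evenness
    have hev : r.range ≤ alternatingGroup O := by
      rintro _ ⟨g, rfl⟩
      rw [Perm.mem_alternatingGroup]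
      have hp : ∀ x, (g : Perm (Fin 8)) x ∈ O ↔ x ∈ O := fun x => ⟨fun hx => by
        have h1 := hinv g⁻¹ _ hx
        rwa [Subgroup.coe_inv, Perm.inv_def, Equiv.symm_apply_apply] at h1, hinv g x⟩
      have he : r g = (g : Perm (Fin 8)).subtypePerm hp := Equiv.ext fun x => rfl
      rw [he, Perm.sign_subtypePerm]
      · exact Perm.mem_alternatingGroup.mp (hK g.2)
      · intro x hx
        by_contra hxO
        have hcard : Fintype.card {x : Fin 8 // x ∉ O} = 1 := by
          rw [Fintype.card_subtype_compl, Fintype.card_fin]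
          have : Fintype.card {x : Fin 8 // x ∈ O} = Fintype.card O := Fintype.card_congr (Equiv.refl _)
          omega
        have h1 : (g : Perm (Fin 8)) x ∉ O := fun h2 => hxO ((hp x).mp h2)
        exact hx (congrArg Subtype.val
          (Fintype.card_le_one_iff.mp hcard.le ⟨(g : Perm (Fin 8)) x, h1⟩ ⟨x, hxO⟩))
    rcases degree_seven hm hev hG with hh | hh
    · obtain ⟨hs, hc⟩ := hh
      refine Or.inr (Or.inr (Or.inr ⟨?_, Or.inl ?_⟩))
      · haveI := hs
        exact e.isSimpleGroup
      · rw [Nat.card_congr e.toEquiv, hc]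
    · obtain ⟨f⟩ := hh
      exact Or.inl ⟨7, by norm_num, by norm_num, ⟨e.trans f⟩⟩
  · -- transitive
    have huniv : ∀ x : Fin 8, x ∈ O := fun x => by
      have : O = Set.univ := (Set.eq_univ_iff_ncard O).mpr (by
        rw [← Nat.card_coe_set_eq, Nat.card_eq_fintype_card, hm, Nat.card_eq_fintype_card, Fintype.card_fin])
      rw [this]; exact Set.mem_univ x
    haveI : MulAction.IsPretransitive K (Fin 8) := ⟨fun x y => by
      obtain ⟨g, hg⟩ := huniv x
      obtain ⟨g', hg'⟩ := huniv y
      simp only at hg hg'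
      exact ⟨g' * g⁻¹, by rw [← hg, mul_smul, inv_smul_smul, hg']⟩⟩
    rcases degree_eight (by rw [Fintype.card_fin]) hK h with hs | hA
    · exact Or.inr (Or.inr (Or.inr hs))
    · exact Or.inl ⟨8, by norm_num, le_rfl, alternating_equiv (Fintype.card_fin 8) hA⟩

end CfsgLib.PGroup.SubgroupsA8
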