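import Mathlib
import Cfsg.Agent.Lib.Fusion.PSolvable
import Cfsg.Agent.Lib.PGroup.Frattini
import Cfsg.Agent.Lib.Coprime.Action

/-!
A `p`-solvable group with trivial `p'`-core acts faithfully, modulo `O_p`, on the Frattini
quotient of `O_p`.
-/

set_option autoImplicit false

namespace CfsgLib.PGroup.FrattiniFaithful

open scoped commutatorElement

theorem mem_pCore_of_commutator_mem {G : Type*} [Group G] [Finite G] {p : ℕ} [Fact p.Prime]
    (hG : Cfsg.IsPSolvable p G) (hO : Cfsg.pPrimeCore p G = ⊥) (g : G)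
    (h : ∀ r ∈ Cfsg.pCore p G,
      ⁅g, r⁆ ∈ (frattini (Cfsg.pCore p G)).map (Cfsg.pCore p G).subtype) :
    g ∈ Cfsg.pCore p G := by
  classical
  set R := Cfsg.pCore p G with hR
  have hRn : R.Normal := inferInstance
  have hRp : IsPGroup p R := CfsgLib.Solvable.Cores.isPGroup_pCore p
  set Φ := (frattini R).map R.subtype with hΦ
  have hΦn : Φ.Normal := inferInstance
  let K : Subgroup G := (Subgroup.centralizer
    ((R.map (QuotientGroup.mk' Φ) : Subgroup _) : Set _)).comap (QuotientGroup.mk' Φ)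
  have : (R.map (QuotientGroup.mk' Φ)).Normal :=
    hRn.map _ (QuotientGroup.mk'_surjective Φ)
  have hKn : K.Normal := Subgroup.Normal.comap inferInstance _
  have hK : ∀ y, y ∈ K ↔ ∀ r ∈ R, ⁅y, r⁆ ∈ Φ := by
    intro y
    simp only [K, Subgroup.mem_comap, Subgroup.mem_centralizer_iff, Subgroup.coe_map,
      Set.forall_mem_image, SetLike.mem_coe]
    refine forall₂_congr fun r hr => ?_
    rw [← QuotientGroup.eq_one_iff, ← QuotientGroup.mk'_apply, map_commutatorElement,
      commutatorElement_eq_one_iff_mul_comm, eq_comm]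
  have hKp : IsPGroup p K := by
    intro a
    by_contra ha
    obtain ⟨r, hr, hrd, hrp⟩ : ∃ r : ℕ, r.Prime ∧ r ∣ orderOf a ∧ r ≠ p := by
      by_contra hc
      push Not at hc
      refine ha ⟨(orderOf a).primeFactorsList.length, ?_⟩
      have := Nat.eq_prime_pow_of_unique_prime_dvd (orderOf_pos a).ne' fun {d} hd hdd =>
        hc d hd hdd
      rw [← this, pow_orderOf_eq_one]
    set b : G := ((a ^ (orderOf a / r) : K) : G) with hb
    have hbo : orderOf b = r := by
      rw [hb, Subgroup.orderOf_coe, orderOf_pow_of_dvd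
        (Nat.div_pos (Nat.le_of_dvd (orderOf_pos a) hrd) hr.pos).ne' (Nat.div_dvd_of_dvd hrd),
        Nat.div_div_self hrd (orderOf_pos a).ne']
    have hcop : (Nat.card (Subgroup.zpowers b)).Coprime (Nat.card (frattini R)) := by
      obtain ⟨k, hk⟩ := IsPGroup.iff_card.mp (hRp.to_subgroup (frattini R))
      rw [Nat.card_zpowers, hbo, hk]
      exact ((Nat.coprime_primes hr Fact.out).mpr hrp).pow_right k
    have hc := CfsgLib.Coprime.le_centralizer_of_frattini
      (Subgroup.le_normalizer_of_normal) hcop fun c hc k hk => (hK c).mp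
        ((Subgroup.zpowers_le.mpr (a ^ (orderOf a / r)).2) hc) k hk
    have hbR : b ∈ R := CfsgLib.Fusion.PSolvable.centralizer_pCore_le hG hO
      (hc (Subgroup.mem_zpowers b))
    obtain ⟨k, hk⟩ := hRp ⟨b, hbR⟩
    have h3 : orderOf b ∣ p ^ k :=
      orderOf_dvd_of_pow_eq_one (by simpa using congrArg Subtype.val hk)
    rw [hbo] at h3
    exact hrp ((Nat.prime_dvd_prime_iff_eq hr Fact.out).mp (hr.dvd_of_dvd_pow h3))
  exact CfsgLib.Solvable.Cores.le_pCore hKp ((hK g).mpr h)

end CfsgLib.PGroup.FrattiniFaithful
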