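import Cfsg.Agent.Lib.FrobRealize.Quaternion
import Cfsg.Agent.Lib.Involution.ZStar.Main
import Cfsg.Agent.Lib.Recognition.TICentralizers.Basic
import Cfsg.Agent.Lib.Solvable.Cores
import Cfsg.Agent.Lib.OddOrder.Final.Main

/-!
Finite groups in which `p`-subgroups of equal order are conjugate: the Sylow subgroups are cyclic,
elementary abelian or quaternion of order eight.
-/

set_option autoImplicit false
set_option linter.style.haveILetI false

namespace CfsgLib.PGroup.ConjugateSubgroups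

open Subgroup
open scoped Pointwise

universe u

variable {G : Type u} [Group G]

/-- Any two `p`-subgroups of the same order are conjugate. -/
def ConjP (G : Type u) [Group G] (p : ℕ) : Prop :=
  ∀ H K : Subgroup G, IsPGroup p H → IsPGroup p K → Nat.card H = Nat.card K →
    ∃ g : G, K = H.map (MulAut.conj g).toMonoidHom

/-- Two commuting elements of order `p`, independent, span a group of order `p ^ 2`. -/
theorem exists_pair {X : Type u} [Group X] [Finite X] {p : ℕ} [Fact p.Prime] {c x : X}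
    (hc : orderOf c = p) (hx : x ^ p = 1) (hcx : c * x = x * c) (hxc : x ∉ zpowers c) :
    ∃ E : Subgroup X, Nat.card E = p ^ 2 ∧ c ∈ E ∧ x ∈ E ∧
      ∀ w ∈ E, ∃ i j : ℤ, c ^ i * x ^ j = w := by
  have hxp : orderOf x = p :=
    orderOf_eq_prime hx fun h => hxc (h ▸ one_mem _)
  have hcomm : ∀ (a : zpowers c) (b : zpowers x), Commute (a : X) (b : X) := by
    rintro ⟨a, ha⟩ ⟨b, hb⟩
    obtain ⟨i, rfl⟩ := mem_zpowers_iff.1 ha
    obtain ⟨j, rfl⟩ := mem_zpowers_iff.1 hb
    exact (show Commute c x from hcx).zpow_zpow i j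
  let f := MonoidHom.noncommCoprod (zpowers c).subtype (zpowers x).subtype hcomm
  have hinj : Function.Injective f := by
    refine (injective_iff_map_eq_one f).2 ?_
    rintro ⟨⟨a, ha⟩, ⟨b, hb⟩⟩ h
    have hab : a * b = 1 := h
    have hbc : b ∈ zpowers c := by
      rw [eq_inv_of_mul_eq_one_right hab]; exact inv_mem ha
    have hb1 : b = 1 := by
      obtain ⟨j, rfl⟩ := mem_zpowers_iff.1 hb
      by_contra hne
      apply hxc
      have hj : IsCoprime j (p : ℤ) := by
        rw [Int.isCoprime_iff_nat_coprime, Int.natAbs_natCast, Nat.coprime_comm,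
          (Fact.out : p.Prime).coprime_iff_not_dvd]
        intro hd
        apply hne
        rw [← orderOf_dvd_iff_zpow_eq_one, hxp]
        exact Int.natCast_dvd.2 hd
      obtain ⟨s, t, hst⟩ := hj
      have hxpow : x ^ (p : ℤ) = 1 := by rw [zpow_natCast, hx]
      have : x = (x ^ j) ^ s := by
        conv_lhs => rw [← zpow_one x, ← hst, zpow_add, mul_comm t, zpow_mul x (p : ℤ), hxpow,
          one_zpow, mul_one, mul_comm, zpow_mul]
      rw [this]
      exact zpow_mem hbc s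
    subst hb1
    rw [mul_one] at hab
    exact Prod.ext (Subtype.ext hab) rfl
  refine ⟨f.range, ?_, ⟨(⟨c, mem_zpowers c⟩, 1), mul_one c⟩, ⟨(1, ⟨x, mem_zpowers x⟩), one_mul x⟩, ?_⟩
  · rw [← Nat.card_congr (MonoidHom.ofInjective hinj).toEquiv, Nat.card_prod, Nat.card_zpowers,
      Nat.card_zpowers, hc, hxp, pow_two]
  · rintro w ⟨⟨⟨a, ha⟩, ⟨b, hb⟩⟩, rfl⟩
    obtain ⟨i, rfl⟩ := mem_zpowers_iff.1 ha
    obtain ⟨j, rfl⟩ := mem_zpowers_iff.1 hb
    exact ⟨i, j, rfl⟩

section Sylow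

variable [Finite G] {p : ℕ} [Fact p.Prime]

theorem cyclic_of_card_eq (hD : ConjP G p) {H K : Subgroup G} (hH : IsPGroup p H)
    (hK : IsPGroup p K) (hcard : Nat.card H = Nat.card K) [IsCyclic H] : IsCyclic K := by
  obtain ⟨g, rfl⟩ := hD H K hH hK hcard
  let e := H.equivMapOfInjective (MulAut.conj g).toMonoidHom (MulAut.conj g).injective
  exact isCyclic_of_surjective e.toMonoidHom e.surjective

theorem two_of_quaternion (hD : ConjP G 2) (P : Sylow 2 G) {n : ℕ}
    (e : (P : Subgroup G) ≃* QuaternionGroup (2 ^ n)) (hn : 2 ≤ n) : False := by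
  haveI : Fact (Nat.Prime 2) := ⟨Nat.prime_two⟩
  haveI : NeZero (2 ^ n) := ⟨by positivity⟩
  set a : (P : Subgroup G) := e.symm (QuaternionGroup.a 1) with ha
  set b : (P : Subgroup G) := e.symm (QuaternionGroup.xa 0) with hb
  have hoa : orderOf a = 2 ^ (n + 1) := by
    rw [ha, MulEquiv.orderOf_eq, QuaternionGroup.orderOf_a_one, pow_succ, mul_comm]
  have hob : orderOf b = 2 ^ 2 := by
    rw [hb, MulEquiv.orderOf_eq, QuaternionGroup.orderOf_xa]; rfl
  have hP8 : 2 ^ 3 ∣ Nat.card (P : Subgroup G) := by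
    rw [Nat.card_congr e.toEquiv, Nat.card_eq_fintype_card, QuaternionGroup.card]
    obtain ⟨m, rfl⟩ := Nat.exists_eq_add_of_le hn
    exact ⟨2 * 2 ^ m, by ring⟩
  obtain ⟨K, hK, hbK⟩ := Sylow.exists_subgroup_card_pow_prime_le 2 hP8 (zpowers b)
    (by rw [Nat.card_zpowers, hob]) (by norm_num)
  have hoc : orderOf (a ^ (2 ^ (n - 2))) = 2 ^ 3 := by
    rw [orderOf_pow' _ (by positivity), hoa,
      Nat.gcd_eq_right (pow_dvd_pow _ (by omega)), Nat.pow_div (by omega) (by norm_num)]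
    congr 1; omega
  haveI : IsCyclic ((zpowers (a ^ (2 ^ (n - 2)))).map (P : Subgroup G).subtype) := by
    rw [MonoidHom.map_zpowers]; infer_instance
  haveI := cyclic_of_card_eq hD
    (H := (zpowers (a ^ (2 ^ (n - 2)))).map (P : Subgroup G).subtype)
    (K := K.map (P : Subgroup G).subtype)
    (P.2.to_le (map_subtype_le _)) (P.2.to_le (map_subtype_le _))
    (by rw [card_map_of_injective (subtype_injective _), card_map_of_injective (subtype_injective _),
      Nat.card_zpowers, hoc, hK])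
  haveI : IsCyclic K :=
    isCyclic_of_injective (K.equivMapOfInjective _ (subtype_injective _)).toMonoidHom
      (MulEquiv.injective _)
  obtain ⟨g, hg⟩ := IsCyclic.exists_generator (α := K)
  have hog : orderOf (e (g : (P : Subgroup G))) = 8 := by
    rw [MulEquiv.orderOf_eq, Subgroup.orderOf_coe, orderOf_eq_card_of_forall_mem_zpowers hg, hK]
    norm_num
  obtain ⟨j, hj⟩ := mem_zpowers_iff.1 (hg ⟨b, hbK (mem_zpowers b)⟩)
  have hj' : e (g : (P : Subgroup G)) ^ j = QuaternionGroup.xa 0 := by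
    have := congrArg (fun z : K => e (z : (P : Subgroup G))) hj
    simpa [hb] using this
  rcases hq : e (g : (P : Subgroup G)) with i | i
  · rw [hq] at hj'
    have key : ∀ k : ℤ, ∃ l, (QuaternionGroup.a i) ^ k = QuaternionGroup.a l := by
      intro k
      induction k using Int.induction_on with
      | zero => exact ⟨0, rfl⟩
      | succ k ih =>
        obtain ⟨l, hl⟩ := ih
        exact ⟨l + i, by rw [zpow_add_one, hl, QuaternionGroup.a_mul_a]⟩
      | pred k ih =>
        obtain ⟨l, hl⟩ := ih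
        refine ⟨l - i, ?_⟩
        rw [zpow_sub_one, hl, mul_inv_eq_iff_eq_mul, QuaternionGroup.a_mul_a, sub_add_cancel]
    obtain ⟨l, hl⟩ := key j
    rw [hl] at hj'
    cases hj'
  · rw [hq, QuaternionGroup.orderOf_xa] at hog
    omega

/-- A Sylow subgroup is cyclic, quaternion of order eight or of exponent `p`. -/
theorem trichotomy (hD : ConjP G p) (P : Sylow p G) :
    IsCyclic (P : Subgroup G) ∨ (p = 2 ∧ Nonempty ((P : Subgroup G) ≃* QuaternionGroup 2)) ∨
      ∀ x ∈ (P : Subgroup G), x ^ p = 1 := by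
  classical
  rcases le_or_gt (Nat.card {x : (P : Subgroup G) // x ^ p = 1}) p with hfew | hmany
  · rcases CfsgLib.FrobRealize.Quaternion.cyclic_or_quaternion P.2 hfew with h | ⟨hp, n, ⟨e⟩⟩
    · exact Or.inl h
    rcases Nat.lt_or_ge n 2 with hn | hn
    · interval_cases n
      · left
        haveI : IsCyclic (QuaternionGroup (2 ^ 0)) :=
          ⟨QuaternionGroup.xa 0, fun x => by
            show x ∈ zpowers _
            revert x
            have : ∀ x : QuaternionGroup 1,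
                ∃ i : Fin 4, QuaternionGroup.xa 0 ^ (i : ℕ) = x := by decide
            intro x
            obtain ⟨i, hi⟩ := this x
            exact hi ▸ pow_mem (mem_zpowers _) _⟩
        exact isCyclic_of_surjective e.symm.toMonoidHom e.symm.surjective
      · exact Or.inr (Or.inl ⟨hp, ⟨e⟩⟩)
    · subst hp
      exact (two_of_quaternion hD P e hn).elim
  refine Or.inr (Or.inr ?_)
  have hp0 : Nat.Prime p := Fact.out
  haveI : Nontrivial (P : Subgroup G) := by
    obtain ⟨u, v, huv⟩ := Finite.one_lt_card_iff_nontrivial.1 (hp0.one_lt.trans hmany)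
    exact ⟨⟨u, v, fun h => huv (Subtype.ext h)⟩⟩
  haveI := P.2.center_nontrivial
  obtain ⟨z, hz⟩ : ∃ z : center (P : Subgroup G), orderOf z = p := by
    refine exists_prime_orderOf_dvd_card' p ?_
    obtain ⟨k, hk⟩ := (P.2.to_subgroup (center (P : Subgroup G))).exists_card_eq
    have hlt : 1 < Nat.card (center (P : Subgroup G)) := Finite.one_lt_card
    rw [hk] at hlt ⊢
    exact dvd_pow_self p fun h0 => by simp [h0] at hlt
  have hzo : orderOf (z : (P : Subgroup G)) = p := by rw [Subgroup.orderOf_coe, hz]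
  obtain ⟨x, hx, hxz⟩ : ∃ x : (P : Subgroup G), x ^ p = 1 ∧ x ∉ zpowers (z : (P : Subgroup G)) := by
    by_contra hcon
    push Not at hcon
    have := Nat.card_le_card_of_injective
      (fun x : {x : (P : Subgroup G) // x ^ p = 1} =>
        (⟨x.1, hcon x.1 x.2⟩ : zpowers (z : (P : Subgroup G))))
      fun u v h => Subtype.ext (congrArg Subtype.val h :)
    rw [Nat.card_zpowers, hzo] at this
    omega
  obtain ⟨E, hE, -, -, hEform⟩ := exists_pair hzo hx (mem_center_iff.1 z.2 x).symm hxz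
  intro y hy
  by_contra hne
  obtain ⟨k, hk⟩ := IsPGroup.iff_orderOf.1 P.2 ⟨y, hy⟩
  rw [Subgroup.orderOf_mk] at hk
  have hk2 : 2 ≤ k := by
    by_contra hlt
    apply hne
    rw [← orderOf_dvd_iff_pow_eq_one, hk]
    exact (pow_dvd_pow p (by omega : k ≤ 1)).trans (pow_one p).dvd
  have how : orderOf (y ^ p ^ (k - 2)) = p ^ 2 := by
    rw [orderOf_pow' _ (pow_ne_zero _ hp0.ne_zero), hk,
      Nat.gcd_eq_right (pow_dvd_pow _ (by omega)), Nat.pow_div (by omega) hp0.pos]
    congr 1; omega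
  have hw : y ^ p ^ (k - 2) ∈ (P : Subgroup G) := pow_mem hy _
  obtain ⟨g, hg⟩ := hD (E.map (P : Subgroup G).subtype) (zpowers (y ^ p ^ (k - 2)))
    (P.2.to_le (map_subtype_le _)) (P.2.to_le (zpowers_le.2 hw))
    (by rw [card_map_of_injective (subtype_injective _), hE, Nat.card_zpowers, how])
  have hmem : y ^ p ^ (k - 2) ∈ (E.map (P : Subgroup G).subtype).map (MulAut.conj g).toMonoidHom :=
    hg ▸ mem_zpowers _
  obtain ⟨_, ⟨v, hvE, rfl⟩, hv⟩ := hmem
  obtain ⟨i, j, rfl⟩ := hEform v hvE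
  have hvp : ((z : (P : Subgroup G)) ^ i * x ^ j) ^ p = 1 := by
    have hc : Commute (z : (P : Subgroup G)) x := (mem_center_iff.1 z.2 x).symm
    rw [(hc.zpow_zpow i j).mul_pow, ← zpow_natCast, ← zpow_natCast, ← zpow_mul, ← zpow_mul,
      mul_comm i, mul_comm j, zpow_mul, zpow_mul, zpow_natCast, zpow_natCast, hx,
      orderOf_dvd_iff_pow_eq_one.1 hzo.dvd, one_zpow, one_zpow, one_mul]
  have : (y ^ p ^ (k - 2)) ^ p = 1 := by
    rw [← hv, ← map_pow, ← map_pow, hvp, map_one, map_one]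
  have hd := orderOf_dvd_of_pow_eq_one this
  rw [how] at hd
  have := Nat.le_of_dvd hp0.pos hd
  nlinarith [hp0.one_lt, sq p]

/-- A `p`-subgroup of `H` is conjugate in `H` into a Sylow subgroup contained in `H`. -/
theorem exists_conj_le (P : Sylow p G) {H Q : Subgroup G} (hP : (P : Subgroup G) ≤ H)
    (hQ : Q ≤ H) (hQp : IsPGroup p Q) :
    ∃ h ∈ H, ∀ q ∈ Q, h * q * h⁻¹ ∈ (P : Subgroup G) := by
  have hQ' : IsPGroup p (Q.subgroupOf H) :=
    hQp.of_injective (subgroupOfEquivOfLe hQ).toMonoidHom (MulEquiv.injective _)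
  obtain ⟨R, hR⟩ := hQ'.exists_le_sylow
  obtain ⟨h, hh⟩ := MulAction.exists_smul_eq H R (P.subtype hP)
  refine ⟨h, h.2, fun q hq => ?_⟩
  have : h * ⟨q, hQ hq⟩ * h⁻¹ ∈ (P.subtype hP : Subgroup H) := by
    rw [← hh, Sylow.coe_subgroup_smul]
    exact mem_map_of_mem _ (hR (show (⟨q, hQ hq⟩ : H) ∈ Q.subgroupOf H from hq))
  exact this

end Sylow

section Extraspecial

variable {X : Type u} [Group X] [Finite X] {p : ℕ} [Fact p.Prime]

/-- In a `p`-group in which subgroups of equal order are both abelian or both non-abelian, with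
exponent `p` and non-abelian, the centre has order `p` and contains all commutators. -/
theorem extraspecial (hX : IsPGroup p X) (hexp : ∀ x : X, x ^ p = 1)
    (hab : ∀ H K : Subgroup X, Nat.card H = Nat.card K →
      (∀ a ∈ H, ∀ b ∈ H, a * b = b * a) → ∀ a ∈ K, ∀ b ∈ K, a * b = b * a)
    (hna : ∃ a b : X, a * b ≠ b * a) :
    ∃ c : X, orderOf c = p ∧ (∀ a : X, a * c = c * a) ∧ (∀ a : X, (∀ b, a * b = b * a) → a ∈ zpowers c) ∧
      ∀ a b : X, a * b * a⁻¹ * b⁻¹ ∈ zpowers c := by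
  classical
  have hp : p.Prime := Fact.out
  obtain ⟨a₀, b₀, hab₀⟩ := hna
  haveI : Nontrivial X := ⟨⟨a₀, 1, fun h => hab₀ (by rw [h, one_mul, mul_one])⟩⟩
  have hZtop : center X ≠ ⊤ := fun h =>
    hab₀ ((mem_center_iff.1 (h ▸ mem_top b₀ : b₀ ∈ center X)) a₀)
  haveI : Nontrivial (X ⧸ center X) := QuotientGroup.nontrivial_iff.2 hZtop
  haveI := (hX.to_quotient (center X)).center_nontrivial
  obtain ⟨⟨x', hx'⟩, hx'1⟩ := exists_ne (1 : center (X ⧸ center X))
  obtain ⟨x, rfl⟩ := QuotientGroup.mk'_surjective (center X) x'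
  have hxZ : x ∉ center X := fun h => hx'1 (Subtype.ext ((QuotientGroup.eq_one_iff x).2 h))
  have hx2 : ∀ t : X, t * x * t⁻¹ * x⁻¹ ∈ center X := fun t => by
    rw [← QuotientGroup.eq_one_iff]
    have hc := mem_center_iff.1 hx' (QuotientGroup.mk' (center X) t)
    simp only [QuotientGroup.mk'_apply] at hc
    rw [QuotientGroup.mk_mul, QuotientGroup.mk_mul, QuotientGroup.mk_mul, QuotientGroup.mk_inv,
      QuotientGroup.mk_inv, hc, mul_inv_cancel_right, mul_inv_cancel]
  obtain ⟨y, hy⟩ : ∃ y, y * x ≠ x * y := by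
    by_contra h; push Not at h; exact hxZ (mem_center_iff.2 h)
  set c := y * x * y⁻¹ * x⁻¹ with hc
  have hcZ : c ∈ center X := hx2 y
  have hc1 : c ≠ 1 := fun h => hy (by
    rw [mul_inv_eq_one] at h; exact mul_inv_eq_iff_eq_mul.1 h)
  have hco : orderOf c = p := orderOf_eq_prime (hexp c) hc1
  have hcx : c * x = x * c := ((mem_center_iff.1 hcZ) x).symm
  have hxc : x ∉ zpowers c := fun h => hxZ (zpowers_le.2 hcZ h)
  obtain ⟨E, hE, hcE, hxE, hEf⟩ := exists_pair hco (hexp x) hcx hxc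
  have hEcomm : ∀ a ∈ E, ∀ b ∈ E, a * b = b * a := by
    intro a ha b hb
    obtain ⟨i, j, rfl⟩ := hEf a ha
    obtain ⟨k, l, rfl⟩ := hEf b hb
    have hC : Commute c x := hcx
    exact (((Commute.zpow_zpow_self c i k).mul_left (hC.symm.zpow_zpow j k)).mul_right
      ((hC.zpow_zpow i l).mul_left (Commute.zpow_zpow_self x j l))).eq
  -- a non-abelian subgroup of order `p ^ 3`
  have hyN : zpowers y ≤ normalizer (E : Set X) := by
    rw [zpowers_le]
    have hmem : ∀ e ∈ E, y * e * y⁻¹ ∈ E := by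
      intro e he
      obtain ⟨i, j, rfl⟩ := hEf e he
      have h1 : y * c * y⁻¹ = c := by rw [mem_center_iff.1 hcZ y, mul_inv_cancel_right]
      have h2 : y * x * y⁻¹ = c * x := by rw [hc]; group
      have h3 : y * (c ^ i * x ^ j) * y⁻¹ = (y * c * y⁻¹) ^ i * (y * x * y⁻¹) ^ j := by
        rw [← MulAut.conj_apply, map_mul, map_zpow, map_zpow, MulAut.conj_apply, MulAut.conj_apply]
      rw [h3, h1, h2]
      exact mul_mem (zpow_mem hcE i) (zpow_mem (mul_mem hcE hxE) j)
    have hEeq : E.map (MulAut.conj y).toMonoidHom = E :=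
      eq_of_le_of_card_ge (map_le_iff_le_comap.2 hmem)
        (card_map_of_injective (MulAut.conj y).injective).ge
    rw [mem_normalizer_iff]
    intro e
    refine ⟨hmem e, fun h => ?_⟩
    obtain ⟨e', he', heq⟩ := (hEeq.symm ▸ h : y * e * y⁻¹ ∈ E.map (MulAut.conj y).toMonoidHom)
    rwa [← (MulAut.conj y).injective (heq : MulAut.conj y e' = MulAut.conj y e)]
  set H := E ⊔ zpowers y with hHdef
  have hH : Nat.card H = p ^ 3 := by
    have hle : Nat.card H ≤ p ^ 3 := by
      have hset : (H : Set X) = (E : Set X) * (zpowers y : Set X) :=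
        coe_mul_of_right_le_normalizer_left E (zpowers y) hyN
      calc Nat.card H = Nat.card ((E : Set X) * (zpowers y : Set X) : Set X) := by
            rw [← hset]; rfl
        _ ≤ Nat.card E * Nat.card (zpowers y) := Set.natCard_mul_le
        _ ≤ p ^ 2 * p := by
            rw [hE, Nat.card_zpowers]
            exact Nat.mul_le_mul_left _ (orderOf_le_of_pow_eq_one hp.pos (hexp y))
        _ = p ^ 3 := (pow_succ p 2).symm
    have hlt : E < H := lt_of_le_of_ne le_sup_left fun h => hy (hEcomm y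
      (h.symm ▸ (le_sup_right : zpowers y ≤ H) (mem_zpowers y)) x hxE)
    have hlt' : Nat.card E < Nat.card H := (card_le_of_le hlt.le).lt_of_ne fun h =>
      hlt.ne (eq_of_le_of_card_ge hlt.le h.ge)
    obtain ⟨k, hk⟩ := (hX.to_subgroup H).exists_card_eq
    rw [hE, hk] at hlt'
    rw [hk] at hle ⊢
    congr 1
    have h2 := (Nat.pow_lt_pow_iff_right hp.one_lt).1 hlt'
    have h3 := (Nat.pow_le_pow_iff_right hp.one_lt).1 hle
    omega
  -- no abelian subgroup of order at least `p ^ 3`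
  have hnoab : ∀ A : Subgroup X, (∀ a ∈ A, ∀ b ∈ A, a * b = b * a) → Nat.card A < p ^ 3 := by
    intro A hA
    by_contra hle
    rw [not_lt] at hle
    obtain ⟨A', hA'le, hA'⟩ := Sylow.exists_subgroup_le_card_pow_prime_of_le_card hp hX hle
    exact hy (hab A' H (hA'.trans hH.symm) (fun a ha b hb => hA a (hA'le ha) b (hA'le hb)) y
      (le_sup_right (a := E) (mem_zpowers y)) x (le_sup_left (b := zpowers y) hxE))
  -- the centre
  have hZ : zpowers c = center X := by
    set A := center X ⊔ zpowers x with hA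
    have hAcomm : ∀ a ∈ A, ∀ b ∈ A, a * b = b * a := by
      intro a ha b hb
      rw [hA, mem_sup_of_normal_left] at ha hb
      obtain ⟨z, hz, u, hu, rfl⟩ := ha
      obtain ⟨w, hw, v, hv, rfl⟩ := hb
      obtain ⟨i, rfl⟩ := mem_zpowers_iff.1 hu
      obtain ⟨j, rfl⟩ := mem_zpowers_iff.1 hv
      have hz' : ∀ s, Commute z s := fun s => (mem_center_iff.1 hz s).symm
      have hw' : ∀ s, Commute s w := fun s => mem_center_iff.1 hw s
      exact ((hw' _).mul_right ((hz' _).mul_left (Commute.zpow_zpow_self x i j))).eq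
    have hlt := hnoab A hAcomm
    have hZlt : center X < A := lt_of_le_of_ne le_sup_left fun h =>
      hxZ (h.symm ▸ le_sup_right (a := center X) (mem_zpowers x))
    have hZlt' : Nat.card (center X) < Nat.card A := (card_le_of_le hZlt.le).lt_of_ne fun h =>
      hZlt.ne (eq_of_le_of_card_ge hZlt.le h.ge)
    obtain ⟨k, hk⟩ := (hX.to_subgroup (center X)).exists_card_eq
    obtain ⟨l, hl⟩ := (hX.to_subgroup A).exists_card_eq
    rw [hk, hl] at hZlt'
    rw [hl] at hlt
    have h1 := (Nat.pow_lt_pow_iff_right hp.one_lt).1 hZlt'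
    have h2 := (Nat.pow_lt_pow_iff_right hp.one_lt).1 hlt
    refine eq_of_le_of_card_ge (zpowers_le.2 hcZ) ?_
    rw [hk, Nat.card_zpowers, hco]
    exact (Nat.pow_le_pow_right hp.pos (by omega : k ≤ 1)).trans (pow_one p).le
  have hcard : Nat.card X = p ^ 3 := by
    let f : X →* center X :=
      MonoidHom.mk' (fun t => ⟨t * x * t⁻¹ * x⁻¹, hx2 t⟩) fun s t => Subtype.ext (by
        show s * t * x * (s * t)⁻¹ * x⁻¹ = (s * x * s⁻¹ * x⁻¹) * (t * x * t⁻¹ * x⁻¹)
        calc s * t * x * (s * t)⁻¹ * x⁻¹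
            = s * (t * x * t⁻¹ * x⁻¹) * x * s⁻¹ * x⁻¹ := by group
          _ = (t * x * t⁻¹ * x⁻¹) * s * x * s⁻¹ * x⁻¹ := by rw [mem_center_iff.1 (hx2 t) s]
          _ = (t * x * t⁻¹ * x⁻¹) * (s * x * s⁻¹ * x⁻¹) := by group
          _ = _ := (mem_center_iff.1 (hx2 t) _).symm)
    have hEker : E ≤ f.ker := by
      intro e he
      refine Subtype.ext ?_
      show e * x * e⁻¹ * x⁻¹ = 1
      rw [hEcomm e he x hxE, mul_inv_cancel_right, mul_inv_cancel]
    have hker : f.ker = E := by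
      refine le_antisymm (fun w hw => ?_) hEker
      by_contra hwE
      have hwx : w * x = x * w := by
        have h := congrArg Subtype.val (MonoidHom.mem_ker.1 hw)
        change w * x * w⁻¹ * x⁻¹ = 1 at h
        rw [mul_inv_eq_one, mul_inv_eq_iff_eq_mul] at h
        exact h
      set A := closure (insert w (E : Set X)) with hAdef
      have hcl : ∀ a ∈ insert w (E : Set X), ∀ b ∈ insert w (E : Set X), a * b = b * a := by
        have hwE' : ∀ e ∈ E, w * e = e * w := by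
          intro e he
          obtain ⟨i, j, rfl⟩ := hEf e he
          exact ((show Commute w c from mem_center_iff.1 hcZ w).zpow_right i).mul_right
            ((show Commute w x from hwx).zpow_right j)
        rintro a (rfl | ha) b (rfl | hb)
        · rfl
        · exact hwE' b hb
        · exact (hwE' a ha).symm
        · exact hEcomm a ha b hb
      letI := Subgroup.closureCommGroupOfComm hcl
      have hAcomm : ∀ a ∈ A, ∀ b ∈ A, a * b = b * a := fun a ha b hb =>
        congrArg Subtype.val (mul_comm (⟨a, ha⟩ : A) ⟨b, hb⟩)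
      have hlt := hnoab A hAcomm
      have hEA : E < A := lt_of_le_of_ne
        (fun e he => subset_closure (Set.mem_insert_of_mem _ he))
        fun h => hwE (h ▸ subset_closure (Set.mem_insert _ _))
      obtain ⟨l, hl⟩ := (hX.to_subgroup A).exists_card_eq
      have hlt' : Nat.card E < Nat.card A := (card_le_of_le hEA.le).lt_of_ne fun h =>
        hEA.ne (eq_of_le_of_card_ge hEA.le h.ge)
      rw [hl] at hlt hlt'
      rw [hE] at hlt'
      have h1 := (Nat.pow_lt_pow_iff_right hp.one_lt).1 hlt'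
      have h2 := (Nat.pow_lt_pow_iff_right hp.one_lt).1 hlt
      omega
    have hrange : Nat.card f.range ∣ p := by
      rw [← hco, ← Nat.card_zpowers, hZ]
      exact card_subgroup_dvd_card _
    have h1 := f.ker.card_eq_card_quotient_mul_card_subgroup
    rw [Nat.card_congr (QuotientGroup.quotientKerEquivRange f).toEquiv, hker, hE] at h1
    have h2 : Nat.card X ∣ p ^ 3 := by
      rw [h1, pow_succ p 2, mul_comm (p ^ 2)]
      exact Nat.mul_dvd_mul_right hrange _
    exact Nat.dvd_antisymm h2 (hH ▸ card_subgroup_dvd_card H)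
  refine ⟨c, hco, fun a => mem_center_iff.1 hcZ a, fun a ha =>
    hZ ▸ mem_center_iff.2 fun b => (ha b).symm, fun a b => ?_⟩
  have hq : Nat.card (X ⧸ center X) = p ^ 2 := by
    have := (center X).card_eq_card_quotient_mul_card_subgroup
    rw [← hZ, hcard, Nat.card_zpowers, hco, pow_succ p 2, hZ] at this
    exact (Nat.eq_of_mul_eq_mul_right hp.pos this).symm
  have hcomm := IsPGroup.isMulCommutative_of_card_eq_prime_sq hq
  rw [hZ, ← QuotientGroup.eq_one_iff]
  rw [QuotientGroup.mk_mul, QuotientGroup.mk_mul, QuotientGroup.mk_mul, QuotientGroup.mk_inv,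
    QuotientGroup.mk_inv, hcomm.is_comm.comm (a : X ⧸ center X) b, mul_inv_cancel_right,
    mul_inv_cancel]

end Extraspecial

section Main

variable [Finite G] {p : ℕ} [Fact p.Prime]

/-- A `2`-element whose square inverts an element `c` of odd prime order puts `c` in the odd core. -/
theorem mem_oddCore (hD : ConjP G 2) (hp : p ≠ 2) {c a : G} (hc : orderOf c = p) {s : ℕ}
    (ha : a ^ 2 ^ s = 1) (hinv : a ^ 2 * c * (a ^ 2)⁻¹ = c⁻¹) : c ∈ Cfsg.oddCore G := by
  haveI : Fact (Nat.Prime 2) := ⟨Nat.prime_two⟩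
  have hpodd : Odd p := (Fact.out : p.Prime).odd_of_ne_two hp
  have hcodd : Odd (orderOf c) := hc ▸ hpodd
  have ha2 : a ^ 2 ≠ 1 := by
    intro h
    rw [h, one_mul, inv_one, mul_one] at hinv
    have : c ^ 2 = 1 := by rw [pow_two]; exact mul_eq_one_iff_eq_inv.2 hinv
    have hd := orderOf_dvd_of_pow_eq_one this
    rw [hc, Nat.prime_dvd_prime_iff_eq Fact.out Nat.prime_two] at hd
    exact hp hd
  obtain ⟨i, hi, hia⟩ := (Nat.dvd_prime_pow Nat.prime_two).1 (orderOf_dvd_of_pow_eq_one ha)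
  obtain ⟨S, hS⟩ := (IsPGroup.of_card (p := 2) (n := i)
    (by rw [Nat.card_zpowers, hia] : Nat.card (zpowers a) = 2 ^ i)).exists_le_sylow
  have haS : a ∈ (S : Subgroup G) := hS (mem_zpowers a)
  rcases trichotomy hD S with hcyc | ⟨-, ⟨e⟩⟩ | hexp
  · have heven : 2 ∣ Nat.card G := by
      refine (dvd_pow_self 2 ?_).trans ((hia ▸ orderOf_dvd_natCard a : 2 ^ i ∣ Nat.card G))
      rintro rfl
      exact ha2 (by rw [pow_zero, orderOf_eq_one_iff] at hia; rw [hia, one_pow])
    have hmin : (Nat.card G).minFac = 2 := (Nat.minFac_eq_two_iff _).2 heven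
    have hN := hcyc.normalizer_le_centralizer hmin
    refine CfsgLib.Involution.ZStar.le_oddCore (MonoidHom.normal_ker _)
      (Nat.odd_iff.2 (Nat.two_dvd_ne_zero.1
        (MonoidHom.not_dvd_card_ker_transferSylow S hN))) ?_
    rw [MonoidHom.mem_ker, ← orderOf_eq_one_iff]
    obtain ⟨k, hk⟩ := IsPGroup.iff_orderOf.1 S.2 (MonoidHom.transferSylow S hN c)
    have hd := orderOf_map_dvd (MonoidHom.transferSylow S hN) c
    rw [hk, hc] at hd
    rw [hk]
    exact Nat.Coprime.eq_one_of_dvd ((Nat.coprime_two_left.2 hpodd).pow_left k) hd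
  · have h4 : ∀ x : QuaternionGroup 2, x ^ 4 = 1 := by decide
    have hu : ∀ x y : QuaternionGroup 2, x * x = 1 → y * y = 1 → x ≠ 1 → y ≠ 1 → x = y := by decide
    have ht : a ^ 2 * a ^ 2 = 1 := by
      have h1 : ((⟨a, haS⟩ : (S : Subgroup G)) ^ 4) = 1 := e.injective (by rw [map_pow, h4, map_one])
      rw [← pow_add]
      exact congrArg Subtype.val h1
    have hto : orderOf (a ^ 2) = 2 := orderOf_eq_prime (by rw [pow_two]; exact ht) ha2
    have htS : a ^ 2 ∈ (S : Subgroup G) := pow_mem haS 2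
    have hiso : ∀ g : G, g * a ^ 2 * g⁻¹ ∈ S → g * a ^ 2 * g⁻¹ = a ^ 2 := by
      intro g hg
      have h := hu (e ⟨_, hg⟩) (e ⟨_, htS⟩)
        (by rw [← map_mul, ← map_one e]; congr 1; exact Subtype.ext (by
          show g * a ^ 2 * g⁻¹ * (g * a ^ 2 * g⁻¹) = 1
          calc _ = g * (a ^ 2 * a ^ 2) * g⁻¹ := by group
            _ = 1 := by rw [ht, mul_one, mul_inv_cancel]))
        (by rw [← map_mul, ← map_one e]; congr 1; exact Subtype.ext ht)
        (fun h => by
          rw [← map_one e] at h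
          exact ha2 (conj_eq_one_iff.1 (congrArg Subtype.val (e.injective h))))
        (fun h => by
          rw [← map_one e] at h
          exact ha2 (congrArg Subtype.val (e.injective h)))
      exact congrArg Subtype.val (e.injective h)
    obtain ⟨N, hN, hNodd, hNmem⟩ :=
      CfsgLib.Involution.ZStar.exists_odd_normal_of_sylow S hto htS hiso
    have h := hNmem c
    rw [hinv, ← mul_inv_rev] at h
    exact CfsgLib.Involution.ZStar.le_oddCore hN hNodd
      (CfsgLib.Involution.ZStar.mem_of_sq_mem hcodd ((inv_mem_iff).1 h))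
  · exact absurd (hexp a haS) ha2

omit [Finite G] [Fact p.Prime] in
theorem mem_map_conj {H : Subgroup G} {g h : G} (hh : h ∈ H) :
    g * h * g⁻¹ ∈ H.map (MulAut.conj g).toMonoidHom := ⟨h, hh, rfl⟩

/-- The Sylow subgroup of exponent `p` is abelian. -/
theorem commutative_of_exponent (hD : ∀ q : ℕ, q.Prime → ConjP G q) (P : Sylow p G)
    (hexp : ∀ x ∈ (P : Subgroup G), x ^ p = 1) :
    ∀ a ∈ (P : Subgroup G), ∀ b ∈ (P : Subgroup G), a * b = b * a := by
  classical
  have hp : p.Prime := Fact.out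
  by_contra hna
  push Not at hna
  obtain ⟨a₀, ha₀, b₀, hb₀, hne₀⟩ := hna
  have hp2 : p ≠ 2 := by
    rintro rfl
    have hinv : ∀ z ∈ (P : Subgroup G), z⁻¹ = z := fun z hz =>
      inv_eq_of_mul_eq_one_right (by rw [← pow_two]; exact hexp z hz)
    apply hne₀
    calc a₀ * b₀ = (a₀ * b₀)⁻¹ := (hinv _ (mul_mem ha₀ hb₀)).symm
      _ = b₀ * a₀ := by rw [mul_inv_rev, hinv _ ha₀, hinv _ hb₀]
  have hab : ∀ H K : Subgroup (P : Subgroup G), Nat.card H = Nat.card K →
      (∀ a ∈ H, ∀ b ∈ H, a * b = b * a) → ∀ a ∈ K, ∀ b ∈ K, a * b = b * a := by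
    intro H K hHK hH a ha b hb
    obtain ⟨g, hg⟩ := hD p hp (H.map (P : Subgroup G).subtype) (K.map (P : Subgroup G).subtype)
      (P.2.to_le (map_subtype_le _)) (P.2.to_le (map_subtype_le _))
      (by rwa [card_map_of_injective (subtype_injective _),
        card_map_of_injective (subtype_injective _)])
    have h1 : (a : G) ∈ K.map (P : Subgroup G).subtype := mem_map_of_mem _ ha
    have h2 : (b : G) ∈ K.map (P : Subgroup G).subtype := mem_map_of_mem _ hb
    rw [hg] at h1 h2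
    obtain ⟨_, ⟨u, hu, rfl⟩, h1⟩ := h1
    obtain ⟨_, ⟨v, hv, rfl⟩, h2⟩ := h2
    apply Subtype.ext
    rw [coe_mul, coe_mul, ← h1, ← h2, ← map_mul, ← map_mul, ← map_mul, ← map_mul, hH u hu v hv]
  obtain ⟨⟨c, hcP⟩, hco, hcen, hZ, hcom⟩ := extraspecial P.2
    (fun x => Subtype.ext (hexp x x.2)) hab
    ⟨⟨a₀, ha₀⟩, ⟨b₀, hb₀⟩, fun h => hne₀ (congrArg Subtype.val h)⟩
  rw [Subgroup.orderOf_mk] at hco
  replace hcen : ∀ a ∈ (P : Subgroup G), a * c = c * a := fun a ha =>
    congrArg Subtype.val (hcen ⟨a, ha⟩)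
  replace hZ : ∀ a ∈ (P : Subgroup G), (∀ b ∈ (P : Subgroup G), a * b = b * a) → a ∈ zpowers c := by
    intro a ha h
    obtain ⟨i, hi⟩ := mem_zpowers_iff.1 (hZ ⟨a, ha⟩ fun b => Subtype.ext (h b b.2))
    exact ⟨i, congrArg Subtype.val hi⟩
  replace hcom : ∀ a ∈ (P : Subgroup G), ∀ b ∈ (P : Subgroup G),
      a * b * a⁻¹ * b⁻¹ ∈ zpowers c := by
    intro a ha b hb
    obtain ⟨i, hi⟩ := mem_zpowers_iff.1 (hcom ⟨a, ha⟩ ⟨b, hb⟩)
    exact ⟨i, congrArg Subtype.val hi⟩
  have hc1 : c ≠ 1 := fun h => hp.ne_one (by rw [← hco, h, orderOf_one])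
  have hzc : zpowers c ≤ (P : Subgroup G) := zpowers_le.2 hcP
  -- powers of nontrivial elements of a group of order `p`
  have hgen : ∀ {r z : G}, r ^ p = 1 → z ∈ zpowers r → z ≠ 1 → r ∈ zpowers z := by
    intro r z hr hz hz1
    have hle : zpowers z ≤ zpowers r := zpowers_le.2 hz
    have hrp : orderOf r = p := orderOf_eq_prime hr fun h => hz1 (by
      rw [h, zpowers_one_eq_bot] at hz; exact hz)
    have hzp : orderOf z = p := by
      have hd := card_dvd_of_le hle
      rw [Nat.card_zpowers, Nat.card_zpowers, hrp] at hd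
      exact (hp.eq_one_or_self_of_dvd _ hd).resolve_left fun h => hz1 (orderOf_eq_one_iff.1 h)
    rw [eq_of_le_of_card_ge hle (by rw [Nat.card_zpowers, Nat.card_zpowers, hrp, hzp])]
    exact mem_zpowers r
  have transvection : ∀ r ∈ (P : Subgroup G), r ∉ zpowers c → ∀ d ∈ zpowers c,
      ∃ u ∈ (P : Subgroup G), u * r * u⁻¹ = d * r := by
    intro r hr hrc d hd
    obtain ⟨v, hv, hvr⟩ : ∃ v ∈ (P : Subgroup G), r * v ≠ v * r := by
      by_contra h; push Not at h; exact hrc (hZ r hr h)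
    have hz := hcom v hv r hr
    have hz1 : v * r * v⁻¹ * r⁻¹ ≠ 1 := fun h => hvr (by
      rw [mul_inv_eq_one, mul_inv_eq_iff_eq_mul] at h; exact h.symm)
    have hcmem := hgen (by rw [← hco]; exact pow_orderOf_eq_one c) hz hz1
    obtain ⟨k, rfl⟩ := mem_zpowers_iff.1 (zpowers_le.2 hcmem hd)
    refine ⟨v ^ k, zpow_mem hv k, ?_⟩
    have hzv : Commute (v * r * v⁻¹ * r⁻¹) v := by
      obtain ⟨i, hi⟩ := hz
      rw [← hi]
      exact ((show Commute v c from hcen v hv).zpow_right i).symm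
    clear hd
    induction k using Int.induction_on with
    | zero => simp
    | succ k ih =>
      rw [zpow_add_one, mul_inv_rev, zpow_add_one (v * r * v⁻¹ * r⁻¹)]
      calc v ^ (k : ℤ) * v * r * (v⁻¹ * (v ^ (k : ℤ))⁻¹)
          = v ^ (k : ℤ) * (v * r * v⁻¹ * r⁻¹) * r * (v ^ (k : ℤ))⁻¹ := by group
        _ = (v * r * v⁻¹ * r⁻¹) * (v ^ (k : ℤ) * r * (v ^ (k : ℤ))⁻¹) := by
          rw [← (hzv.zpow_right (k : ℤ)).eq]; group
        _ = _ := by rw [ih, ← mul_assoc, (Commute.self_zpow _ (k : ℤ)).eq]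
    | pred k ih =>
      rw [zpow_sub_one, zpow_sub_one (v * r * v⁻¹ * r⁻¹)]
      have hstep : v * (v ^ (-(k : ℤ)) * v⁻¹ * r * (v ^ (-(k : ℤ)) * v⁻¹)⁻¹) * v⁻¹
          = v ^ (-(k : ℤ)) * r * (v ^ (-(k : ℤ)))⁻¹ := by group
      rw [ih] at hstep
      have h1 : v ^ (-(k : ℤ)) * v⁻¹ * r * (v ^ (-(k : ℤ)) * v⁻¹)⁻¹ =
          v⁻¹ * ((v * r * v⁻¹ * r⁻¹) ^ (-(k : ℤ)) * r) * v := by
        rw [← hstep]; group
      rw [h1]
      calc v⁻¹ * ((v * r * v⁻¹ * r⁻¹) ^ (-(k : ℤ)) * r) * v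
          = (v * r * v⁻¹ * r⁻¹) ^ (-(k : ℤ)) * (v⁻¹ * (v * r * v⁻¹ * r⁻¹)⁻¹) * v * r := by
            rw [← mul_assoc, ← (hzv.inv_right.zpow_left (-(k : ℤ))).eq]; group
        _ = _ := by rw [← hzv.inv_right.inv_left.eq]; group
  -- an element of `N(E)` moving a non-central element into the centre
  obtain ⟨x, hxP, hxc⟩ : ∃ x ∈ (P : Subgroup G), x ∉ zpowers c := by
    by_contra h
    push Not at h
    obtain ⟨i, rfl⟩ := mem_zpowers_iff.1 (h a₀ ha₀)
    obtain ⟨j, rfl⟩ := mem_zpowers_iff.1 (h b₀ hb₀)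
    exact hne₀ ((Commute.zpow_zpow_self c i j).eq)
  have hx1 : x ≠ 1 := fun h => hxc (h ▸ one_mem _)
  have hxo : orderOf x = p := orderOf_eq_prime (hexp x hxP) hx1
  obtain ⟨E, hE, hcE, hxE, hEf⟩ := exists_pair hco (hexp x hxP) (hcen x hxP).symm hxc
  have hEP : E ≤ (P : Subgroup G) := fun w hw => by
    obtain ⟨i, j, rfl⟩ := hEf w hw
    exact mul_mem (zpow_mem hcP i) (zpow_mem hxP j)
  have hEcomm : ∀ w ∈ E, ∀ v ∈ E, w * v = v * w := by
    intro w hw v hv
    obtain ⟨i, j, rfl⟩ := hEf w hw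
    obtain ⟨k, l, rfl⟩ := hEf v hv
    have hC : Commute c x := (hcen x hxP).symm
    exact (((Commute.zpow_zpow_self c i k).mul_left (hC.symm.zpow_zpow j k)).mul_right
      ((hC.zpow_zpow i l).mul_left (Commute.zpow_zpow_self x j l))).eq
  obtain ⟨g0, hg0⟩ := hD p hp (zpowers x) (zpowers c)
    (P.2.to_le (zpowers_le.2 hxP)) (P.2.to_le hzc)
    (by rw [Nat.card_zpowers, Nat.card_zpowers, hxo, hco])
  have hx0 : g0 * x * g0⁻¹ ∈ zpowers c := hg0 ▸ mem_map_conj (mem_zpowers x)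
  have hx01 : g0 * x * g0⁻¹ ≠ 1 := fun h => hx1 (conj_eq_one_iff.1 h)
  set E1 := E.map (MulAut.conj g0).toMonoidHom with hE1
  have hcE1 : c ∈ E1 := by
    have h := hgen (by rw [← hco]; exact pow_orderOf_eq_one c) hx0 hx01
    exact zpowers_le.2 (hE1 ▸ mem_map_conj hxE) h
  have hE1C : E1 ≤ centralizer ({c} : Set G) := by
    intro w hw
    rw [mem_centralizer_singleton_iff]
    obtain ⟨w', hw', rfl⟩ := hw
    obtain ⟨v', hv', rfl⟩ := hcE1
    rw [← map_mul, ← map_mul, hEcomm w' hw' v' hv']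
  have hPC : (P : Subgroup G) ≤ centralizer ({c} : Set G) := fun w hw =>
    mem_centralizer_singleton_iff.2 (hcen w hw)
  obtain ⟨h, hhC, hh⟩ := exists_conj_le P hPC hE1C
    ((P.2.to_le hEP).map _)
  have hhc : h * c * h⁻¹ = c := by
    rw [mem_centralizer_singleton_iff.1 hhC, mul_inv_cancel_right]
  set g1 := h * g0 with hg1
  set E' := E.map (MulAut.conj g1).toMonoidHom with hE'
  have hE'P : E' ≤ (P : Subgroup G) := by
    rintro _ ⟨w, hw, rfl⟩
    have := hh _ (hE1 ▸ mem_map_conj (g := g0) hw)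
    show g1 * w * g1⁻¹ ∈ (P : Subgroup G)
    rwa [hg1, mul_inv_rev, show h * g0 * w * (g0⁻¹ * h⁻¹) = h * (g0 * w * g0⁻¹) * h⁻¹ by group]
  have hx1' : g1 * x * g1⁻¹ ∈ zpowers c := by
    obtain ⟨i, hi⟩ := mem_zpowers_iff.1 hx0
    refine mem_zpowers_iff.2 ⟨i, ?_⟩
    rw [hg1, mul_inv_rev, show h * g0 * x * (g0⁻¹ * h⁻¹) = h * (g0 * x * g0⁻¹) * h⁻¹ by group,
      ← hi, ← MulAut.conj_apply, map_zpow, MulAut.conj_apply, hhc]
  have hcE' : c ∈ E' := by
    have h1 := hgen (by rw [← hco]; exact pow_orderOf_eq_one c) hx1'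
      (fun h => hx1 (conj_eq_one_iff.1 h))
    exact zpowers_le.2 (hE' ▸ mem_map_conj hxE) h1
  -- subgroups of `P` containing `c` are normal in `P`
  have hPN : ∀ F : Subgroup G, F ≤ (P : Subgroup G) → c ∈ F →
      ∀ a ∈ (P : Subgroup G), ∀ e ∈ F, a * e * a⁻¹ ∈ F := by
    intro F hF hcF a ha e he
    rw [show a * e * a⁻¹ = (a * e * a⁻¹ * e⁻¹) * e by group]
    exact mul_mem (zpowers_le.2 hcF (hcom a ha e (hF he))) he
  have hEcard : Nat.card E' = Nat.card E := card_map_of_injective (MulAut.conj g1).injective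
  obtain ⟨m, hm⟩ := hD p hp E' E (P.2.to_le hE'P) (P.2.to_le hEP) hEcard
  have hmem_norm : ∀ (F : Subgroup G) (a : G), (∀ e ∈ F, a * e * a⁻¹ ∈ F) →
      a ∈ normalizer (F : Set G) := by
    intro F a ha
    rw [mem_normalizer_iff]
    refine fun e => ⟨ha e, fun he => ?_⟩
    have hFeq : F.map (MulAut.conj a).toMonoidHom = F :=
      eq_of_le_of_card_ge (map_le_iff_le_comap.2 ha)
        (card_map_of_injective (MulAut.conj a).injective).ge
    obtain ⟨e', he', heq⟩ := (hFeq.symm ▸ he : a * e * a⁻¹ ∈ F.map (MulAut.conj a).toMonoidHom)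
    rwa [← (MulAut.conj a).injective (heq : MulAut.conj a e' = MulAut.conj a e)]
  have hPE : (P : Subgroup G) ≤ normalizer (E : Set G) := fun a ha =>
    hmem_norm E a (hPN E hEP hcE a ha)
  have hQE : (P : Subgroup G).map (MulAut.conj m).toMonoidHom ≤ normalizer (E : Set G) := by
    rintro _ ⟨a, ha, rfl⟩
    refine hmem_norm E _ fun e he => ?_
    rw [hm] at he
    obtain ⟨e', he', rfl⟩ := he
    show MulAut.conj m a * MulAut.conj m e' * (MulAut.conj m a)⁻¹ ∈ E
    rw [← map_inv, ← map_mul, ← map_mul, hm]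
    exact mem_map_of_mem _ (hPN E' hE'P hcE' a ha e' he')
  obtain ⟨k, hkN, hk⟩ := exists_conj_le P hPE hQE (P.2.map _)
  set n := k * m with hn
  have hnP : ∀ a ∈ (P : Subgroup G), n * a * n⁻¹ ∈ (P : Subgroup G) := by
    intro a ha
    have := hk _ (mem_map_conj (g := m) ha)
    rwa [hn, mul_inv_rev, show k * m * a * (m⁻¹ * k⁻¹) = k * (m * a * m⁻¹) * k⁻¹ by group]
  have hnc : n * c * n⁻¹ ∈ zpowers c := by
    refine hZ _ (hnP c hcP) fun b hb => ?_
    have hPeq : (P : Subgroup G).map (MulAut.conj n).toMonoidHom = (P : Subgroup G) :=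
      eq_of_le_of_card_ge (map_le_iff_le_comap.2 hnP)
        (card_map_of_injective (MulAut.conj n).injective).ge
    obtain ⟨b', hb', rfl⟩ := (hPeq.symm ▸ hb : b ∈ (P : Subgroup G).map (MulAut.conj n).toMonoidHom)
    show MulAut.conj n c * MulAut.conj n b' = MulAut.conj n b' * MulAut.conj n c
    rw [← map_mul, ← map_mul, (hcen b' hb').symm]
  set g := n * g1 with hg
  have hgE : ∀ e ∈ E, g * e * g⁻¹ ∈ E := by
    intro e he
    have h1 : g1 * e * g1⁻¹ ∈ E' := hE' ▸ mem_map_conj he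
    have h2 : m * (g1 * e * g1⁻¹) * m⁻¹ ∈ E := hm ▸ mem_map_conj h1
    have h3 := (mem_normalizer_iff.1 hkN _).1 h2
    rwa [hg, hn, show k * m * g1 * e * (k * m * g1)⁻¹ =
      k * (m * (g1 * e * g1⁻¹) * m⁻¹) * k⁻¹ by group]
  have hgx : g * x * g⁻¹ ∈ zpowers c := by
    obtain ⟨i, hi⟩ := mem_zpowers_iff.1 hx1'
    rw [hg, show n * g1 * x * (n * g1)⁻¹ = n * (g1 * x * g1⁻¹) * n⁻¹ by group, ← hi,
      ← MulAut.conj_apply, map_zpow, MulAut.conj_apply]
    exact zpow_mem hnc i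
  have hgx1 : g * x * g⁻¹ ≠ 1 := fun h => hx1 (conj_eq_one_iff.1 h)
  have hc' : g * c * g⁻¹ ∈ (P : Subgroup G) := hEP (hgE c hcE)
  -- `x' = g⁻¹ c g` is a power of `x`
  obtain ⟨j, hj⟩ : ∃ j : ℤ, g * x ^ j * g⁻¹ = c := by
    obtain ⟨j, hj⟩ := mem_zpowers_iff.1
      (hgen (by rw [← hco]; exact pow_orderOf_eq_one c) hgx hgx1)
    exact ⟨j, by rw [← hj, ← MulAut.conj_apply, map_zpow, MulAut.conj_apply]⟩
  have hxj : x ^ j ∉ zpowers c := fun hmem => hxc (by
    have : x ^ j ≠ 1 := fun h => hc1 (by rw [← hj, h, mul_one, mul_inv_cancel])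
    exact zpowers_le.2 hmem (hgen (hexp x hxP) (mem_zpowers_iff.2 ⟨j, rfl⟩) this))
  have hc'c : g * c * g⁻¹ ∉ zpowers c := fun hmem => by
    obtain ⟨i, hi⟩ := mem_zpowers_iff.1 hmem
    apply hxj
    have h1 : c ≠ 1 := hc1
    have h2 : g * c * g⁻¹ ≠ 1 := fun h => hc1 (conj_eq_one_iff.1 h)
    obtain ⟨l, hl⟩ := mem_zpowers_iff.1
      (hgen (by rw [← hco]; exact pow_orderOf_eq_one c) hmem h2)
    have h3 : g * c ^ l * g⁻¹ = g * x ^ j * g⁻¹ := by
      rw [hj, ← MulAut.conj_apply, map_zpow, MulAut.conj_apply, hl]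
    exact ⟨l, mul_left_cancel (mul_right_cancel h3)⟩
  obtain ⟨u, huP, hu⟩ := transvection _ hc' hc'c c (mem_zpowers c)
  obtain ⟨u', hu'P, hu'⟩ := transvection _ (zpow_mem hxP j) hxj c⁻¹ (inv_mem (mem_zpowers c))
  set c' := g * c * g⁻¹ with hc'def
  set l := g * u' * g⁻¹ with hl
  have huc : u * c * u⁻¹ = c := by rw [hcen u huP, mul_inv_cancel_right]
  have hlc' : l * c' * l⁻¹ = c' := by
    rw [hl, hc'def, show g * u' * g⁻¹ * (g * c * g⁻¹) * (g * u' * g⁻¹)⁻¹ =
      g * (u' * c * u'⁻¹) * g⁻¹ by group, hcen u' hu'P, mul_inv_cancel_right]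
  have hlc : l * c * l⁻¹ = c'⁻¹ * c := by
    calc l * c * l⁻¹ = g * (u' * x ^ j * u'⁻¹) * g⁻¹ := by rw [hl, ← hj]; group
      _ = g * (c⁻¹ * x ^ j) * g⁻¹ := by rw [hu']
      _ = (g * c * g⁻¹)⁻¹ * (g * x ^ j * g⁻¹) := by group
      _ = c'⁻¹ * c := by rw [hj]
  have hcc' : Commute c' c := hcen c' hc'
  set w := u * l * u with hw
  have hw1 : w * c * w⁻¹ = c'⁻¹ := by
    calc w * c * w⁻¹ = u * (l * (u * c * u⁻¹) * l⁻¹) * u⁻¹ := by rw [hw]; group
      _ = u * (c'⁻¹ * c) * u⁻¹ := by rw [huc, hlc]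
      _ = (u * c' * u⁻¹)⁻¹ * (u * c * u⁻¹) := by group
      _ = (c * c')⁻¹ * c := by rw [hu, huc]
      _ = c'⁻¹ := by rw [mul_inv_rev, inv_mul_cancel_right]
  have hw2 : w * c' * w⁻¹ = c := by
    calc w * c' * w⁻¹ = u * (l * (u * c' * u⁻¹) * l⁻¹) * u⁻¹ := by rw [hw]; group
      _ = u * ((l * c * l⁻¹) * (l * c' * l⁻¹)) * u⁻¹ := by rw [hu]; group
      _ = u * c * u⁻¹ := by
          have e : c'⁻¹ * c * c' = c := by rw [mul_assoc, ← hcc'.eq, inv_mul_cancel_left]
          rw [hlc, hlc', e]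
      _ = c := huc
  have hw4 : w ^ 2 * c * (w ^ 2)⁻¹ = c⁻¹ := by
    calc w ^ 2 * c * (w ^ 2)⁻¹ = w * (w * c * w⁻¹) * w⁻¹ := by rw [pow_two]; group
      _ = (w * c' * w⁻¹)⁻¹ := by rw [hw1]; group
      _ = c⁻¹ := by rw [hw2]
  obtain ⟨s, r, hr, hsr⟩ := Nat.exists_eq_two_pow_mul_odd (orderOf_pos w).ne'
  have hinv : (w ^ r) ^ 2 * c * ((w ^ r) ^ 2)⁻¹ = c⁻¹ := by
    obtain ⟨k', hk'⟩ := hr
    have h4 : Commute ((w ^ 2) ^ 2) c := by
      have : w ^ 2 * (w ^ 2 * c * (w ^ 2)⁻¹) * (w ^ 2)⁻¹ = c := by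
        rw [hw4, ← conj_inv, hw4, inv_inv]
      rw [Commute, SemiconjBy, ← mul_inv_eq_iff_eq_mul]
      rw [show (w ^ 2) ^ 2 = w ^ 2 * w ^ 2 from pow_two _]
      convert this using 1
      group
    rw [← pow_mul, mul_comm, pow_mul, hk', pow_succ, pow_mul,
      show ((w ^ 2) ^ 2) ^ k' * w ^ 2 * c * (((w ^ 2) ^ 2) ^ k' * w ^ 2)⁻¹ =
        ((w ^ 2) ^ 2) ^ k' * (w ^ 2 * c * (w ^ 2)⁻¹) * (((w ^ 2) ^ 2) ^ k')⁻¹ by group,
      hw4, (h4.inv_right.pow_left k').eq, mul_inv_cancel_right]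
  have hcO : c ∈ Cfsg.oddCore G := mem_oddCore (hD 2 Nat.prime_two) hp2 hco (a := w ^ r) (s := s)
    (by rw [← pow_mul, mul_comm, ← hsr, pow_orderOf_eq_one]) hinv
  -- the final contradiction, modulo the `p'`-core
  set L := Cfsg.pPrimeCore p G with hL
  haveI : L.Normal := CfsgLib.Solvable.Cores.pPrimeCore_normal p
  have hLp : (Nat.card L).Coprime p := CfsgLib.Solvable.Cores.coprime_card_pPrimeCore p
  have hLP : ∀ z ∈ (P : Subgroup G), z ∈ L → z = 1 := by
    intro z hz hzL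
    have h1 := orderOf_dvd_natCard L hzL
    have h2 := orderOf_dvd_of_pow_eq_one (hexp z hz)
    exact orderOf_eq_one_iff.1 (Nat.eq_one_of_dvd_coprimes hLp h1 h2)
  set q := QuotientGroup.mk' L with hq
  haveI : (Cfsg.oddCore G).Normal := CfsgLib.Involution.ZStar.oddCore_normal
  haveI : Group.IsSolvable (Cfsg.oddCore G) :=
    CfsgLib.OddOrder.Final.oddSolvable _ CfsgLib.Involution.ZStar.odd_card_oddCore
  set M := (Cfsg.oddCore G).map q with hM
  haveI : M.Normal := Subgroup.Normal.map inferInstance q (QuotientGroup.mk'_surjective L)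
  have hMs : Group.IsSolvable M := by
    exact Group.isSolvable_of_surjective (f := q.subgroupMap (Cfsg.oddCore G))
      (q.subgroupMap_surjective _)
  have hM1 : M ≠ ⊥ := fun h => hc1 (hLP c hcP ((QuotientGroup.eq_one_iff c).1 (by
    have : q c ∈ M := mem_map_of_mem q hcO
    rwa [h, mem_bot] at this)))
  set R := Cfsg.pCore p (G ⧸ L) with hR
  haveI : R.Normal := CfsgLib.Solvable.Cores.pCore_normal p
  have hR1 : R ≠ ⊥ := by
    intro hbot
    apply CfsgLib.Recognition.TICentralizers.fitting_ne_bot hM1 hMs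
    rw [eq_bot_iff, CfsgLib.Solvable.Cores.fittingSubgroup_eq_iSup_pCore]
    refine iSup_le fun r => ?_
    by_cases hrp : (r : ℕ) = p
    · rw [hrp, ← hR, hbot]
    haveI := Fact.mk r.2
    haveI : (Cfsg.pCore (r : ℕ) (G ⧸ L)).Normal := CfsgLib.Solvable.Cores.pCore_normal _
    have hcard : Nat.card ((Cfsg.pCore (r : ℕ) (G ⧸ L)).comap q) =
        Nat.card L * Nat.card (Cfsg.pCore (r : ℕ) (G ⧸ L)) := by
      have h1 := ((Cfsg.pCore (r : ℕ) (G ⧸ L)).comap q).card_mul_index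
      rw [index_comap_of_surjective _ (QuotientGroup.mk'_surjective L),
        L.card_eq_card_quotient_mul_card_subgroup,
        ← (Cfsg.pCore (r : ℕ) (G ⧸ L)).card_mul_index] at h1
      refine Nat.eq_of_mul_eq_mul_right (Nat.pos_of_ne_zero
        (index_ne_zero_of_finite (H := Cfsg.pCore (r : ℕ) (G ⧸ L)))) ?_
      rw [h1]; ring
    have hle : (Cfsg.pCore (r : ℕ) (G ⧸ L)).comap q ≤ L :=
      CfsgLib.Solvable.Cores.le_pPrimeCore (by
        rw [hcard]
        exact hLp.mul_left (CfsgLib.Solvable.Cores.coprime_card_pCore hp hrp))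
    intro z hz
    obtain ⟨z', rfl⟩ := QuotientGroup.mk'_surjective L z
    exact mem_bot.2 ((QuotientGroup.eq_one_iff z').2 (hle hz))
  set R0 := R.comap q with hR0
  obtain ⟨z, hzR, hzo⟩ : ∃ z ∈ R0, orderOf z = p := by
    have hd : p ∣ Nat.card R0 := by
      obtain ⟨t, ht⟩ := CfsgLib.Solvable.Cores.card_pow_of_pCore (G := G ⧸ L) p
      have ht0 : t ≠ 0 := by
        rintro rfl
        exact hR1 (Subgroup.eq_bot_of_card_eq R (by rw [ht, pow_zero]))
      refine (dvd_pow_self p ht0).trans (ht ▸ ?_)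
      exact card_dvd_of_surjective (q.subgroupComap R)
        (q.subgroupComap_surjective_of_surjective R (QuotientGroup.mk'_surjective L))
    obtain ⟨z, hz⟩ := exists_prime_orderOf_dvd_card' p hd
    exact ⟨z, z.2, by rw [Subgroup.orderOf_coe, hz]⟩
  have hPR : (P : Subgroup G) ≤ R0 := by
    intro y hy
    by_cases hy1 : y = 1
    · rw [hy1]; exact one_mem _
    have hyo : orderOf y = p := orderOf_eq_prime (hexp y hy) hy1
    obtain ⟨t, ht⟩ := hD p hp (zpowers z) (zpowers y)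
      (IsPGroup.of_card (n := 1) (by rw [Nat.card_zpowers, hzo, pow_one]))
      (P.2.to_le (zpowers_le.2 hy)) (by rw [Nat.card_zpowers, Nat.card_zpowers, hyo, hzo])
    obtain ⟨y', hy', rfl⟩ := (ht ▸ mem_zpowers y : y ∈ (zpowers z).map (MulAut.conj t).toMonoidHom)
    exact (R.normal_comap q).conj_mem y' (zpowers_le.2 hzR hy') t
  have hPq : (P : Subgroup G).map q = R := by
    refine eq_of_le_of_card_ge (map_le_iff_le_comap.2 hPR) ?_
    obtain ⟨t, ht⟩ := CfsgLib.Solvable.Cores.card_pow_of_pCore (G := G ⧸ L) p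
    have hinjP : Nat.card ((P : Subgroup G).map q) = Nat.card (P : Subgroup G) := by
      refine (Nat.card_congr (Equiv.ofBijective (q.subgroupMap (P : Subgroup G))
        ⟨(injective_iff_map_eq_one _).2 fun a ha => ?_, q.subgroupMap_surjective _⟩)).symm
      exact Subtype.ext (hLP a a.2 ((QuotientGroup.eq_one_iff (a : G)).1 (congrArg Subtype.val ha)))
    rw [hinjP, P.card_eq_multiplicity]
    show Nat.card (Cfsg.pCore p (G ⧸ L)) ≤ _
    rw [ht]
    refine Nat.pow_le_pow_right hp.pos ((hp.pow_dvd_iff_le_factorization Nat.card_pos.ne').1 ?_)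
    rw [← ht]
    exact (card_subgroup_dvd_card _).trans (L.card_quotient_dvd_card)
  apply hne₀
  have hkey : ∀ a ∈ (P : Subgroup G), ∀ b ∈ (P : Subgroup G), Commute (q a) (q b) := by
    intro a ha b hb
    by_cases ha1 : a = 1
    · rw [ha1, map_one]; exact Commute.one_left _
    have hao : orderOf a = p := orderOf_eq_prime (hexp a ha) ha1
    obtain ⟨t, ht⟩ := hD p hp (zpowers c) (zpowers a)
      (P.2.to_le hzc) (P.2.to_le (zpowers_le.2 ha))
      (by rw [Nat.card_zpowers, Nat.card_zpowers, hao, hco])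
    obtain ⟨c₀, hc₀, rfl⟩ := (ht ▸ mem_zpowers a : a ∈ (zpowers c).map (MulAut.conj t).toMonoidHom)
    obtain ⟨i, rfl⟩ := mem_zpowers_iff.1 hc₀
    have hbR : q b ∈ R := hPR hb
    have hbR' : q (t⁻¹ * b * t) ∈ (P : Subgroup G).map q := by
      rw [hPq, map_mul, map_mul, map_inv]
      simpa using (inferInstance : R.Normal).conj_mem _ hbR (q t)⁻¹
    obtain ⟨b', hb', hbb'⟩ := hbR'
    have h1 : Commute (q c) (q (t⁻¹ * b * t)) := by
      rw [← hbb']
      exact (show Commute c b' from (hcen b' hb').symm).map q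
    have h2 := (h1.zpow_left i).map (MulAut.conj (q t)).toMonoidHom
    have e1 : (MulAut.conj (q t)).toMonoidHom (q c ^ i) = q ((MulAut.conj t).toMonoidHom (c ^ i)) := by
      simp
    have e2 : (MulAut.conj (q t)).toMonoidHom (q (t⁻¹ * b * t)) = q b := by
      simp [mul_assoc]
    rwa [e1, e2] at h2
  have hz' : a₀ * b₀ * a₀⁻¹ * b₀⁻¹ = 1 := by
    refine hLP _ (mul_mem (mul_mem (mul_mem ha₀ hb₀) (inv_mem ha₀)) (inv_mem hb₀)) ?_
    rw [← QuotientGroup.eq_one_iff]
    show q (a₀ * b₀ * a₀⁻¹ * b₀⁻¹) = 1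
    rw [map_mul, map_mul, map_mul, map_inv, map_inv, (hkey a₀ ha₀ b₀ hb₀).eq,
      mul_inv_cancel_right, mul_inv_cancel]
  rwa [mul_inv_eq_one, mul_inv_eq_iff_eq_mul] at hz'

/-- The Sylow subgroups of a group with conjugate equal-order `p`-subgroups. -/
theorem sylow_structure (hD : ∀ q : ℕ, q.Prime → ConjP G q) (P : Sylow p G) :
    IsCyclic (P : Subgroup G) ∨ Cfsg.IsElementaryAbelian p (P : Subgroup G) ∨
      Nonempty ((P : Subgroup G) ≃* QuaternionGroup 2) := by
  rcases trichotomy (hD p Fact.out) P with h | ⟨-, h⟩ | h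
  · exact Or.inl h
  · exact Or.inr (Or.inr h)
  · exact Or.inr (Or.inl ⟨⟨⟨fun a b => Subtype.ext
      (commutative_of_exponent hD P h a a.2 b b.2)⟩⟩, h⟩)

end Main

end CfsgLib.PGroup.ConjugateSubgroups
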