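import Cfsg.Agent.Lib.PGroup.TIHall
import Cfsg.Agent.Lib.FrobRealize.FixedPointFree
import Cfsg.Agent.Lib.Coprime.Hall
import Mathlib

/-!
# Trivial intersection Hall subgroups of separable groups
-/

set_option autoImplicit false

namespace CfsgLib.PGroup.TISeparable

open Subgroup

variable {G : Type*} [Group G] [Finite G]

theorem card_sup_dvd (K N : Subgroup G) [N.Normal] :
    Nat.card (K ⊔ N : Subgroup G) ∣ Nat.card N * Nat.card K := by
  have h := CfsgLib.Coprime.card_mul_relIndex_eq (le_sup_right : N ≤ K ⊔ N)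
  rw [← h, relIndex_sup_right]
  exact Nat.mul_dvd_mul_left _ (relIndex_dvd_card _ _)

/-- The largest normal subgroup of order prime to `n`. -/
theorem greatest_coprime (n : ℕ) :
    let O := sSup {K : Subgroup G | K.Normal ∧ (Nat.card K).Coprime n}
    O.Normal ∧ (Nat.card O).Coprime n ∧ ∀ K : Subgroup G, K.Normal → (Nat.card K).Coprime n → K ≤ O := by
  intro O
  obtain ⟨M, -, hM⟩ := Finite.exists_le_maximal
    (p := fun K : Subgroup G => K.Normal ∧ (Nat.card K).Coprime n) (a := (⊥ : Subgroup G))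
    ⟨inferInstance, by simp⟩
  have hgr : ∀ K : Subgroup G, K.Normal → (Nat.card K).Coprime n → K ≤ M := by
    intro K hK hKc
    have := hM.prop.1
    have hsup : (K ⊔ M).Normal ∧ (Nat.card (K ⊔ M : Subgroup G)).Coprime n :=
      ⟨inferInstance, Nat.Coprime.coprime_dvd_left (card_sup_dvd K M) (hM.prop.2.mul_left hKc)⟩
    exact le_sup_left.trans (hM.le_of_ge hsup le_sup_right)
  have e : O = M := le_antisymm (sSup_le fun K hK => hgr K hK.1 hK.2) (le_sSup hM.prop)
  rw [e]
  exact ⟨hM.prop.1, hM.prop.2, hgr⟩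

theorem exists_conj_into {O H : Subgroup G} [O.Normal]
    (hO : (Nat.card O).Coprime (Nat.card H)) {w : G} (hw : w ∈ O ⊔ H)
    (hwH : w ^ Nat.card H = 1) : ∃ n ∈ O, n * w * n⁻¹ ∈ H := by
  obtain ⟨o, ho, h, hh, rfl⟩ := mem_sup_of_normal_left.1 hw
  have hord : ∀ y : G, y ^ Nat.card H = 1 → orderOf (QuotientGroup.mk' O y) = orderOf y := by
    intro y hy
    refine Nat.dvd_antisymm (orderOf_map_dvd _ _) (orderOf_dvd_of_pow_eq_one ?_)
    set j := orderOf (QuotientGroup.mk' O y)
    have h1 : y ^ j ∈ O := by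
      rw [← QuotientGroup.eq_one_iff, QuotientGroup.mk_pow]
      exact pow_orderOf_eq_one _
    rw [← orderOf_eq_one_iff]
    refine Nat.eq_one_of_dvd_coprimes hO (Subgroup.orderOf_dvd_natCard _ h1)
      (orderOf_dvd_of_pow_eq_one ?_)
    rw [← pow_mul, mul_comm, pow_mul, hy, one_pow]
  have hhH : h ^ Nat.card H = 1 :=
    orderOf_dvd_iff_pow_eq_one.1 (Subgroup.orderOf_dvd_natCard _ hh)
  have hmk : QuotientGroup.mk' O (o * h) = QuotientGroup.mk' O h := by
    rw [map_mul, show QuotientGroup.mk' O o = 1 from (QuotientGroup.eq_one_iff o).2 ho, one_mul]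
  obtain ⟨n, hn, hconj⟩ := CfsgLib.Coprime.exists_conj_eq (N := O) (H := zpowers (o * h))
    (K := zpowers h) (Or.inr (CfsgLib.Coprime.isSolvable_zpowers _))
    (by rw [normalizer_eq_top]; exact le_top) (by rw [normalizer_eq_top]; exact le_top)
    (zpowers_le.2 (mul_mem (mem_sup_left ho) (mem_sup_right (mem_zpowers h))))
    (by rw [Nat.card_zpowers, Nat.card_zpowers, ← hord _ hwH, hmk, hord _ hhH])
    (hO.coprime_dvd_right (by rw [Nat.card_zpowers]; exact orderOf_dvd_of_pow_eq_one hwH))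
  refine ⟨n, hn, zpowers_le.2 hh (hconj ▸ ?_)⟩
  exact mem_map_of_mem _ (mem_zpowers (o * h))

/-- `G = O N(H)` and `O H` is normal. -/
theorem eq_top_and_normal {H O : Subgroup G} (hTI : Cfsg.IsTISubset (H : Set G)) (hnn : ¬ H.Normal)
    (hHall : (Nat.card H).Coprime H.index) [O.Normal] (hO : (Nat.card O).Coprime (Nat.card H))
    (hgr : ∀ K : Subgroup G, K.Normal → (Nat.card K).Coprime (Nat.card H) → K ≤ O)
    (hsep : ∃ (n : ℕ) (M : Fin (n + 1) → Subgroup G), M 0 = ⊥ ∧ M (Fin.last n) = ⊤ ∧ Monotone M ∧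
      (∀ i, (M i).Normal) ∧
      ∀ i : Fin n, (∀ q : ℕ, q.Prime → q ∣ (M i.castSucc).relIndex (M i.succ) → q ∣ Nat.card H) ∨
        ((M i.castSucc).relIndex (M i.succ)).Coprime (Nat.card H)) :
    O ⊔ normalizer (H : Set G) = ⊤ ∧ (O ⊔ H).Normal := by
  classical
  obtain ⟨n, M, h0, hlast, -, hMn, hfac⟩ := hsep
  have hH1 : H ≠ ⊥ := by rintro rfl; exact hnn inferInstance
  have hOtop : O ≠ ⊤ := by
    rintro rfl
    refine hH1 (Subgroup.card_eq_one.1 (Nat.eq_one_of_dvd_coprimes hO ?_ dvd_rfl))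
    exact Subgroup.card_dvd_of_le le_top
  obtain ⟨i, hi, hi'⟩ : ∃ i : Fin n, M i.castSucc ≤ O ∧ ¬ M i.succ ≤ O := by
    by_contra h
    push Not at h
    have hall : ∀ j : Fin (n + 1), M j ≤ O := fun j =>
      Fin.induction (h0 ▸ bot_le) (fun i hi => h i hi) j
    exact hOtop (top_le_iff.1 (hlast ▸ hall (Fin.last n)))
  have := hMn i.succ
  set T := M i.succ ⊔ O with hT
  have hTc : Nat.card T = Nat.card O * O.relIndex (M i.succ) := by
    rw [← CfsgLib.Coprime.card_mul_relIndex_eq (le_sup_right : O ≤ T), relIndex_sup_right]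
  have hrd : O.relIndex (M i.succ) ∣ (M i.castSucc).relIndex (M i.succ) :=
    relIndex_dvd_of_le_left (M i.succ) hi
  rcases hfac i with hπ | hcop
  swap
  · exfalso
    refine hi' (le_sup_left.trans (hgr T inferInstance ?_))
    rw [hTc]
    exact hO.mul_left (hcop.coprime_dvd_left hrd)
  have hTle : T ≤ O ⊔ H := by
    rw [← relIndex_eq_one]
    by_contra hne
    obtain ⟨q, hq, hqd⟩ := Nat.exists_prime_and_dvd hne
    have hqH : q ∣ Nat.card H := by
      refine hπ q hq (hqd.trans ((relIndex_dvd_of_le_left T (le_sup_left : O ≤ O ⊔ H)).trans ?_))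
      rw [hT, relIndex_sup_right]
      exact hrd
    have hqi : q ∣ H.index := by
      refine hqd.trans ?_
      have h1 : (O ⊔ H).relIndex T ∣ (O ⊔ H).index := by
        have e1 := CfsgLib.Coprime.card_mul_relIndex_eq (le_sup_right : T ≤ (O ⊔ H) ⊔ T)
        rw [relIndex_sup_right] at e1
        have e2 := CfsgLib.Coprime.card_mul_relIndex_eq (inf_le_right : T ⊓ (O ⊔ H) ≤ O ⊔ H)
        have e3 := CfsgLib.Coprime.card_mul_relIndex_eq (inf_le_left : T ⊓ (O ⊔ H) ≤ T)
        rw [inf_relIndex_right] at e2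
        rw [inf_comm, inf_relIndex_right, inf_comm] at e3
        have e4 : Nat.card ((O ⊔ H) ⊔ T : Subgroup G) = Nat.card (O ⊔ H : Subgroup G) * (O ⊔ H).relIndex T := by
          rw [← e1, ← e2, ← e3]; ring
        refine Nat.dvd_of_mul_dvd_mul_left (Nat.card_pos (α := (O ⊔ H : Subgroup G))) ?_
        rw [← e4, (O ⊔ H).card_mul_index]
        exact Subgroup.card_subgroup_dvd_card _
      exact h1.trans (Subgroup.index_dvd_of_le le_sup_right)
    exact hq.ne_one (Nat.eq_one_of_dvd_coprimes hHall hqH hqi)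
  obtain ⟨t, ht, htO⟩ := SetLike.not_le_iff_exists.1 hi'
  obtain ⟨o, ho, x, hx, e⟩ := mem_sup_of_normal_left.1 (hTle (mem_sup_left ht))
  have hxT : x ∈ T := by
    have : x = o⁻¹ * t := by rw [← e]; group
    rw [this]
    exact mul_mem (mem_sup_right (inv_mem ho)) (mem_sup_left ht)
  have hx1 : x ≠ 1 := by rintro rfl; exact htO (by rw [← e, mul_one]; exact ho)
  have htop : O ⊔ normalizer (H : Set G) = ⊤ := by
    refine eq_top_iff.2 fun g _ => ?_
    have hTn : T.Normal := inferInstance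
    have hw : g * x * g⁻¹ ∈ O ⊔ H := hTle (hTn.conj_mem x hxT g)
    have hwH : (g * x * g⁻¹) ^ Nat.card H = 1 := by
      rw [conj_pow, orderOf_dvd_iff_pow_eq_one.1 (Subgroup.orderOf_dvd_natCard _ hx), mul_one,
        mul_inv_cancel]
    obtain ⟨m, hm, hmH⟩ := exists_conj_into hO hw hwH
    have hmg : m * g ∈ normalizer (H : Set G) :=
      TIHall.mem_normalizer_of_conj hTI hx hx1 (by simpa [mul_assoc] using hmH)
    have : g = m⁻¹ * (m * g) := by group
    rw [this]
    exact mul_mem (mem_sup_left (inv_mem hm)) (mem_sup_right hmg)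
  refine ⟨htop, normalizer_eq_top_iff.1 (top_le_iff.1 ?_)⟩
  rw [← htop]
  refine sup_le ((le_sup_left : O ≤ O ⊔ H).trans le_normalizer) fun g hg => ?_
  have hOn : g ∈ normalizer (O : Set G) := by rw [normalizer_eq_top]; exact mem_top g
  rw [mem_normalizer_iff_map_conj_eq, Subgroup.map_sup, mem_normalizer_iff_map_conj_eq.1 hOn,
    mem_normalizer_iff_map_conj_eq.1 hg]

omit [Finite G] in
/-- TI is inherited by overgroups inside `Y`. -/
theorem isTISubset_subgroupOf {H Y : Subgroup G} (hHY : H ≤ Y) (hTI : Cfsg.IsTISubset (H : Set G)) :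
    Cfsg.IsTISubset ((H.subgroupOf Y : Subgroup Y) : Set Y) := by
  intro g hg x hx hgx
  by_contra hx1
  apply hg
  have h := TIHall.mem_normalizer_of_conj hTI (mem_subgroupOf.1 hx) (fun h => hx1 (Subtype.ext h))
    (mem_subgroupOf.1 hgx)
  rw [← subgroupOf_normalizer_eq hHY]
  exact h

/-- A TI Hall subgroup with abelian Sylow `2`-subgroups, not centralising `O`, is a Z-group. -/
theorem isZGroup {H O : Subgroup G} (hTI : Cfsg.IsTISubset (H : Set G))
    [O.Normal] (hO : (Nat.card O).Coprime (Nat.card H)) (hON : ¬ O ≤ normalizer (H : Set G))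
    (h2 : ∀ P : Sylow 2 H, IsMulCommutative (P : Subgroup H)) : IsZGroup H := by
  classical
  set Y := O ⊔ H with hY
  have hHY : H ≤ Y := le_sup_right
  have hOY : O ≤ Y := le_sup_left
  set H0 := H.subgroupOf Y
  set O0 := O.subgroupOf Y
  have hOn : O0.Normal := inferInstance
  have e0 : H0 ≃* H := subgroupOfEquivOfLe hHY
  have hdis : O0 ⊓ H0 = ⊥ := by
    rw [eq_bot_iff_forall]
    rintro x ⟨h1, h2'⟩
    exact Subtype.ext (mem_bot.1 ((disjoint_of_coprime_natCard hO).eq_bot ▸
      mem_inf.2 ⟨mem_subgroupOf.1 h1, mem_subgroupOf.1 h2'⟩))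
  have hc : O0.IsComplement' H0 := by
    refine isComplement'_of_disjoint_and_mul_eq_univ (disjoint_iff.2 hdis)
      (Set.eq_univ_of_forall fun y => ?_)
    obtain ⟨o, ho, h, hh, e⟩ := mem_sup_of_normal_left.1 y.2
    exact ⟨⟨o, hOY ho⟩, mem_subgroupOf.2 ho, ⟨h, hHY hh⟩, mem_subgroupOf.2 hh, Subtype.ext e⟩
  have hMc : Nat.card O0 = H0.index := hc.index_eq_card.symm
  have hnn : ¬ H0.Normal := by
    intro h
    exact hON (hOY.trans ((normal_subgroupOf_iff_le_normalizer hHY).1 h))
  have hHall : (Nat.card H0).Coprime H0.index := by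
    rw [← hMc, Nat.card_congr e0.toEquiv, Nat.card_congr (subgroupOfEquivOfLe hOY).toEquiv]
    exact hO.symm
  obtain ⟨F, hFg, hFf, C, hC, ⟨e⟩⟩ := TIHall.isFrobeniusComplement_of_complement
    (isTISubset_subgroupOf hHY hTI) hHall hOn hc hMc hnn
  obtain ⟨N, -, hN1, hCN, hfpf, -, -⟩ := FrobRealize.FPF.exists_fpf_kernel hC
  let f : H ≃* C := e0.symm.trans e
  have hZ : IsZGroup C := by
    refine ⟨fun p hp P => ?_⟩
    have := Fact.mk hp
    rcases FrobRealize.FPF.sylow_cyclic_or_quaternion hN1 hCN hfpf P with h | ⟨rfl, -⟩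
    · exact h
    · set P' : Subgroup F := (P : Subgroup C).map C.subtype
      let eP : (P : Subgroup C) ≃* P' := equivMapOfInjective _ C.subtype C.subtype_injective
      have hPc : IsMulCommutative (P : Subgroup C) := by
        have h := h2 (P.mapSurjective (f := f.symm.toMonoidHom) f.symm.surjective)
        refine ⟨⟨fun a b => Subtype.ext (f.symm.injective ?_)⟩⟩
        simp only [Subgroup.coe_mul, map_mul]
        exact congrArg Subtype.val (h.is_comm.comm ⟨f.symm a, mem_map_of_mem _ a.2⟩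
          ⟨f.symm b, mem_map_of_mem _ b.2⟩)
      have hc' : IsMulCommutative P' := ⟨⟨fun a b => eP.symm.injective (by
        rw [map_mul, map_mul]; exact hPc.is_comm.comm _ _)⟩⟩
      have := FrobRealize.FPF.isCyclic_of_comm hN1 ((map_subtype_le _).trans hCN)
        (fun a ha => hfpf a (map_subtype_le _ ha)) hc'
      exact isCyclic_of_surjective eP.symm eP.symm.surjective
  exact IsZGroup.of_injective (f := f.toMonoidHom) f.injective

end CfsgLib.PGroup.TISeparable
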