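import Cfsg.Agent.Lib.PGroup.SteinbergSU

/-!
Root elements of `SU_n` at arbitrary places, the radicals of the minimal parabolic subgroups and generation of the
unitriangular subgroup by conjugates of the simple root groups.
-/

set_option autoImplicit false
set_option linter.unusedSectionVars false

namespace CfsgLib.PGroup.SUElements

open Matrix CfsgLib.Classical CfsgLib.PGroup.UnitriangularSL CfsgLib.PGroup.SplitMonomial CfsgLib.PGroup.SUModel
  CfsgLib.PGroup.SURoots CfsgLib.PGroup.SteinbergSU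

variable {F : Type*} [Field F] [Fintype F] {σ : F →+* F} {n : ℕ} (D : Datum σ)

theorem injective_of_four {p q : Fin n} (h1 : p ≠ q) (h2 : p ≠ Fin.rev q) (h3 : p ≠ Fin.rev p) (h4 : q ≠ Fin.rev q) :
    Function.Injective ![p, q, Fin.rev q, Fin.rev p] := by
  have h5 : q ≠ Fin.rev p := fun e => h2 (by rw [e, Fin.rev_rev])
  have h6 : Fin.rev q ≠ Fin.rev p := Fin.rev_injective.ne h1.symm
  intro i j h
  fin_cases i <;> fin_cases j <;>
    simp [h1, h2, h3, h4, h5, h6, h1.symm, h2.symm, h3.symm, h4.symm, h5.symm, h6.symm] at h ⊢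

theorem rev_of_four (p q : Fin n) (i : Fin 4) :
    ![p, q, Fin.rev q, Fin.rev p] (Fin.rev i) = Fin.rev (![p, q, Fin.rev q, Fin.rev p] i) := by
  fin_cases i <;> simp

/-- A short root element at arbitrary places. -/
def elS {p q : Fin n} (h1 : p ≠ q) (h2 : p ≠ Fin.rev q) (h3 : p ≠ Fin.rev p) (h4 : q ≠ Fin.rev q) (c : F) :
    SUJ σ n :=
  embU ![p, q, Fin.rev q, Fin.rev p] (injective_of_four h1 h2 h3 h4) (rev_of_four p q) (x4 D c)

theorem elS_coe {p q : Fin n} (h1 : p ≠ q) (h2 : p ≠ Fin.rev q) (h3 : p ≠ Fin.rev p) (h4 : q ≠ Fin.rev q) (c : F) :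
    (elS D h1 h2 h3 h4 c).1.1 = 1 + Matrix.single p q c + Matrix.single (Fin.rev q) (Fin.rev p) (-σ c) := by
  have e : (x4 D c).1.1 - 1 = Matrix.single 0 1 c + Matrix.single 2 3 (-σ c) := by
    rw [x4_coe]
    ext a b
    fin_cases a <;> fin_cases b <;> simp
  show (slEmbed ![p, q, Fin.rev q, Fin.rev p] (injective_of_four h1 h2 h3 h4) (x4 D c).1).1 = _
  rw [slEmbed_coe, e, Matrix.mul_add, Matrix.add_mul, incMat_mul_single_mul, incMat_mul_single_mul, add_assoc]
  rfl

theorem injective_of_two {j : Fin n} (h : j ≠ Fin.rev j) : Function.Injective ![j, Fin.rev j] := by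
  intro a b e
  fin_cases a <;> fin_cases b <;> simp [h, h.symm] at e ⊢

theorem rev_of_two (j : Fin n) (i : Fin 2) : ![j, Fin.rev j] (Fin.rev i) = Fin.rev (![j, Fin.rev j] i) := by
  fin_cases i <;> simp

/-- A long root element at an arbitrary place. -/
def elT {j : Fin n} (h : j ≠ Fin.rev j) (b : F) (hb : b + σ b = 0) : SUJ σ n :=
  embU ![j, Fin.rev j] (injective_of_two h) (rev_of_two j) (x2 b hb)

theorem elT_coe {j : Fin n} (h : j ≠ Fin.rev j) (b : F) (hb : b + σ b = 0) :
    (elT h b hb).1.1 = 1 + Matrix.single j (Fin.rev j) b := by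
  have e : (x2 b hb).1.1 - 1 = Matrix.single 0 1 b := by
    show !![1, b; 0, 1] - 1 = _
    ext a c
    fin_cases a <;> fin_cases c <;> simp
  show (slEmbed ![j, Fin.rev j] (injective_of_two h) (x2 b hb).1).1 = _
  rw [slEmbed_coe, e, incMat_mul_single_mul]
  rfl

theorem injective_of_three {j M : Fin n} (h : j ≠ Fin.rev j) (hM : Fin.rev M = M) :
    Function.Injective ![j, M, Fin.rev j] := by
  have h1 : j ≠ M := fun e => h (by rw [e, hM])
  have h2 : Fin.rev j ≠ M := fun e => h1 (Fin.rev_injective (e.trans hM.symm))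
  intro a b e
  fin_cases a <;> fin_cases b <;> simp [h, h.symm, h1, h1.symm, h2, h2.symm] at e ⊢

theorem rev_of_three {j M : Fin n} (hM : Fin.rev M = M) (i : Fin 3) :
    ![j, M, Fin.rev j] (Fin.rev i) = Fin.rev (![j, M, Fin.rev j] i) := by
  fin_cases i <;> simp [hM]

/-- A middle root element at an arbitrary place. -/
def elM (hσ : IsConjugation σ) {j M : Fin n} (h : j ≠ Fin.rev j) (hM : Fin.rev M = M) (a b : F)
    (hab : b + σ b + a * σ a = 0) : SUJ σ n :=
  embU ![j, M, Fin.rev j] (injective_of_three h hM) (rev_of_three hM) (x3 hσ a b hab)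

theorem elM_coe (hσ : IsConjugation σ) {j M : Fin n} (h : j ≠ Fin.rev j) (hM : Fin.rev M = M) (a b : F)
    (hab : b + σ b + a * σ a = 0) : (elM hσ h hM a b hab).1.1 =
      1 + Matrix.single j M a + Matrix.single M (Fin.rev j) (-σ a) + Matrix.single j (Fin.rev j) b := by
  have e : (x3 hσ a b hab).1.1 - 1 = Matrix.single 0 1 a + Matrix.single 1 2 (-σ a) + Matrix.single 0 2 b := by
    show !![1, a, b; 0, 1, -σ a; 0, 0, 1] - 1 = _
    ext x y
    fin_cases x <;> fin_cases y <;> simp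
  show (slEmbed ![j, M, Fin.rev j] (injective_of_three h hM) (x3 hσ a b hab).1).1 = _
  rw [slEmbed_coe, e]
  simp only [Matrix.mul_add, Matrix.add_mul, incMat_mul_single_mul, add_assoc]
  rfl

theorem one_add_single_eq_zero {p q a b : Fin n} {c : F} (hab : a ≠ b) (h : ¬ (a = p ∧ b = q)) :
    (1 : Matrix (Fin n) (Fin n) F) a b + Matrix.single p q c a b = 0 := by
  rw [Matrix.one_apply_ne hab, Matrix.single_apply, if_neg (fun e => h ⟨e.1.symm, e.2.symm⟩), add_zero]

/-- An element with the support of a short root element is one. -/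
theorem eq_elS {p q : Fin n} (h1 : p ≠ q) (h2 : p ≠ Fin.rev q) (h3 : p ≠ Fin.rev p) (h4 : q ≠ Fin.rev q)
    {y : SUJ σ n} (hd : ∀ a, y.1.1 a a = 1)
    (hs : ∀ a b, a ≠ b → y.1.1 a b ≠ 0 → (a = p ∧ b = q) ∨ (a = Fin.rev q ∧ b = Fin.rev p)) :
    y = elS D h1 h2 h3 h4 (y.1.1 p q) := by
  have hne : Fin.rev q ≠ Fin.rev p := Fin.rev_injective.ne h1.symm
  have hrel : y.1.1 (Fin.rev q) (Fin.rev p) = -σ (y.1.1 p q) := by
    have h := uni_iff.1 y.2 q (Fin.rev p)
    rw [Fin.rev_rev, if_neg h1.symm, Fintype.sum_eq_add p q h1] at h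
    · rw [hd, hd, map_one, mul_one, one_mul] at h
      have h' := congrArg σ h
      rw [map_add, D.conj.invol, map_zero] at h'
      linear_combination h'
    · intro i hi
      by_contra h0
      rcases hs i q hi.2 (left_ne_zero_of_mul h0) with ⟨e, -⟩ | ⟨-, e⟩
      · exact hi.1 e
      · exact h2 (by rw [e, Fin.rev_rev])
  refine ext' (Matrix.ext fun a b => ?_)
  rw [elS_coe, Matrix.add_apply, Matrix.add_apply]
  by_cases hab : a = b
  · subst hab
    rw [hd, Matrix.one_apply_eq, Matrix.single_apply, Matrix.single_apply,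
      if_neg (fun e => h1 (e.1.trans e.2.symm)), if_neg (fun e => hne (e.1.trans e.2.symm)), add_zero, add_zero]
  by_cases e1 : a = p ∧ b = q
  · obtain ⟨rfl, rfl⟩ := e1
    simp [Matrix.one_apply_ne hab, Matrix.single_apply, h2.symm]
  by_cases e2 : a = Fin.rev q ∧ b = Fin.rev p
  · obtain ⟨rfl, rfl⟩ := e2
    simp [hrel, Matrix.one_apply_ne hab, Matrix.single_apply, h2]
  rw [one_add_single_eq_zero hab e1, zero_add, Matrix.single_apply, if_neg (fun e => e2 ⟨e.1.symm, e.2.symm⟩)]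
  by_contra h0
  rcases hs a b hab h0 with e | e
  exacts [e1 e, e2 e]

theorem eq_elT {j : Fin n} (h : j ≠ Fin.rev j) {y : SUJ σ n} (hd : ∀ a, y.1.1 a a = 1)
    (hs : ∀ a b, a ≠ b → y.1.1 a b ≠ 0 → a = j ∧ b = Fin.rev j) :
    ∃ hb : y.1.1 j (Fin.rev j) + σ (y.1.1 j (Fin.rev j)) = 0, y = elT h (y.1.1 j (Fin.rev j)) hb := by
  have hrel : y.1.1 j (Fin.rev j) + σ (y.1.1 j (Fin.rev j)) = 0 := by
    have h' := uni_iff.1 y.2 (Fin.rev j) (Fin.rev j)
    rw [Fin.rev_rev, if_neg h.symm, Fintype.sum_eq_add j (Fin.rev j) h] at h'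
    · simpa only [hd, Fin.rev_rev, map_one, mul_one, one_mul] using h'
    · intro i hi
      by_contra h0
      exact hi.1 (hs i _ hi.2 (left_ne_zero_of_mul h0)).1
  refine ⟨hrel, ext' (Matrix.ext fun a b => ?_)⟩
  rw [elT_coe, Matrix.add_apply]
  by_cases hab : a = b
  · subst hab
    rw [hd, Matrix.one_apply_eq, Matrix.single_apply, if_neg (fun e => h (e.1.trans e.2.symm)), add_zero]
  by_cases e1 : a = j ∧ b = Fin.rev j
  · obtain ⟨rfl, rfl⟩ := e1
    simp [Matrix.one_apply_ne hab, Matrix.single_apply]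
  rw [one_add_single_eq_zero hab e1]
  by_contra h0
  exact e1 (hs a b hab h0)

theorem eq_elM {j M : Fin n} (h : j ≠ Fin.rev j) (hM : Fin.rev M = M) {y : SUJ σ n} (hd : ∀ a, y.1.1 a a = 1)
    (hs : ∀ a b, a ≠ b → y.1.1 a b ≠ 0 →
      (a = j ∧ b = M) ∨ (a = M ∧ b = Fin.rev j) ∨ (a = j ∧ b = Fin.rev j)) :
    ∃ hb : y.1.1 j (Fin.rev j) + σ (y.1.1 j (Fin.rev j)) + y.1.1 j M * σ (y.1.1 j M) = 0,
      y = elM D.conj h hM (y.1.1 j M) (y.1.1 j (Fin.rev j)) hb := by
  have h1 : j ≠ M := fun e => h (by rw [e, hM])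
  have h2 : Fin.rev j ≠ M := fun e => h1 (Fin.rev_injective (e.trans hM.symm))
  have hrel : y.1.1 M (Fin.rev j) = -σ (y.1.1 j M) := by
    have h' := uni_iff.1 y.2 M (Fin.rev j)
    rw [Fin.rev_rev, if_neg h1.symm, Fintype.sum_eq_add j M h1] at h'
    · rw [hd, hd, hM, map_one, mul_one, one_mul] at h'
      have h'' := congrArg σ h'
      rw [map_add, D.conj.invol, map_zero] at h''
      linear_combination h''
    · intro i hi
      by_contra h0
      rcases hs i M hi.2 (left_ne_zero_of_mul h0) with e | e | e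
      exacts [hi.1 e.1, h2 e.2.symm, h2 e.2.symm]
  have hrel2 : y.1.1 j (Fin.rev j) + σ (y.1.1 j (Fin.rev j)) + y.1.1 j M * σ (y.1.1 j M) = 0 := by
    have h' := uni_iff.1 y.2 (Fin.rev j) (Fin.rev j)
    rw [Fin.rev_rev, if_neg h.symm,
      ← Finset.sum_subset (Finset.subset_univ ({j, M, Fin.rev j} : Finset (Fin n))) ?_] at h'
    · rw [Finset.sum_insert (by simp [h1, h]), Finset.sum_insert (by simp [h2.symm]), Finset.sum_singleton,
        hM, Fin.rev_rev] at h'
      simp only [hd, map_one, one_mul, mul_one, hrel, map_neg, D.conj.invol] at h'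
      linear_combination h'
    · intro i _ hi
      simp only [Finset.mem_insert, Finset.mem_singleton, not_or] at hi
      by_contra h0
      rcases hs i _ hi.2.2 (left_ne_zero_of_mul h0) with e | e | e
      exacts [h2 e.2, hi.2.1 e.1, hi.1 e.1]
  refine ⟨hrel2, ext' (Matrix.ext fun a b => ?_)⟩
  rw [elM_coe, Matrix.add_apply, Matrix.add_apply, Matrix.add_apply]
  by_cases hab : a = b
  · subst hab
    rw [hd, Matrix.one_apply_eq]
    simp only [Matrix.single_apply]
    rw [if_neg (fun e => h1 (e.1.trans e.2.symm)), if_neg (fun e => h2 (e.2.trans e.1.symm)),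
      if_neg (fun e => h (e.1.trans e.2.symm))]
    simp
  rw [Matrix.one_apply_ne hab, zero_add]
  simp only [Matrix.single_apply]
  by_cases e1 : a = j ∧ b = M
  · obtain ⟨rfl, rfl⟩ := e1; simp [h1.symm, h2]
  by_cases e2 : a = M ∧ b = Fin.rev j
  · obtain ⟨rfl, rfl⟩ := e2; simp [hrel, h1, h2.symm]
  by_cases e3 : a = j ∧ b = Fin.rev j
  · obtain ⟨rfl, rfl⟩ := e3; simp [h1.symm, h2.symm]
  rw [if_neg (fun e => e1 ⟨e.1.symm, e.2.symm⟩), if_neg (fun e => e2 ⟨e.1.symm, e.2.symm⟩),
    if_neg (fun e => e3 ⟨e.1.symm, e.2.symm⟩), add_zero, add_zero]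
  by_contra h0
  rcases hs a b hab h0 with e | e | e
  exacts [e1 e, e2 e, e3 e]

/-- Entries of a monomial conjugate. -/
theorem conj_inv_support {S : SUJ σ n} {π : Equiv.Perm (Fin n)} (hS : Monom S.1.1 π) {x : SUJ σ n}
    (hx : ∀ a, x.1.1 a a = 1) :
    (∀ a, (S⁻¹ * x * S).1.1 a a = 1) ∧ ∀ a b, (S⁻¹ * x * S).1.1 a b ≠ 0 → x.1.1 (π a) (π b) ≠ 0 := by
  have hinv : Monom (S⁻¹).1.1 π⁻¹ := hS.of_inv (det_ne S) (by rw [← coe_mul, mul_inv_cancel]; rfl)
  have e := fun a b => conj_monom_apply hinv x (π a) (π b)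
  simp only [inv_inv, show ∀ a, π⁻¹ (π a) = a from π.symm_apply_apply] at e
  refine ⟨fun a => ?_, fun a b h => ?_⟩
  · rw [e, hx, mul_one]
    have h1 := hinv.mul_apply_perm S.1.1 (π a) a
    rw [← coe_mul, inv_mul_cancel, show π⁻¹ (π a) = a from π.symm_apply_apply a] at h1
    rw [← h1]
    exact Matrix.one_apply_eq a
  · rw [e] at h
    exact right_ne_zero_of_mul (left_ne_zero_of_mul h)

/-- The places moved below the diagonal by a simple reflection. -/
def Inv (i : ι n) (a b : Fin n) : Prop := a < b ∧ sperm i b < sperm i a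

theorem Inv.cases_short {k : Short n} {a b : Fin n} (h : Inv (.inl k : ι n) a b) :
    (a = k.1 ∧ b = k1 k) ∨ (a = Fin.rev (k1 k) ∧ b = Fin.rev k.1) := by
  obtain ⟨hab, hπ⟩ := h
  have h1 := sperm_short_val k a
  have h2 := sperm_short_val k b
  rw [Fin.lt_def] at hab hπ
  simp only [Fin.ext_iff, Fin.val_rev, k1_val]
  have := k.2; have := a.2; have := b.2
  omega

theorem Inv.cases_mid {c : Mid2 n ⊕ Mid3 n} {a b : Fin n} (h : Inv (.inr c : ι n) a b) :
    (posI (.inr c : ι n) : ℕ) ≤ a ∧ (a : ℕ) < b ∧ (b : ℕ) + posI (.inr c : ι n) + 1 ≤ n := by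
  obtain ⟨hab, hπ⟩ := h
  have h1 := sperm_mid_val c a
  have h2 := sperm_mid_val c b
  rw [Fin.lt_def] at hab hπ
  have := a.2; have := b.2
  have := (posI (.inr c : ι n)).2
  rcases c with c | c <;>
  · have := c.2
    simp only [posI] at h1 h2 ⊢
    omega

theorem Inv.interval {i : ι n} {a b l : Fin n} (h : Inv i a b) (h1 : a ≤ l) (h2 : l ≤ b) :
    (l = a ∨ Inv i a l) ∧ (l = b ∨ Inv i l b) := by
  obtain ⟨hab, hπ⟩ := h
  rw [Fin.le_def] at h1 h2
  simp only [Inv, Fin.lt_def, Fin.ext_iff] at hab hπ ⊢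
  have := a.2; have := b.2; have := l.2
  rcases i with k | c
  · have := sperm_short_val k a
    have := sperm_short_val k b
    have := sperm_short_val k l
    have := k.2
    omega
  · have := sperm_mid_val c a
    have := sperm_mid_val c b
    have := sperm_mid_val c l
    have := (posI (.inr c : ι n)).2
    rcases c with c | c <;>
    · have := c.2
      simp only [posI] at *
      omega

theorem Inv.order {i : ι n} {a b : Fin n} (h : Inv i a b) (ρ : Equiv.Perm (Fin n))
    (hρ : ∀ x, ρ (Fin.rev x) = Fin.rev (ρ x)) (h0 : ρ (posI i) < ρ (posJ i)) : ρ a < ρ b := by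
  rcases i with k | c
  · rcases h.cases_short with ⟨rfl, rfl⟩ | ⟨rfl, rfl⟩
    · exact h0
    · rw [hρ, hρ]; exact Fin.rev_lt_rev.2 h0
  · obtain ⟨h1, h2, h3⟩ := h.cases_mid
    have hJ : posJ (.inr c : ι n) = Fin.rev (posI (.inr c : ι n)) := by rcases c with c | c <;> rfl
    rw [hJ, hρ] at h0
    set x := posI (.inr c : ι n) with hx
    have hc : 2 * ((x : ℕ) + 1) = n ∨ 2 * ((x : ℕ) + 1) + 1 = n := by
      rcases c with c | c
      exacts [Or.inl c.2, Or.inr c.2]
    rw [Fin.lt_def, Fin.val_rev] at h0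
    by_cases ha : a = x
    · rw [ha]
      by_cases hb : b = Fin.rev x
      · rw [hb, hρ, Fin.lt_def, Fin.val_rev]; exact h0
      · have hb' := Fin.val_ne_of_ne hb
        rw [Fin.val_rev] at hb'
        have hbf : Fin.rev b = b := Fin.ext (by rw [Fin.val_rev]; omega)
        have := congrArg Fin.val (hρ b)
        rw [hbf, Fin.val_rev] at this
        rw [Fin.lt_def]; omega
    · have ha' := Fin.val_ne_of_ne ha
      have haf : Fin.rev a = a := Fin.ext (by rw [Fin.val_rev]; omega)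
      have hb : b = Fin.rev x := Fin.ext (by rw [Fin.val_rev]; omega)
      subst hb
      have := congrArg Fin.val (hρ a)
      rw [haf, Fin.val_rev] at this
      rw [hρ, Fin.lt_def, Fin.val_rev]; omega

/-- The radicals of the minimal parabolic subgroups. -/
noncomputable def Y (i : ι n) : Subgroup (SUJ σ n) :=
  U σ n ⊓ (U σ n).comap (MulAut.conj (ν (s D i))).toMonoidHom

theorem mem_Y {i : ι n} {u : SUJ σ n} :
    u ∈ Y D i ↔ u ∈ U σ n ∧ ∀ a b, Inv i a b → u.1.1 a b = 0 := by
  have hS : Monom (ν (s D i)).1.1 (sperm i) := by have := monom_ν (s D i); rwa [s_perm] at this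
  refine ⟨fun h => ⟨h.1, fun a b hab => ?_⟩, fun h => ⟨h.1, conj_mem_U hS h.1 fun a b h1 h2 => h.2 a b ⟨h1, h2⟩⟩⟩
  have h0 : (ν (s D i) * u * (ν (s D i))⁻¹).1.1 (sperm i a) (sperm i b) = 0 := (mem_U_iff.1 h.2).2 _ _ hab.2
  rw [conj_monom_apply hS] at h0
  have hinv : Monom ((ν (s D i))⁻¹).1.1 (sperm i)⁻¹ := hS.of_inv (det_ne _) (by rw [← coe_mul, mul_inv_cancel]; rfl)
  have h2 := hinv.entry_ne_zero (det_ne _) (sperm i b)
  rw [show (sperm i)⁻¹ (sperm i b) = b from (sperm i).symm_apply_apply b] at h2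
  exact ((mul_eq_zero.1 ((mul_eq_zero.1 h0).resolve_right h2)).resolve_left (hS.entry_ne_zero (det_ne _) a))

theorem Y_le (i : ι n) : Y D i ≤ U σ n := inf_le_left

theorem Y_normal {i : ι n} {v u : SUJ σ n} (hv : v ∈ U σ n) (hu : u ∈ Y D i) : v * u * v⁻¹ ∈ Y D i := by
  obtain ⟨huU, hu0⟩ := (mem_Y D).1 hu
  refine (mem_Y D).2 ⟨mul_mem (mul_mem hv huU) (inv_mem hv), fun a b hab => ?_⟩
  have hv' := inv_mem hv
  have key : ∀ l, ((v * u).1.1 a l) * (v⁻¹).1.1 l b = v.1.1 a l * (v⁻¹).1.1 l b := by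
    intro l
    by_cases hl : b < l
    · rw [(mem_U_iff.1 hv').2 l b hl, mul_zero, mul_zero]
    congr 1
    rw [coe_mul, Matrix.mul_apply, Finset.sum_eq_single l, (mem_U_iff.1 huU).1, mul_one]
    · intro x _ hx
      rcases lt_or_ge x a with h1 | h1
      · rw [(mem_U_iff.1 hv).2 a x h1, zero_mul]
      rcases lt_or_ge l x with h2 | h2
      · rw [(mem_U_iff.1 huU).2 x l h2, mul_zero]
      have hal : a ≤ l := h1.trans h2
      rcases (hab.interval hal (not_lt.1 hl)).1 with e | e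
      · exact absurd (le_antisymm h2 (e ▸ h1)) hx
      · rcases (e.interval h1 h2).2 with e' | e'
        · exact absurd e' hx
        · rw [hu0 x l e', mul_zero]
    · simp
  rw [coe_mul, Matrix.mul_apply, Finset.sum_congr rfl fun l _ => key l, ← Matrix.mul_apply, ← coe_mul, mul_inv_cancel]
  exact Matrix.one_apply_ne hab.1.ne

theorem Y_conj_s {i : ι n} {u : SUJ σ n} (hu : u ∈ Y D i) : ν (s D i) * u * (ν (s D i))⁻¹ ∈ Y D i := by
  refine ⟨hu.2, ?_⟩
  have h := B_conj_U _ ((splitData D).sq i) u hu.1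
  show ν (s D i) * (ν (s D i) * u * (ν (s D i))⁻¹) * (ν (s D i))⁻¹ ∈ U σ n
  convert h using 1
  group

theorem mem_Y_of_conj {i : ι n} {u : SUJ σ n} (hu : u ∈ U σ n) (h : (ν (s D i))⁻¹ * u * ν (s D i) ∈ U σ n) :
    u ∈ Y D i := by
  refine ⟨hu, ?_⟩
  have h' := B_conj_U _ ((splitData D).sq i) _ h
  show ν (s D i) * u * (ν (s D i))⁻¹ ∈ U σ n
  convert h' using 1
  group

theorem Y_conj_diag {i : ι n} {d u : SUJ σ n} (hd : Monom d.1.1 1) (hu : u ∈ Y D i) : d * u * d⁻¹ ∈ Y D i := by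
  obtain ⟨huU, hu0⟩ := (mem_Y D).1 hu
  refine (mem_Y D).2 ⟨B_conj_U _ (mem_B_of_monom hd) u huU, fun a b hab => ?_⟩
  have := conj_monom_apply hd u a b
  simp only [Equiv.Perm.one_apply] at this
  rw [this, hu0 a b hab, mul_zero, zero_mul]

include D in
/-- The unitriangular subgroup is generated by conjugates of the simple root groups. -/
theorem U_le_of_roots (H : Subgroup (SUJ σ n))
    (hH : ∀ (i : ι n) (x : SUJ σ n), x ∈ R D i → ∀ t : N σ n, (ν t)⁻¹ * x * ν t ∈ U σ n → (ν t)⁻¹ * x * ν t ∈ H) :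
    U σ n ≤ H := by
  classical
  suffices key : ∀ (d : ℕ) (t : N σ n),
      (Finset.univ.filter fun p : Fin n × Fin n => p.1 < p.2 ∧ t.1.1.1 p.1 < t.1.1.1 p.2).card = d →
      ∀ u ∈ U σ n, ν t * u * (ν t)⁻¹ ∈ U σ n → u ∈ H from
    fun u hu => key _ 1 rfl u hu (by simpa using hu)
  intro d
  induction d using Nat.strong_induction_on with
  | _ d ih =>
    intro t hd u hu hut
    set π := t.1.1.1 with hπ
    by_cases hfix : ∃ i, π.symm (posI i) < π.symm (posJ i)
    · obtain ⟨i, hi⟩ := hfix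
      obtain ⟨y, x, hx, he, hy⟩ := split_root D i _ hut
      have hxB := (fix_iff D t i).2 hi x hx
      have hxU : (ν t)⁻¹ * x * ν t ∈ U σ n := mem_U_iff.2
        ⟨(conj_inv_support (monom_ν t) (root_diag D hx)).1, fun a b hab => mem_B.1 hxB a b hab⟩
      have hy' : (ν t)⁻¹ * y * ν t = u * ((ν t)⁻¹ * x * ν t)⁻¹ := by
        rw [show y = ν t * u * (ν t)⁻¹ * x⁻¹ by rw [he, mul_inv_cancel_right]]
        group
      have hyU : (ν t)⁻¹ * y * ν t ∈ U σ n := hy' ▸ mul_mem hu (inv_mem hxU)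
      have hperm : (s D i * t).1.1.1 = sperm i * π := by
        show (s D i).1.1.1 * t.1.1.1 = _
        rw [s_perm]
      have hlt : (Finset.univ.filter fun p : Fin n × Fin n =>
          p.1 < p.2 ∧ (s D i * t).1.1.1 p.1 < (s D i * t).1.1.1 p.2).card < d := by
        rw [← hd]
        refine Finset.card_lt_card (Finset.ssubset_iff_of_subset ?_ |>.2 ?_)
        · intro p hp
          simp only [Finset.mem_filter, Finset.mem_univ, true_and, hperm, Equiv.Perm.mul_apply] at hp ⊢
          refine ⟨hp.1, lt_of_le_of_ne (not_lt.1 fun hgt => ?_) (π.injective.ne hp.1.ne)⟩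
          have := Inv.order (i := i) ⟨hgt, hp.2⟩ π.symm (N_symm_rev t) hi
          simp only [Equiv.symm_apply_apply] at this
          exact lt_asymm hp.1 this
        · refine ⟨(π.symm (posI i), π.symm (posJ i)), by simp [hi, ← hπ, posI_lt_posJ i], ?_⟩
          rw [Finset.mem_filter, hperm]
          simp [(sperm_swap i).1, (sperm_swap i).2, (posI_lt_posJ i).le]
      have h1 := ih _ hlt (s D i * t) rfl _ hyU (by
        convert hy using 1
        rw [map_mul]
        group)
      have h2 := H.mul_mem h1 (hH i x hx t hxU)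
      rwa [hy', inv_mul_cancel_right] at h2
    · push Not at hfix
      have hrev : ∀ a b : Fin n, a < b → π b < π a := by
        have hsucc : ∀ i : ι n, π.symm (posJ i) < π.symm (posI i) := fun i =>
          lt_of_le_of_ne (hfix i) (π.symm.injective.ne (posI_lt_posJ i).ne')
        -- composing with the reversal gives an element fixing every simple root
        rcases Nat.eq_zero_or_pos n with hn | hn
        · subst hn; exact fun a => a.elim0
        obtain ⟨J, hJ⟩ := exists_monom D.conj hn (Fin.revPerm (n := n)) (fun j => rfl)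
        let n₀ : N σ n := ⟨((Fin.revPerm, 1), J), hJ, fun x => by simpa using proj_rev x⟩
        have h1 : (t * n₀).1.1.1 = 1 := perm_eq_one_of_fix _ fun i => by
          rw [show (t * n₀).1.1.1 = π * Fin.revPerm from rfl]
          simp only [Equiv.Perm.mul_def, Equiv.symm_trans_apply, Fin.revPerm_symm, Fin.revPerm_apply]
          exact Fin.rev_lt_rev.2 (hsucc i)
        intro a b hab
        have e : ∀ x, π (Fin.rev x) = x := fun x => congrArg (fun f : Equiv.Perm (Fin n) => f x) h1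
        have e' : ∀ x, π x = Fin.rev x := fun x => by
          have := e (Fin.rev x)
          rwa [Fin.rev_rev] at this
        rw [e', e']
        exact Fin.rev_lt_rev.2 hab
      have hu1 : u = 1 := by
        refine ext' (Matrix.ext fun a b => ?_)
        show u.1.1 a b = (1 : Matrix (Fin n) (Fin n) F) a b
        rcases lt_trichotomy a b with h | rfl | h
        · rw [Matrix.one_apply_ne h.ne]
          have h0 := (mem_U_iff.1 hut).2 (π a) (π b) (hrev a b h)
          rw [conj_monom_apply (monom_ν t)] at h0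
          have hinv : Monom ((ν t)⁻¹).1.1 π⁻¹ := (t⁻¹).2.1
          have h2 := hinv.entry_ne_zero (det_ne _) (π b)
          rw [show π⁻¹ (π b) = b from π.symm_apply_apply b] at h2
          exact ((mul_eq_zero.1 ((mul_eq_zero.1 h0).resolve_right h2)).resolve_left
            ((monom_ν t).entry_ne_zero (det_ne _) a))
        · rw [(mem_U_iff.1 hu).1, Matrix.one_apply_eq]
        · rw [(mem_U_iff.1 hu).2 a b h, Matrix.one_apply_ne h.ne']
      rw [hu1]
      exact one_mem H

end CfsgLib.PGroup.SUElements
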