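import Cfsg.Agent.Lib.PGroup.BigCell
import Cfsg.Agent.Lib.KnownB.Steinberg.Alt
import Cfsg.Agent.Lib.Chevalley.Torus

/-!
The big cell `U w₀ B` of a Chevalley group over a finite field.
-/

set_option autoImplicit false
set_option linter.unusedSectionVars false
set_option linter.style.haveILetI false

namespace CfsgLib.PGroup.ChevBigCell

open Cfsg CfsgLib.Blocks CfsgLib.Chevalley CfsgLib.Chevalley.Tbl
open CfsgLib.PGroup.BigCell (InUAU IsBigCell)
attribute [local instance] Classical.propDecidable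

/-- The subgroup generated by root elements, inside the group. -/
noncomputable def gen (T : Tbl) (F : Type*) [Field F] (P : ℕ → Prop) : Subgroup ↥(T.datum.group F) :=
  (T.rootGen F P).subgroupOf (T.datum.group F)

/-- `w` sends every positive root to a negative one. -/
def Long {T : Tbl} (w : Equiv.Perm (Fin T.n)) : Prop := ∀ s : Fin T.n, T.half ≤ s.val → (w s).val < T.half

/-- The elements of `N` over the longest element. -/
def cellReps {T : Tbl} (hT : T.Valid) (F : Type*) [Field F] : Set ↥(T.datum.group F) :=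
  {a | (a : GL T.I F) ∈ T.datum.monomialSubgroup F ∧ ∃ w ∈ T.WP hT, T.Mono (a : GL T.I F) w ∧ Long w}

variable {T : Tbl} {F : Type*} [Field F]

theorem mem_gen {P : ℕ → Prop} {g : ↥(T.datum.group F)} : g ∈ gen T F P ↔ (g : GL T.I F) ∈ T.rootGen F P :=
  Subgroup.mem_subgroupOf

variable (hT : T.Valid)
include hT

theorem rootGen_le_group (P : ℕ → Prop) : T.rootGen F P ≤ T.datum.group F :=
  rootGen_le fun _ hr _ t => xU_mem_group hT hr t

theorem long_unique {v w : Equiv.Perm (Fin T.n)} (hv : v ∈ T.WP hT) (hw : w ∈ T.WP hT) (hlv : Long v)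
    (hlw : Long w) : v = w := by
  refine (inv_mul_eq_one.1 (eq_one_of_pos hT (mul_mem (inv_mem hw) hv) fun i => ?_)).symm
  by_contra hlt
  set x := (w⁻¹ * v) (T.simpF hT i) with hx
  have h1 : T.half ≤ (T.negF x).val := le_negF (not_le.1 hlt)
  have h2 := hlw _ h1
  rw [WP_negF hT hw, hx, Equiv.Perm.mul_apply, show w (w⁻¹ (v (T.simpF hT i))) = v (T.simpF hT i) from
    w.apply_symm_apply _] at h2
  exact absurd (le_negF (hlv _ (half_le_simpF hT i))) (not_le.2 h2)

theorem long_inv {w : Equiv.Perm (Fin T.n)} (hlw : Long w) : Long w⁻¹ := fun s hs => by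
  by_contra hge
  have := hlw _ (not_lt.1 hge)
  rw [show w (w⁻¹ s) = s from w.apply_symm_apply s] at this
  omega

theorem long_neg {w : Equiv.Perm (Fin T.n)} (hw : w ∈ T.WP hT) (hlw : Long w) {s : Fin T.n}
    (hs : s.val < T.half) : T.half ≤ (w s).val := by
  have h := hlw _ (le_negF hs)
  rw [WP_negF hT hw] at h
  by_contra hlt
  exact absurd (le_negF (not_le.1 hlt)) (not_le.2 h)

theorem negSet_long {w : Equiv.Perm (Fin T.n)} (hlw : Long w) :
    T.rootGen F (T.negSet w) = T.rootGen F fun r => T.half ≤ r :=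
  rootGen_congr fun r hr => ⟨fun ⟨_, h, _⟩ => h, fun h => ⟨hr, h, hlw ⟨r, hr⟩ h⟩⟩

theorem pos_le_borel' {g : GL T.I F} (hg : g ∈ T.rootGen F fun r => T.half ≤ r) :
    g ∈ T.datum.borelSubgroup F :=
  Subgroup.mem_sup_left (by rwa [posUnipotent_rootGen hT])

/-- `B` normalises `U`. -/
theorem borel_normalizes {b x : GL T.I F} (hb : b ∈ T.datum.borelSubgroup F)
    (hx : x ∈ T.rootGen F fun r => T.half ≤ r) : b * x * b⁻¹ ∈ T.rootGen F fun r => T.half ≤ r := by
  obtain ⟨u, hu, h, hh, rfl⟩ := (mem_borel_iff hT).1 hb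
  rw [posUnipotent_rootGen hT] at hu
  have h1 := (Subgroup.mem_normalizer_iff.1 (diag_le_normalizer hT (fun r => T.half ≤ r) hh) x).1 hx
  rw [show u * h * x * (u * h)⁻¹ = u * (h * x * h⁻¹) * u⁻¹ by group]
  exact mul_mem (mul_mem hu h1) (inv_mem hu)

theorem pos_neg_eq_one {x : GL T.I F} (h1 : x ∈ T.rootGen F fun r => T.half ≤ r)
    (h2 : x ∈ T.rootGen F fun r => r < T.half) : x = 1 := by
  refine Subgroup.mem_bot.1 ((borel_inf_neg (T := T) (F := F) hT).le (Subgroup.mem_inf.2 ⟨pos_le_borel' hT h1, ?_⟩))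
  rwa [negUnipotent_rootGen hT]

theorem nU_inv {r : ℕ} (hr : r < T.n) (t : F) : (T.nU F r t)⁻¹ = T.nU F r (-t) := by
  rw [nU, nU, mul_inv_rev, mul_inv_rev, xU_inv hT hr, xU_inv hT (neg_lt' hr), mul_assoc, inv_neg, neg_neg]

theorem nU_mul_hCh {r : ℕ} (hr : r < T.n) (u d : Fˣ) :
    T.nU F r (u : F) * T.dU (T.hCh r d) = T.nU F r ((u * d⁻¹ : Fˣ) : F) := by
  set n := T.nU F r (1 : F)
  have hconj : n * T.dU (T.hCh r d) = T.dU (T.hCh r d⁻¹) * n := by
    have h1 : T.dU (T.hCh r d⁻¹) = ((T.dU (T.hCh r d) : GL T.I F))⁻¹ := by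
      rw [dU_inv]
      exact dU_congr fun s _ => by simp [hCh]
    have e : T.dU (T.hCh r d) = T.nU F r (d : F) * n⁻¹ := by rw [nU_t hT hr, mul_inv_cancel_right]
    have h2 : (T.nU F r (d : F))⁻¹ = T.dU (T.hCh r (-d)) * n := by
      rw [nU_inv hT hr, ← nU_t hT hr (-d), Units.val_neg]
    have h3 : n * n = T.dU (T.hCh r (-1)) := nU_sq hT hr
    calc n * T.dU (T.hCh r d) = n * ((T.dU (T.hCh r d⁻¹)))⁻¹ := by rw [h1, inv_inv]
      _ = n * (n * (T.nU F r ((d⁻¹ : Fˣ) : F))⁻¹) := by rw [nU_t hT hr, mul_inv_rev, mul_inv_cancel_left]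
      _ = (n * n) * (T.dU (T.hCh r (-d⁻¹)) * n) := by
        rw [nU_inv hT hr, ← mul_assoc, ← nU_t hT hr (-d⁻¹), Units.val_neg]
      _ = _ := by rw [h3, ← mul_assoc, dU_mul, hCh_mul, neg_mul_neg, one_mul]
  rw [nU_t hT hr u, mul_assoc, hconj, ← mul_assoc, dU_mul, hCh_mul, ← nU_t hT hr]

/-- The negative roots other than `-p`. -/
theorem xU_mem_normalizer_neg (hC : T.chkComm = true) {i r : ℕ} (hi : i < T.rank)
    (hr : r = T.simple i ∨ r = T.neg (T.simple i)) (t : F) :
    T.xU F r t ∈ Subgroup.normalizer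
      (T.rootGen F (fun s => s < T.half ∧ s ≠ T.neg (T.simple i)) : Set (GL T.I F)) := by
  have hp := simple_lt hT hi
  have hrn : r < T.n := by rcases hr with rfl | rfl; exacts [hp, neg_lt' hp]
  refine xU_mem_normalizer hT hC hrn (fun s hs ⟨hsp, hsne⟩ hsr => ?_) t
  have hpp : T.half ≤ T.simple i := isPos_iff.mp (simple_pos hT hi)
  refine ⟨?_, fun c hc => ?_⟩
  · rcases hr with rfl | rfl
    · exact hsne
    · rw [neg_neg' hp]; omega
  obtain ⟨k, hk, hki, hpos⟩ := ne_simple_neg hT hi (neg_lt' hs) (by unfold neg n at *; omega)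
    (fun e => hsne (by rw [← e, neg_neg' hs]))
  rw [co_neg hT hs hk] at hpos
  obtain ⟨-, hj, hco⟩ := commT_co hT hrn hs c hc
  have hr0 : T.co r k = 0 := by
    rcases hr with rfl | rfl
    · rw [co_simple hT hi hk, if_neg hki]
    · rw [co_neg hT hp hk, co_simple hT hi hk, if_neg hki, _root_.neg_zero]
  have hck : T.co c.1 k < 0 := by
    rw [hco k hk, hr0, mul_zero, zero_add]
    exact mul_neg_of_pos_of_neg (by exact_mod_cast hj) (by omega)
  refine ⟨?_, fun e => ?_⟩
  · by_contra hge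
    have := co_nonneg hT (commT_lt hT hrn hs c hc) (isPos_iff.mpr (not_lt.1 hge)) hk
    omega
  · rw [e, co_neg hT hp hk, co_simple hT hi hk, if_neg hki] at hck
    simp at hck

theorem xU_ne_one {r : ℕ} (hr : r < T.n) : T.xU F r (1 : F) ≠ 1 := fun h => by
  rw [← xU_zero hT hr (F := F)] at h
  exact one_ne_zero (xU_inj hT hr h)

theorem diag_induction {K : GL T.I F → Prop} (h1 : K 1)
    (hmul : ∀ (i : Fin T.rank) (c : Fˣ) (t : GL T.I F), t ∈ T.datum.diagonalSubgroup F → K t →
      K (T.dU (T.hCh (T.simple i) c) * t))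
    {h : GL T.I F} (hh : h ∈ T.datum.diagonalSubgroup F) : K h := by
  obtain ⟨f, rfl⟩ := (torusHom_range (F := F) hT).ge hh
  have e : ∀ (i : Fin T.rank) (c : Fˣ), torusHom T F (Pi.mulSingle i c) = T.dU (T.hCh (T.simple i) c) := by
    intro i c
    refine dU_congr fun s _ => ?_
    rw [Finset.prod_eq_single i (fun j _ hj => by rw [Pi.mulSingle_eq_of_ne hj, one_zpow]) (by simp),
      Pi.mulSingle_eq_same, hCh, pair_simple hT i.2]
  rw [← Finset.univ_prod_mulSingle f]
  induction (Finset.univ : Finset (Fin T.rank)) using Finset.induction_on with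
  | empty => simpa using h1
  | insert a s ha ih =>
    rw [Finset.prod_insert ha, map_mul, e]
    exact hmul a (f a) _ ((torusHom_range (F := F) hT).le ⟨_, rfl⟩) ih

variable (hC : T.chkComm = true)
include hC

theorem decomp {r r' a a' s s' : ↥(T.datum.group F)} (hr : r ∈ gen T F fun k => T.half ≤ k)
    (hr' : r' ∈ gen T F fun k => T.half ≤ k) (ha : a ∈ cellReps hT F) (ha' : a' ∈ cellReps hT F)
    (hs : s ∈ gen T F fun k => T.half ≤ k) (hs' : s' ∈ gen T F fun k => T.half ≤ k)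
    (h : r * a * s = r' * a' * s') : r = r' ∧ a = a' ∧ s = s' := by
  rw [mem_gen] at hr hr' hs hs'
  obtain ⟨haN, w, hw, hm, hlw⟩ := ha
  obtain ⟨haN', w', hw', hm', hlw'⟩ := ha'
  obtain rfl := long_unique hT hw hw' hlw hlw'
  have h' : (r : GL T.I F) * a * s = (r' : GL T.I F) * a' * s' := congrArg Subtype.val h
  have hsN : (s : GL T.I F) ∈ T.rootGen F (T.negSet w) := by rwa [negSet_long hT hlw]
  have hsN' : (s' : GL T.I F) ∈ T.rootGen F (T.negSet w) := by rwa [negSet_long hT hlw]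
  obtain ⟨hd, -⟩ := canonical_unique hT hC (pos_le_borel' hT hr) (pos_le_borel' hT hr') haN haN' hm hsN hsN' h'
  set d := (a' : GL T.I F) * (a : GL T.I F)⁻¹ with hd'
  have hdH : d ∈ T.datum.diagonalSubgroup F := by
    have := conj_diag hT haN hd
    rwa [show (a : GL T.I F) * ((a : GL T.I F)⁻¹ * a') * (a : GL T.I F)⁻¹ = d by rw [hd']; group] at this
  have e : (r : GL T.I F) * a * s = (r' : GL T.I F) * d * a * s' := by
    rw [h', hd']; group
  obtain ⟨-, h2⟩ := canonical_unique hT hC (pos_le_borel' hT hr)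
    (mul_mem (pos_le_borel' hT hr') (Subgroup.mem_sup_right hdH)) haN haN hm hsN hsN' e
  obtain ⟨hb, hu⟩ := h2 hm rfl
  have hd1 : d ∈ (⊥ : Subgroup (GL T.I F)) := by
    rw [← pos_inf_diag (T := T) (F := F) hT]
    refine Subgroup.mem_inf.2 ⟨?_, hdH⟩
    rw [show d = (r' : GL T.I F)⁻¹ * r by rw [hb]; group, posUnipotent_rootGen hT]
    exact mul_mem (inv_mem hr') hr
  rw [Subgroup.mem_bot] at hd1
  rw [hd1, mul_one] at hb
  refine ⟨Subtype.ext hb, Subtype.ext ?_, Subtype.ext hu⟩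
  rw [hd'] at hd1
  exact (mul_inv_eq_one.1 hd1).symm

theorem exists_inter (y : ↥(T.datum.group F))
    (hy : ¬ InUAU (gen T F fun k => T.half ≤ k) (cellReps hT F) y) :
    ∃ d ∈ gen T F (fun k => T.half ≤ k), d ≠ 1 ∧ y * d * y⁻¹ ∈ gen T F fun k => T.half ≤ k := by
  obtain ⟨b, hb, n, hn, w, hw, hm, u, hu, e⟩ := exists_canonical hT hC y.2
  have huU : u ∈ T.rootGen F fun k => T.half ≤ k := rootGen_mono (fun r _ h => h.2.1) hu
  by_cases hlw : Long w
  · exfalso
    obtain ⟨v, hv, h, hh, rfl⟩ := (mem_borel_iff hT).1 hb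
    rw [posUnipotent_rootGen hT] at hv
    refine hy ⟨⟨v, rootGen_le_group hT _ hv⟩, mem_gen.2 hv,
      ⟨h * n, mul_mem (diag_le_group hT hh) (monomial_le_group hT hn)⟩,
      ⟨mul_mem (diag_le_N hT hh) hn, w, hw, by simpa using (mono_diag hT hh).mul hm, hlw⟩,
      ⟨u, rootGen_le_group hT _ huU⟩, mem_gen.2 huU, Subtype.ext ?_⟩
    show (y : GL T.I F) = v * (h * n) * u
    rw [e]; group
  · simp only [Long] at hlw
    push Not at hlw
    obtain ⟨s, hs, hws⟩ := hlw
    obtain ⟨c, hc⟩ := hm.conj s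
    have hd : u⁻¹ * T.xU F s.val 1 * u ∈ T.rootGen F fun k => T.half ≤ k :=
      mul_mem (mul_mem (inv_mem huU) (xU_mem_rootGen (P := fun k => T.half ≤ k) s.2 hs 1)) huU
    refine ⟨⟨_, rootGen_le_group hT _ hd⟩, mem_gen.2 hd, fun h1 => ?_, mem_gen.2 ?_⟩
    · have h2 : u⁻¹ * T.xU F s.val 1 * u = 1 := congrArg Subtype.val h1
      refine xU_ne_one hT s.2 (F := F) ?_
      have : u * (u⁻¹ * T.xU F s.val 1 * u) * u⁻¹ = 1 := by rw [h2]; group
      rw [← this]; group
    · show (y : GL T.I F) * (u⁻¹ * T.xU F s.val 1 * u) * (y : GL T.I F)⁻¹ ∈ _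
      rw [e, show b * n * u * (u⁻¹ * T.xU F s.val 1 * u) * (b * n * u)⁻¹ =
        b * (n * T.xU F s.val 1 * n⁻¹) * b⁻¹ by group, show n * T.xU F s.val 1 = _ from (hc 1).1,
        mul_inv_cancel_right]
      exact borel_normalizes hT hb (xU_mem_rootGen (P := fun k => T.half ≤ k) (w s).2 hws _)

theorem nonempty : (cellReps hT F).Nonempty := by
  obtain ⟨n, hn, w, hm, hlw⟩ := exists_longest (F := F) hT
  obtain ⟨w', hw', hm'⟩ := exists_mono hT hn
  exact ⟨⟨n, monomial_le_group hT hn⟩, hn, w', hw', hm', (hm.unique hm').symm ▸ hlw⟩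

theorem inv_mem_reps {a : ↥(T.datum.group F)} (ha : a ∈ cellReps hT F) : a⁻¹ ∈ cellReps hT F := by
  obtain ⟨haN, w, hw, hm, hlw⟩ := ha
  exact ⟨inv_mem haN, w⁻¹, inv_mem hw, hm.inv, long_inv hT hlw⟩

variable [Fintype F] (p : ℕ) [Fact p.Prime] [CharP F p]

noncomputable local instance (H : Subgroup ↥(T.datum.group F)) : Fintype H := Fintype.ofFinite _

theorem isPGroup_gen : IsPGroup p (gen T F fun k => T.half ≤ k) := by
  rw [gen, ← posUnipotent_rootGen hT]
  exact CfsgLib.KnownB.Steinberg.isPGroup_pos hT hC p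

/-- The sum of `f` over the opposite unipotent group, translated. -/
noncomputable def negSum (f : ↥(T.datum.group F) → ℂ) (t : ↥(T.datum.group F)) : ℂ :=
  ∑ v : gen T F (fun k => k < T.half), f ((v : ↥(T.datum.group F)) * t)

section Kernel

variable {M : Ideal AlgInt} (hM : IsPModular p M) {f : ↥(T.datum.group F) → ℂ}
  (hR : ∀ y, MemLocalRing M (f y))
  (hl : ∀ u ∈ gen T F (fun k => T.half ≤ k), ∀ y, f (u * y) = f y)
  (hr : ∀ u ∈ gen T F (fun k => T.half ≤ k), ∀ y, f (y * u) = f y)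
  (h0 : ∀ y, ¬ InUAU (gen T F fun k => T.half ≤ k) (cellReps hT F) y → MemLocalIdeal M (f y))
include hM hR hl hr h0

/-- A function supported on the cell sums to zero over the radical of the opposite minimal parabolic. -/
theorem radical_sum_LI (i : Fin T.rank) {t : ↥(T.datum.group F)}
    (ht : (t : GL T.I F) ∈ T.datum.diagonalSubgroup F) :
    MemLocalIdeal M (∑ v : gen T F (fun k => k < T.half ∧ k ≠ T.neg (T.simple i)),
      f ((v : ↥(T.datum.group F)) * t)) := by
  set V := gen T F (fun k => k < T.half ∧ k ≠ T.neg (T.simple i))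
  set X := gen T F (fun k => k = T.simple i)
  have hp := simple_lt hT i.2
  have hpp : T.half ≤ T.simple i := isPos_iff.1 (simple_pos hT i.2)
  have hXU : X ≤ gen T F (fun k => T.half ≤ k) := fun x hx => mem_gen.2 (rootGen_mono (fun k _ h => h ▸ hpp) (mem_gen.1 hx))
  have hnorm : ∀ x ∈ X, ∀ v ∈ V, x * v * x⁻¹ ∈ V := by
    intro x hx v hv
    have hle : T.rootGen F (fun k => k = T.simple i) ≤ Subgroup.normalizer
        (T.rootGen F (fun k => k < T.half ∧ k ≠ T.neg (T.simple i)) : Set (GL T.I F)) :=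
      rootGen_le fun k hk e u => e ▸ xU_mem_normalizer_neg hT hC i.2 (Or.inl rfl) u
    exact mem_gen.2 ((Subgroup.mem_normalizer_iff.1 (hle (mem_gen.1 hx)) _).1 (mem_gen.1 hv))
  have htU : ∀ x ∈ gen T F (fun k => T.half ≤ k), t⁻¹ * x * t ∈ gen T F (fun k => T.half ≤ k) := fun x hx => by
    refine mem_gen.2 ?_
    have := (Subgroup.mem_normalizer_iff.1 (diag_le_normalizer hT (fun k => T.half ≤ k) (inv_mem ht)) _).1 (mem_gen.1 hx)
    simpa using this
  letI : MulAction X V :=
    { smul := fun x v => ⟨(x : ↥(T.datum.group F)) * v * (x : ↥(T.datum.group F))⁻¹, hnorm x x.2 v v.2⟩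
      one_smul := fun v => Subtype.ext (show (1 : ↥(T.datum.group F)) * v * 1⁻¹ = v by simp)
      mul_smul := fun x y v => Subtype.ext (show ((x : ↥(T.datum.group F)) * y) * v * ((x : ↥(T.datum.group F)) * y)⁻¹ =
        (x : ↥(T.datum.group F)) * ((y : ↥(T.datum.group F)) * v * (y : ↥(T.datum.group F))⁻¹) *
          (x : ↥(T.datum.group F))⁻¹ by group) }
  have h1 := sum_congr_fixedPoints hM ((isPGroup_gen hT hC p).to_le hXU) (fun v : V => f ((v : ↥(T.datum.group F)) * t))
    (fun v => hR _) (fun x v => by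
      show f ((x : ↥(T.datum.group F)) * v * (x : ↥(T.datum.group F))⁻¹ * t) = f ((v : ↥(T.datum.group F)) * t)
      rw [show (x : ↥(T.datum.group F)) * v * (x : ↥(T.datum.group F))⁻¹ * t =
        (x : ↥(T.datum.group F)) * ((v : ↥(T.datum.group F)) * t * (t⁻¹ * (x : ↥(T.datum.group F))⁻¹ * t)) by group,
        hl _ (hXU x.2), hr _ (htU _ (inv_mem (hXU x.2)))])
  have h2 : MemLocalIdeal M (∑ v : V with v ∈ MulAction.fixedPoints X V, f ((v : ↥(T.datum.group F)) * t)) := by
    refine LI.sum hM fun v hv => h0 _ fun ⟨r, hr', a, ha, s, hs, e⟩ => ?_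
    have hfix := (Finset.mem_filter.1 hv).2
    let x : ↥(T.datum.group F) := ⟨T.xU F (T.simple i) 1, xU_mem_group hT hp 1⟩
    have hxX : x ∈ X := mem_gen.2 (xU_mem_rootGen (P := fun k => k = T.simple i) hp rfl 1)
    have hfx : x * v * x⁻¹ = (v : ↥(T.datum.group F)) := congrArg Subtype.val (hfix ⟨x, hxX⟩)
    have hd : t⁻¹ * x * t ∈ gen T F (fun k => T.half ≤ k) := htU x (hXU hxX)
    have e2 : r * a * (s * (t⁻¹ * x * t)) = x * r * a * s := by
      calc r * a * (s * (t⁻¹ * x * t)) = (v : ↥(T.datum.group F)) * t * (t⁻¹ * x * t) := by rw [e]; group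
        _ = (x * v * x⁻¹) * x * t := by rw [hfx]; group
        _ = x * ((v : ↥(T.datum.group F)) * t) := by group
        _ = _ := by rw [e]; group
    obtain ⟨h3, -, -⟩ := decomp hT hC hr' (mul_mem (hXU hxX) hr') ha ha (mul_mem hs hd) hs e2
    exact xU_ne_one hT hp (congrArg Subtype.val (mul_eq_right.1 h3.symm : x = 1))
  have := LI.add hM h1 h2
  rwa [sub_add_cancel] at this

/-- The sum over the opposite unipotent group is invariant under the torus, modulo `M`. -/
theorem negSum_congr {t : ↥(T.datum.group F)} (ht : (t : GL T.I F) ∈ T.datum.diagonalSubgroup F) :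
    MemLocalIdeal M (negSum f t - negSum f 1) := by
  suffices hstep : ∀ (i : Fin T.rank) (d : Fˣ) (t t' : ↥(T.datum.group F)),
      (t : GL T.I F) ∈ T.datum.diagonalSubgroup F → (t' : GL T.I F) = T.dU (T.hCh (T.simple i) d) * t →
      MemLocalIdeal M (negSum f t' - negSum f t) by
    have key : ∀ h ∈ T.datum.diagonalSubgroup F, ∀ hg : h ∈ T.datum.group F,
        MemLocalIdeal M (negSum f ⟨h, hg⟩ - negSum f 1) := by
      intro h hh
      refine diag_induction (K := fun h => ∀ hg : h ∈ T.datum.group F,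
        MemLocalIdeal M (negSum f ⟨h, hg⟩ - negSum f 1)) hT
        (fun hg => by
          rw [show (⟨1, hg⟩ : ↥(T.datum.group F)) = 1 from rfl, sub_self]
          exact LI.zero hM)
        (fun i c t ht ih hg => LI.trans hM (hstep i c ⟨t, diag_le_group hT ht⟩ ⟨_, hg⟩ ht rfl) (ih _)) hh
    exact key _ ht t.2
  intro i d t t' ht ht'
  set α := T.simple i
  have hp : α < T.n := simple_lt hT i.2
  have hpp : T.half ≤ α := isPos_iff.1 (simple_pos hT i.2)
  set V' := gen T F (fun k => k < T.half ∧ k ≠ T.neg α)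
  have hna : T.neg α < T.half := negF_lt (s := T.simpF hT i) hpp
  let xn : F → ↥(T.datum.group F) := fun c => ⟨T.xU F (T.neg α) c, xU_mem_group hT (neg_lt' hp) c⟩
  let xp : F → ↥(T.datum.group F) := fun c => ⟨T.xU F α c, xU_mem_group hT hp c⟩
  let nn : F → ↥(T.datum.group F) := fun c => ⟨T.nU F α c, nU_mem_group hT hp c⟩
  -- the coordinates
  let ι : V' × F → gen T F (fun k => k < T.half) := fun q => ⟨(q.1 : ↥(T.datum.group F)) * xn q.2,
    mul_mem (mem_gen.2 (rootGen_mono (fun k _ h => h.1) (mem_gen.1 q.1.2)))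
      (mem_gen.2 (xU_mem_rootGen (P := fun k => k < T.half) (neg_lt' hp) hna _))⟩
  have hι : Function.Bijective ι := by
    refine ⟨fun q q' h => ?_, fun v => ?_⟩
    · have h' : ((q.1 : ↥(T.datum.group F)) : GL T.I F) * T.xU F (T.neg α) q.2 =
          ((q'.1 : ↥(T.datum.group F)) : GL T.I F) * T.xU F (T.neg α) q'.2 := congrArg (fun z => ((z.1 : ↥(T.datum.group F)) : GL T.I F)) h
      set a : GL T.I F := ((q'.1 : ↥(T.datum.group F)) : GL T.I F)⁻¹ * ((q.1 : ↥(T.datum.group F)) : GL T.I F)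
      have ha : a = T.xU F (T.neg α) (q'.2 + -q.2) := by
        rw [← xU_add hT (neg_lt' hp), ← xU_inv hT (neg_lt' hp), eq_mul_inv_iff_mul_eq, mul_assoc, h', inv_mul_cancel_left]
      have haV : a ∈ T.rootGen F (fun k => k < T.half ∧ k ≠ T.neg α) :=
        mul_mem (inv_mem (mem_gen.1 q'.1.2)) (mem_gen.1 q.1.2)
      set n := T.nU F α 1
      have hn : n ∈ Subgroup.normalizer (T.rootGen F (fun k => k < T.half ∧ k ≠ T.neg α) : Set (GL T.I F)) :=
        mul_mem (mul_mem (xU_mem_normalizer_neg hT hC i.2 (Or.inl rfl) _)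
          (xU_mem_normalizer_neg hT hC i.2 (Or.inr rfl) _)) (xU_mem_normalizer_neg hT hC i.2 (Or.inl rfl) _)
      have h1 := (Subgroup.mem_normalizer_iff.1 (inv_mem hn) a).1 haV
      rw [inv_inv] at h1
      have h2 : n⁻¹ * T.xU F (T.neg α) (q'.2 + -q.2) * n = T.xU F α (-(q'.2 + -q.2)) := by
        have := nU_conj hT hp (-(q'.2 + -q.2)) (F := F)
        rw [neg_neg] at this
        rw [mul_assoc, ← this, inv_mul_cancel_left]
      have h3 := pos_neg_eq_one hT (x := n⁻¹ * a * n)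
        (by rw [ha, h2]; exact xU_mem_rootGen (P := fun k => T.half ≤ k) hp hpp _)
        (rootGen_mono (fun k _ h => h.1) h1)
      rw [show n⁻¹ * a * n = n⁻¹ * a * (n⁻¹)⁻¹ by rw [inv_inv], conj_eq_one_iff] at h3
      have h4 : q'.2 + -q.2 = 0 := xU_inj hT (neg_lt' hp) (by rw [← ha, h3, xU_zero hT (neg_lt' hp)])
      refine Prod.ext (Subtype.ext (Subtype.ext (inv_mul_eq_one.1 h3).symm)) ?_
      linear_combination -h4
    · have hle : T.rootGen F (fun k => k < T.half) ≤
          T.rootGen F (fun k => k < T.half ∧ k ≠ T.neg α) ⊔ T.rootGen F (fun k => k = T.neg α) :=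
        rootGen_le fun k hk hlt u => by
          by_cases e : k = T.neg α
          · exact Subgroup.mem_sup_right (xU_mem_rootGen (P := fun k => k = T.neg α) hk e u)
          · exact Subgroup.mem_sup_left (xU_mem_rootGen (P := fun k => k < T.half ∧ k ≠ T.neg α) hk ⟨hlt, e⟩ u)
      have hn : T.rootGen F (fun k => k = T.neg α) ≤ Subgroup.normalizer
          (T.rootGen F (fun k => k < T.half ∧ k ≠ T.neg α) : Set (GL T.I F)) :=
        rootGen_le fun k hk e u => e ▸ xU_mem_normalizer_neg hT hC i.2 (Or.inr rfl) u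
      have := hle (mem_gen.1 v.2)
      rw [← SetLike.mem_coe, Subgroup.coe_mul_of_right_le_normalizer_left _ _ hn] at this
      obtain ⟨a, ha, x, hx, e⟩ := this
      rw [SetLike.mem_coe, rootGen_eq_singleton hT (neg_lt' hp), mem_rootSubgroup_iff hT (neg_lt' hp)] at hx
      obtain ⟨c, rfl⟩ := hx
      exact ⟨(⟨⟨a, rootGen_le_group hT _ ha⟩, mem_gen.2 ha⟩, c), Subtype.ext (Subtype.ext e)⟩
  let Ψ : ↥(T.datum.group F) → ℂ := fun y => ∑ v : V', f ((v : ↥(T.datum.group F)) * y)
  -- away from zero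
  have hne : ∀ (c : Fˣ) (s : ↥(T.datum.group F)), (s : GL T.I F) ∈ T.datum.diagonalSubgroup F →
      (∑ v : V', f ((v : ↥(T.datum.group F)) * xn ((-c⁻¹ : Fˣ) : F) * s)) = Ψ (nn (c : F) * s) := by
    intro c s hs
    have e : xn ((-c⁻¹ : Fˣ) : F) = xp (-(c : F)) * nn (c : F) * xp (-(c : F)) := by
      refine Subtype.ext ?_
      show T.xU F (T.neg α) _ = T.xU F α (-(c : F)) * T.nU F α (c : F) * T.xU F α (-(c : F))
      rw [nU, ← xU_inv hT hp]
      push_cast
      group
    have hxp : xp (-(c : F)) ∈ gen T F (fun k => T.half ≤ k) :=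
      mem_gen.2 (xU_mem_rootGen (P := fun k => T.half ≤ k) hp hpp _)
    have hxN : ∀ v, v ∈ V' → ∀ u : F, xp u * v * (xp u)⁻¹ ∈ V' := fun v hv u =>
      mem_gen.2 ((Subgroup.mem_normalizer_iff.1 (xU_mem_normalizer_neg hT hC i.2 (Or.inl rfl) u) _).1 (mem_gen.1 hv))
    let σ : V' ≃ V' :=
      { toFun := fun v => ⟨(xp (-(c : F)))⁻¹ * v * xp (-(c : F)), by
          have h := hxN v v.2 (c : F)
          have e3 : xp (c : F) = (xp (-(c : F)))⁻¹ := Subtype.ext (by
            show T.xU F α (c : F) = (T.xU F α (-(c : F)))⁻¹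
            rw [xU_inv hT hp, neg_neg])
          rwa [e3, inv_inv] at h⟩
        invFun := fun v => ⟨xp (-(c : F)) * v * (xp (-(c : F)))⁻¹, hxN v v.2 _⟩
        left_inv := fun v => Subtype.ext (by simp [mul_assoc])
        right_inv := fun v => Subtype.ext (by simp [mul_assoc]) }
    refine Fintype.sum_equiv σ _ _ fun v => ?_
    have hst : s⁻¹ * xp (-(c : F)) * s ∈ gen T F (fun k => T.half ≤ k) := by
      refine mem_gen.2 ?_
      have := (Subgroup.mem_normalizer_iff.1 (diag_le_normalizer hT (fun k => T.half ≤ k) (inv_mem hs)) _).1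
        (mem_gen.1 hxp)
      simpa using this
    have hcalc : (v : ↥(T.datum.group F)) * xn ((-c⁻¹ : Fˣ) : F) * s =
        xp (-(c : F)) * (((σ v : V') : ↥(T.datum.group F)) * (nn (c : F) * s) * (s⁻¹ * xp (-(c : F)) * s)) := by
      rw [e, show ((σ v : V') : ↥(T.datum.group F)) = (xp (-(c : F)))⁻¹ * v * xp (-(c : F)) from rfl]
      group
    rw [hcalc, hl _ hxp, hr _ hst]
  have hsum : ∀ s : ↥(T.datum.group F), (s : GL T.I F) ∈ T.datum.diagonalSubgroup F →
      MemLocalIdeal M (negSum f s - ∑ c : Fˣ, Ψ (nn (c : F) * s)) := by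
    intro s hs
    have e1 : negSum f s = ∑ c : F, ∑ v : V', f ((v : ↥(T.datum.group F)) * xn c * s) := by
      rw [negSum, ← Fintype.sum_bijective ι hι (fun q => f ((q.1 : ↥(T.datum.group F)) * xn q.2 * s)) _ (fun q => rfl),
        Fintype.sum_prod_type_right]
    have e2 : (∑ c : F, ∑ v : V', f ((v : ↥(T.datum.group F)) * xn c * s)) =
        Ψ s + ∑ c : Fˣ, Ψ (nn (c : F) * s) := by
      rw [← Finset.add_sum_erase Finset.univ _ (Finset.mem_univ (0 : F))]
      congr 1
      · refine Finset.sum_congr rfl fun v _ => ?_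
        rw [show xn 0 = 1 from Subtype.ext (xU_zero hT (neg_lt' hp)), mul_one]
      · refine (Finset.sum_bij (fun (c : Fˣ) _ => ((-c⁻¹ : Fˣ) : F)) (fun c _ => by simp) (fun a _ b _ h => ?_)
          (fun b hb => ?_) (fun c _ => (hne c s hs).symm)).symm
        · exact inv_injective (neg_injective (Units.ext h))
        · exact ⟨(-Units.mk0 b (Finset.ne_of_mem_erase hb))⁻¹, Finset.mem_univ _, by simp⟩
    rw [e1, e2, add_sub_cancel_right]
    exact radical_sum_LI hT hC p hM hR hl hr h0 i hs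
  have htd : (t' : GL T.I F) ∈ T.datum.diagonalSubgroup F := by
    rw [ht', diagonalSubgroup_eq hT]
    refine mul_mem (Subgroup.subset_closure ⟨α, hp, d, rfl⟩) ?_
    rwa [← diagonalSubgroup_eq hT]
  refine LI.trans hM (hsum t' htd) ?_
  have e : ∑ c : Fˣ, Ψ (nn (c : F) * t') = ∑ c : Fˣ, Ψ (nn (c : F) * t) := by
    refine Fintype.sum_equiv (Equiv.mulRight d⁻¹) _ _ fun c => ?_
    congr 1
    refine Subtype.ext ?_
    show T.nU F α (c : F) * (t' : GL T.I F) = T.nU F α ((c * d⁻¹ : Fˣ) : F) * (t : GL T.I F)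
    rw [ht', ← mul_assoc, nU_mul_hCh hT hp]
  rw [e]
  exact LI.sub_comm (hsum t ht)

/-- Summing over a translate of `U` forgets the cell representative. -/
theorem kernel {a g g' : ↥(T.datum.group F)} (ha : a ∈ cellReps hT F) (hg : g ∈ cellReps hT F)
    (hg' : g' ∈ cellReps hT F) :
    MemLocalIdeal M ((∑ s : gen T F (fun k => T.half ≤ k), f (g * (s : ↥(T.datum.group F)) * a⁻¹)) -
      ∑ s : gen T F (fun k => T.half ≤ k), f (g' * (s : ↥(T.datum.group F)) * a⁻¹)) := by
  have key : ∀ g : ↥(T.datum.group F), g ∈ cellReps hT F → MemLocalIdeal M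
      ((∑ s : gen T F (fun k => T.half ≤ k), f (g * (s : ↥(T.datum.group F)) * a⁻¹)) - negSum f 1) := by
    intro g hg
    obtain ⟨hgN, w, hw, hm, hlw⟩ := hg
    obtain ⟨haN, wa, hwa, hma, hla⟩ := ha
    have ht : ((g * a⁻¹ : ↥(T.datum.group F)) : GL T.I F) ∈ T.datum.diagonalSubgroup F := by
      refine mem_diag_of_mono_one hT (mul_mem hgN (inv_mem haN)) ?_
      have := hm.mul hma.inv
      rwa [long_unique hT hw hwa hlw hla, mul_inv_cancel] at this
    have e : (∑ s : gen T F (fun k => T.half ≤ k), f (g * (s : ↥(T.datum.group F)) * a⁻¹)) =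
        negSum f (g * a⁻¹) := by
      let σ : gen T F (fun k => T.half ≤ k) ≃ gen T F (fun k => k < T.half) :=
        { toFun := fun s => ⟨g * s * g⁻¹, mem_gen.2 (conj_mem_rootGen hT hm (fun k h => hlw k h) (mem_gen.1 s.2))⟩
          invFun := fun v => ⟨g⁻¹ * v * g, mem_gen.2 (by
            have := conj_mem_rootGen hT hm.inv (Q := fun k => T.half ≤ k)
              (fun k h => long_neg hT (inv_mem hw) (long_inv hT hlw) h) (mem_gen.1 v.2)
            rwa [inv_inv] at this)⟩
          left_inv := fun s => Subtype.ext (by simp [mul_assoc])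
          right_inv := fun v => Subtype.ext (by simp [mul_assoc]) }
      refine Fintype.sum_equiv σ _ _ fun s => ?_
      show f _ = f (g * (s : ↥(T.datum.group F)) * g⁻¹ * (g * a⁻¹))
      congr 1
      group
    rw [e]
    exact negSum_congr hT hC p hM hR hl hr h0 ht
  exact LI.trans hM (key g hg) (LI.sub_comm (key g' hg'))

end Kernel

theorem factorization_card :
    p ^ (Nat.card ↥(T.datum.group F)).factorization p = Fintype.card F ^ T.half := by
  obtain ⟨c, hc, hcard⟩ := CfsgLib.KnownB.Steinberg.exists_card_parabolic (F := F) hT hC p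
    (Finset.range T.rank)
  obtain ⟨m, -, hm⟩ := FiniteField.card F p
  rw [CfsgLib.KnownB.Steinberg.parabolicIn_range hT hC, Subgroup.card_top] at hcard
  rw [hm, ← pow_mul] at hcard ⊢
  have hc0 : c ≠ 0 := fun h => hc (h ▸ dvd_zero p)
  rw [hcard, Nat.factorization_mul hc0 (pow_ne_zero _ (Fact.out : p.Prime).ne_zero), Finsupp.add_apply,
    Nat.factorization_eq_zero_of_not_dvd hc, zero_add, Nat.Prime.factorization_pow Fact.out,
    Finsupp.single_eq_same]

/-- The big cell. -/
theorem isBigCell : IsBigCell p (gen T F fun k => T.half ≤ k) (cellReps hT F) where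
  card_U := by
    rw [factorization_card hT hC p, gen, ← posUnipotent_rootGen hT]
    exact CfsgLib.KnownB.Steinberg.card_pos hT hC
  nonempty := nonempty hT hC
  inv_mem _ ha := inv_mem_reps hT hC ha
  decomp := decomp hT hC
  inter := exists_inter hT hC
  kernel {inst} {M} hM f hR hl hr h0 a ha g hg g' hg' := by
    convert kernel hT hC p hM hR hl hr h0 ha hg hg'

end CfsgLib.PGroup.ChevBigCell
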