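import Cfsg.Agent.Lib.PGroup.SzSolubilizerCount

set_option autoImplicit false

/-!
The solubilizers of the elements of `Sz(q)`, `q = 2^n` with `n` an odd prime.
-/

namespace CfsgLib.PGroup.SzSol

open Cfsg.Lie CfsgLib.KnownB.SzElem CfsgLib.KnownB.Suzuki CfsgLib.KnownB.TICount

variable {F : Type*} [Field F] [Fintype F] {e : ℕ}

local notation "q" => Fintype.card F

/-- The elements generating a solvable subgroup with `x`. -/
def Sol (x : Sz F e) : Set (Sz F e) :=
  {y | Group.IsSolvable (Subgroup.closure ({x, y} : Set (Sz F e)))}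

/-- Representatives of the three classes of tori. -/
structure Bases (hp : Params F e) where
  T : Fin 3 → Subgroup (Sz F e)
  k : Fin 3 → ℕ
  tor : ∀ i, IsTor (T i) (k i)
  zero_eq : T 0 = hGroup hp.twist
  k_zero : k 0 = 2
  k_one : k 1 = 4
  k_two : k 2 = 4
  card_one : Nat.card (T 1) = q + e + 1
  card_two : Nat.card (T 2) = q - e + 1
  cover : torusSet F e ⊆ conjSet (T 1) ∪ conjSet (T 2)

lemma two_mul_e_le (hp : Params F e) : 2 * e ≤ q := by
  have h4 : 4 ≤ e := by
    by_contra h
    push Not at h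
    have := hp.sq
    have := hp.eight
    interval_cases e <;> omega
  nlinarith [hp.sq]

lemma even_e (hp : Params F e) : 2 ∣ e :=
  (Nat.prime_two.dvd_mul.1 (show 2 ∣ e * e from hp.sq ▸ dvd_mul_right 2 _)).elim id id

lemma exists_bases (hp : Params F e) : Nonempty (Bases hp) := by
  classical
  obtain ⟨A, B, hA, hB, hcA, hcB, hnA, hnB, hcover⟩ := exists_tori hp
  have hu : ∃ u : Fˣ, u ≠ 1 := Fintype.exists_ne_of_one_lt_card (by
    classical
    rw [Fintype.card_units]
    have := hp.eight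
    omega) 1
  have ht : ∀ (T : Subgroup (Sz F e)), IsTorus T →
      Nat.card (Subgroup.normalizer (T : Set (Sz F e))) = 4 * Nat.card T → IsTor T 4 := by
    intro T hT hn
    refine ⟨fun a => hT.centralizer_eq hp, fun h => odd_sq_add_one hp (h.trans (hT.card_dvd hp)),
      ?_, Or.inr rfl, hn⟩
    have := hT.five_le_card hp
    omega
  refine ⟨⟨![hGroup hp.twist, A, B], ![2, 4, 4], ?_, rfl, rfl, rfl, rfl, hcA, hcB, hcover⟩⟩
  intro i
  fin_cases i
  · refine ⟨?_, card_hGroup hp.twist ▸ odd_sub_one hp, ?_, Or.inl rfl, ?_⟩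
    · rintro _ ⟨t, rfl⟩ ht1
      exact centralizer_H hp.twist fun h => ht1 (by rw [h, map_one])
    · show 1 < Nat.card (hGroup hp.twist)
      have := hp.eight
      rw [card_hGroup]
      omega
    · show Nat.card (Subgroup.normalizer (hGroup hp.twist : Set (Sz F e))) =
        2 * Nat.card (hGroup hp.twist)
      rw [card_hGroup, card_normalizer_hGroup hp.twist hu]
  · exact ht A hA hnA
  · exact ht B hB hnB

variable {hp : Params F e} (D : Bases hp)

lemma Bases.card_zero : Nat.card (D.T 0) = q - 1 := by rw [D.zero_eq, card_hGroup]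

lemma Bases.card_injective {i j : Fin 3} (h : Nat.card (D.T i) = Nat.card (D.T j)) : i = j := by
  have := two_mul_e_le hp
  have := hp.eight
  have : 4 ≤ e := by nlinarith [hp.sq, hp.eight]
  have h0 := D.card_zero
  have h1 := D.card_one
  have h2 := D.card_two
  have key : ∀ i j : Fin 3, i < j → Nat.card (D.T i) ≠ Nat.card (D.T j) := by
    have k01 : Nat.card (D.T 0) ≠ Nat.card (D.T 1) := by omega
    have k02 : Nat.card (D.T 0) ≠ Nat.card (D.T 2) := by omega
    have k12 : Nat.card (D.T 1) ≠ Nat.card (D.T 2) := by omega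
    intro i j hij
    fin_cases i <;> fin_cases j <;>
      first | exact k01 | exact k02 | exact k12 | exact absurd hij (by decide)
  rcases lt_trichotomy i j with hij | hij | hij
  · exact absurd h (key i j hij)
  · exact hij
  · exact absurd h.symm (key j i hij)

lemma Bases.cases {x : Sz F e} (hx : x ≠ 1) :
    x ∈ conjSet (uGroup hp.twist) ∨ ∃ i, x ∈ conjSet (D.T i) := by
  rcases exists_cases hp hx with h | h | h
  · exact Or.inl h
  · exact Or.inr ⟨0, D.zero_eq ▸ h⟩
  · rcases D.cover h with h | h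
    · exact Or.inr ⟨1, h⟩
    · exact Or.inr ⟨2, h⟩

/-! ### Solvable subgroups -/

omit [Fintype F] in
lemma borel_isSolvable (he : Twist F e) : Group.IsSolvable (borel F e) := by
  have h1 : (torusHom he).ker ≤ (uGroup he).subgroupOf (borel F e) := by
    rintro ⟨g, hg⟩ hk
    obtain ⟨a, b, t, rfl⟩ := exists_borel_eq he g hg
    rw [MonoidHom.mem_ker, torusHom_apply] at hk
    subst hk
    rw [Subgroup.mem_subgroupOf]
    show P he a b * H e he 1 ∈ uGroup he
    rw [H_one, mul_one]
    exact P_mem_uGroup he a b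
  have : Group.IsSolvable (uGroup he) := by
    refine ⟨⟨2, ?_⟩⟩
    rw [derivedSeries_succ, derivedSeries_one, Subgroup.commutator_eq_bot_iff_le_centralizer]
    have key : commutator (uGroup he) ≤ Subgroup.center (uGroup he) := by
      rw [commutator_def, Subgroup.commutator_le]
      rintro ⟨_, ⟨a, b⟩, rfl⟩ - ⟨_, ⟨c, d⟩, rfl⟩ -
      rw [Subgroup.mem_center_iff]
      rintro ⟨_, ⟨u, v⟩, rfl⟩
      apply Subtype.ext
      simp only [commutatorElement_def, Subgroup.coe_mul, Subgroup.coe_inv, P_inv, P_mul]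
      have h2 := he.two
      have hz : a + c + a + c = 0 := by linear_combination (a + c) * h2
      rw [hz, zero_pow (Nat.ne_zero_of_lt he.one_lt)]
      congr 1 <;> grind
    exact fun g hg => Subgroup.mem_centralizer_iff.2 fun h _ =>
      Subgroup.mem_center_iff.1 (key hg) h
  exact solvable_of_ker_le_range (Subgroup.inclusion (uGroup_le_borel he)) (torusHom he)
    (fun g hg => ⟨⟨g, h1 hg⟩, rfl⟩)

omit [Fintype F] in
lemma IsTor.normalizer_isSolvable [Finite F] {T : Subgroup (Sz F e)} {k : ℕ} (hT : IsTor T k) :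
    Group.IsSolvable (Subgroup.normalizer (T : Set (Sz F e))) := by
  set N := Subgroup.normalizer (T : Set (Sz F e))
  have : Group.IsSolvable T := Group.isSolvable_of_comm fun a b => Subtype.ext (hT.comm a.2 b.2)
  have hidx : Nat.card (N ⧸ T.subgroupOf N) = k := by
    apply Nat.eq_of_mul_eq_mul_right (show 0 < Nat.card T from Nat.card_pos)
    conv_lhs => arg 2; rw [← Nat.card_congr
      (Subgroup.subgroupOfEquivOfLe (Subgroup.le_normalizer (H := T))).toEquiv]
    rw [← Subgroup.card_eq_card_quotient_mul_card_subgroup, hT.ncard]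
  have : Fact (Nat.Prime 2) := ⟨Nat.prime_two⟩
  have hQ : IsPGroup 2 (N ⧸ T.subgroupOf N) := by
    rcases hT.k_cases with hk | hk
    · exact IsPGroup.of_card (n := 1) (by rw [hidx, hk]; rfl)
    · exact IsPGroup.of_card (n := 2) (by rw [hidx, hk]; rfl)
  have := hQ.isNilpotent
  exact solvable_of_ker_le_range (Subgroup.inclusion (Subgroup.le_normalizer (H := T)))
    (QuotientGroup.mk' (T.subgroupOf N)) (by
      rw [QuotientGroup.ker_mk']
      rintro ⟨g, hg⟩ hgT
      exact ⟨⟨g, hgT⟩, rfl⟩)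

omit [Fintype F] in
lemma isSolvable_of_le {M N : Subgroup (Sz F e)} (h : M ≤ N) (hN : Group.IsSolvable N) :
    Group.IsSolvable M :=
  solvable_of_solvable_injective (Subgroup.inclusion_injective h)

lemma not_isSolvable (hp : Params F e) : ¬ Group.IsSolvable (Sz F e) := by
  classical
  intro h
  obtain ⟨u, hu⟩ : ∃ u : Fˣ, u ≠ 1 := Fintype.exists_ne_of_one_lt_card (by
    classical
    rw [Fintype.card_units]
    have := hp.eight
    omega) 1
  have := isSimpleGroup hp.twist ⟨u, hu⟩
  have hc := IsSimpleGroup.comm_iff_isSolvable.2 h (W hp.twist) (H e hp.twist u)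
  refine W_notMem_borel hp.twist (hGroup_le_borel hp.twist ?_)
  rw [← centralizer_H hp.twist hu, Subgroup.mem_centralizer_singleton_iff]
  exact hc

include D in
lemma cover {n : ℕ} (hn : n.Prime) (hF : q = 2 ^ n) (hodd : ∃ m, n = 2 * m + 1)
    {M : Subgroup (Sz F e)} (hM : Group.IsSolvable M) :
    (∃ g, M ≤ cj g (borel F e)) ∨
      ∃ i g, M ≤ Subgroup.normalizer (cj g (D.T i) : Set (Sz F e)) := by
  rcases subgroup_shape hp M with ⟨g, hg⟩ | ⟨x, hx1, hx2, hxM⟩ | ⟨K, hK, g, hg⟩
  · refine Or.inl ⟨g⁻¹, fun y hy => mem_cj.2 ?_⟩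
    rw [inv_inv]
    exact hg (mem_conjSub.2 hy)
  · refine Or.inr ?_
    rcases D.cases hx1 with ⟨-, c, hc⟩ | ⟨i, -, c, hc⟩
    · refine absurd ?_ hx2
      have h1 := (uGroup_isPGroup hp.twist).to_le (centralizer_le_uGroup hp.twist hc
        (fun h => hx1 (conj_eq_one_iff.1 h)))
      rw [show c * x * c⁻¹ = MulAut.conj c x from rfl, ← map_centralizer_singleton] at h1
      exact h1.of_equiv ((Subgroup.centralizer {x}).equivMapOfInjective _
        (MulAut.conj c).injective).symm
    · refine ⟨i, c⁻¹, ?_⟩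
      have hC : cj c⁻¹ (D.T i) = Subgroup.centralizer {x} := by
        rw [← (D.tor i).cent _ hc (fun h => hx1 (conj_eq_one_iff.1 h)), cj,
          map_centralizer_singleton]
        simp [mul_assoc]
      rw [hC]
      exact hxM
  · exfalso
    obtain ⟨m, rfl⟩ := hodd
    obtain ⟨j, hj, hjd⟩ := subfield_odd_power hF K
    have hj1 : 2 * j + 1 ≠ 1 := by
      intro h
      rw [hj, h] at hK
      omega
    have hjn := ((Nat.dvd_prime hn).1 hjd).resolve_left hj1
    have hKtop : K = ⊤ := subfield_eq_of_card (by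
      rw [hj, hjn, ← hF, ← Nat.card_eq_fintype_card]
      exact Nat.card_congr (Equiv.Set.univ F).symm)
    have htop : (subHom K.subtype hp.twist).range = ⊤ := by
      have : Fintype K := Fintype.ofFinite K
      refine Subgroup.eq_top_of_card_eq _ ?_
      rw [← Nat.card_congr (MonoidHom.ofInjective (subHom_injective K.subtype hp.twist)).toEquiv,
        card_Sz (twist_comap K.subtype hp.twist), card_Sz hp.twist,
        ← Nat.card_eq_fintype_card (α := K), hj, hjn, hF]
    have hMtop : M = ⊤ := by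
      rw [htop] at hg
      exact eq_top_iff.2 fun y _ => mem_conjSub.1 (hg.symm ▸ Subgroup.mem_top (g * y * g⁻¹))
    subst hMtop
    exact not_isSolvable hp (solvable_of_surjective
      (f := (Subgroup.topEquiv (G := Sz F e)).toMonoidHom) (Subgroup.topEquiv (G := Sz F e)).surjective)

/-- The numerical hypothesis. -/
structure PrimeDeg (F : Type*) [Fintype F] : Prop where
  out : ∃ m, (2 * m + 1).Prime ∧ Fintype.card F = 2 ^ (2 * m + 1)

include D in
lemma mem_Sol_iff (hd : PrimeDeg F) {x y : Sz F e} :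
    y ∈ Sol x ↔ (∃ g, x ∈ cj g (borel F e) ∧ y ∈ cj g (borel F e)) ∨
      ∃ i g, x ∈ Subgroup.normalizer (cj g (D.T i) : Set (Sz F e)) ∧
        y ∈ Subgroup.normalizer (cj g (D.T i) : Set (Sz F e)) := by
  obtain ⟨m, hn, hF⟩ := hd.out
  constructor
  · intro h
    rcases cover D hn hF ⟨m, rfl⟩ h with ⟨g, hg⟩ | ⟨i, g, hg⟩
    · exact Or.inl ⟨g, hg (Subgroup.subset_closure (by simp)), hg (Subgroup.subset_closure (by simp))⟩
    · exact Or.inr ⟨i, g, hg (Subgroup.subset_closure (by simp)),
        hg (Subgroup.subset_closure (by simp))⟩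
  · rintro (⟨g, hx, hy⟩ | ⟨i, g, hx, hy⟩)
    · refine isSolvable_of_le ((Subgroup.closure_le _).2 (Set.pair_subset hx hy)) ?_
      have := borel_isSolvable hp.twist
      exact solvable_of_surjective
        (f := ((borel F e).equivMapOfInjective _ (MulAut.conj g).injective).toMonoidHom)
        ((borel F e).equivMapOfInjective _ (MulAut.conj g).injective).surjective
    · exact isSolvable_of_le ((Subgroup.closure_le _).2 (Set.pair_subset hx hy))
        ((D.tor i).conj g).normalizer_isSolvable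

omit [Fintype F] in
lemma card_Sol_conj (g x : Sz F e) : Nat.card (Sol (g * x * g⁻¹)) = Nat.card (Sol x) := by
  refine (Nat.card_congr (Equiv.subtypeEquiv (MulAut.conj g).toEquiv fun y => ?_)).symm
  show Group.IsSolvable _ ↔ Group.IsSolvable (Subgroup.closure {g * x * g⁻¹, g * y * g⁻¹})
  have h : (Subgroup.closure ({x, y} : Set (Sz F e))).map (MulAut.conj g).toMonoidHom =
      Subgroup.closure {g * x * g⁻¹, g * y * g⁻¹} := by
    rw [MonoidHom.map_closure, Set.image_pair]
    rfl
  rw [← h]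
  set φ := (Subgroup.closure ({x, y} : Set (Sz F e))).equivMapOfInjective
    (MulAut.conj g).toMonoidHom (MulAut.conj g).injective
  exact ⟨fun hs => solvable_of_surjective (f := φ.toMonoidHom) φ.surjective,
    fun hs => solvable_of_surjective (f := φ.symm.toMonoidHom) φ.symm.surjective⟩

lemma coprime_orders (hp : Params F e) :
    Nat.Coprime (q ^ 2) (q - 1) ∧ Nat.Coprime (q ^ 2) (q ^ 2 + 1) ∧
      q + e + 1 ∣ q ^ 2 + 1 ∧ q - e + 1 ∣ q ^ 2 + 1 ∧ Nat.Coprime (q + e + 1) (q - e + 1) := by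
  have he := two_mul_e_le hp
  have hsq := hp.sq
  have hev := even_e hp
  obtain ⟨j, hj⟩ : ∃ j, q = 2 ^ j := by
    have : CharP F 2 := CharTwo.of_one_ne_zero_of_two_eq_zero one_ne_zero hp.twist.two
    obtain ⟨j, -, hj⟩ := FiniteField.card F 2
    exact ⟨j, hj⟩
  have hprod : (q + e + 1) * (q - e + 1) = q ^ 2 + 1 := by
    zify [show e ≤ q by omega]
    have hsq' : (e : ℤ) * e = 2 * q := by exact_mod_cast hsq
    linear_combination -hsq'
  refine ⟨?_, Nat.coprime_self_add_right.2 (Nat.coprime_one_right _), Dvd.intro _ hprod,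
    Dvd.intro_left _ hprod, ?_⟩
  · refine Nat.Coprime.pow_left 2 ?_
    obtain ⟨c, hc⟩ : ∃ c, q = c + 1 := ⟨q - 1, by have := hp.eight; omega⟩
    rw [hc, Nat.add_sub_cancel]
    exact Nat.coprime_self_add_left.2 (Nat.coprime_one_left c)
  · refine Nat.coprime_of_dvd fun r hr h1 h2 => ?_
    have h2e : r ∣ 2 * e := by
      have := Nat.dvd_sub h1 h2
      rwa [show q + e + 1 - (q - e + 1) = 2 * e by omega] at this
    have hr2 : r = 2 := by
      rcases hr.dvd_mul.1 h2e with h | h
      · exact (Nat.prime_dvd_prime_iff_eq hr Nat.prime_two).1 h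
      · have : r ∣ 2 ^ (j + 1) := by rw [pow_succ, ← hj, mul_comm, ← hsq]; exact h.mul_left e
        exact (Nat.prime_dvd_prime_iff_eq hr Nat.prime_two).1 (hr.dvd_of_dvd_pow this)
    subst hr2
    have := hp.even
    omega

/-- An odd-order element of a torus lies in the normaliser of no other torus. -/
lemma torus_unique {T T' : Subgroup (Sz F e)} {k k' : ℕ} (hT : IsTor T k) (hT' : IsTor T' k')
    {x : Sz F e} (hx : x ∈ T) (hx1 : x ≠ 1)
    (hxN : x ∈ Subgroup.normalizer (T' : Set (Sz F e))) : T' = T := by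
  refine hT'.eq_of_mem hT hx1 ?_ hx
  by_contra h
  exact hx1 (hT.eq_one_of_pow_two_pow hx (j := 2) (hT'.pow_four_eq hxN h).2)

/-- Elements of the tori of order dividing `q² + 1`. -/
theorem card_Sol_big (hd : PrimeDeg F) {i : Fin 3} (hi : i ≠ 0) {x : Sz F e} (hx : x ∈ D.T i)
    (hx1 : x ≠ 1) : Nat.card (Sol x) = 4 * Nat.card (D.T i) := by
  have he := hp.twist
  obtain ⟨c1, c2, d1, d2, -⟩ := coprime_orders hp
  have ho : orderOf x ∣ q ^ 2 + 1 := by
    refine (Subgroup.orderOf_dvd_natCard _ hx).trans ?_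
    fin_cases i
    · exact absurd rfl hi
    · exact D.card_one ▸ d1
    · exact D.card_two ▸ d2
  have hk : D.k i = 4 := by
    fin_cases i
    · exact absurd rfl hi
    · exact D.k_one
    · exact D.k_two
  have hSol : Sol x = (Subgroup.normalizer (D.T i : Set (Sz F e)) : Set (Sz F e)) := by
    ext y
    rw [mem_Sol_iff D hd]
    constructor
    · rintro (⟨g, hxg, -⟩ | ⟨j, g, hxg, hy⟩)
      · exfalso
        refine hx1 (orderOf_eq_one_iff.1 (eq_one_of_dvd_two
          ((Nat.Coprime.mul_left c2 (coprime_sub_one hp).symm)) ?_ ho))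
        have := Subgroup.orderOf_dvd_natCard _ hxg
        rwa [Subgroup.card_map_of_injective (MulAut.conj g).injective, card_borel he] at this
      · rwa [torus_unique (D.tor i) ((D.tor j).conj g) hx hx1 hxg] at hy
    · intro hy
      exact Or.inr ⟨i, 1, by rw [cj_one]; exact Subgroup.le_normalizer hx, by rwa [cj_one]⟩
  rw [hSol, SetLike.coe_sort_coe, (D.tor i).ncard, hk]

include D in
/-- Split torus elements. -/
theorem card_Sol_split (hd : PrimeDeg F) {x : Sz F e} (hx : x ∈ hGroup hp.twist) (hx1 : x ≠ 1) :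
    Nat.card (Sol x) = 2 * q ^ 2 * (q - 1) := by
  classical
  have he := hp.twist
  obtain ⟨t, rfl⟩ := hx
  have ht : t ≠ 1 := fun h => hx1 (by rw [h, map_one])
  have hxH : H e he t ∈ D.T 0 := D.zero_eq.symm ▸ H_mem_hGroup he t
  set N := Subgroup.normalizer (D.T 0 : Set (Sz F e)) with hN
  set B' := cj (W he) (borel F e)
  have hSol : Sol (hHom he t) = ((borel F e : Set (Sz F e)) ∪ B') ∪ N := by
    ext y
    rw [mem_Sol_iff D hd, Set.mem_union, Set.mem_union]
    constructor
    · rintro (⟨g, hxg, hy⟩ | ⟨j, g, hxg, hy⟩)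
      · left
        rw [mem_cj] at hxg hy
        obtain ⟨a, b, s, hs⟩ := exists_borel_eq he _ hxg
        have hs1 : s ≠ 1 := by
          rintro rfl
          rw [H_one, mul_one] at hs
          have h4 : hHom he t ^ 4 = 1 := by
            have := pow_four he (P_mem_uGroup he a b)
            rw [← hs] at this
            have h' := congrArg (fun u => g * u * g⁻¹) this
            simpa [mul_assoc, pow_succ] using h'
          exact hx1 ((D.tor 0).eq_one_of_pow_two_pow hxH (j := 2) h4)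
        obtain ⟨c, d, hcd⟩ := exists_conj_H he a b hs1
        have hconj : (g * P he c d) * H e he s * (g * P he c d)⁻¹ = H e he t := by
          rw [show g * P he c d * H e he s * (g * P he c d)⁻¹ =
            g * (P he c d * H e he s * (P he c d)⁻¹) * g⁻¹ by simp [mul_assoc], hcd, ← hs]
          simp [mul_assoc]
          rfl
        have hP := P_mem_borel he c d
        rcases H_conj_cases he ht hconj with ⟨h, -⟩ | ⟨⟨r, h⟩, -⟩
        · left
          have hg : g ∈ borel F e :=
            (Subgroup.mul_mem_cancel_right _ hP).1 (hGroup_le_borel he h)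
          simpa [mul_assoc] using mul_mem (mul_mem hg hy) (inv_mem hg)
        · right
          show y ∈ cj (W he) (borel F e)
          rw [mem_cj]
          have hk : (W he)⁻¹ * g ∈ borel F e := by
            rw [show (W he)⁻¹ * g = H e he r * (P he c d)⁻¹ by
              rw [eq_mul_inv_iff_mul_eq, mul_assoc, h, inv_mul_cancel_left]]
            exact mul_mem (H_mem_borel he r) (inv_mem hP)
          simpa [mul_assoc] using mul_mem (mul_mem hk hy) (inv_mem hk)
      · right
        rwa [torus_unique (D.tor 0) ((D.tor j).conj g) hxH hx1 hxg] at hy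
    · rintro ((hy | hy) | hy)
      · exact Or.inl ⟨1, by rw [cj_one]; exact H_mem_borel he t, by rwa [cj_one]⟩
      · refine Or.inl ⟨W he, mem_cj.2 ?_, hy⟩
        rw [W_inv, show hHom he t = H e he t from rfl, W_conj_H]
        exact H_mem_borel he _
      · exact Or.inr ⟨0, 1, by rw [cj_one]; exact Subgroup.le_normalizer hxH, by rwa [cj_one]⟩
  have hBB : borel F e ⊓ B' = hGroup he := by
    refine le_antisymm ?_ (le_inf (hGroup_le_borel he) ?_)
    · rintro y ⟨hy, hy'⟩
      obtain ⟨a, b, s, rfl⟩ := exists_borel_eq he y hy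
      have hy' := mem_cj.1 hy'
      rw [W_inv, show W he * (P he a b * H e he s) * W he =
        (W he * P he a b * W he) * (W he * H e he s * W he) by
        simp [mul_assoc, ← mul_assoc (W he) (W he), W_mul_W], W_conj_H,
        Subgroup.mul_mem_cancel_right _ (H_mem_borel he _)] at hy'
      have h1 : (P he 0 0 * W he)⁻¹ * (P he a b * W he) ∈ borel F e := by
        rw [P_zero, one_mul, W_inv, ← mul_assoc]
        exact hy'
      obtain ⟨rfl, rfl⟩ := P_W_P_mem_borel_iff he h1
      rw [P_zero, one_mul]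
      exact H_mem_hGroup he s
    · rintro _ ⟨s, rfl⟩
      refine mem_cj.2 ?_
      rw [W_inv, show hHom he s = H e he s from rfl, W_conj_H]
      exact H_mem_borel he _
  have hNB : ((borel F e : Set (Sz F e)) ∪ B') ∩ N = hGroup he := by
    ext y
    constructor
    · rintro ⟨hy | hy, hyN⟩
      · rw [hN, D.zero_eq] at hyN
        exact normalizer_hGroup_inter he ht hyN hy
      · rw [hN, D.zero_eq] at hyN
        have hW := W_mem_normalizer_hGroup he
        have h1 : (W he)⁻¹ * y * W he ∈ hGroup he :=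
          normalizer_hGroup_inter he ht (mul_mem (mul_mem (inv_mem hW) hyN) hW) (mem_cj.1 hy)
        exact (Subgroup.mem_normalizer_iff''.1 hW y).2 h1
    · intro hy
      exact ⟨Or.inl (hGroup_le_borel he hy), hN ▸ D.zero_eq.symm ▸ Subgroup.le_normalizer hy⟩
  have e1 := Set.ncard_union_add_ncard_inter (borel F e : Set (Sz F e)) (B' : Set (Sz F e))
  have e2 := Set.ncard_union_add_ncard_inter
    ((borel F e : Set (Sz F e)) ∪ B') (N : Set (Sz F e))
  rw [hNB] at e2
  rw [← Subgroup.coe_inf, hBB] at e1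
  simp only [← Nat.card_coe_set_eq, SetLike.coe_sort_coe] at e1 e2
  rw [card_hGroup, card_borel he, Subgroup.card_map_of_injective (MulAut.conj (W he)).injective,
    card_borel he] at e1
  rw [card_hGroup, (D.tor 0).ncard, D.k_zero, D.card_zero] at e2
  rw [hSol, show 2 * q ^ 2 * (q - 1) = q ^ 2 * (q - 1) + q ^ 2 * (q - 1) by ring]
  omega

include D in
/-- Two-elements. -/
theorem card_Sol_two (hd : PrimeDeg F) {x z : Sz F e} (hx : x ∈ uGroup hp.twist) (hx1 : x ≠ 1)
    (hzU : z ∈ uGroup hp.twist) (hz1 : z ≠ 1) (hz2 : z * z = 1)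
    (hxz : ∀ N : Subgroup (Sz F e), x ∈ N → z ∈ N) :
    Nat.card (Sol x) = q ^ 2 * (q - 1) +
      ∑ i, Nat.card (torSet (D.T i) x) * (D.k i * Nat.card (D.T i) - D.k i) := by
  classical
  have he := hp.twist
  let X := (i : Fin 3) × torSet (D.T i) x
  let fib : X → Set (Sz F e) := fun p =>
    (Subgroup.normalizer ((p.2 : Subgroup (Sz F e)) : Set (Sz F e)) : Set (Sz F e)) \
      (borel F e : Set (Sz F e))
  have htor : ∀ p : X, IsTor (p.2 : Subgroup (Sz F e)) (D.k p.1) := by
    rintro ⟨i, T, ⟨g, rfl⟩, hT⟩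
    exact (D.tor i).conj g
  let f : ((p : X) × fib p) → Sz F e := fun w => w.2
  have hfi : Function.Injective f := by
    rintro ⟨⟨i, T, hT⟩, y, hy⟩ ⟨⟨j, T', hT'⟩, y', hy'⟩ (rfl : y = y')
    have hTT : T = T' := (htor ⟨i, T, hT⟩).eq_of_common he (htor ⟨j, T', hT'⟩) hzU hz2 hz1
      (hxz _ hT.2) (hxz _ hT'.2) hy.2 hy.1 hy'.1
    subst hTT
    obtain rfl : i = j := by
      obtain ⟨g, hg⟩ := hT.1
      obtain ⟨g', hg'⟩ := hT'.1
      refine D.card_injective ?_
      have h1 : Nat.card (cj g (D.T i)) = Nat.card (D.T i) :=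
        Subgroup.card_map_of_injective (MulAut.conj g).injective
      have h2 : Nat.card (cj g' (D.T j)) = Nat.card (D.T j) :=
        Subgroup.card_map_of_injective (MulAut.conj g').injective
      rw [← h1, ← hg, hg', h2]
    rfl
  have hrange : Set.range f = Sol x \ (borel F e : Set (Sz F e)) := by
    ext y
    constructor
    · rintro ⟨⟨⟨i, T, ⟨g, rfl⟩, hT⟩, w, hw⟩, rfl⟩
      exact ⟨(mem_Sol_iff D hd).2 (Or.inr ⟨i, g, hT, hw.1⟩), hw.2⟩
    · rintro ⟨hy, hyB⟩
      rcases (mem_Sol_iff D hd).1 hy with ⟨g, hxg, hyg⟩ | ⟨i, g, hxg, hyg⟩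
      · refine absurd ?_ hyB
        rw [mem_cj] at hxg hyg
        have hg := borel_unique he hx hx1 (g := g⁻¹) (by rwa [inv_inv])
        simpa [mul_assoc] using mul_mem (mul_mem (inv_mem hg) hyg) hg
      · exact ⟨⟨⟨i, cj g (D.T i), ⟨g, rfl⟩, hxg⟩, y, hyg, hyB⟩, rfl⟩
  have hsub : (borel F e : Set (Sz F e)) ⊆ Sol x := fun y hy => (mem_Sol_iff D hd).2
    (Or.inl ⟨1, by rw [cj_one]; exact uGroup_le_borel he hx, by rwa [cj_one]⟩)
  rw [Nat.card_coe_set_eq, ← Set.ncard_sdiff_add_ncard_of_subset hsub, add_comm,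
    ← Nat.card_coe_set_eq, SetLike.coe_sort_coe, card_borel he, ← hrange,
    Set.ncard_range_of_injective hfi]
  congr 1
  rw [Nat.card_sigma]
  have hfib : ∀ p : X, Nat.card (fib p) = D.k p.1 * Nat.card (D.T p.1) - D.k p.1 := by
    rintro ⟨i, T, hT⟩
    have h1 := ((htor ⟨i, T, hT⟩).card_inter_borel he hx hx1 hT.2).1
    rw [Nat.card_coe_set_eq]
    show ((Subgroup.normalizer (T : Set (Sz F e)) : Set (Sz F e)) \ (borel F e : Set (Sz F e))).ncard = _
    rw [← Set.sdiff_inter_self_eq_sdiff, Set.ncard_sdiff Set.inter_subset_right, Set.inter_comm,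
      ← Subgroup.coe_inf, ← Nat.card_coe_set_eq, ← Nat.card_coe_set_eq, SetLike.coe_sort_coe,
      SetLike.coe_sort_coe, h1, (htor ⟨i, T, hT⟩).ncard]
    obtain ⟨g, hg⟩ := hT.1
    congr 2
    show Nat.card T = Nat.card (D.T i)
    rw [hg]
    exact Subgroup.card_map_of_injective (MulAut.conj g).injective
  simp only [hfib]
  rw [Fintype.sum_sigma]
  refine Finset.sum_congr rfl fun i _ => ?_
  simp [Nat.card_eq_fintype_card]

include D in
theorem card_Sol_involution (hd : PrimeDeg F) {b : F} (hb : b ≠ 0) :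
    Nat.card (Sol (P hp.twist 0 b)) = q ^ 2 * (4 * q - 3) := by
  have he := hp.twist
  have hz1 : P he 0 b ≠ 1 := fun h => hb (by rw [← P_zero he] at h; exact (P_injective he h).2)
  have hz2 : P he 0 b * P he 0 b = 1 := by
    rw [sq_P, ← P_zero he]
    simp [zero_pow (Nat.ne_zero_of_lt he.one_lt)]
  rw [card_Sol_two D hd (P_mem_uGroup he 0 b) hz1 (P_mem_uGroup he 0 b) hz1 hz2 fun _ h => h,
    Fin.sum_univ_three]
  have h0 := card_torSet_involution hp (D.tor 0) hb
  have h1 := card_torSet_involution hp (D.tor 1) hb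
  have h2 := card_torSet_involution hp (D.tor 2) hb
  rw [D.k_zero] at h0 ⊢
  rw [D.k_one] at h1 ⊢
  rw [D.k_two] at h2 ⊢
  rw [D.card_zero, D.card_one, D.card_two]
  have h2e := two_mul_e_le hp
  have h8 := hp.eight
  rw [show (2 * (q - 1) - 2 : ℕ) = 2 * (q - 2) by omega,
    show (4 * (q + e + 1) - 4 : ℕ) = 4 * (q + e) by omega,
    show (4 * (q - e + 1) - 4 : ℕ) = 4 * (q - e) by omega,
    ← mul_assoc, h0, ← mul_assoc, h1, ← mul_assoc, h2, ← mul_add, ← mul_add, ← mul_add]
  congr 1
  omega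

include D in
theorem card_Sol_four (hd : PrimeDeg F) {a : F} (b : F) (ha : a ≠ 0) :
    Nat.card (Sol (P hp.twist a b)) = q ^ 2 * (q + 3) := by
  have he := hp.twist
  have hd0 : a ^ e * a ≠ 0 := mul_ne_zero (pow_ne_zero _ ha) ha
  have hx1 : P he a b ≠ 1 := fun h => ha (by rw [← P_zero he] at h; exact (P_injective he h).1)
  have hz1 : P he 0 (a ^ e * a) ≠ 1 := fun h => hd0 (by
    rw [← P_zero he] at h; exact (P_injective he h).2)
  have hz2 : P he 0 (a ^ e * a) * P he 0 (a ^ e * a) = 1 := by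
    rw [sq_P, ← P_zero he]
    simp [zero_pow (Nat.ne_zero_of_lt he.one_lt)]
  rw [card_Sol_two D hd (P_mem_uGroup he a b) hx1 (P_mem_uGroup he 0 (a ^ e * a)) hz1 hz2
    (fun N h => sq_P he a b ▸ mul_mem h h), Fin.sum_univ_three]
  have h0 : Nat.card (torSet (D.T 0) (P he a b)) = 0 := by
    have ht := D.tor 0
    rw [D.k_zero] at ht
    rw [torSet_four_empty hp ht b ha]
    simp
  have ht1 := D.tor 1
  have ht2 := D.tor 2
  rw [D.k_one] at ht1
  rw [D.k_two] at ht2
  have h1 := card_torSet_four hp ht1 b ha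
  have h2 := card_torSet_four hp ht2 b ha
  rw [h0, zero_mul, zero_add, D.k_one, D.k_two, D.card_one, D.card_two]
  have h2e := two_mul_e_le hp
  have h8 := hp.eight
  rw [show (4 * (q + e + 1) - 4 : ℕ) = 4 * (q + e) by omega,
    show (4 * (q - e + 1) - 4 : ℕ) = 4 * (q - e) by omega,
    ← mul_assoc, h1, ← mul_assoc, h2, ← mul_add]
  zify [show e ≤ q by omega, show 1 ≤ q by omega]
  ring

/-- The solubilizer orders. -/
theorem main (hp : Params F e) (hd : PrimeDeg F) (x : Sz F e) :
    (orderOf x = 2 → Nat.card (Sol x) = q ^ 2 * (4 * q - 3)) ∧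
    (orderOf x = 4 → Nat.card (Sol x) = q ^ 2 * (q + 3)) ∧
    (x ≠ 1 → orderOf x ∣ q - 1 → Nat.card (Sol x) = 2 * q ^ 2 * (q - 1)) ∧
    (x ≠ 1 → orderOf x ∣ q + e + 1 → Nat.card (Sol x) = 4 * (q + e + 1)) ∧
    (x ≠ 1 → orderOf x ∣ q - e + 1 → Nat.card (Sol x) = 4 * (q - e + 1)) := by
  obtain ⟨D⟩ := exists_bases hp
  have he := hp.twist
  obtain ⟨c1, c2, d1, d2, c12⟩ := coprime_orders hp
  have : Fact (Nat.Prime 2) := ⟨Nat.prime_two⟩
  have hU : ∀ j : ℕ, 0 < j → orderOf x = 2 ^ j → ∃ g a b, g * x * g⁻¹ = P he a b ∧ x ≠ 1 := by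
    intro j hj ho
    obtain ⟨g, hg⟩ := conj_mem_uGroup hp (x := x)
      (IsPGroup.of_card (n := j) (by rw [Nat.card_zpowers, ho]))
    obtain ⟨⟨a, b⟩, hab⟩ := hg
    refine ⟨g, a, b, hab.symm, fun h => ?_⟩
    rw [h, orderOf_one] at ho
    exact absurd ho.symm (Nat.one_lt_two_pow hj.ne').ne'
  -- odd orders
  have hodd : ∀ n, x ≠ 1 → orderOf x ∣ n → Nat.Coprime (q ^ 2) n →
      ∃ i g, g * x * g⁻¹ ∈ D.T i := by
    intro n hx1 hn hc
    rcases D.cases hx1 with h | ⟨i, -, g, hg⟩
    · exact absurd (orderOf_eq_one_iff.1 (eq_one_of_dvd_two hc (orderOf_dvd_uGroup hp h) hn)) hx1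
    · exact ⟨i, g, hg⟩
  have hidx : ∀ n i g, x ≠ 1 → g * x * g⁻¹ ∈ D.T i → orderOf x ∣ n →
      ¬ Nat.Coprime (Nat.card (D.T i)) n := by
    intro n i g hx1 hg hn hc
    refine hx1 (orderOf_eq_one_iff.1 (eq_one_of_dvd_two hc ?_ hn))
    rw [← (MulAut.conj g).orderOf_eq x]
    exact Subgroup.orderOf_dvd_natCard _ hg
  refine ⟨fun ho => ?_, fun ho => ?_, fun hx1 ho => ?_, fun hx1 ho => ?_, fun hx1 ho => ?_⟩
  · obtain ⟨g, a, b, hg, hx1⟩ := hU 1 one_pos (by rw [ho, pow_one])
    obtain ⟨b', hb'⟩ := exists_central_of_sq he (x := g * x * g⁻¹)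
      (hg ▸ P_mem_uGroup he a b) (by
        rw [conj_pow, ← ho, pow_orderOf_eq_one, mul_one, mul_inv_cancel])
    rw [← card_Sol_conj g x, hb']
    refine card_Sol_involution D hd fun h0 => hx1 ?_
    rw [h0, P_zero, conj_eq_one_iff] at hb'
    exact hb'
  · obtain ⟨g, a, b, hg, hx1⟩ := hU 2 two_pos (by rw [ho]; rfl)
    have ha : a ≠ 0 := by
      rintro rfl
      have h := congrArg (fun y => y * y) hg
      rw [sq_P] at h
      simp only [zero_pow (Nat.ne_zero_of_lt he.one_lt), zero_mul, P_zero] at h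
      have h' : g * (x * x) * g⁻¹ = 1 := by simpa [mul_assoc] using h
      have := orderOf_dvd_of_pow_eq_one (show x ^ 2 = 1 by rw [pow_two, conj_eq_one_iff.1 h'])
      rw [ho] at this
      norm_num at this
    rw [← card_Sol_conj g x, hg]
    exact card_Sol_four D hd b ha
  · obtain ⟨i, g, hg⟩ := hodd _ hx1 ho c1
    have hi : i = 0 := by
      fin_cases i
      · rfl
      · exact absurd ((coprime_sub_one hp).of_dvd_left (D.card_one ▸ d1)) (hidx _ _ g hx1 hg ho)
      · exact absurd ((coprime_sub_one hp).of_dvd_left (D.card_two ▸ d2)) (hidx _ _ g hx1 hg ho)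
    subst hi
    rw [← card_Sol_conj g x]
    exact card_Sol_split D hd (D.zero_eq ▸ hg) (fun h => hx1 (conj_eq_one_iff.1 h))
  · obtain ⟨i, g, hg⟩ := hodd _ hx1 ho (c2.of_dvd_right d1)
    have hi : i = 1 := by
      fin_cases i
      · exact absurd (D.card_zero.symm ▸ ((coprime_sub_one hp).of_dvd_left d1).symm)
          (hidx _ _ g hx1 hg ho)
      · rfl
      · exact absurd (D.card_two.symm ▸ c12.symm) (hidx _ _ g hx1 hg ho)
    subst hi
    rw [← card_Sol_conj g x, card_Sol_big D hd (by decide) hg (fun h => hx1 (conj_eq_one_iff.1 h)),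
      D.card_one]
  · obtain ⟨i, g, hg⟩ := hodd _ hx1 ho (c2.of_dvd_right d2)
    have hi : i = 2 := by
      fin_cases i
      · exact absurd (D.card_zero.symm ▸ ((coprime_sub_one hp).of_dvd_left d2).symm)
          (hidx _ _ g hx1 hg ho)
      · exact absurd (D.card_one.symm ▸ c12) (hidx _ _ g hx1 hg ho)
      · rfl
    subst hi
    rw [← card_Sol_conj g x, card_Sol_big D hd (by decide) hg (fun h => hx1 (conj_eq_one_iff.1 h)),
      D.card_two]

end CfsgLib.PGroup.SzSol
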