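import Cfsg.Agent.Lib.PGroup.RankTwoOdd
import Cfsg.Agent.Lib.Fusion.RankTwoOmega
import Mathlib

/-!
`p`-groups, `p` odd, without elementary abelian subgroup of order `p³`: the case of `M/⟨z, a⟩` cyclic and
the classification.
-/

set_option autoImplicit false
set_option linter.style.haveILetI false
set_option linter.unusedSectionVars false

namespace CfsgLib.PGroup.RankTwoOdd

open Subgroup
open scoped commutatorElement

variable {G : Type*} [Group G] [Finite G] {p : ℕ} [hp : Fact p.Prime]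

/-- The first exceptional family. -/
def FamilyOne (p n : ℕ) (G : Type*) [Group G] : Prop :=
  3 ≤ n ∧ ∃ x y z : G, closure ({x, y, z} : Set G) = ⊤ ∧ x ^ p = 1 ∧ y ^ p = 1 ∧ z ^ p ^ (n - 2) = 1 ∧
    x * z = z * x ∧ y * z = z * y ∧ x⁻¹ * y * x = y * z ^ p ^ (n - 3)

/-- The second exceptional family. -/
def FamilyTwo (p n : ℕ) (G : Type*) [Group G] : Prop :=
  4 ≤ n ∧ ∃ (s : ℕ) (x y z : G), (s = 1 ∨ ¬ IsSquare (s : ZMod p)) ∧ closure ({x, y, z} : Set G) = ⊤ ∧
    x ^ p = 1 ∧ y ^ p = 1 ∧ z ^ p ^ (n - 2) = 1 ∧ y * z = z * y ∧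
    x⁻¹ * y * x = y * z ^ (s * p ^ (n - 3)) ∧ x⁻¹ * z * x = y * z

theorem exists_pow_eq_of_mem {z u : G} (h : u ∈ zpowers z) : ∃ k : ℕ, z ^ k = u :=
  (Submonoid.mem_powers_iff _ _).mp (mem_powers_iff_mem_zpowers.mpr h)

theorem pow_eq_pow_of_cast {z : G} (hz : orderOf z = p) {k l : ℕ} (h : (k : ZMod p) = l) : z ^ k = z ^ l :=
  pow_eq_pow_iff_modEq.mpr (by rw [hz]; exact (ZMod.natCast_eq_natCast_iff k l p).mp h)

theorem cast_ne_zero_of_pow_ne_one {z : G} (hz : orderOf z = p) {k : ℕ} (h : z ^ k ≠ 1) : (k : ZMod p) ≠ 0 :=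
  fun h0 => h (by
    obtain ⟨l, rfl⟩ := (ZMod.natCast_eq_zero_iff k p).mp h0
    rw [pow_mul, ← hz, pow_orderOf_eq_one, one_pow])

namespace Data

variable (D : Data p G)

/-- Another generator of `⟨z⟩`. -/
def changeZ {u : G} (hu : u ∈ zpowers D.z) (hu1 : u ≠ 1) : Data p G where
  z := u
  a := D.a
  z_center := by obtain ⟨i, rfl⟩ := hu; exact zpow_mem D.z_center i
  z_ord := orderOf_eq_prime (pow_prime_eq_one_of_mem D.z_ord hu) hu1
  a_pow := D.a_pow
  a_notMem := by rw [zpowers_eq_of_mem D.z_ord hu hu1]; exact D.a_notMem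
  comm_mem := fun g => by rw [zpowers_eq_of_mem D.z_ord hu hu1]; exact D.comm_mem g
  omega := fun v h1 h2 => by rw [zpowers_eq_of_mem D.z_ord hu hu1]; exact D.omega v h1 h2

theorem changeZ_A {u : G} (hu : u ∈ zpowers D.z) (hu1 : u ≠ 1) : (D.changeZ hu hu1).A = D.A := by
  show zpowers u ⊔ zpowers D.a = zpowers D.z ⊔ zpowers D.a
  rw [zpowers_eq_of_mem D.z_ord hu hu1]

theorem z_ne_one : D.z ≠ 1 := fun h => by
  have := D.z_ord
  rw [h, orderOf_one] at this
  exact hp.out.ne_one this.symm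

theorem pow_eq_one_iff_a : orderOf D.a = p :=
  orderOf_eq_prime D.a_pow fun h => D.a_notMem (h ▸ one_mem _)

theorem conj_a {x : G} (hx : x ∉ D.M) : ∃ b : ℕ, x * D.a * x⁻¹ = D.z ^ b * D.a ∧ D.z ^ b ≠ 1 := by
  obtain ⟨b, hb⟩ := exists_pow_eq_of_mem (D.delta_mem x D.a_mem_A)
  refine ⟨b, by rw [hb]; group, fun h => ?_⟩
  rw [h] at hb
  exact hx (D.mem_M.mpr (mul_inv_eq_iff_eq_mul.mp (mul_inv_eq_one.mp hb.symm)))

section Cyclic

variable {w : G} {m : ℕ} (hrep : ∀ u ∈ D.M, ∃ i : ℕ, ∃ α ∈ D.A, u = w ^ i * α) (hw : w ∈ D.M)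

include hrep hw in
theorem commute_of_rep {u v : G} (hu : u ∈ D.M) (hv : v ∈ D.M) : Commute u v := by
  obtain ⟨i, α, hα, rfl⟩ := hrep u hu
  obtain ⟨j, β, hβ, rfl⟩ := hrep v hv
  have h1 : Commute α (w ^ j * β) := D.commute_of_mem_A hα hv
  have h2 : Commute (w ^ i) β := (D.commute_of_mem_A hβ (pow_mem hw i)).symm
  exact (((Commute.pow_pow_self w i j).mul_right h2)).mul_left h1

theorem mem_zpowers_z_of_pow_eq_one (ho : orderOf w = p ^ m) (hm : 1 ≤ m) (hz : w ^ p ^ (m - 1) = D.z)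
    {u : G} (hu : u ∈ zpowers w) (hup : u ^ p = 1) : u ∈ zpowers D.z := by
  obtain ⟨k, rfl⟩ := exists_pow_eq_of_mem hu
  rw [← pow_mul] at hup
  have hd := orderOf_dvd_of_pow_eq_one hup
  rw [ho, show p ^ m = p ^ (m - 1) * p by rw [← pow_succ]; congr 1; omega] at hd
  obtain ⟨l, rfl⟩ := Nat.dvd_of_mul_dvd_mul_right hp.out.pos hd
  rw [pow_mul, hz]
  exact pow_mem (mem_zpowers _) l

include hrep hw in
/-- The element of order `p` of `⟨w⟩` is central. -/
theorem exists_omega (hG : IsPGroup p G) {x : G} (hx : x ∉ D.M) (hwA : w ∉ D.A) :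
    ∃ m, 2 ≤ m ∧ orderOf w = p ^ m ∧ w ^ p ^ (m - 1) ∈ zpowers D.z ∧ w ^ p ^ (m - 1) ≠ 1 := by
  obtain ⟨m, hm⟩ := IsPGroup.iff_orderOf.mp hG w
  have hm2 : 2 ≤ m := by
    by_contra h
    refine hwA (D.mem_A_of_pow (orderOf_dvd_iff_pow_eq_one.mp ?_) hw)
    rw [hm]
    exact (pow_dvd_pow p (show m ≤ 1 by omega)).trans (by rw [pow_one])
  set ω := w ^ p ^ (m - 1) with hωdef
  have hω1 : ω ≠ 1 := fun h => by
    have hd := orderOf_dvd_of_pow_eq_one h
    rw [hm, Nat.pow_dvd_pow_iff_le_right hp.out.one_lt] at hd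
    omega
  have hωp : ω ^ p = 1 := by
    rw [hωdef, ← pow_mul, ← pow_succ, show m - 1 + 1 = m by omega, ← hm, pow_orderOf_eq_one]
  have hωA : ω ∈ D.A := D.mem_A_of_pow hωp (pow_mem hw _)
  refine ⟨m, hm2, hm, ?_, hω1⟩
  obtain ⟨i, α, hα, hxw⟩ := hrep _ (D.M_normal.conj_mem w hw x)
  have h1 : x * ω * x⁻¹ ∈ zpowers w := by
    rw [hωdef, ← conj_pow, hxw, show m - 1 = 1 + (m - 2) by omega, pow_add, pow_one, pow_mul _ p,
      (D.commute_of_mem_A hα (pow_mem hw i)).symm.mul_pow, D.pow_of_mem_A hα, mul_one]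
    exact pow_mem (pow_mem (pow_mem (mem_zpowers _) _) _) _
  set u := x * ω * x⁻¹ * ω⁻¹ with hudef
  have huz : u ∈ zpowers D.z := D.delta_mem x hωA
  by_cases hu1 : u = 1
  · exact D.mem_zpowers_of_fixed hx hωA (mul_inv_eq_one.mp hu1)
  exfalso
  have hzw : D.z ∈ zpowers w := by
    have : zpowers u ≤ zpowers w := zpowers_le.mpr (mul_mem h1 (inv_mem (pow_mem (mem_zpowers w) _)))
    rw [zpowers_eq_of_mem D.z_ord huz hu1] at this
    exact this (mem_zpowers _)
  obtain ⟨k, hk⟩ := exists_pow_eq_of_mem hzw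
  have hd : p ^ m ∣ k * p := by
    rw [← hm]
    exact orderOf_dvd_of_pow_eq_one (by rw [pow_mul, hk, pow_prime_eq_one_of_mem D.z_ord (mem_zpowers _)])
  rw [show p ^ m = p ^ (m - 1) * p by rw [← pow_succ]; congr 1; omega] at hd
  obtain ⟨l, rfl⟩ := Nat.dvd_of_mul_dvd_mul_right hp.out.pos hd
  have hzω : D.z ∈ zpowers ω := by
    rw [← hk, pow_mul]; exact pow_mem (mem_zpowers _) l
  have hωord : orderOf ω = p := orderOf_eq_prime hωp hω1
  have hfix := D.fixed_of_mem_zpowers x (u := ω) (by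
    rw [zpowers_eq_of_mem hωord hzω D.z_ne_one]; exact mem_zpowers _)
  exact hu1 (by rw [hudef, hfix, mul_inv_cancel])

include hrep hw in
/-- Outside `M` conjugation maps `w` to `c * w` with `c ∈ ⟨z, a⟩`. -/
theorem exists_step (hodd : p ≠ 2) (hG : IsPGroup p G) (x : G) (hwA : w ∉ D.A) (ho : orderOf w = p ^ m)
    (hm : 2 ≤ m) (hz : w ^ p ^ (m - 1) = D.z) : ∃ c ∈ D.A, x * w * x⁻¹ = c * w := by
  obtain ⟨i, α0, hα0, hxw⟩ := hrep _ (D.M_normal.conj_mem w hw x)
  have hit : ∀ n : ℕ, ∃ α ∈ D.A, x ^ n * w * (x ^ n)⁻¹ = w ^ i ^ n * α := by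
    intro n
    induction n with
    | zero => exact ⟨1, one_mem _, by simp⟩
    | succ n ih =>
      obtain ⟨α, hα, h⟩ := ih
      refine ⟨α0 ^ i ^ n * (x * α * x⁻¹), mul_mem (pow_mem hα0 _) (D.A_normal.conj_mem α hα x), ?_⟩
      calc x ^ (n + 1) * w * (x ^ (n + 1))⁻¹ = x * (x ^ n * w * (x ^ n)⁻¹) * x⁻¹ := by rw [pow_succ']; group
        _ = (x * w * x⁻¹) ^ i ^ n * (x * α * x⁻¹) := by rw [h, conj_pow]; group
        _ = _ := by rw [hxw, (D.commute_of_mem_A hα0 (pow_mem hw i)).symm.mul_pow, ← pow_mul, ← pow_succ',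
              mul_assoc]
  obtain ⟨α, hα, hp'⟩ := hit p
  rw [(D.commute_of_rep hrep hw (D.pow_mem_M hG x) hw).eq, mul_inv_cancel_right] at hp'
  have hi1 : 1 ≤ i := by
    rcases Nat.eq_zero_or_pos i with h | h
    · rw [h, zero_pow hp.out.ne_zero, pow_zero, one_mul] at hp'
      exact absurd (hp' ▸ hα) hwA
    · exact h
  have hip : 1 ≤ i ^ p := Nat.one_le_pow _ _ hi1
  have hwN : w ^ (i ^ p - 1) = α⁻¹ := by
    have h2 : w ^ (i ^ p - 1) * w = w * α⁻¹ := by
      rw [← pow_succ, Nat.sub_add_cancel hip, eq_mul_inv_iff_mul_eq, ← hp']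
    rw [← pow_succ, pow_succ'] at h2
    exact mul_left_cancel h2
  have hdvd : p ^ (m - 1) ∣ i ^ p - 1 := by
    refine Nat.dvd_of_mul_dvd_mul_right hp.out.pos ?_
    rw [← pow_succ, Nat.sub_add_cancel (show 1 ≤ m by omega), ← ho]
    exact orderOf_dvd_of_pow_eq_one (by rw [pow_mul, hwN, D.pow_of_mem_A (inv_mem hα)])
  have hi : p ∣ i - 1 := by
    have h1 : ((i ^ p : ℕ) : ZMod p) = ((1 : ℕ) : ZMod p) := by
      rw [ZMod.natCast_eq_natCast_iff]
      exact ((Nat.modEq_iff_dvd' hip).mpr ((dvd_pow_self p (show m - 1 ≠ 0 by omega)).trans hdvd)).symm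
    rw [Nat.cast_pow, ZMod.pow_card, ZMod.natCast_eq_natCast_iff] at h1
    exact (Nat.modEq_iff_dvd' hi1).mp h1.symm
  obtain ⟨β, hβ⟩ := hi
  obtain rfl : i = 1 + p * β := by omega
  set G0 := CfsgLib.MetacyclicOdd.geom (1 + p * β) p
  have hR : 1 + p * β ≡ 1 [MOD p] := by
    simp [Nat.ModEq, Nat.add_mul_mod_self_left]
  have hG0 : G0 ≡ p [MOD p ^ 2] := CfsgLib.MetacyclicOdd.geom_prime hodd hR
  obtain ⟨q, hq⟩ : p ∣ G0 := (hG0.dvd_iff (dvd_pow_self p two_ne_zero)).mpr dvd_rfl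
  have hqp : ¬ p ∣ q := fun h => by
    have h2 : p ^ 2 ∣ G0 := by rw [hq, sq]; exact mul_dvd_mul_left p h
    have h3 := (hG0.dvd_iff dvd_rfl).mp h2
    exact absurd (Nat.le_of_dvd hp.out.pos h3) (not_le.mpr (by
      nlinarith [hp.out.two_le]))
  rw [CfsgLib.MetacyclicOdd.pow_eq_geom, Nat.add_sub_cancel_left] at hdvd
  have hdvd2 : p ^ (m - 1) ∣ p * β * p := by
    refine ((Nat.Coprime.pow_left _ ((hp.out.coprime_iff_not_dvd).mpr hqp)).dvd_of_dvd_mul_right ?_)
    rw [mul_assoc (p * β), ← hq]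
    exact hdvd
  set c := w ^ (p * β) * α0 with hcdef
  have hcM : c ∈ D.M := mul_mem (pow_mem hw _) (D.A_le_M hα0)
  have hxwc : x * w * x⁻¹ = c * w := by
    rw [hxw, hcdef, mul_assoc, (D.commute_of_mem_A hα0 hw).eq, ← mul_assoc, ← pow_succ, add_comm]
  have hcpeq : c ^ p = w ^ (p * β * p) := by
    rw [hcdef, (D.commute_of_mem_A hα0 (pow_mem hw _)).symm.mul_pow, D.pow_of_mem_A hα0, mul_one, ← pow_mul]
  have hcpz : c ^ p ∈ zpowers D.z := by
    refine D.mem_zpowers_z_of_pow_eq_one ho (by omega) hz (hcpeq ▸ pow_mem (mem_zpowers w) _) ?_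
    rw [hcpeq, ← pow_mul, ← orderOf_dvd_iff_pow_eq_one, ho,
      show p ^ m = p ^ (m - 1) * p by rw [← pow_succ]; congr 1; omega]
    exact mul_dvd_mul_right hdvd2 p
  set e := c ^ (p * β) * (x * α0 * x⁻¹ * α0⁻¹) with hedef
  have hez : e ∈ zpowers D.z := mul_mem (by rw [pow_mul]; exact pow_mem hcpz β) (D.delta_mem x hα0)
  have hxc : x * c * x⁻¹ = e * c := by
    calc x * c * x⁻¹ = (x * w * x⁻¹) ^ (p * β) * (x * α0 * x⁻¹) := by rw [hcdef, conj_pow]; group
      _ = c ^ (p * β) * w ^ (p * β) * (x * α0 * x⁻¹ * α0⁻¹) * α0 := by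
            rw [hxwc, (D.commute_of_rep hrep hw hcM hw).mul_pow]; group
      _ = c ^ (p * β) * (w ^ (p * β) * (x * α0 * x⁻¹ * α0⁻¹)) * α0 := by group
      _ = c ^ (p * β) * ((x * α0 * x⁻¹ * α0⁻¹) * w ^ (p * β)) * α0 := by
            rw [(D.commute_of_mem_A ((le_sup_left : zpowers D.z ≤ D.A) (D.delta_mem x hα0))
              (pow_mem hw (p * β))).eq]
      _ = _ := by rw [hedef, hcdef]; group
  have h := PCentralPow.conj_pow_iter (f := 1) hxwc hxc (by rw [D.fixed_of_mem_zpowers x hez, one_mul])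
    (by group) (D.commute_of_mem_A ((le_sup_left : zpowers D.z ≤ D.A) hez) hcM).symm (Commute.one_right _)
    (Commute.one_right _) p
  rw [(D.commute_of_rep hrep hw (D.pow_mem_M hG x) hw).eq, mul_inv_cancel_right,
    PCentralPow.pow_choose_two hodd (pow_prime_eq_one_of_mem D.z_ord hez), one_pow, mul_one, mul_one,
    right_eq_mul] at h
  exact ⟨c, D.mem_A_of_pow h hcM, hxwc⟩

include hrep hw in
theorem card_M (ho : orderOf w = p ^ m) (hm : 1 ≤ m) (hz : w ^ p ^ (m - 1) = D.z) :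
    Nat.card D.M = p ^ (m + 1) := by
  have hzw : D.z ∈ zpowers w := hz ▸ pow_mem (mem_zpowers w) _
  have hle : zpowers D.a ≤ normalizer (zpowers w : Set G) := by
    refine le_trans ?_ (centralizer_le_normalizer _)
    rw [zpowers_le, mem_centralizer_iff]
    rintro _ ⟨i, rfl⟩
    exact ((show Commute w D.a from D.mem_M.mp hw).zpow_left i).eq
  have hM : zpowers w ⊔ zpowers D.a = D.M := by
    refine le_antisymm (sup_le (zpowers_le.mpr hw) (zpowers_le.mpr D.a_mem_M)) fun u hu => ?_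
    obtain ⟨i, α, hα, rfl⟩ := hrep u hu
    refine mul_mem (mem_sup_left (pow_mem (mem_zpowers w) i)) ?_
    exact (sup_le (le_trans (zpowers_le.mpr hzw) le_sup_left) le_sup_right : D.A ≤ _) hα
  have hinf : zpowers w ⊓ zpowers D.a = ⊥ := by
    rw [eq_bot_iff]
    intro u hu
    obtain ⟨hu1, hu2⟩ := mem_inf.mp hu
    rw [Subgroup.mem_bot]
    by_contra hne
    have h2 := D.mem_zpowers_z_of_pow_eq_one ho hm hz hu1 (pow_prime_eq_one_of_mem D.pow_eq_one_iff_a hu2)
    refine D.a_notMem ?_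
    rw [← zpowers_eq_of_mem D.z_ord h2 hne, zpowers_eq_of_mem D.pow_eq_one_iff_a hu2 hne]
    exact mem_zpowers _
  have h := CfsgLib.Fusion.Thompson.card_sup_mul_card_inf hle
  rw [hM, hinf, card_bot, mul_one, Nat.card_zpowers, Nat.card_zpowers, ho, D.pow_eq_one_iff_a, ← pow_succ] at h
  exact h

include hrep in
theorem closure_eq_top (hidx : D.M.index = p) {x y : G} (hx : x ∉ D.M) (hz : D.z ∈ zpowers w) (hy : y ∈ D.A)
    (hyz : y ∉ zpowers D.z) : closure ({x, y, w} : Set G) = ⊤ := by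
  set H := closure ({x, y, w} : Set G)
  have hwH : w ∈ H := subset_closure (by simp)
  have hyH : y ∈ H := subset_closure (by simp)
  have hzH : D.z ∈ H := (zpowers_le.mpr hwH) hz
  haveI := D.zpowers_normal
  have hA : zpowers D.z ⊔ zpowers y = D.A := eq_of_le_of_card_ge
    (sup_le le_sup_left (zpowers_le.mpr hy))
    (by rw [D.card_A, CfsgLib.Fusion.NormalRankTwo.sup_zpowers_card hyz (by rw [D.pow_of_mem_A hy]; exact one_mem _),
      Nat.card_zpowers, D.z_ord, sq])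
  have hAH : D.A ≤ H := hA ▸ sup_le (zpowers_le.mpr hzH) (zpowers_le.mpr hyH)
  have hMH : D.M ≤ H := fun u hu => by
    obtain ⟨i, α, hα, rfl⟩ := hrep u hu
    exact mul_mem (pow_mem hwH i) (hAH hα)
  have hd : H.index ∣ p := hidx ▸ Subgroup.index_dvd_of_le hMH
  refine index_eq_one.mp ((hp.out.eq_one_or_self_of_dvd _ hd).resolve_right fun h => hx ?_)
  have heq : D.M = H := eq_of_le_of_card_ge hMH (le_of_eq (Nat.eq_of_mul_eq_mul_right
    (Nat.pos_of_ne_zero (Subgroup.index_ne_zero_of_finite (H := H)))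
    ((Subgroup.card_mul_index H).trans ((Subgroup.card_mul_index D.M).symm.trans (by rw [h, hidx])))))
  rw [heq]
  exact subset_closure (by simp)

theorem eq_add_two {n : ℕ} (hn : Nat.card G = p ^ n) (hidx : D.M.index = p)
    (hcard : Nat.card D.M = p ^ (m + 1)) : n = m + 2 := by
  have h := Subgroup.card_mul_index D.M
  rw [hidx, hcard, hn, ← pow_succ] at h
  exact (Nat.pow_right_injective hp.out.two_le h).symm

include hrep hw in
theorem familyOne_of_commute {n : ℕ} (hn : Nat.card G = p ^ n) (hidx : D.M.index = p) (ho : orderOf w = p ^ m)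
    (hm : 1 ≤ m) (hz : w ^ p ^ (m - 1) = D.z) {x : G} (hx : x ∉ D.M) (hxp : x ^ p = 1) (hxw : Commute x w) :
    FamilyOne p n G := by
  obtain rfl := D.eq_add_two hn hidx (D.card_M hrep hw ho hm hz)
  obtain ⟨b, hb, hb1⟩ := D.conj_a hx
  set k := ((b : ZMod p)⁻¹).val
  have hbk : D.z ^ (b * k) = D.z := by
    conv_rhs => rw [← pow_one D.z]
    refine pow_eq_pow_of_cast D.z_ord ?_
    rw [Nat.cast_mul, ZMod.natCast_zmod_val, Nat.cast_one, mul_inv_cancel₀ (cast_ne_zero_of_pow_ne_one D.z_ord hb1)]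
  have hka : x ^ k * D.a * (x ^ k)⁻¹ = D.z * D.a := by
    have h := PCentralPow.conj_pow_iter (e := 1) (f := 1) hb
      (by rw [D.fixed_of_mem_zpowers x (pow_mem (mem_zpowers _) b), one_mul]) (by group) (by group)
      (Commute.one_right _) (Commute.one_right _) (Commute.one_right _) k
    rwa [one_pow, one_pow, mul_one, mul_one, ← pow_mul, hbk] at h
  refine ⟨by omega, (x ^ k)⁻¹, D.a, w, D.closure_eq_top hrep hidx ?_ (hz ▸ pow_mem (mem_zpowers w) _) D.a_mem_A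
    D.a_notMem, ?_, D.a_pow, ?_, ((hxw.pow_left k).inv_left).eq, (D.mem_M.mp hw).symm, ?_⟩
  · intro h
    have h1 := D.mem_M.mp (inv_mem_iff.mp h)
    rw [h1, mul_inv_cancel_right] at hka
    exact D.z_ne_one (mul_eq_right.mp hka.symm)
  · rw [inv_pow, ← pow_mul, mul_comm, pow_mul, hxp, one_pow, inv_one]
  · rw [show m + 2 - 2 = m by omega, ← ho, pow_orderOf_eq_one]
  · rw [inv_inv, hka, show m + 2 - 3 = m - 1 by omega, hz]
    exact ((Subgroup.mem_center_iff.mp D.z_center) D.a).symm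

include hrep hw in
theorem familyTwo_of_step {n : ℕ} (hn : Nat.card G = p ^ n) (hidx : D.M.index = p) (ho : orderOf w = p ^ m)
    (hm : 2 ≤ m) (hz : w ^ p ^ (m - 1) = D.z) {x c : G} (hx : x ∉ D.M) (hxp : x ^ p = 1) (hc : c ∈ D.A)
    (hcz : c ∉ zpowers D.z) (hxw : x * w * x⁻¹ = c * w) : FamilyTwo p n G := by
  obtain rfl := D.eq_add_two hn hidx (D.card_M hrep hw ho (by omega) hz)
  set e := x * c * x⁻¹ * c⁻¹ with hedef
  have hec : x * c * x⁻¹ = e * c := by rw [hedef]; group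
  have hez : e ∈ zpowers D.z := D.delta_mem x hc
  have he1 : e ≠ 1 := fun h => hcz (D.mem_zpowers_of_fixed hx hc (by rw [hec, h, one_mul]))
  have hee := D.fixed_of_mem_zpowers x hez
  have heA : e ∈ D.A := (le_sup_left : zpowers D.z ≤ D.A) hez
  have hce : Commute c e := D.commute_of_mem_A hc (D.A_le_M heA)
  obtain ⟨r, hr⟩ := exists_pow_eq_of_mem hez
  have hr0 : (r : ZMod p) ≠ 0 := cast_ne_zero_of_pow_ne_one D.z_ord (by rwa [hr])
  obtain ⟨k, s, hk0, hks, hs⟩ : ∃ k s : ℕ, (k : ZMod p) ≠ 0 ∧ (r : ZMod p) * (k * k) = (s : ZMod p) ∧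
      (s = 1 ∨ ¬ IsSquare (s : ZMod p)) := by
    by_cases hsq : IsSquare (r : ZMod p)
    · obtain ⟨q, hq⟩ := hsq
      have hq0 : q ≠ 0 := fun h => hr0 (by rw [hq, h, mul_zero])
      refine ⟨q⁻¹.val, 1, ?_, ?_, Or.inl rfl⟩
      · rw [ZMod.natCast_zmod_val]; exact inv_ne_zero hq0
      · rw [ZMod.natCast_zmod_val, hq, Nat.cast_one]
        field_simp
    · exact ⟨1, r, by rw [Nat.cast_one]; exact one_ne_zero, by simp, Or.inr hsq⟩
  set y := c ^ k * e ^ k.choose 2 with hydef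
  have hyA : y ∈ D.A := mul_mem (pow_mem hc k) (pow_mem heA _)
  have hkw : x ^ k * w * (x ^ k)⁻¹ = y * w := by
    have h := PCentralPow.conj_pow_iter (f := 1) hxw hec (by rw [hee, one_mul]) (by group) hce
      (Commute.one_right _) (Commute.one_right _) k
    rwa [one_pow, mul_one] at h
  have hkc : x ^ k * c * (x ^ k)⁻¹ = e ^ k * c := by
    have h := PCentralPow.conj_pow_iter (e := 1) (f := 1) hec (by rw [hee, one_mul]) (by group) (by group)
      (Commute.one_right _) (Commute.one_right _) (Commute.one_right _) k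
    rwa [one_pow, one_pow, mul_one, mul_one] at h
  have hky : x ^ k * y * (x ^ k)⁻¹ = D.z ^ s * y := by
    have h1 : x ^ k * e ^ k.choose 2 * (x ^ k)⁻¹ = e ^ k.choose 2 :=
      D.fixed_of_mem_zpowers _ (pow_mem hez _)
    have h2 : D.z ^ s = (e ^ k) ^ k := by
      rw [← hr, ← pow_mul, ← pow_mul]
      refine pow_eq_pow_of_cast D.z_ord ?_
      rw [← hks]; push_cast; ring
    calc x ^ k * y * (x ^ k)⁻¹ = (x ^ k * c * (x ^ k)⁻¹) ^ k * (x ^ k * e ^ k.choose 2 * (x ^ k)⁻¹) := by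
          rw [hydef, conj_pow]; group
      _ = (e ^ k) ^ k * c ^ k * e ^ k.choose 2 := by rw [hkc, h1, (hce.symm.pow_left k).mul_pow]
      _ = _ := by rw [h2, hydef, mul_assoc]
  have hzs : D.z ^ s ≠ 1 := fun h => by
    have hd : p ∣ s := dvd_of_pow_eq_one (pow_prime_eq_one_of_mem D.z_ord (mem_zpowers _)) D.z_ne_one h
    rw [(ZMod.natCast_eq_zero_iff s p).mpr hd] at hks
    exact mul_ne_zero hr0 (mul_ne_zero hk0 hk0) hks
  have hyz : y ∉ zpowers D.z := fun h => hzs (by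
    have := D.fixed_of_mem_zpowers (x ^ k) h
    rwa [hky, mul_eq_right] at this)
  have hyw : Commute y w := D.commute_of_mem_A hyA hw
  refine ⟨by omega, s, (x ^ k)⁻¹, y, w, hs, D.closure_eq_top hrep hidx ?_ (hz ▸ pow_mem (mem_zpowers w) _) hyA hyz,
    ?_, D.pow_of_mem_A hyA, ?_, hyw.eq, ?_, ?_⟩
  · intro h
    have hmem := inv_mem_iff.mp h
    rw [← (D.commute_of_mem_A hyA hmem).eq, mul_inv_cancel_right] at hky
    exact hzs (mul_eq_right.mp hky.symm)
  · rw [inv_pow, ← pow_mul, mul_comm, pow_mul, hxp, one_pow, inv_one]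
  · rw [show m + 2 - 2 = m by omega, ← ho, pow_orderOf_eq_one]
  · rw [inv_inv, hky, show m + 2 - 3 = m - 1 by omega, mul_comm s, pow_mul, hz]
    exact (Subgroup.mem_center_iff.mp (pow_mem D.z_center s) y).symm
  · rw [inv_inv, hkw]

include hrep hw in
/-- No element of order `p` outside `M`: only `p = 3` survives, and then centralisers are small. -/
theorem beta_two (hodd : p ≠ 2) (ho : orderOf w = p ^ m) (hm : 2 ≤ m) (hz : w ^ p ^ (m - 1) = D.z) {x c : G}
    (hx : x ∉ D.M) (hno : ∀ g : G, g ∉ D.M → g ^ p ≠ 1) (hc : c ∈ D.A) (hxw : x * w * x⁻¹ = c * w) {s : ℕ}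
    (hxp : x ^ p = (w ^ p) ^ s) : p = 3 ∧ ∀ v ∈ D.M, x * v * x⁻¹ = v → v ∈ zpowers D.z := by
  set e := x * c * x⁻¹ * c⁻¹ with hedef
  have hec : x * c * x⁻¹ = e * c := by rw [hedef]; group
  have hez : e ∈ zpowers D.z := D.delta_mem x hc
  have hee := D.fixed_of_mem_zpowers x hez
  have heA : e ∈ D.A := (le_sup_left : zpowers D.z ≤ D.A) hez
  have hce : Commute c e := D.commute_of_mem_A hc (D.A_le_M heA)
  have hcw : Commute c w := D.commute_of_mem_A hc hw
  set u := (w ^ s)⁻¹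
  set c' := (c ^ s)⁻¹
  set e' := (e ^ s)⁻¹
  have huM : u ∈ D.M := inv_mem (pow_mem hw s)
  have hu : x * u * x⁻¹ = c' * u := by
    calc x * u * x⁻¹ = ((x * w * x⁻¹) ^ s)⁻¹ := by rw [conj_pow]; show x * (w ^ s)⁻¹ * x⁻¹ = _; group
      _ = _ := by rw [hxw, hcw.mul_pow, (hcw.pow_pow s s).eq, mul_inv_rev]
  have hc' : x * c' * x⁻¹ = e' * c' := by
    calc x * c' * x⁻¹ = ((x * c * x⁻¹) ^ s)⁻¹ := by rw [conj_pow]; show x * (c ^ s)⁻¹ * x⁻¹ = _; group
      _ = _ := by rw [hec, hce.symm.mul_pow, (hce.symm.pow_pow s s).eq, mul_inv_rev]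
  have he'z : e' ∈ zpowers D.z := inv_mem (pow_mem hez s)
  have hpow := PCentralPow.mul_pow_iter hu hc' (D.fixed_of_mem_zpowers x he'z) ((hce.pow_pow s s).inv_inv)
    (D.commute_of_mem_A (inv_mem (pow_mem hc s)) huM).symm
    (D.commute_of_mem_A (inv_mem (pow_mem heA s)) huM).symm p
  set y := u * x
  have hyp : y ^ p = e' ^ p.choose 3 := by
    rw [hpow, PCentralPow.pow_choose_two hodd (D.pow_of_mem_A (inv_mem (pow_mem hc s))), mul_one, hxp,
      mul_assoc, (Subgroup.mem_center_iff.mp (show e' ^ p.choose 3 ∈ center G from ?_) ((w ^ p) ^ s)).symm,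
      ← mul_assoc]
    · rw [inv_pow, ← pow_mul, ← pow_mul, mul_comm s p, inv_mul_cancel, one_mul]
    · obtain ⟨i, hi⟩ := he'z
      exact hi ▸ pow_mem (zpow_mem D.z_center i) _
  have hyM : y ∉ D.M := fun h => hx (by
    have := mul_mem (inv_mem huM) h
    rwa [inv_mul_cancel_left] at this)
  have hp3 : p = 3 := by
    by_contra h3
    have := hp.out.two_le
    exact hno y hyM (by rw [hyp, PCentralPow.pow_choose_three (by omega) (pow_prime_eq_one_of_mem D.z_ord he'z)])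
  refine ⟨hp3, ?_⟩
  have he1 : e ≠ 1 := fun h => hno y hyM (by rw [hyp, show e' = 1 by simp [e', h], one_pow])
  have hm2 : m = 2 := by
    by_contra hne
    set v := w ^ p ^ (m - 2) with hvdef
    have hvp : v ^ p = D.z := by rw [hvdef, ← pow_mul, ← pow_succ, show m - 2 + 1 = m - 1 by omega, hz]
    have hxv : Commute x v := by
      have h1 : x * v * x⁻¹ = v := by
        obtain ⟨l, hl⟩ : p ∣ p ^ (m - 2) := dvd_pow_self p (by omega)
        rw [hvdef, ← conj_pow, hxw, hcw.mul_pow, hl, pow_mul c, D.pow_of_mem_A hc, one_pow, one_mul]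
      exact mul_inv_eq_iff_eq_mul.mp h1
    obtain ⟨k, hk⟩ := exists_pow_eq_of_mem (pow_mem he'z (p.choose 3))
    have hyv : Commute y v := (D.commute_of_rep hrep hw huM (pow_mem hw _)).mul_left hxv
    refine hno (y * (v ^ k)⁻¹) (fun h => hyM ?_) ?_
    · have := mul_mem h (pow_mem (pow_mem hw (p ^ (m - 2))) k)
      rwa [← hvdef, inv_mul_cancel_right] at this
    · rw [(hyv.pow_right k).inv_right.mul_pow, hyp, inv_pow (v ^ k), ← pow_mul v, mul_comm k, pow_mul v, hvp, hk,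
        mul_inv_cancel]
  intro v hv hfix
  refine D.mem_zpowers_of_fixed hx ?_ hfix
  obtain ⟨j, α, hα, rfl⟩ := hrep v hv
  have h1 : c ^ j * (x * α * x⁻¹ * α⁻¹) = 1 := by
    have h2 : x * (w ^ j * α) * x⁻¹ = c ^ j * w ^ j * (x * α * x⁻¹ * α⁻¹) * α := by
      rw [← hcw.mul_pow, ← hxw, conj_pow]; group
    rw [hfix, mul_assoc (c ^ j), ← (D.commute_of_mem_A ((le_sup_left : zpowers D.z ≤ D.A) (D.delta_mem x hα))
      (pow_mem hw j)).eq] at h2
    have h3 : w ^ j * α = (c ^ j * (x * α * x⁻¹ * α⁻¹)) * (w ^ j * α) :=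
      h2.trans (by simp only [mul_assoc])
    exact mul_eq_right.mp h3.symm
  have hcj : c ^ j ∈ zpowers D.z := by
    rw [mul_eq_one_iff_eq_inv.mp h1]
    exact inv_mem (D.delta_mem x hα)
  have hej := D.fixed_of_mem_zpowers x hcj
  rw [← conj_pow, hec, hce.symm.mul_pow, mul_eq_right] at hej
  obtain ⟨l, rfl⟩ := dvd_of_pow_eq_one (pow_prime_eq_one_of_mem D.z_ord hez) he1 hej
  subst hm2
  refine mul_mem ?_ hα
  rw [pow_mul]
  refine pow_mem ?_ l
  rw [show (2 - 1 : ℕ) = 1 from rfl, pow_one] at hz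
  rw [hz]
  exact D.z_mem_A

end Cyclic

end Data

theorem lcs_ne_bot (hG : IsPGroup p G) {n : ℕ} (hn : Nat.card G = p ^ n) (h3 : 3 ≤ n) (D : Data p G)
    (hidx : D.M.index = p) {x : G} (hx : x ∉ D.M)
    (hfix : ∀ v ∈ D.M, x * v * x⁻¹ = v → v ∈ zpowers D.z) : (⊤ : Subgroup G).lowerCentralSeries (n - 2) ≠ ⊥ :=
  CfsgLib.PGroup.SmallCentralizer.lcs_top_ne_bot hn (D.card_centralizer hG hx hidx hfix) h3

/-- A noncyclic `p`-group without elementary abelian subgroup of order `p³` has the data. -/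
theorem nonempty_data (hodd : p ≠ 2) (hG : IsPGroup p G) (hcyc : ¬ IsCyclic G)
    (hrk : ∀ E : Subgroup G, Cfsg.IsElementaryAbelian p E → Nat.card E ≤ p ^ 2) : Nonempty (Data p G) := by
  obtain ⟨E, -, hEn, hE, hEc⟩ := CfsgLib.Fusion.NormalRankTwo.exists_normal_rankTwo hG hodd
    (S := (⊤ : Subgroup G)) (fun h => hcyc (isCyclic_of_surjective _ (Subgroup.topEquiv (G := G)).surjective))
  haveI := hEn
  obtain ⟨z, hzE, hz1, -, hzc⟩ := CfsgLib.Fusion.NormalRankTwo.exists_central_of_lt hG (M := (⊥ : Subgroup G))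
    (N := E) (fun h => by
      rw [le_bot_iff.mp h, card_bot] at hEc
      exact absurd hEc.symm (Nat.one_lt_pow (by norm_num) hp.out.one_lt).ne')
  have hzC : z ∈ center G := Subgroup.mem_center_iff.mpr fun g =>
    commutatorElement_eq_one_iff_mul_comm.mp (Subgroup.mem_bot.mp (hzc g))
  have hzo : orderOf z = p := orderOf_eq_prime (hE.2 z hzE) (fun h => hz1 (h ▸ one_mem _))
  haveI : (zpowers z).Normal := ⟨fun u hu g => by
    obtain ⟨i, rfl⟩ := hu
    show g * z ^ i * g⁻¹ ∈ _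
    rw [Subgroup.mem_center_iff.mp (zpow_mem hzC i) g, mul_inv_cancel_right]
    exact ⟨i, rfl⟩⟩
  obtain ⟨a, haE, haz, -, hac⟩ := CfsgLib.Fusion.NormalRankTwo.exists_central_of_lt hG (M := zpowers z) (N := E)
    (fun h => by
      have := card_le_of_le h
      rw [hEc, Nat.card_zpowers, hzo, sq] at this
      nlinarith [hp.out.two_le])
  have hA : zpowers z ⊔ zpowers a = E := eq_of_le_of_card_ge (sup_le (zpowers_le.mpr hzE) (zpowers_le.mpr haE))
    (by rw [hEc, CfsgLib.Fusion.NormalRankTwo.sup_zpowers_card haz (by rw [hE.2 a haE]; exact one_mem _),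
      Nat.card_zpowers, hzo, sq])
  refine ⟨⟨z, a, hzC, hzo, hE.2 a haE, haz, hac, fun u hu hua => ?_⟩⟩
  rw [hA]
  have hle : zpowers u ≤ centralizer (E : Set G) := by
    rw [zpowers_le]
    refine mem_centralizer_iff.mpr fun v hv => ?_
    have h2 : v ∈ centralizer ({u} : Set G) := by
      have hle2 : zpowers z ⊔ zpowers a ≤ centralizer ({u} : Set G) :=
        sup_le (zpowers_le.mpr (mem_centralizer_singleton_iff.mpr (Subgroup.mem_center_iff.mp hzC u).symm))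
          (zpowers_le.mpr (mem_centralizer_singleton_iff.mpr hua.eq.symm))
      exact hle2 (hA ▸ hv)
    exact mem_centralizer_singleton_iff.mp h2
  exact CfsgLib.Fusion.RankTwoOmega.card_le_sq hrk hE hEc hle (mem_zpowers u) hu

/-- **Blackburn.** Odd `p`-groups without elementary abelian subgroup of order `p³`. -/
theorem classification (hodd : p ≠ 2) {n : ℕ} (hn : Nat.card G = p ^ n)
    (hrk : ∀ E : Subgroup G, Cfsg.IsElementaryAbelian p E → Nat.card E ≤ p ^ 2) :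
    Cfsg.IsMetacyclic G ∨ FamilyOne p n G ∨ FamilyTwo p n G ∨
      (p = 3 ∧ 2 ≤ n ∧ (⊤ : Subgroup G).lowerCentralSeries (n - 2) ≠ ⊥) := by
  have hG : IsPGroup p G := IsPGroup.of_card hn
  by_cases hcyc : IsCyclic G
  · exact Or.inl ⟨⊥, inferInstance, inferInstance,
      isCyclic_of_surjective (QuotientGroup.mk' ⊥) (QuotientGroup.mk'_surjective ⊥)⟩
  obtain ⟨D⟩ := nonempty_data hodd hG hcyc hrk
  set L := closure {u : G | ∃ v ∈ D.M, v ^ p = u}
  have hL : Nat.card D.M ≤ Nat.card L * p ^ 2 := by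
    have := PCentralPow.card_le_powers hodd hG D.central_in_M (A := D.A) fun u hu h => D.mem_A_of_pow h hu
    rwa [D.card_A] at this
  set P := closure {u : G | ∃ v : G, v ^ p = u}
  have hLP : L ≤ P := closure_mono fun u ⟨v, _, h⟩ => ⟨v, h⟩
  have hPmeta : Nat.card G ≤ Nat.card P * p ^ 2 → Cfsg.IsMetacyclic G := fun h => by
    refine PowerIndex.isMetacyclic hodd hG ?_
    have h2 := Subgroup.card_mul_index P
    exact Nat.le_of_mul_le_mul_left (h2.le.trans h) Nat.card_pos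
  rcases D.M_index with htop | hidx
  · refine Or.inl (hPmeta ?_)
    rw [htop, card_top] at hL
    exact hL.trans (Nat.mul_le_mul_right _ (card_le_of_le hLP))
  haveI := D.M_normal
  have hMc : Nat.card G = Nat.card D.M * p := (Subgroup.card_mul_index D.M).symm.trans (by rw [hidx])
  have h3 : 3 ≤ n := by
    have h1 := Nat.mul_le_mul_right p (card_le_of_le D.A_le_M)
    rw [D.card_A, ← hMc, hn, ← pow_succ] at h1
    exact (Nat.pow_le_pow_iff_right hp.out.one_lt).mp h1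
  by_cases hex : ∃ x : G, x ∉ D.M ∧ x ^ p = 1
  · -- an element of order `p` outside `M`
    obtain ⟨x, hx, hxp⟩ := hex
    rcases D.dichotomy hodd hG with ⟨d, hd, hdA, hdz⟩ | ⟨w, hw, hrep⟩
    · obtain ⟨hp3, hfix⟩ := D.alpha hodd hG hx hd hdA hdz (by rw [hxp]; exact Commute.one_left d)
      exact Or.inr (Or.inr (Or.inr ⟨hp3, by omega, lcs_ne_bot hG hn h3 D hidx hx hfix⟩))
    by_cases hwA : w ∈ D.A
    · refine Or.inr (Or.inl (D.familyOne_of_commute (w := D.z) (m := 1) ?_ D.z_mem_M hn hidx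
        (by rw [pow_one]; exact D.z_ord) le_rfl (by simp) hx hxp ?_))
      · intro u hu
        obtain ⟨i, α, hα, rfl⟩ := hrep u hu
        exact ⟨0, w ^ i * α, mul_mem (pow_mem hwA i) hα, by rw [pow_zero, one_mul]⟩
      · exact Subgroup.mem_center_iff.mp D.z_center x
    obtain ⟨m, hm, ho, hω, hω1⟩ := D.exists_omega hrep hw hG hx hwA
    set D' := D.changeZ hω hω1 with hD'
    have hA' : D'.A = D.A := D.changeZ_A hω hω1
    have hrep' : ∀ u ∈ D'.M, ∃ i : ℕ, ∃ α ∈ D'.A, u = w ^ i * α := by rw [hA']; exact hrep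
    obtain ⟨c, hc, hxw⟩ := D'.exists_step hrep' hw hodd hG x (by rwa [hA']) ho hm rfl
    by_cases hcz : c ∈ zpowers D'.z
    · obtain ⟨b, hb, hb1⟩ := D'.conj_a (x := x) hx
      have hcb : c⁻¹ ∈ zpowers (D'.z ^ b) := by
        rw [zpowers_eq_of_mem D'.z_ord (pow_mem (mem_zpowers _) b) hb1]; exact inv_mem hcz
      obtain ⟨l, hl⟩ := exists_pow_eq_of_mem hcb
      have haw : Commute w D'.a := D'.mem_M.mp hw
      have hwpow : ∀ j, 1 ≤ j → (w * D'.a ^ l) ^ p ^ j = w ^ p ^ j := fun j hj => by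
        obtain ⟨t, ht⟩ : p ∣ p ^ j := dvd_pow_self p (by omega)
        rw [(haw.pow_right l).mul_pow, ← pow_mul D'.a, mul_comm, ht, mul_assoc, pow_mul D'.a,
          D'.a_pow, one_pow, mul_one]
      have hz' : (w * D'.a ^ l) ^ p ^ (m - 1) = D'.z := hwpow _ (by omega)
      refine Or.inr (Or.inl (D'.familyOne_of_commute (w := w * D'.a ^ l) (m := m) ?_
        (mul_mem hw (pow_mem D'.a_mem_M l)) hn hidx ?_ (by omega) hz' hx hxp ?_))
      · intro u hu
        obtain ⟨i, α, hα, rfl⟩ := hrep' u hu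
        refine ⟨i, ((D'.a ^ l) ^ i)⁻¹ * α, mul_mem (inv_mem (pow_mem (pow_mem D'.a_mem_A l) i)) hα, ?_⟩
        rw [(haw.pow_right l).mul_pow]; group
      · obtain ⟨j, rfl⟩ : ∃ j, m = j + 1 := ⟨m - 1, by omega⟩
        refine orderOf_eq_prime_pow ?_ ?_
        · rw [show j = j + 1 - 1 from rfl, hz']; exact D'.z_ne_one
        · rw [hwpow _ (by omega), ← ho, pow_orderOf_eq_one]
      · have hz'b : Commute (D'.z ^ b) D'.a := (Subgroup.mem_center_iff.mp (pow_mem D'.z_center b) _).symm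
        show x * (w * D'.a ^ l) = w * D'.a ^ l * x
        rw [← mul_inv_eq_iff_eq_mul]
        calc x * (w * D'.a ^ l) * x⁻¹ = (x * w * x⁻¹) * (x * D'.a * x⁻¹) ^ l := by rw [conj_pow]; group
          _ = c * w * (c⁻¹ * D'.a ^ l) := by rw [hxw, hb, hz'b.mul_pow, hl]
          _ = w * D'.a ^ l := by
              have h1 : Commute w c⁻¹ := (D'.commute_of_mem_A (inv_mem hc) hw).symm
              rw [mul_assoc c, ← mul_assoc w, h1.eq]; group
    · exact Or.inr (Or.inr (Or.inl (D'.familyTwo_of_step hrep' hw hn hidx ho hm rfl hx hxp hc hcz hxw)))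
  -- no element of order `p` outside `M`
  push Not at hex
  obtain ⟨x, hx⟩ := SetLike.exists_not_mem_of_ne_top D.M
    (fun h => hp.out.ne_one (by rw [← hidx, h, index_top])) rfl
  by_cases hxL : x ^ p ∈ L
  swap
  · refine Or.inl (hPmeta ?_)
    have hlt : L < P := lt_of_le_of_ne hLP fun h => hxL (h ▸ subset_closure ⟨x, rfl⟩)
    have h1 := CfsgLib.Fusion.MaxClass.card_mul_le_of_lt hG hlt
    rw [hMc]
    exact (Nat.mul_le_mul_right p hL).trans
      (le_of_eq_of_le (by ring) (Nat.mul_le_mul_right (p ^ 2) h1))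
  rcases D.dichotomy hodd hG with ⟨d, hd, hdA, hdz⟩ | ⟨w, hw, hrep⟩
  · have hLd : L ≤ centralizer ({d} : Set G) := (closure_le _).mpr (by
      rintro _ ⟨v, hv, rfl⟩
      exact mem_centralizer_singleton_iff.mpr (PCentralPow.commute_pow hodd hG D.central_in_M hv hd
        (fun u hu => D.commute_of_mem_A hdA hu)).eq)
    obtain ⟨hp3, hfix⟩ := D.alpha hodd hG hx hd hdA hdz (mem_centralizer_singleton_iff.mp (hLd hxL))
    exact Or.inr (Or.inr (Or.inr ⟨hp3, by omega, lcs_ne_bot hG hn h3 D hidx hx hfix⟩))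
  have hLw : L ≤ zpowers (w ^ p) := (closure_le _).mpr (by
    rintro _ ⟨v, hv, rfl⟩
    obtain ⟨i, α, hα, rfl⟩ := hrep v hv
    rw [(D.commute_of_mem_A hα (pow_mem hw i)).symm.mul_pow, D.pow_of_mem_A hα, mul_one, ← pow_mul,
      mul_comm, pow_mul]
    exact pow_mem (mem_zpowers _) i)
  obtain ⟨s, hs⟩ := exists_pow_eq_of_mem (hLw hxL)
  have hwA : w ∉ D.A := fun h => hex x hx (by rw [← hs, D.pow_of_mem_A h, one_pow])
  obtain ⟨m, hm, ho, hω, hω1⟩ := D.exists_omega hrep hw hG hx hwA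
  set D' := D.changeZ hω hω1 with hD'
  have hA' : D'.A = D.A := D.changeZ_A hω hω1
  have hrep' : ∀ u ∈ D'.M, ∃ i : ℕ, ∃ α ∈ D'.A, u = w ^ i * α := by rw [hA']; exact hrep
  obtain ⟨c, hc, hxw⟩ := D'.exists_step hrep' hw hodd hG x (by rwa [hA']) ho hm rfl
  obtain ⟨hp3, hfix⟩ := D'.beta_two hrep' hw hodd ho hm rfl (x := x) hx hex hc hxw hs.symm
  exact Or.inr (Or.inr (Or.inr ⟨hp3, by omega, lcs_ne_bot hG hn h3 D' hidx hx hfix⟩))

end CfsgLib.PGroup.RankTwoOdd
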