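import Cfsg.Agent.Lib.KGroups.OmegaFaithful
import Cfsg.Agent.Lib.PGroup.Regular
import Mathlib

/-!
Odd `p`: in a `p`-group whose elements of order `p` are central, equal `p`-th powers differ by an element of
order `p`; formulas for iterated conjugation.
-/

set_option autoImplicit false
set_option linter.style.haveILetI false

namespace CfsgLib.PGroup.PCentralPow

variable {G : Type*} [Group G]

/-- Iterated conjugation with three steps. -/
theorem conj_pow_iter {x u c e f : G} (h1 : x * u * x⁻¹ = c * u) (h2 : x * c * x⁻¹ = e * c)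
    (h3 : x * e * x⁻¹ = f * e) (h4 : x * f * x⁻¹ = f) (hce : Commute c e) (hcf : Commute c f)
    (hef : Commute e f) :
    ∀ n : ℕ, x ^ n * u * (x ^ n)⁻¹ = c ^ n * e ^ n.choose 2 * f ^ n.choose 3 * u := by
  intro n
  induction n with
  | zero => simp
  | succ n ih =>
    have q1 : c ^ n * (f ^ n.choose 2 * e ^ n.choose 2) * f ^ n.choose 3 =
        c ^ n * e ^ n.choose 2 * f ^ (n.choose 2 + n.choose 3) := by
      rw [← (hef.pow_pow _ _).eq, pow_add]; group
    calc x ^ (n + 1) * u * (x ^ (n + 1))⁻¹ = x * (x ^ n * u * (x ^ n)⁻¹) * x⁻¹ := by rw [pow_succ']; group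
      _ = (x * c * x⁻¹) ^ n * (x * e * x⁻¹) ^ n.choose 2 * (x * f * x⁻¹) ^ n.choose 3 * (x * u * x⁻¹) := by
          rw [ih, conj_pow, conj_pow, conj_pow]; group
      _ = e ^ n * (c ^ n * (f ^ n.choose 2 * e ^ n.choose 2) * f ^ n.choose 3) * (c * u) := by
          rw [h1, h2, h3, h4, hce.symm.mul_pow, hef.symm.mul_pow]; group
      _ = e ^ n * (c ^ n * e ^ n.choose 2 * f ^ (n.choose 2 + n.choose 3)) * (c * u) := by rw [q1]
      _ = e ^ n * c ^ n * e ^ n.choose 2 * (f ^ (n.choose 2 + n.choose 3) * c) * u := by group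
      _ = c ^ n * (e ^ n * e ^ n.choose 2 * c) * f ^ (n.choose 2 + n.choose 3) * u := by
          rw [(hcf.symm.pow_left _).eq, (hce.symm.pow_pow n n).eq]; group
      _ = c ^ n * (c * e ^ (n + n.choose 2)) * f ^ (n.choose 2 + n.choose 3) * u := by
          rw [← pow_add, (hce.symm.pow_left _).eq]
      _ = _ := by
          rw [Nat.choose_succ_succ n 1, Nat.choose_succ_succ n 2, Nat.choose_one_right, pow_succ c]
          simp only [mul_assoc]

/-- Powers of `u * x` when conjugation by `x` is unipotent on `u`. -/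
theorem mul_pow_iter {x u c e : G} (h1 : x * u * x⁻¹ = c * u) (h2 : x * c * x⁻¹ = e * c)
    (h3 : x * e * x⁻¹ = e) (hce : Commute c e) (huc : Commute u c) (hue : Commute u e) :
    ∀ n : ℕ, (u * x) ^ n = u ^ n * c ^ n.choose 2 * e ^ n.choose 3 * x ^ n := by
  intro n
  induction n with
  | zero => simp
  | succ n ih =>
    have hc := conj_pow_iter (f := 1) h1 h2 (by rw [h3, one_mul]) (by group) hce (Commute.one_right _)
      (Commute.one_right _) n
    rw [one_pow, mul_one] at hc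
    have q1 : x ^ n * u = c ^ n * e ^ n.choose 2 * u * x ^ n := by rw [← hc]; group
    calc (u * x) ^ (n + 1) = u ^ n * c ^ n.choose 2 * e ^ n.choose 3 * (x ^ n * u) * x := by
          rw [pow_succ, ih]; group
      _ = u ^ n * c ^ n.choose 2 * (e ^ n.choose 3 * c ^ n) * e ^ n.choose 2 * u * x ^ (n + 1) := by
          rw [q1, pow_succ]; group
      _ = u ^ n * (c ^ (n.choose 2 + n) * e ^ (n.choose 3 + n.choose 2) * u) * x ^ (n + 1) := by
          rw [← (hce.pow_pow _ _).eq, pow_add, pow_add]; group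
      _ = u ^ (n + 1) * c ^ (n.choose 2 + n) * e ^ (n.choose 3 + n.choose 2) * x ^ (n + 1) := by
          rw [← ((huc.pow_right _).mul_right (hue.pow_right _)).eq, pow_succ]; group
      _ = _ := by
          rw [Nat.choose_succ_succ n 1, Nat.choose_succ_succ n 2, Nat.choose_one_right, add_comm (n.choose 2) n,
            add_comm (n.choose 3)]

variable [Finite G] {p : ℕ} [hp : Fact p.Prime]

omit [Finite G] in
theorem pow_choose_two {d : G} (hodd : p ≠ 2) (hd : d ^ p = 1) : d ^ p.choose 2 = 1 := by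
  obtain ⟨k, hk⟩ := hp.out.dvd_choose_self two_ne_zero (lt_of_le_of_ne hp.out.two_le (Ne.symm hodd))
  rw [hk, pow_mul, hd, one_pow]

omit [Finite G] in
theorem pow_choose_three {d : G} (h3 : 3 < p) (hd : d ^ p = 1) : d ^ p.choose 3 = 1 := by
  obtain ⟨k, hk⟩ := hp.out.dvd_choose_self (by norm_num) h3
  rw [hk, pow_mul, hd, one_pow]

/-- If all elements of order dividing `p` of `M` are central in `M` then `x ^ p = v ^ p` forces `(v⁻¹ x) ^ p = 1`. -/
theorem inv_mul_pow_eq_one (hodd : p ≠ 2) (hG : IsPGroup p G) {M : Subgroup G}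
    (hc : ∀ u ∈ M, u ^ p = 1 → ∀ m ∈ M, Commute u m) {x v : G} (hx : x ∈ M) (hv : v ∈ M) (h : x ^ p = v ^ p) :
    (v⁻¹ * x) ^ p = 1 := by
  induction hn : Nat.card (Subgroup.closure ({x, v} : Set G)) using Nat.strong_induction_on generalizing x v with
  | _ n ih =>
    subst hn
    by_cases hxv : x * v = v * x
    · rw [(show Commute v⁻¹ x from (show Commute v x from hxv.symm).inv_left).mul_pow, h, inv_pow, inv_mul_cancel]
    set y := v⁻¹ * x * v
    have hy : y ∈ M := mul_mem (mul_mem (inv_mem hv) hx) hv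
    have hyp : x ^ p = y ^ p := by
      show x ^ p = (v⁻¹ * x * v) ^ p
      have : (v⁻¹ * x * v) ^ p = v⁻¹ * x ^ p * v := by
        conv_lhs => rw [show v = (v⁻¹)⁻¹ from (inv_inv v).symm, inv_inv v⁻¹]
        rw [conj_pow, inv_inv]
      rw [this, h, mul_assoc, ← pow_succ, pow_succ', inv_mul_cancel_left]
    have hlt := CfsgLib.PGroup.Regular.card_lt_of_lt (CfsgLib.PGroup.Regular.closure_conj_lt hG hxv)
    have hcp : (y⁻¹ * x) ^ p = 1 := ih _ hlt hx hy hyp rfl
    set c := y⁻¹ * x with hcdef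
    have hcM : c ∈ M := mul_mem (inv_mem hy) hx
    have hcx := hc c hcM hcp x hx
    have hcv := hc c hcM hcp v hv
    have hsw : x * v⁻¹ = v⁻¹ * x * c := by
      have e1 : v⁻¹ * x * c = y * v⁻¹ * c := by show _ = v⁻¹ * x * v * v⁻¹ * c; group
      rw [e1, mul_assoc, ← hcv.inv_right.eq, ← mul_assoc, hcdef, mul_inv_cancel_left]
    rw [CfsgLib.KGroups.OmegaFaithful.class_two_pow hsw hcv.symm.inv_left hcx.symm, inv_pow, h, inv_mul_cancel,
      one_mul, pow_choose_two hodd hcp]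

/-- The `p`-th powers of `M` commute with the elements whose `p`-th power is central in `M`. -/
theorem commute_pow (hodd : p ≠ 2) (hG : IsPGroup p G) {M : Subgroup G}
    (hc : ∀ u ∈ M, u ^ p = 1 → ∀ m ∈ M, Commute u m) {v d : G} (hv : v ∈ M) (hd : d ∈ M)
    (hdp : ∀ m ∈ M, Commute (d ^ p) m) : Commute (v ^ p) d := by
  have h1 : (v * d * v⁻¹) ^ p = d ^ p := by rw [conj_pow, ← (hdp v hv).eq, mul_inv_cancel_right]
  have hM : v * d * v⁻¹ ∈ M := mul_mem (mul_mem hv hd) (inv_mem hv)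
  set c := d⁻¹ * (v * d * v⁻¹) with hcdef
  have hcp : c ^ p = 1 := inv_mul_pow_eq_one hodd hG hc hM hd h1
  have hcM : c ∈ M := mul_mem (inv_mem hd) hM
  have e1 : v * d * v⁻¹ = c * d := by rw [(hc c hcM hcp d hd).eq, hcdef, mul_inv_cancel_left]
  have e2 : v * c * v⁻¹ = 1 * c := by rw [one_mul, ← (hc c hcM hcp v hv).eq, mul_inv_cancel_right]
  have h := conj_pow_iter (e := 1) (f := 1) e1 e2 (by group) (by group) (Commute.one_right _)
    (Commute.one_right _) (Commute.one_right _) p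
  rw [hcp, one_pow, one_pow, one_mul, one_mul, one_mul, mul_inv_eq_iff_eq_mul] at h
  exact h

/-- `(c d) ^ p = c ^ p d ^ p` when `d ^ p` is central in `M`. -/
theorem mul_pow_of_central (hodd : p ≠ 2) (hG : IsPGroup p G) {M : Subgroup G}
    (hc : ∀ u ∈ M, u ^ p = 1 → ∀ m ∈ M, Commute u m) {c d : G} (hcM : c ∈ M) (hd : d ∈ M)
    (hdp : ∀ m ∈ M, Commute (d ^ p) m) : (c * d) ^ p = c ^ p * d ^ p := by
  have h1 : (c⁻¹ * d * c) ^ p = d ^ p := by
    conv_lhs => rw [show c = (c⁻¹)⁻¹ from (inv_inv c).symm, inv_inv c⁻¹]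
    rw [conj_pow, inv_inv, mul_assoc, (hdp c hcM).eq, inv_mul_cancel_left]
  have hM : c⁻¹ * d * c ∈ M := mul_mem (mul_mem (inv_mem hcM) hd) hcM
  set k := d⁻¹ * (c⁻¹ * d * c) with hkdef
  have hkp : k ^ p = 1 := inv_mul_pow_eq_one hodd hG hc hM hd h1
  have hkM : k ∈ M := mul_mem (inv_mem hd) hM
  have hsw : d * c = c * d * k := by rw [hkdef]; group
  rw [CfsgLib.KGroups.OmegaFaithful.class_two_pow hsw (hc k hkM hkp c hcM).symm (hc k hkM hkp d hd).symm,
    pow_choose_two hodd hkp, mul_one]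

/-- The `p`-th powers of `M` generate a subgroup of small index in `M`. -/
theorem card_le_powers (hodd : p ≠ 2) (hG : IsPGroup p G) {M A : Subgroup G}
    (hc : ∀ u ∈ M, u ^ p = 1 → ∀ m ∈ M, Commute u m) (hA : ∀ u ∈ M, u ^ p = 1 → u ∈ A) :
    Nat.card M ≤ Nat.card (Subgroup.closure {u : G | ∃ m ∈ M, m ^ p = u}) * Nat.card A := by
  set L := Subgroup.closure {u : G | ∃ m ∈ M, m ^ p = u}
  have hsec : ∀ m : M, ∃ r : M, (r : G) ^ p = (m : G) ^ p := fun m => ⟨m, rfl⟩
  let S : Set G := {u | ∃ m ∈ M, m ^ p = u}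
  have hex : ∀ u : S, ∃ r : M, (r : G) ^ p = u := fun u => ⟨⟨u.2.choose, u.2.choose_spec.1⟩, u.2.choose_spec.2⟩
  choose sec hsecp using hex
  let key : M → S := fun m => ⟨(m : G) ^ p, m, m.2, rfl⟩
  have hmem : ∀ m : M, ((sec (key m) : G))⁻¹ * m ∈ A := fun m =>
    hA _ (mul_mem (inv_mem (sec (key m)).2) m.2)
      (inv_mul_pow_eq_one hodd hG hc m.2 (sec (key m)).2 (hsecp (key m)).symm)
  refine le_of_le_of_eq (Nat.card_le_card_of_injective
    (fun m : M => ((⟨(key m : G), Subgroup.subset_closure (key m).2⟩ : L), (⟨_, hmem m⟩ : A)))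
    fun m m' h => ?_) (Nat.card_prod _ _)
  have e1 : key m = key m' := Subtype.ext (congrArg (fun t : L × A => (t.1 : G)) h)
  have e2 : ((sec (key m) : G))⁻¹ * m = ((sec (key m') : G))⁻¹ * m' := congrArg (fun t : L × A => (t.2 : G)) h
  rw [e1] at e2
  exact Subtype.ext (mul_left_cancel e2)

end CfsgLib.PGroup.PCentralPow
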