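import Cfsg.Agent.Lib.PGroup.SLDefectZero

/-!
A finite group with a big cell has at most one character of defect zero.
-/

set_option autoImplicit false
set_option linter.unusedSectionVars false
set_option linter.style.haveILetI false

namespace CfsgLib.PGroup.BigCell

open Cfsg CfsgLib.Blocks
open CfsgLib.PGroup.SLDefectZero (sum_eq_card_mul)
open scoped Classical

variable {G : Type*} [Group G] {p : ℕ}

/-- `y` lies in `U A U`. -/
def InUAU (U : Subgroup G) (A : Set G) (y : G) : Prop :=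
  ∃ r ∈ U, ∃ a ∈ A, ∃ s ∈ U, y = r * a * s

/-- A Sylow subgroup `U` and a set `A` of representatives of a big cell `U A U`. -/
structure IsBigCell (p : ℕ) (U : Subgroup G) (A : Set G) : Prop where
  card_U : Nat.card U = p ^ (Nat.card G).factorization p
  nonempty : A.Nonempty
  inv_mem : ∀ a ∈ A, a⁻¹ ∈ A
  decomp : ∀ {r r' a a' s s' : G}, r ∈ U → r' ∈ U → a ∈ A → a' ∈ A → s ∈ U → s' ∈ U →
    r * a * s = r' * a' * s' → r = r' ∧ a = a' ∧ s = s'
  inter : ∀ y, ¬ InUAU U A y → ∃ d ∈ U, d ≠ 1 ∧ y * d * y⁻¹ ∈ U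
  /-- Summing a function supported on the cell over a translate of `U` forgets the representative. -/
  kernel : ∀ [Fintype U] {M : Ideal AlgInt}, IsPModular p M → ∀ f : G → ℂ, (∀ y, MemLocalRing M (f y)) →
    (∀ u ∈ U, ∀ y, f (u * y) = f y) → (∀ u ∈ U, ∀ y, f (y * u) = f y) →
    (∀ y, ¬ InUAU U A y → MemLocalIdeal M (f y)) → ∀ a ∈ A, ∀ g ∈ A, ∀ g' ∈ A,
      MemLocalIdeal M ((∑ s : U, f (g * (s : G) * a⁻¹)) - ∑ s : U, f (g' * (s : G) * a⁻¹))

variable [Fintype G] [Fact p.Prime] {M : Ideal AlgInt} {U : Subgroup G} {A : Set G}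

noncomputable local instance (H : Subgroup G) : Fintype H := Fintype.ofFinite _

theorem IsBigCell.isPGroup (hc : IsBigCell p U A) : IsPGroup p U := IsPGroup.of_card hc.card_U

/-- The sum of the block idempotent of `χ` over a coset of `U`. -/
noncomputable def Fsum (U : Subgroup G) (χ : IrrCharacter G) (y : G) : ℂ :=
  ∑ z : U, blockCoeff ({χ} : Set (IrrCharacter G)) ((z : G) * y)

/-- A character of defect zero. -/
def DZ (χ : IrrCharacter G) : Prop := degVal p χ = (Nat.card G).factorization p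

theorem isPBlock_single (hM : IsPModular p M) {χ : IrrCharacter G} (hχ : DZ (p := p) χ) :
    IsPBlock M ({χ} : Set (IrrCharacter G)) := by
  have := isPBlock_blockOf (M := M) χ
  rwa [(blockOf_eq_singleton_iff hM χ).2 hχ] at this

theorem bc_comm (χ : IrrCharacter G) (x y : G) :
    blockCoeff ({χ} : Set (IrrCharacter G)) (x * y) = blockCoeff ({χ} : Set (IrrCharacter G)) (y * x) := by
  have h := blockCoeff_isClassFunction ({χ} : Set (IrrCharacter G)) (y * x) x
  simp only at h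
  rw [← h]
  congr 1
  group

theorem Fsum_left (χ : IrrCharacter G) {u : G} (hu : u ∈ U) (y : G) :
    Fsum U χ (u * y) = Fsum U χ y :=
  Fintype.sum_equiv (Equiv.mulRight (⟨u, hu⟩ : U)) _ _ fun z => by simp [mul_assoc]

theorem Fsum_right (χ : IrrCharacter G) {u : G} (hu : u ∈ U) (y : G) :
    Fsum U χ (y * u) = Fsum U χ y :=
  Fintype.sum_equiv (Equiv.mulLeft (⟨u, hu⟩ : U)) _ _ fun z => by
    rw [← mul_assoc, bc_comm]; simp [mul_assoc]

theorem Fsum_cell (χ : IrrCharacter G) {r s : G} (hr : r ∈ U) (hs : s ∈ U) (a : G) :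
    Fsum U χ (r * a * s) = Fsum U χ a := by
  rw [Fsum_right χ hs, Fsum_left χ hr]

/-- The elements of `U` that `y` conjugates into `U`. -/
noncomputable def stabU (U : Subgroup G) (y : G) : Subgroup G := U ⊓ U.comap (MulAut.conj y).toMonoidHom

theorem mem_stabU {y d : G} : d ∈ stabU U y ↔ d ∈ U ∧ y * d * y⁻¹ ∈ U := Iff.rfl

theorem card_stabU_inv (y : G) : Nat.card (stabU U y⁻¹) = Nat.card (stabU U y) := by
  refine Nat.card_congr
    { toFun := fun d => ⟨y⁻¹ * d * y, ?_⟩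
      invFun := fun d => ⟨y * d * y⁻¹, ?_⟩
      left_inv := fun d => Subtype.ext (by simp [mul_assoc])
      right_inv := fun d => Subtype.ext (by simp [mul_assoc]) }
  · obtain ⟨h1, h2⟩ := mem_stabU.1 d.2
    rw [inv_inv] at h2
    refine mem_stabU.2 ⟨h2, ?_⟩
    simpa [mul_assoc] using h1
  · obtain ⟨h1, h2⟩ := mem_stabU.1 d.2
    refine mem_stabU.2 ⟨h2, ?_⟩
    simpa [mul_assoc] using h1

theorem stabU_cell (hc : IsBigCell p U A) {y : G} (hy : InUAU U A y) : Nat.card (stabU U y) = 1 := by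
  obtain ⟨r, hr, a, ha, s, hs, rfl⟩ := hy
  rw [Subgroup.card_eq_one, Subgroup.eq_bot_iff_forall]
  intro d hd
  obtain ⟨h1, h2⟩ := mem_stabU.1 hd
  have h : r * a * (s * d) = (r * a * s * d * (r * a * s)⁻¹) * r * a * s := by group
  exact mul_eq_left.1 (hc.decomp hr (mul_mem h2 hr) ha ha (mul_mem hs h1) hs h).2.2

theorem dvd_stabU (hc : IsBigCell p U A) {y : G} (hy : ¬ InUAU U A y) : p ∣ Nat.card (stabU U y) := by
  obtain ⟨d, hd, hne, hd'⟩ := hc.inter y hy
  obtain ⟨k, hk⟩ := IsPGroup.iff_card.1 (hc.isPGroup.to_le inf_le_left : IsPGroup p (stabU U y))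
  rw [hk]
  refine dvd_pow_self p fun h0 => hne ?_
  rw [h0, pow_zero, Subgroup.card_eq_one] at hk
  exact (Subgroup.mem_bot.1 (hk ▸ mem_stabU.2 ⟨hd, hd'⟩))

/-- `Fsum` is divisible by the order of `stabU U`. -/
theorem exists_Fsum_eq (hc : IsBigCell p U A) (hM : IsPModular p M) {χ : IrrCharacter G} (hχ : DZ (p := p) χ) (y : G) :
    ∃ v, MemLocalRing M v ∧ Fsum U χ y = (Nat.card (stabU U y) : ℂ) * v := by
  classical
  have hB := isPBlock_single hM hχ
  letI : MulAction (stabU U y) U :=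
    { smul := fun d z => ⟨(d : G) * z * (y * (d : G)⁻¹ * y⁻¹), mul_mem (mul_mem (mem_stabU.1 d.2).1 z.2)
        (by have := inv_mem (mem_stabU.1 d.2).2; simpa [mul_assoc] using this)⟩
      one_smul := fun z => Subtype.ext (show (1 : G) * z * (y * (1 : G)⁻¹ * y⁻¹) = z by simp)
      mul_smul := fun d e z => Subtype.ext (show ((d : G) * e) * z * (y * ((d : G) * e)⁻¹ * y⁻¹) =
        (d : G) * ((e : G) * z * (y * (e : G)⁻¹ * y⁻¹)) * (y * (d : G)⁻¹ * y⁻¹) by group) }
  have hsmul : ∀ (d : stabU U y) (z : U), ((d • z : U) : G) = (d : G) * z * (y * (d : G)⁻¹ * y⁻¹) :=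
    fun _ _ => rfl
  set f : U → ℂ := fun z => blockCoeff ({χ} : Set (IrrCharacter G)) ((z : G) * y)
  have hinv : ∀ (d : stabU U y) (z : U), f (d • z) = f z := fun d z => by
    have h := blockCoeff_isClassFunction ({χ} : Set (IrrCharacter G)) ((z : G) * y) (d : G)
    simp only at h
    simp only [f, hsmul]
    rw [← h]
    congr 1
    group
  have hw : ∀ z : U, ∃ w, MemLocalRing M w ∧ f z = (Nat.card (MulAction.stabilizer (stabU U y) z) : ℂ) * w := by
    intro z
    obtain ⟨j, hj⟩ := IsPGroup.iff_card.1 ((hc.isPGroup.to_le inf_le_left : IsPGroup p (stabU U y)).to_subgroup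
      (MulAction.stabilizer (stabU U y) z))
    have hle : j ≤ centExp p ((z : G) * y) := by
      refine (hM.1.pow_dvd_iff_le_factorization Nat.card_pos.ne').1 (hj ▸ ?_)
      refine Subgroup.card_dvd_of_injective
        (MonoidHom.codRestrict ((stabU U y).subtype.comp (MulAction.stabilizer (stabU U y) z).subtype)
          (Subgroup.centralizer ({(z : G) * y} : Set G)) fun d => ?_) fun a b hab => ?_
      · refine Subgroup.mem_centralizer_singleton_iff.2 ?_
        have h := congrArg Subtype.val (MulAction.mem_stabilizer_iff.1 d.2)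
        rw [hsmul] at h
        show (d.1 : G) * ((z : G) * y) = ((z : G) * y) * d.1
        calc (d.1 : G) * ((z : G) * y)
            = ((d.1 : G) * z * (y * (d.1 : G)⁻¹ * y⁻¹)) * (y * d.1) := by group
          _ = _ := by rw [h, mul_assoc]
      · exact Subtype.ext (Subtype.ext (congrArg Subtype.val hab :))
    obtain ⟨w, hw, he⟩ := blockCoeff_eq_mul_LR hM hB ((z : G) * y)
    have hmin : minDegVal p ({χ} : Set (IrrCharacter G)) = (Nat.card G).factorization p := by
      rw [← hχ, minDegVal, Set.image_singleton, csInf_singleton]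
      rfl
    rw [hmin] at he
    obtain ⟨c, hc⟩ := Nat.exists_eq_add_of_le hle
    refine ⟨(p : ℂ) ^ c * (((p ^ (Nat.card G).factorization p : ℕ) : ℂ) / (Nat.card G : ℂ)) * w,
      LR.mul hM (LR.mul hM (LR.pow hM (LR.natCast hM p) c) (natCast_div_LR hM Nat.card_pos.ne' dvd_rfl)) hw, ?_⟩
    have hG : (Nat.card G : ℂ) ≠ 0 := Nat.cast_ne_zero.2 Nat.card_pos.ne'
    simp only [f]
    rw [hj]
    refine mul_left_cancel₀ hG ?_
    rw [he, hc]
    push_cast
    rw [pow_add, pow_add]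
    field_simp
  choose w hwR hw using hw
  haveI : Fintype (MulAction.orbitRel.Quotient (stabU U y) U) := Fintype.ofFinite _
  exact ⟨∑ ω : MulAction.orbitRel.Quotient (stabU U y) U, w ω.out, LR.sum hM fun ω _ => hwR _,
    sum_eq_card_mul f w hinv hw⟩

theorem Fsum_LI_of_notMem (hc : IsBigCell p U A) (hM : IsPModular p M) {χ : IrrCharacter G} (hχ : DZ (p := p) χ) {y : G}
    (hy : ¬ InUAU U A y) : MemLocalIdeal M (Fsum U χ y) := by
  obtain ⟨v, hv, he⟩ := exists_Fsum_eq hc hM hχ y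
  rw [he]
  exact LI.mul_right hM ((LI.natCast_iff hM _).2 (dvd_stabU hc hy)) hv

theorem Fsum_LR (hM : IsPModular p M) {χ : IrrCharacter G} (hχ : DZ (p := p) χ) (y : G) :
    MemLocalRing M (Fsum U χ y) :=
  LR.sum hM fun _ _ => blockCoeff_LR hM (isPBlock_single hM hχ) _

theorem sum_bc_mul_Fsum (χ : IrrCharacter G) (g : G) :
    ∑ y : G, blockCoeff ({χ} : Set (IrrCharacter G)) (g * y⁻¹) * Fsum U χ y = Fsum U χ g := by
  have h : ∀ z : U, ∑ y : G, blockCoeff ({χ} : Set (IrrCharacter G)) (g * y⁻¹) *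
      blockCoeff ({χ} : Set (IrrCharacter G)) ((z : G) * y) =
      blockCoeff ({χ} : Set (IrrCharacter G)) ((z : G) * g) := by
    intro z
    have h1 := blockCoeff_conv ({χ} : Set (IrrCharacter G)) {χ} ((z : G) * g)
    rw [Set.inter_self] at h1
    rw [← h1]
    refine Fintype.sum_equiv (Equiv.mulLeft (z : G)) _ _ fun y => ?_
    rw [Equiv.coe_mulLeft, mul_comm, bc_comm χ g]
    congr 2
    group
  simp only [Fsum, Finset.mul_sum]
  rw [Finset.sum_comm]
  exact Finset.sum_congr rfl fun z _ => h z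

/-- The inverse of an element of `A`. -/
def cellInv (hc : IsBigCell p U A) (a : A) : A := ⟨(a : G)⁻¹, hc.inv_mem a a.2⟩

/-- `Fsum` is constant on the cell representatives, modulo `M`. -/
theorem exists_const (hc : IsBigCell p U A) (hM : IsPModular p M) {χ : IrrCharacter G} (hχ : DZ (p := p) χ) :
    ∃ α : ℂ, MemLocalRing M α ∧ ∀ g : A, MemLocalIdeal M (Fsum U χ g.1 - α) := by
  classical
  haveI : Fintype A := Fintype.ofFinite _
  obtain ⟨g₀, hg₀⟩ := hc.nonempty
  refine ⟨∑ a : A, Fsum U χ a.1 * ∑ s : U, Fsum U χ (g₀ * (s : G) * a.1⁻¹), ?_, fun g => ?_⟩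
  · exact LR.sum hM fun _ _ => LR.mul hM (Fsum_LR hM hχ _) (LR.sum hM fun _ _ => Fsum_LR hM hχ _)
  set e : G → ℂ := fun x => blockCoeff ({χ} : Set (IrrCharacter G)) x
  let mulMap : U × A × U → G := fun q => (q.1 : G) * q.2.1.1 * q.2.2
  have hinj : Function.Injective mulMap := fun q q' h => by
    obtain ⟨h1, h2, h3⟩ := hc.decomp q.1.2 q'.1.2 q.2.1.2 q'.2.1.2 q.2.2.2 q'.2.2.2 h
    exact Prod.ext (Subtype.ext h1) (Prod.ext (Subtype.ext h2) (Subtype.ext h3))
  -- discard the complement of the cell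
  have h1 : MemLocalIdeal M (Fsum U χ g.1 - ∑ q, e (g.1 * (mulMap q)⁻¹) * Fsum U χ (mulMap q)) := by
    rw [← sum_bc_mul_Fsum χ g.1, ← Finset.sum_add_sum_compl (Finset.univ.image mulMap),
      Finset.sum_image hinj.injOn, add_sub_cancel_left]
    refine LI.sum hM fun y hy => LI.mul_left hM (blockCoeff_LR hM (isPBlock_single hM hχ) _)
      (Fsum_LI_of_notMem hc hM hχ fun ⟨r, hr, a, ha, s, hs, hrs⟩ => ?_)
    simp only [Finset.mem_compl, Finset.mem_image, Finset.mem_univ, true_and, not_exists] at hy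
    exact hy (⟨r, hr⟩, ⟨a, ha⟩, ⟨s, hs⟩) hrs.symm
  have h2 : ∑ q, e (g.1 * (mulMap q)⁻¹) * Fsum U χ (mulMap q) =
      ∑ a : A, Fsum U χ a.1 * ∑ s : U, Fsum U χ (g.1 * (s : G) * a.1⁻¹) := by
    rw [Fintype.sum_prod_type_right, Fintype.sum_prod_type]
    refine Finset.sum_congr rfl fun a _ => ?_
    rw [Finset.mul_sum]
    refine Fintype.sum_equiv (Equiv.inv U) _ _ fun s => ?_
    conv_rhs => arg 2; rw [Fsum]
    rw [Finset.mul_sum]
    refine Fintype.sum_equiv (Equiv.inv U) _ _ fun r => ?_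
    simp only [mulMap, e, Equiv.inv_apply, Fsum_cell χ r.2 s.2]
    rw [mul_comm]
    congr 1
    have h := bc_comm χ ((s : G)⁻¹ * a.1⁻¹) ((r : G)⁻¹ * g.1)
    rw [bc_comm χ g.1]
    simpa [mul_assoc] using h
  rw [h2] at h1
  refine LI.trans hM h1 ?_
  rw [← Finset.sum_sub_distrib]
  refine LI.sum hM fun a _ => ?_
  rw [← mul_sub]
  exact LI.mul_left hM (Fsum_LR hM hχ _) (hc.kernel hM (Fsum U χ) (Fsum_LR hM hχ)
    (fun u hu y => Fsum_left χ hu y) (fun u hu y => Fsum_right χ hu y)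
    (fun y hy => Fsum_LI_of_notMem hc hM hχ hy) a.1 a.2 g.1 g.2 g₀ hg₀)

theorem sum_Fsum_mul (χ ψ : IrrCharacter G) :
    ∑ y : G, Fsum U χ y * Fsum U ψ y⁻¹ = (Nat.card U : ℂ) *
      ∑ u : U, blockCoeff (({χ} : Set (IrrCharacter G)) ∩ {ψ}) (u : G) := by
  have h1 : ∀ v : U, ∑ y : G, Fsum U χ y * blockCoeff ({ψ} : Set (IrrCharacter G)) ((v : G) * y⁻¹) =
      ∑ y : G, Fsum U χ y * blockCoeff ({ψ} : Set (IrrCharacter G)) y⁻¹ := by
    intro v
    refine Fintype.sum_equiv (Equiv.mulRight (v : G)⁻¹) _ _ fun y => ?_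
    rw [Equiv.coe_mulRight, Fsum_right χ (inv_mem v.2), mul_inv_rev, inv_inv]
  have h2 : ∀ v : U, ∑ y : G, blockCoeff ({χ} : Set (IrrCharacter G)) ((v : G) * y) *
      blockCoeff ({ψ} : Set (IrrCharacter G)) y⁻¹ =
      blockCoeff (({χ} : Set (IrrCharacter G)) ∩ {ψ}) (v : G) := by
    intro v
    rw [← blockCoeff_conv]
    refine Fintype.sum_equiv (Equiv.mulLeft (v : G)) _ _ fun y => ?_
    rw [Equiv.coe_mulLeft]
    congr 2
    group
  calc ∑ y : G, Fsum U χ y * Fsum U ψ y⁻¹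
      = ∑ v : U, ∑ y : G, Fsum U χ y * blockCoeff ({ψ} : Set (IrrCharacter G)) ((v : G) * y⁻¹) := by
        rw [Finset.sum_comm]
        exact Finset.sum_congr rfl fun y _ => by
          rw [show Fsum U ψ y⁻¹ = ∑ v : U, blockCoeff ({ψ} : Set (IrrCharacter G)) ((v : G) * y⁻¹) from rfl,
            Finset.mul_sum]
    _ = _ := by
        rw [Finset.sum_congr rfl fun v _ => h1 v, Finset.sum_const, nsmul_eq_mul, Finset.card_univ,
          Nat.card_eq_fintype_card]
        simp only [Fsum, Finset.sum_mul]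
        rw [Finset.sum_comm]
        exact congrArg _ (Finset.sum_congr rfl fun v _ => h2 v)

/-- The pairing of two characters of defect zero reduces to their values on the antidiagonal matrices. -/
theorem exists_pairing (hc : IsBigCell p U A) (hM : IsPModular p M) {χ ψ : IrrCharacter G} (hχ : DZ (p := p) χ)
    (hψ : DZ (p := p) ψ) {α β : ℂ} (hαR : MemLocalRing M α) (hβR : MemLocalRing M β)
    (hα : ∀ g : A, MemLocalIdeal M (Fsum U χ g.1 - α))
    (hβ : ∀ g : A, MemLocalIdeal M (Fsum U ψ g.1 - β)) :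
    ∃ T, MemLocalIdeal M (T - (Nat.card (A) : ℂ) * (α * β)) ∧
      (Nat.card U : ℂ) * ∑ u : U, blockCoeff (({χ} : Set (IrrCharacter G)) ∩ {ψ}) (u : G) =
        (Nat.card U : ℂ) * (Nat.card U : ℂ) * T := by
  classical
  letI : MulAction (U × U) G :=
    { smul := fun d y => (d.1 : G) * y * (d.2 : G)⁻¹
      one_smul := fun y => show (1 : G) * y * (1 : G)⁻¹ = y by simp
      mul_smul := fun d e y => show ((d.1 : G) * e.1) * y * ((d.2 : G) * e.2)⁻¹ =
        (d.1 : G) * ((e.1 : G) * y * (e.2 : G)⁻¹) * (d.2 : G)⁻¹ by group }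
  have hsmul : ∀ (d : U × U) (y : G), d • y = (d.1 : G) * y * (d.2 : G)⁻¹ := fun _ _ => rfl
  have hstab : ∀ y : G, Nat.card (MulAction.stabilizer (U × U) y) = Nat.card (stabU U y) := by
    intro y
    refine Nat.card_congr
      { toFun := fun d => ⟨(d.1.2 : G), ?_⟩
        invFun := fun d => ⟨(⟨y * d * y⁻¹, (mem_stabU.1 d.2).2⟩, ⟨d, (mem_stabU.1 d.2).1⟩), ?_⟩
        left_inv := fun d => ?_
        right_inv := fun d => rfl }
    · refine mem_stabU.2 ⟨d.1.2.2, ?_⟩
      have h := MulAction.mem_stabilizer_iff.1 d.2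
      rw [hsmul] at h
      have : y * (d.1.2 : G) * y⁻¹ = (d.1.1 : G) := by
        calc y * (d.1.2 : G) * y⁻¹ = ((d.1.1 : G) * y * (d.1.2 : G)⁻¹) * (d.1.2 : G) * y⁻¹ := by rw [h]
          _ = _ := by group
      rw [this]
      exact d.1.1.2
    · rw [MulAction.mem_stabilizer_iff, hsmul]
      group
    · refine Subtype.ext (Prod.ext (Subtype.ext ?_) rfl)
      have h := MulAction.mem_stabilizer_iff.1 d.2
      rw [hsmul] at h
      show y * (d.1.2 : G) * y⁻¹ = (d.1.1 : G)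
      calc y * (d.1.2 : G) * y⁻¹ = ((d.1.1 : G) * y * (d.1.2 : G)⁻¹) * (d.1.2 : G) * y⁻¹ := by rw [h]
        _ = _ := by group
  choose vχ hvχR hvχ using exists_Fsum_eq hc hM hχ
  choose vψ hvψR hvψ using exists_Fsum_eq hc hM hψ
  set φ : G → ℂ := fun y => Fsum U χ y * Fsum U ψ y⁻¹
  set v : G → ℂ := fun y => (Nat.card (stabU U y) : ℂ) * (vχ y * vψ y⁻¹)
  have hφ : ∀ y, φ y = (Nat.card (MulAction.stabilizer (U × U) y) : ℂ) * v y := fun y => by
    simp only [φ, v]
    rw [hvχ y, hvψ y⁻¹, card_stabU_inv, hstab]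
    ring
  have hinv : ∀ (d : U × U) y, φ (d • y) = φ y := fun d y => by
    simp only [φ, hsmul]
    rw [Fsum_cell χ d.1.2 (inv_mem d.2.2), mul_inv_rev, mul_inv_rev, inv_inv, ← mul_assoc,
      Fsum_cell ψ d.2.2 (inv_mem d.1.2)]
  haveI : Fintype (MulAction.orbitRel.Quotient (U × U) G) := Fintype.ofFinite _
  haveI : Fintype (A) := Fintype.ofFinite _
  refine ⟨∑ ω : MulAction.orbitRel.Quotient (U × U) G, v ω.out, ?_, ?_⟩
  · let ι : A → MulAction.orbitRel.Quotient (U × U) G := fun a => Quotient.mk'' a.1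
    have hrep : ∀ a : A, ∃ r ∈ U, ∃ s ∈ U, (ι a).out = r * a.1 * s := fun a => by
      obtain ⟨d, hd⟩ := MulAction.orbitRel_apply.1 (Quotient.eq''.1 (Quotient.out_eq' (ι a)))
      exact ⟨_, d.1.2, _, inv_mem d.2.2, hd.symm⟩
    have hι : Function.Injective ι := fun a b h => by
      obtain ⟨r, hr, s, hs, h1⟩ := hrep a
      obtain ⟨r', hr', s', hs', h2⟩ := hrep b
      rw [h, h2] at h1
      exact Subtype.ext (hc.decomp hr' hr b.2 a.2 hs' hs h1).2.1.symm
    rw [← Finset.sum_add_sum_compl (Finset.univ.image ι), Finset.sum_image hι.injOn, Nat.card_eq_fintype_card,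
      ← Finset.card_univ, ← nsmul_eq_mul, ← Finset.sum_const, add_sub_right_comm, ← Finset.sum_sub_distrib]
    refine LI.add hM (LI.sum hM fun a _ => ?_) (LI.sum hM fun ω hω => ?_)
    · obtain ⟨r, hr, s, hs, h1⟩ := hrep a
      have hcd : Nat.card (stabU U (ι a).out) = 1 := stabU_cell hc ⟨r, hr, a.1, a.2, s, hs, h1⟩
      have e : v (ι a).out = Fsum U χ a.1 * Fsum U ψ (cellInv hc a).1 := by
        simp only [v]
        rw [hcd, Nat.cast_one, one_mul]
        have e1 := hvχ (ι a).out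
        have e2 := hvψ (ι a).out⁻¹
        rw [card_stabU_inv, hcd, Nat.cast_one, one_mul] at e2
        rw [hcd, Nat.cast_one, one_mul] at e1
        rw [← e1, ← e2, h1, Fsum_cell χ hr hs, mul_inv_rev, mul_inv_rev, ← mul_assoc,
          Fsum_cell ψ (inv_mem hs) (inv_mem hr)]
        rfl
      rw [e, show Fsum U χ a.1 * Fsum U ψ (cellInv hc a).1 - α * β =
        (Fsum U χ a.1 - α) * Fsum U ψ (cellInv hc a).1 + α * (Fsum U ψ (cellInv hc a).1 - β) by ring]
      exact LI.add hM (LI.mul_right hM (hα a) (Fsum_LR hM hψ _)) (LI.mul_left hM hαR (hβ _))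
    · refine LI.mul_right hM ((LI.natCast_iff hM _).2 (dvd_stabU hc fun ⟨r, hr, a, ha, s, hs, h⟩ => ?_))
        (LR.mul hM (hvχR _) (hvψR _))
      simp only [Finset.mem_compl, Finset.mem_image, Finset.mem_univ, true_and, not_exists] at hω
      refine hω ⟨a, ha⟩ ?_
      rw [← Quotient.out_eq' ω]
      refine Quotient.sound' (MulAction.orbitRel_apply.2 ⟨(⟨r⁻¹, inv_mem hr⟩, ⟨s, hs⟩), ?_⟩)
      show r⁻¹ * ω.out * s⁻¹ = a
      rw [h]; group
  · rw [← sum_Fsum_mul, sum_eq_card_mul φ v hinv hφ, Nat.card_prod, Nat.cast_mul]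

theorem sum_bc_self (hc : IsBigCell p U A) (hM : IsPModular p M) {χ : IrrCharacter G} (hχ : DZ (p := p) χ) :
    ∃ c, MemLocalRing M c ∧ ¬ MemLocalIdeal M c ∧
      ∑ u : U, blockCoeff ({χ} : Set (IrrCharacter G)) (u : G) = (Nat.card U : ℂ) * c := by
  classical
  set a := (Nat.card G).factorization p
  have hp := hM.1
  obtain ⟨m, hm⟩ : p ^ a ∣ charDegree (χ : G → ℂ) :=
    (hp.pow_dvd_iff_le_factorization (charDegree_pos χ).ne').2 (le_of_eq hχ.symm)
  have hmp : ¬ p ∣ m := fun ⟨k, hk⟩ => by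
    have h1 : p ^ (a + 1) ∣ charDegree (χ : G → ℂ) := ⟨k, by rw [hm, hk, pow_succ]; ring⟩
    have h2 : a + 1 ≤ degVal p χ := (hp.pow_dvd_iff_le_factorization (charDegree_pos χ).ne').1 h1
    rw [hχ] at h2
    omega
  obtain ⟨h, hh⟩ : p ^ a ∣ Nat.card G := Nat.ordProj_dvd _ _
  have hhp : ¬ p ∣ h := fun ⟨k, hk⟩ => Nat.pow_succ_factorization_not_dvd Nat.card_pos.ne' hp
    ⟨k, hh.trans (by rw [hk]; simp only [a, pow_succ]; ring)⟩
  have hh0 : h ≠ 0 := fun h0 => hhp (h0 ▸ dvd_zero p)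
  refine ⟨((m * m : ℕ) : ℂ) / (h : ℂ), ?_, ?_, ?_⟩
  · refine natCast_div_LR hM hh0 ?_
    rw [Nat.factorization_eq_zero_of_not_dvd hhp, pow_zero]
    exact one_dvd _
  · intro hLI
    have h2 := LI.mul_right hM hLI (LR.natCast hM h)
    rw [div_mul_cancel₀ _ (Nat.cast_ne_zero.2 hh0)] at h2
    exact (hp.dvd_mul.1 ((LI.natCast_iff hM _).1 h2)).elim hmp hmp
  · rw [Finset.sum_eq_single (1 : U) (fun u _ hu => ?_) (by simp)]
    · have hone : blockCoeff ({χ} : Set (IrrCharacter G)) (1 : G) =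
          (Nat.card G : ℂ)⁻¹ * ((charDegree (χ : G → ℂ) : ℂ) * (charDegree (χ : G → ℂ) : ℂ)) := by
        rw [blockCoeff, finsum_mem_singleton, irr_one_eq]
        simp
      rw [Subgroup.coe_one, hone, hm, hc.card_U,
        show (Nat.card G : ℂ) = (p : ℂ) ^ a * (h : ℂ) by exact_mod_cast hh]
      push_cast
      have : (p : ℂ) ≠ 0 := Nat.cast_ne_zero.2 hp.ne_zero
      have : (h : ℂ) ≠ 0 := Nat.cast_ne_zero.2 hh0
      field_simp
      simp only [a]
      ring
    · refine IsPBlock.blockCoeff_eq_zero hM (isPBlock_single hM hχ) ?_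
      rw [Subgroup.orderOf_coe]
      obtain ⟨k, hk⟩ := IsPGroup.iff_orderOf.1 hc.isPGroup u
      rw [hk]
      exact dvd_pow_self p fun hk0 => hu (orderOf_eq_one_iff.1 (by rw [hk, hk0, pow_zero]))

/-- At most one character of defect zero. -/
theorem defectZero_unique (hc : IsBigCell p U A) (hM : IsPModular p M) {χ ψ : IrrCharacter G} (hχ : DZ (p := p) χ)
    (hψ : DZ (p := p) ψ) : χ = ψ := by
  have key : ∀ {θ : IrrCharacter G}, DZ (p := p) θ → ∀ {α : ℂ}, MemLocalRing M α →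
      (∀ g : A, MemLocalIdeal M (Fsum U θ g.1 - α)) →
      ¬ MemLocalIdeal M ((Nat.card (A) : ℂ) * (α * α)) := by
    intro θ hθ α hαR hα hLI
    obtain ⟨c, hcR, hcI, hsum⟩ := sum_bc_self hc hM hθ
    obtain ⟨T, hT, he⟩ := exists_pairing hc hM hθ hθ hαR hαR hα hα
    rw [Set.inter_self, hsum, ← mul_assoc] at he
    have hU : (Nat.card U : ℂ) * (Nat.card U : ℂ) ≠ 0 :=
      mul_ne_zero (Nat.cast_ne_zero.2 Nat.card_pos.ne') (Nat.cast_ne_zero.2 Nat.card_pos.ne')
    rw [← mul_left_cancel₀ hU he] at hT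
    have := LI.add hM hT hLI
    rw [sub_add_cancel] at this
    exact hcI this
  by_contra hne
  obtain ⟨α, hαR, hα⟩ := exists_const hc hM hχ
  obtain ⟨β, hβR, hβ⟩ := exists_const hc hM hψ
  obtain ⟨T, hT, he⟩ := exists_pairing hc hM hχ hψ hαR hβR hα hβ
  rw [Set.singleton_inter_eq_empty.2 (by simpa using hne)] at he
  have h0 : ∀ x : G, blockCoeff (∅ : Set (IrrCharacter G)) x = 0 := fun x => by
    rw [blockCoeff, finsum_mem_empty, mul_zero]
  simp only [h0, Finset.sum_const_zero, mul_zero] at he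
  have hU : (Nat.card U : ℂ) * (Nat.card U : ℂ) ≠ 0 :=
    mul_ne_zero (Nat.cast_ne_zero.2 Nat.card_pos.ne') (Nat.cast_ne_zero.2 Nat.card_pos.ne')
  rw [(mul_eq_zero.1 he.symm).resolve_left hU, zero_sub] at hT
  have hab : MemLocalIdeal M ((Nat.card (A) : ℂ) * (α * β)) := by simpa using LI.neg hT
  rcases LI.mem_or_mem hM (LR.natCast hM _) (LR.mul hM hαR hβR) hab with h | h
  · exact key hχ hαR hα (LI.mul_right hM h (LR.mul hM hαR hαR))
  · rcases LI.mem_or_mem hM hαR hβR h with h | h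
    · exact key hχ hαR hα (LI.mul_left hM (LR.natCast hM _) (LI.mul_right hM h hαR))
    · exact key hψ hβR hβ (LI.mul_left hM (LR.natCast hM _) (LI.mul_right hM h hβR))

end CfsgLib.PGroup.BigCell
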