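import Cfsg.Agent.Lib.PGroup.BinaryStabilizer

set_option autoImplicit false

/-!
Further criteria for binary coset actions.
-/

namespace CfsgLib.PGroup.Binary

variable {G : Type*} [Group G] {H : Subgroup G}

theorem smul_coset_iff (g x : G) : g • (x : G ⧸ H) = x ↔ x⁻¹ * g * x ∈ H := by
  rw [MulAction.Quotient.smul_mk, eq_comm, QuotientGroup.eq, smul_eq_mul, ← mul_assoc]

theorem mem_of_mem_K {g z x : G} (hz : z ∈ K H g) (hx : x⁻¹ * g * x ∈ H) : x⁻¹ * z * x ∈ H :=
  (smul_coset_iff z x).1 (mem_K.1 hz _ ((smul_coset_iff g x).2 hx))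

/-- A factorisation witness with a fixed point that cannot follow. -/
theorem not_binary' [Finite G] {h k l : G} (hkl : h = k * l) {c : G ⧸ H} (hc : l • c = c)
    (hhc : h • c ≠ c) (hno : ∀ g ∈ K H h ⊓ K H k, g • c ≠ h • c) : ¬ IsBinary H := by
  intro hb
  classical
  haveI := Fintype.ofFinite (G ⧸ H)
  let S := {a : G ⧸ H // a = c ∨ h • a = a ∨ k • a = a}
  set m := Fintype.card S
  let e : S ≃ Fin m := Fintype.equivFin S
  let I : Fin (m + 2) → G ⧸ H := fun i =>
    if hi : (i : ℕ) < m then (e.symm ⟨i, hi⟩).1 else c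
  let s : G ⧸ H → G ⧸ H := fun a => if a = c then h • c else a
  have hI : ∀ i, I i = c ∨ h • I i = I i ∨ k • I i = I i := fun i => by
    by_cases hi : (i : ℕ) < m
    · simp only [I, dif_pos hi]; exact (e.symm ⟨i, hi⟩).2
    · exact Or.inl (dif_neg hi)
  have hkc : k • c ≠ c := fun hk => hhc (by rw [hkl, mul_smul, hc, hk])
  obtain ⟨g, hg⟩ := hb (m + 2) I (fun i => s (I i)) (by omega) fun i j _ => by
    have one : ∀ a : G ⧸ H, (a = c ∨ h • a = a ∨ k • a = a) → a ≠ c →
        ∃ x : G, x • c = h • c ∧ x • a = a := by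
      rintro a (h' | h' | h') hne
      · exact absurd h' hne
      · exact ⟨h, rfl, h'⟩
      · exact ⟨k, by rw [hkl, mul_smul, hc], h'⟩
    by_cases hi : I i = c <;> by_cases hj : I j = c
    · exact ⟨h, by simp [s, hi], by simp [s, hj]⟩
    · obtain ⟨x, hx, hxa⟩ := one _ (hI j) hj
      exact ⟨x, by simp [s, hi, hx], by simp [s, hj, hxa]⟩
    · obtain ⟨x, hx, hxa⟩ := one _ (hI i) hi
      exact ⟨x, by simp [s, hi, hxa], by simp [s, hj, hx]⟩
    · exact ⟨1, by simp [s, hi], by simp [s, hj]⟩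
  have hcov : ∀ a : G ⧸ H, (a = c ∨ h • a = a ∨ k • a = a) → g • a = s a := by
    intro a ha
    have := hg ⟨(e ⟨a, ha⟩ : ℕ), by have := (e ⟨a, ha⟩).2; omega⟩
    simpa [I, (e ⟨a, ha⟩).2] using this
  refine hno g ⟨mem_K.2 fun a ha => ?_, mem_K.2 fun a ha => ?_⟩ ?_
  · rw [hcov a (Or.inr (Or.inl ha))]
    exact if_neg fun e' => hhc (by rw [← e']; exact ha)
  · rw [hcov a (Or.inr (Or.inr ha))]
    exact if_neg fun e' => hkc (by rw [← e']; exact ha)
  · simpa [s] using hcov c (Or.inl rfl)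

theorem IsBinary.conj (hb : IsBinary H) (x : G) :
    IsBinary (H.map (MulAut.conj x).toMonoidHom) := by
  set H' := H.map (MulAut.conj x).toMonoidHom with hH'
  have hmem : ∀ z : G, z ∈ H' ↔ x⁻¹ * z * x ∈ H := fun z => by
    constructor
    · rintro ⟨k, hk, rfl⟩; simpa [mul_assoc] using hk
    · exact fun hz => ⟨x⁻¹ * z * x, hz, by simp [mul_assoc]⟩
  let f : G ⧸ H → G ⧸ H' := Quotient.map' (fun g => g * x⁻¹) fun a b h => by
    rw [QuotientGroup.leftRel_apply] at h ⊢
    rw [hmem]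
    simpa [mul_assoc] using h
  let f' : G ⧸ H' → G ⧸ H := Quotient.map' (fun g => g * x) fun a b h => by
    rw [QuotientGroup.leftRel_apply, hmem] at h
    rw [QuotientGroup.leftRel_apply]
    simpa [mul_assoc] using h
  have hf : ∀ (g : G) (a : G ⧸ H), f (g • a) = g • f a := fun g a => by
    induction a using QuotientGroup.induction_on with
    | H y => exact congrArg QuotientGroup.mk (mul_assoc g y x⁻¹)
  have hf' : ∀ (g : G) (a : G ⧸ H'), f' (g • a) = g • f' a := fun g a => by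
    induction a using QuotientGroup.induction_on with
    | H y => exact congrArg QuotientGroup.mk (mul_assoc g y x)
  have hff : ∀ a, f (f' a) = a := fun a => by
    induction a using QuotientGroup.induction_on with
    | H y => exact congrArg QuotientGroup.mk (mul_inv_cancel_right y x)
  intro n I J hn hp
  obtain ⟨g, hg⟩ := hb n (fun i => f' (I i)) (fun i => f' (J i)) hn fun i j hij => by
    obtain ⟨g, h1, h2⟩ := hp i j hij
    exact ⟨g, by rw [← hf', h1], by rw [← hf', h2]⟩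
  exact ⟨g, fun i => by rw [← hff (I i), ← hf, hg i, hff]⟩

/-- Stabilisers without triangles give a binary action. -/
theorem isBinary_of_no_triangle
    (hTI : ∀ a b : G ⧸ H, MulAction.stabilizer G a ≠ MulAction.stabilizer G b →
      ∀ u : G, u • a = a → u • b = b → u = 1)
    (htri : ∀ (a b c : G ⧸ H) (u v : G),
      MulAction.stabilizer G a ≠ MulAction.stabilizer G b → u • a = a → v • b = b →
      (v⁻¹ * u) • c = c → u ≠ 1 → v ≠ 1 → v⁻¹ * u ≠ 1 → False) : IsBinary H := by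
  intro n I J hn hp
  by_cases hall : ∀ i j, MulAction.stabilizer G (I i) = MulAction.stabilizer G (I j)
  · obtain ⟨i₀, i₁, hne⟩ : ∃ i j : Fin n, i ≠ j :=
      ⟨⟨0, by omega⟩, ⟨1, by omega⟩, fun e => by simpa using congrArg Fin.val e⟩
    obtain ⟨g, hg, -⟩ := hp i₀ i₁ hne
    refine ⟨g, fun k => ?_⟩
    by_cases hk : i₀ = k
    · rw [← hk, hg]
    obtain ⟨h, hh, hhk⟩ := hp i₀ k hk
    have h1 : g⁻¹ * h ∈ MulAction.stabilizer G (I i₀) := by
      rw [MulAction.mem_stabilizer_iff, mul_smul, hh, inv_smul_eq_iff, hg]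
    rw [hall i₀ k, MulAction.mem_stabilizer_iff, mul_smul, hhk, inv_smul_eq_iff] at h1
    exact h1.symm
  push Not at hall
  obtain ⟨i, j, hij⟩ := hall
  have hne : i ≠ j := fun e => hij (by rw [e])
  obtain ⟨g, hgi, hgj⟩ := hp i j hne
  refine ⟨g, fun k => ?_⟩
  by_cases hki : i = k
  · rw [← hki, hgi]
  by_cases hkj : j = k
  · rw [← hkj, hgj]
  obtain ⟨hi, hii, hik⟩ := hp i k hki
  obtain ⟨hj, hjj, hjk⟩ := hp j k hkj
  set u := g⁻¹ * hi with hu
  set v := g⁻¹ * hj with hv
  have hui : u • I i = I i := by rw [hu, mul_smul, hii, inv_smul_eq_iff, hgi]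
  have hvj : v • I j = I j := by rw [hv, mul_smul, hjj, inv_smul_eq_iff, hgj]
  have huk : u • I k = g⁻¹ • J k := by rw [hu, mul_smul, hik]
  have hvk : v • I k = g⁻¹ • J k := by rw [hv, mul_smul, hjk]
  by_cases hu1 : u = 1
  · rw [hu1, one_smul] at huk
    rw [huk, smul_inv_smul]
  by_cases hv1 : v = 1
  · rw [hv1, one_smul] at hvk
    rw [hvk, smul_inv_smul]
  exfalso
  have hw : (v⁻¹ * u) • I k = I k := by rw [mul_smul, huk, ← hvk, inv_smul_smul]
  have huv : v⁻¹ * u ≠ 1 := fun e => hu1 (hTI _ _ hij u hui (by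
    rw [← inv_inv v, ← eq_inv_of_mul_eq_one_right e] at hvj; exact hvj))
  exact htri (I i) (I j) (I k) u v hij hui hvj hw hu1 hv1 huv

end CfsgLib.PGroup.Binary
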