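import Mathlib.GroupTheory.GroupAction.Quotient
import Mathlib.GroupTheory.QuotientGroup.Basic
import Mathlib.GroupTheory.Subgroup.Simple
import Mathlib.GroupTheory.Index
import Mathlib.Algebra.Group.Subgroup.Finite
import Mathlib.Algebra.Group.Subgroup.Pointwise

set_option autoImplicit false

/-!
Binary coset actions: the pointwise stabiliser of the fixed points of an element, and the
criterion coming from a factorisation inside the set of elements with fixed points.
-/

namespace CfsgLib.PGroup.Binary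

variable {G : Type*} [Group G] (H : Subgroup G)

/-- The action on the cosets of `H` is binary. -/
def IsBinary : Prop :=
  ∀ (n : ℕ) (I J : Fin n → G ⧸ H), 2 ≤ n →
    (∀ i j : Fin n, i ≠ j → ∃ g : G, g • I i = J i ∧ g • I j = J j) →
      ∃ g : G, ∀ i, g • I i = J i

/-- Elements fixing some coset. -/
def Fixes (g : G) : Prop := ∃ a : G ⧸ H, g • a = a

/-- The pointwise stabiliser of the fixed points of `g`. -/
def K (g : G) : Subgroup G := ⨅ (a : G ⧸ H) (_ : g • a = a), MulAction.stabilizer G a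

variable {H}

theorem mem_K {g x : G} : x ∈ K H g ↔ ∀ a : G ⧸ H, g • a = a → x • a = a := by
  simp [K, Subgroup.mem_iInf]

theorem self_mem_K (g : G) : g ∈ K H g := mem_K.2 fun _ h => h

theorem K_le_of_mem {g g' : G} (h : g' ∈ K H g) : K H g' ≤ K H g := fun _ hx =>
  mem_K.2 fun a ha => mem_K.1 hx a (mem_K.1 h a ha)

theorem fixes_of_mem {g g' : G} (hg : Fixes H g) (h : g' ∈ K H g) : Fixes H g' :=
  ⟨hg.choose, mem_K.1 h _ hg.choose_spec⟩

theorem fixes_of_mem_self {g : G} (h : g ∈ H) : Fixes H g :=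
  ⟨((1 : G) : G ⧸ H), by
    rw [MulAction.Quotient.smul_mk, QuotientGroup.eq]; simpa using h⟩

theorem Fixes.conj {g : G} (hg : Fixes H g) (x : G) : Fixes H (x * g * x⁻¹) :=
  ⟨x • hg.choose, by rw [smul_smul, inv_mul_cancel_right, mul_smul, hg.choose_spec]⟩

theorem Fixes.inv {g : G} (hg : Fixes H g) : Fixes H g⁻¹ :=
  ⟨hg.choose, inv_smul_eq_iff.2 hg.choose_spec.symm⟩

theorem K_inv (g : G) : K H g⁻¹ = K H g := by
  ext x
  have e : ∀ a : G ⧸ H, g⁻¹ • a = a ↔ g • a = a := fun a => by rw [inv_smul_eq_iff, eq_comm]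
  simp only [mem_K, e]

theorem conj_mem_K {g x y : G} (hy : y ∈ K H g) : x * y * x⁻¹ ∈ K H (x * g * x⁻¹) :=
  mem_K.2 fun a ha => by
    have h : g • x⁻¹ • a = x⁻¹ • a := by
      conv_rhs => rw [← ha]
      simp [mul_smul]
    rw [mul_smul, mul_smul, mem_K.1 hy _ h, smul_inv_smul]

theorem map_conj_K (g x : G) :
    (K H g).map (MulAut.conj x).toMonoidHom = K H (x * g * x⁻¹) := by
  ext z
  constructor
  · rintro ⟨y, hy, rfl⟩
    exact conj_mem_K hy
  · intro hz
    refine ⟨x⁻¹ * z * x, ?_, by simp [mul_assoc]⟩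
    have := conj_mem_K (x := x⁻¹) hz
    simpa [mul_assoc] using this

theorem K_le_conj {g : G} (x : G) (h : x⁻¹ * g * x ∈ H) :
    K H g ≤ H.map (MulAut.conj x).toMonoidHom := fun z hz => by
  have ha : g • (x : G ⧸ H) = x := by
    rw [MulAction.Quotient.smul_mk, eq_comm, QuotientGroup.eq]; simpa [mul_assoc] using h
  have h1 := mem_K.1 hz _ ha
  rw [MulAction.Quotient.smul_mk, eq_comm, QuotientGroup.eq] at h1
  exact ⟨x⁻¹ * z * x, by simpa [mul_assoc] using h1, by simp [mul_assoc]⟩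

theorem exists_conj_mem {g : G} (hg : Fixes H g) : ∃ x : G, x⁻¹ * g * x ∈ H := by
  obtain ⟨a, ha⟩ := hg
  induction a using QuotientGroup.induction_on with
  | H x =>
    rw [MulAction.Quotient.smul_mk, eq_comm, QuotientGroup.eq] at ha
    exact ⟨x, by simpa [mul_assoc] using ha⟩

theorem K_ne_top (hH : H ≠ ⊤) {g : G} (hg : Fixes H g) : K H g ≠ ⊤ := by
  obtain ⟨x, hx⟩ := exists_conj_mem hg
  intro h
  have h1 := K_le_conj x hx
  rw [h, top_le_iff] at h1
  refine hH (Subgroup.map_injective (MulAut.conj x).injective (h1.trans ?_))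
  rw [Subgroup.map_top_of_surjective _ (MulAut.conj x).surjective]

/-- A subgroup proper, nontrivial and normalised by a set generating everything. -/
theorem not_normalized [IsSimpleGroup G] {K : Subgroup G} (h1 : K ≠ ⊥) (h2 : K ≠ ⊤)
    (h : Subgroup.normalizer (K : Set G) = ⊤) : False := by
  haveI : K.Normal := Subgroup.normalizer_eq_top_iff.1 h
  rcases Subgroup.Normal.eq_bot_or_eq_top ‹K.Normal› with e | e
  exacts [h1 e, h2 e]

theorem mem_normalizer_of_K {g x : G} (h : K H (x * g * x⁻¹) = K H g) :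
    x ∈ Subgroup.normalizer (K H g : Set G) := by
  rw [Subgroup.mem_normalizer_iff_map_conj_eq]
  exact (map_conj_K g x).trans h

/-- Two elements factorising a third show that an action is not binary. -/
theorem not_binary [Finite G] {h k l : G} (hkl : h = k * l) (hl : h ∉ K H l)
    (htriv : K H h ⊓ K H k = ⊥) : ¬ IsBinary H := by
  intro hb
  obtain ⟨c, hc, hhc⟩ : ∃ c : G ⧸ H, l • c = c ∧ h • c ≠ c := by
    simpa [mem_K] using hl
  classical
  haveI := Fintype.ofFinite (G ⧸ H)
  let S := {a : G ⧸ H // a = c ∨ h • a = a ∨ k • a = a}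
  set m := Fintype.card S
  let e : S ≃ Fin m := Fintype.equivFin S
  haveI : Nonempty S := ⟨⟨c, Or.inl rfl⟩⟩
  let I : Fin (m + 2) → G ⧸ H := fun i =>
    if hi : (i : ℕ) < m then (e.symm ⟨i, hi⟩).1 else c
  let s : G ⧸ H → G ⧸ H := fun a => if a = c then h • c else a
  have hI : ∀ i, I i = c ∨ h • I i = I i ∨ k • I i = I i := fun i => by
    by_cases hi : (i : ℕ) < m
    · simp only [I, dif_pos hi]; exact (e.symm ⟨i, hi⟩).2
    · exact Or.inl (dif_neg hi)
  have hkc : k • c ≠ c := fun hk => hhc (by rw [hkl, mul_smul, hc, hk])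
  obtain ⟨g, hg⟩ := hb (m + 2) I (fun i => s (I i)) (by omega) fun i j _ => by
    have one : ∀ a : G ⧸ H, (a = c ∨ h • a = a ∨ k • a = a) → a ≠ c →
        ∃ x : G, x • c = h • c ∧ x • a = a := by
      rintro a (h' | h' | h') hne
      · exact absurd h' hne
      · exact ⟨h, rfl, h'⟩
      · exact ⟨k, by rw [hkl, mul_smul, hc], h'⟩
    by_cases hi : I i = c <;> by_cases hj : I j = c
    · exact ⟨h, by simp [s, hi], by simp [s, hj]⟩
    · obtain ⟨x, hx, hxa⟩ := one _ (hI j) hj
      exact ⟨x, by simp [s, hi, hx], by simp [s, hj, hxa]⟩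
    · obtain ⟨x, hx, hxa⟩ := one _ (hI i) hi
      exact ⟨x, by simp [s, hi, hxa], by simp [s, hj, hx]⟩
    · exact ⟨1, by simp [s, hi], by simp [s, hj]⟩
  have hcov : ∀ a : G ⧸ H, (a = c ∨ h • a = a ∨ k • a = a) → g • a = s a := by
    intro a ha
    have := hg ⟨(e ⟨a, ha⟩ : ℕ), by have := (e ⟨a, ha⟩).2; omega⟩
    simpa [I, (e ⟨a, ha⟩).2] using this
  have hmem : g ∈ K H h ⊓ K H k := by
    refine ⟨mem_K.2 fun a ha => ?_, mem_K.2 fun a ha => ?_⟩
    · rw [hcov a (Or.inr (Or.inl ha))]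
      exact if_neg fun e' => hhc (by rw [← e']; exact ha)
    · rw [hcov a (Or.inr (Or.inr ha))]
      exact if_neg fun e' => hkc (by rw [← e']; exact ha)
  rw [htriv, Subgroup.mem_bot] at hmem
  have := hcov c (Or.inl rfl)
  rw [hmem, one_smul] at this
  exact hhc (by simpa [s] using this.symm)

variable (H)

/-- `g` has minimal nontrivial pointwise stabiliser. -/
structure Minimal (g : G) : Prop where
  ne : g ≠ 1
  fixes : Fixes H g
  min : ∀ x ∈ K H g, x ≠ 1 → K H x = K H g

variable {H}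

theorem exists_minimal_le [Finite G] {g : G} (hg1 : g ≠ 1) (hg : Fixes H g) :
    ∃ g₀ : G, Minimal H g₀ ∧ K H g₀ ≤ K H g := by
  classical
  haveI := Fintype.ofFinite G
  obtain ⟨g₀, hg₀, hmin⟩ := Finset.exists_min_image
    (Finset.univ.filter fun x : G => x ∈ K H g ∧ x ≠ 1) (fun x => Nat.card (K H x))
    ⟨g, by simp [self_mem_K, hg1]⟩
  simp only [Finset.mem_filter, Finset.mem_univ, true_and] at hg₀ hmin
  refine ⟨g₀, ⟨hg₀.2, fixes_of_mem hg hg₀.1, fun x hx hx1 => ?_⟩, K_le_of_mem hg₀.1⟩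
  exact Subgroup.eq_of_le_of_card_ge (K_le_of_mem hx) (hmin x ⟨K_le_of_mem hg₀.1 hx, hx1⟩)

theorem Minimal.conj {g : G} (h : Minimal H g) (x : G) : Minimal H (x * g * x⁻¹) where
  ne := fun e => h.ne (conj_eq_one_iff.1 e)
  fixes := h.fixes.conj x
  min y hy hy1 := by
    rw [← map_conj_K g x] at hy ⊢
    obtain ⟨y', hy', rfl⟩ := hy
    rw [← h.min y' hy' (fun e => hy1 (by simp [e])), map_conj_K]
    rfl

theorem Minimal.inv {g : G} (h : Minimal H g) : Minimal H g⁻¹ where
  ne := inv_ne_one.2 h.ne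
  fixes := h.fixes.inv
  min y hy hy1 := by rw [K_inv] at hy ⊢; exact h.min y hy hy1

theorem Minimal.of_mem {g x : G} (h : Minimal H g) (hx : x ∈ K H g) (hx1 : x ≠ 1) :
    Minimal H x :=
  ⟨hx1, fixes_of_mem h.fixes hx, fun y hy hy1 => by
    rw [h.min x hx hx1] at hy ⊢
    exact h.min y hy hy1⟩

theorem Minimal.K_eq {g g' x : G} (h : Minimal H g) (h' : Minimal H g') (hx : x ∈ K H g)
    (hx' : x ∈ K H g') (hx1 : x ≠ 1) : K H g = K H g' := by
  rw [← h.min x hx hx1, h'.min x hx' hx1]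

/-- Elements inverting or centralising an element of the minimal stabiliser normalise it. -/
theorem Minimal.mem_normalizer {g e x : G} (h : Minimal H g) (he : e ∈ K H g) (he1 : e ≠ 1)
    (hx : x * e * x⁻¹ = e ∨ x * e * x⁻¹ = e⁻¹) : x ∈ Subgroup.normalizer (K H g : Set G) := by
  rw [← h.min e he he1]
  refine mem_normalizer_of_K ?_
  rcases hx with e' | e' <;> rw [e']
  exact K_inv e

/-- In a binary action a minimal stabiliser absorbs factorisations. -/
theorem mem_of_factor [Finite G] (hb : IsBinary H) {h k l : G} (hh : Minimal H h)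
    (hk : Minimal H k) (hlm : Minimal H l) (hkl : h = k * l) : k ∈ K H h := by
  by_contra hne
  refine not_binary hkl (fun hl => hne ?_) (eq_bot_iff.2 fun x hx => Subgroup.mem_bot.2 ?_) hb
  · have e := hh.K_eq hlm (self_mem_K h) hl hh.ne
    have h1 : l ∈ K H h := e ▸ self_mem_K l
    have h2 : k = h * l⁻¹ := by rw [hkl, mul_inv_cancel_right]
    rw [h2]
    exact mul_mem (self_mem_K h) (inv_mem h1)
  · by_contra hx1
    exact hne (hh.K_eq hk hx.1 hx.2 hx1 ▸ self_mem_K k)

/-- The regular action is binary. -/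
theorem binary_bot : IsBinary (⊥ : Subgroup G) := by
  intro n I J hn hp
  have huniq : ∀ (a : G ⧸ (⊥ : Subgroup G)) (g g' : G), g • a = g' • a → g = g' := by
    intro a g g' he
    induction a using QuotientGroup.induction_on with
    | H x =>
      rw [MulAction.Quotient.smul_mk, MulAction.Quotient.smul_mk, QuotientGroup.eq,
        Subgroup.mem_bot, inv_mul_eq_one] at he
      exact mul_right_cancel he
  let i₀ : Fin n := ⟨0, by omega⟩
  let i₁ : Fin n := ⟨1, by omega⟩
  obtain ⟨g, hg, hg'⟩ := hp i₀ i₁ (by simp [i₀, i₁])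
  refine ⟨g, fun i => ?_⟩
  by_cases hi : i = i₀
  · rw [hi]; exact hg
  obtain ⟨x, hx, hx'⟩ := hp i₀ i (Ne.symm hi)
  rw [huniq (I i₀) g x (hg.trans hx.symm)]
  exact hx'

end CfsgLib.PGroup.Binary
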