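import Cfsg.Agent.Lib.PGroup.BorelSp
import Mathlib

/-!
Centralizers of the radicals, the lower root elements and the torus in the symplectic group.
-/

set_option autoImplicit false
set_option linter.style.haveILetI false
set_option linter.unusedSectionVars false

namespace CfsgLib.PGroup.BorelSp

open Matrix CfsgLib.PGroup.UnitriangularSL

variable {F : Type*} [Field F] {m : ℕ}

theorem of_commute_single {A : Matrix (Fin m) (Fin m) F} {i j : Fin m}
    (h : A * single i j (1 : F) = single i j 1 * A) :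
    (∀ a, a ≠ i → A a i = 0) ∧ (∀ b, b ≠ j → A j b = 0) ∧ A i i = A j j := by
  have h2 : ∀ a b, (if b = j then A a i else 0) = (if a = i then A j b else 0) := fun a b => by
    have := congrArg (fun M : Matrix (Fin m) (Fin m) F => M a b) h
    simpa [mul_single', single_mul'] using this
  refine ⟨fun a ha => ?_, fun b hb => ?_, ?_⟩
  · have := h2 a j; rwa [if_pos rfl, if_neg ha] at this
  · have := h2 i b; rwa [if_neg hb, if_pos rfl, eq_comm] at this
  · have := h2 i j; rwa [if_pos rfl, if_pos rfl] at this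

/-- Commuting with an element of the Siegel radical. -/
theorem commute_sy {c : Sp m F} {S : Matrix (Fin m) (Fin m) F} {hS : Sᵀ = S} (h : Commute c (sy S hS)) :
    S * b21 c = 0 ∧ b11 c * S = S * b22 c := by
  have e := h.eq
  constructor
  · have h1 := congrArg b11 e
    rw [(blocks_mul _ _).1, (blocks_mul _ _).1] at h1
    simpa [eq_comm] using h1
  · have h1 := congrArg b12 e
    rw [(blocks_mul _ _).2.1, (blocks_mul _ _).2.1] at h1
    simp only [sy_b11, sy_b12, sy_b22, Matrix.mul_one, Matrix.one_mul] at h1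
    rw [add_comm (b12 c)] at h1
    exact add_right_cancel h1

theorem sym_single (a : Fin m) (t : F) : (single a a t)ᵀ = single a a t := transpose_single a a t

theorem sym_pair (a b : Fin m) (t : F) : (single a b t + single b a t)ᵀ = single a b t + single b a t := by
  rw [transpose_add, transpose_single, transpose_single, add_comm]

/-- The diagonal element of `GL_m`. -/
def diagGL (d : Fin m → Fˣ) : GL (Fin m) F where
  val := diagonal fun a => (d a : F)
  inv := diagonal fun a => ((d a)⁻¹ : Fˣ)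
  val_inv := by rw [diagonal_mul_diagonal]; simp
  inv_val := by rw [diagonal_mul_diagonal]; simp

theorem diagGL_val (d : Fin m → Fˣ) : (diagGL d).1 = diagonal fun a => (d a : F) := rfl

theorem diagGL_mul (d e : Fin m → Fˣ) : diagGL d * diagGL e = diagGL (d * e) :=
  Units.ext (by rw [Units.val_mul, diagGL_val, diagGL_val, diagGL_val, diagonal_mul_diagonal]; simp)

theorem diagGL_inv (d : Fin m → Fˣ) : (diagGL d)⁻¹ = diagGL d⁻¹ := Units.ext rfl

/-- The scalar element with square one. -/
theorem exists_center (r : Fˣ) (hr : r * r = 1) :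
    lev (diagGL fun _ : Fin m => r) ∈ Subgroup.center (Sp m F) := by
  rw [Subgroup.mem_center_iff]
  intro g
  have hinv : r⁻¹ = r := inv_eq_of_mul_eq_one_right hr
  have h22 : b22 (lev (diagGL fun _ : Fin m => r)) = (r : F) • (1 : Matrix (Fin m) (Fin m) F) := by
    rw [lev_b22, diagGL_inv, diagGL_val, diagonal_transpose, Matrix.smul_one_eq_diagonal]
    simp only [Pi.inv_apply, hinv]
  have h11 : b11 (lev (diagGL fun _ : Fin m => r)) = (r : F) • (1 : Matrix (Fin m) (Fin m) F) := by
    rw [lev_b11, diagGL_val, Matrix.smul_one_eq_diagonal]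
  obtain ⟨e1, e2, e3, e4⟩ := blocks_mul g (lev (diagGL fun _ : Fin m => r))
  obtain ⟨f1, f2, f3, f4⟩ := blocks_mul (lev (diagGL fun _ : Fin m => r)) g
  refine sp_ext ?_ ?_ ?_ ?_
  · rw [e1, f1, h11, lev_b21, lev_b12]; simp
  · rw [e2, f2, h11, h22, lev_b12]; simp
  · rw [e3, f3, h11, h22, lev_b21]; simp
  · rw [e4, f4, h22, lev_b12, lev_b21]; simp

variable [Fintype F]

/-- A centralizing element, upper unitriangular up to a central scalar. -/
theorem split_scalar {c : Sp m F} (h21 : b21 c = 0) {r : F} (hr : r * r = 1)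
    (hdiag : ∀ a, b11 c a a = r) (hup : ∀ a b : Fin m, b < a → b11 c a b = 0) :
    ∃ (z : Sp m F) (_ : z ∈ Subgroup.center (Sp m F)) (u : Sp m F), u ∈ U0 F m ∧ c = z * u ∧
      b11 u = r • b11 c ∧ b12 u = r • b12 c := by
  have hr0 : r ≠ 0 := fun h => by simp [h] at hr
  let ru : Fˣ := Units.mk0 r hr0
  have hru : ru * ru = 1 := Units.ext hr
  have hinv : ru⁻¹ = ru := inv_eq_of_mul_eq_one_right hru
  set z := lev (diagGL fun _ : Fin m => ru)
  have hz : z ∈ Subgroup.center (Sp m F) := exists_center ru hru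
  have hz11 : b11 z = r • (1 : Matrix (Fin m) (Fin m) F) := by
    rw [lev_b11, diagGL_val, Matrix.smul_one_eq_diagonal]; rfl
  have hzz : z * z = 1 := by
    rw [← map_mul, diagGL_mul, show ((fun _ : Fin m => ru) * fun _ => ru) = fun _ => (1 : Fˣ) from funext fun _ => hru]
    rw [show diagGL (fun _ : Fin m => (1 : Fˣ)) = 1 from Units.ext (by simp [diagGL_val]), map_one]
  obtain ⟨e1, e2, e3, -⟩ := blocks_mul z c
  refine ⟨z, hz, z * c, ⟨?_, ?_⟩, by rw [← mul_assoc, hzz, one_mul], ?_, ?_⟩
  · rw [e3, lev_b21, h21]; simp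
  · rw [e1, hz11, lev_b12, Matrix.zero_mul, add_zero, Matrix.smul_mul, Matrix.one_mul]
    intro a b hab
    rcases eq_or_ne a b with rfl | hne
    · simp [hdiag, hr]
    · simp [Matrix.one_apply_ne hne, hup a b (Fin.lt_def.2 (by have := Fin.val_ne_of_ne hne; omega))]
  · rw [e1, hz11, lev_b12, Matrix.zero_mul, add_zero, Matrix.smul_mul, Matrix.one_mul]
  · rw [e2, hz11, lev_b12, Matrix.zero_mul, add_zero, Matrix.smul_mul, Matrix.one_mul]

/-- What commutes with a short radical. -/
theorem commute_RS {k k' : Fin m} {hk : (k' : ℕ) = k + 1} {c : Sp m F} (hc : ∀ u ∈ RS k k' hk, Commute c u) :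
    ∃ z ∈ Subgroup.center (Sp m F), ∃ u ∈ RS k k' hk, c = z * u := by
  have hne : k ≠ k' := fun e => by subst e; omega
  have hmem : ∀ (S : Matrix (Fin m) (Fin m) F) (hS : Sᵀ = S), sy S hS ∈ RS k k' hk := fun S hS =>
    ⟨sy_mem_U0 S hS, by rw [sy_b11]; exact Matrix.one_apply_ne hne⟩
  have hS := fun (S : Matrix (Fin m) (Fin m) F) (hS : Sᵀ = S) => commute_sy (hc _ (hmem S hS))
  have h1 := hS 1 transpose_one
  rw [Matrix.one_mul, Matrix.mul_one, Matrix.one_mul] at h1
  obtain ⟨h21, h22⟩ := h1
  have hA : ∀ (S : Matrix (Fin m) (Fin m) F), Sᵀ = S → b11 c * S = S * b11 c := fun S hS' => by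
    rw [(hS S hS').2, h22]
  have hoff : ∀ a b, a ≠ b → b11 c a b = 0 := fun a b hab =>
    (of_commute_single (hA _ (sym_single b 1))).1 a hab
  have hdiag : ∀ a b, b11 c a a = b11 c b b := fun a b => by
    rcases eq_or_ne a b with rfl | hab
    · rfl
    have h := congrArg (fun M : Matrix (Fin m) (Fin m) F => M a b) (hA _ (sym_pair a b 1))
    simp only [Matrix.mul_add, Matrix.add_mul, Matrix.add_apply, mul_single', single_mul', if_pos, if_neg hab,
      if_neg hab.symm, mul_one, one_mul, add_zero] at h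
    simpa using h
  obtain ⟨r, hr⟩ : ∃ r, ∀ a, b11 c a a = r := ⟨_, fun a => hdiag a k⟩
  have hrr : r * r = 1 := by
    have h := congrArg (fun M : Matrix (Fin m) (Fin m) F => M k k) (rel c).2.2
    rw [h21, transpose_zero, Matrix.zero_mul, sub_zero, ← h22, Matrix.mul_apply, Finset.sum_eq_single k] at h
    · simpa [hr] using h
    · intro b _ hb; rw [hoff b k hb, mul_zero]
    · simp
  obtain ⟨z, hz, u, hu, he, hu11, -⟩ := split_scalar h21 hrr hr fun a b hab => hoff a b hab.ne'
  exact ⟨z, hz, u, ⟨hu, by rw [hu11, Matrix.smul_apply, hoff k k' hne, smul_zero]⟩, he⟩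

/-- What commutes with the long radical. -/
theorem commute_RL {L : Fin m} {hL : (L : ℕ) + 1 = m} (hm : 2 ≤ m) {c : Sp m F}
    (hc : ∀ u ∈ RL L hL, Commute c u) :
    ∃ z ∈ Subgroup.center (Sp m F), ∃ u ∈ RL L hL, c = z * u := by
  set o : Fin m := ⟨0, by omega⟩
  have ho : o < L := Fin.lt_def.2 (show 0 < (L : ℕ) by omega)
  have hS : ∀ (S : Matrix (Fin m) (Fin m) F) (hS : Sᵀ = S), S L L = 0 →
      S * b21 c = 0 ∧ b11 c * S = S * b22 c := fun S hS h0 =>
    commute_sy (hc _ ⟨sy_mem_U0 S hS, by rw [sy_b12]; exact h0⟩)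
  have h21 : b21 c = 0 := by
    ext a b
    by_cases ha : a = L
    · subst ha
      have h := congrArg (fun M : Matrix (Fin m) (Fin m) F => M o b)
        (hS _ (sym_pair o a 1) (by simp [ho.ne])).1
      simpa [Matrix.add_mul, single_mul', ho.ne] using h
    · have h := congrArg (fun M : Matrix (Fin m) (Fin m) F => M a b) (hS _ (sym_single a 1) (by simp [ha])).1
      simpa [single_mul'] using h
  have hX : ∀ i j : Fin m, ∀ hij : i < j, Commute c (levS (X hij.ne (1 : F))) := fun i j hij =>
    hc _ ⟨levS_mem_U0 (X_mem_U hij 1), by rw [levS_b12]; rfl⟩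
  have hA : ∀ i j : Fin m, i < j → b11 c * single i j (1 : F) = single i j 1 * b11 c := fun i j hij => by
    have h := congrArg b11 (hX i j hij).eq
    rw [(blocks_mul _ _).1, (blocks_mul _ _).1, levS_b21, h21, Matrix.mul_zero, Matrix.mul_zero, add_zero, add_zero,
      levS_b11, X_coe, Matrix.mul_add, Matrix.add_mul, Matrix.mul_one, Matrix.one_mul, add_right_inj] at h
    exact h
  obtain ⟨r, hr⟩ : ∃ r, ∀ a, b11 c a a = r := ⟨b11 c o o, fun a => by
    rcases eq_or_ne a o with rfl | hao
    · rfl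
    exact (of_commute_single (hA o a (Fin.lt_def.2 (Nat.pos_of_ne_zero fun e => hao (Fin.ext e))))).2.2.symm⟩
  have hup : ∀ a b : Fin m, b < a → b11 c a b = 0 := fun a b hab =>
    (of_commute_single (hA b a hab)).1 a hab.ne'
  have hrr : r * r = 1 := by
    have h1 := congrArg (fun M : Matrix (Fin m) (Fin m) F => M o o) (hS _ (sym_single o 1) (by simp [ho.ne])).2
    simp only [mul_single', single_mul', if_pos, one_mul, mul_one, hr] at h1
    have h2 := congrArg (fun M : Matrix (Fin m) (Fin m) F => M o o) (rel c).2.2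
    rw [h21, transpose_zero, Matrix.zero_mul, sub_zero, Matrix.mul_apply, Finset.sum_eq_single o] at h2
    · simpa [hr, ← h1] using h2
    · intro b _ hb
      rw [transpose_apply, hup b o (Fin.lt_def.2 (Nat.pos_of_ne_zero fun e => hb (Fin.ext e))), zero_mul]
    · simp
  have h12 : b12 c L L = 0 := by
    have h := congrArg (fun g : Sp m F => b12 g o L) (hX o L ho).eq
    simp only [(blocks_mul _ _).2.1, levS_b11, levS_b12, Matrix.mul_zero, zero_add, Matrix.zero_mul, add_zero] at h
    rw [show b22 (levS (X ho.ne (1 : F))) = 1 + single L o (-1) from by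
        rw [levS, MonoidHom.comp_apply, lev_b22, ← map_inv, X_inv]
        show (X ho.ne (-1 : F)).1ᵀ = _
        rw [X_coe, transpose_add, transpose_one, transpose_single],
      X_coe, Matrix.mul_add, Matrix.add_mul, Matrix.mul_one, Matrix.one_mul, Matrix.add_apply, Matrix.add_apply,
      mul_single', single_mul', if_neg ho.ne', if_pos rfl, one_mul, add_zero, left_eq_add] at h
    exact h
  obtain ⟨z, hz, u, hu, he, -, hu12⟩ := split_scalar h21 hrr hr hup
  exact ⟨z, hz, u, ⟨hu, by rw [hu12, Matrix.smul_apply, h12, smul_zero]⟩, he⟩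

theorem b11_pow {g : Sp m F} (h : b21 g = 0) (j : ℕ) : b11 (g ^ j) = b11 g ^ j ∧ b21 (g ^ j) = 0 := by
  induction j with
  | zero => rw [pow_zero, pow_zero]; exact ⟨blocks_one.1, blocks_one.2.2.1⟩
  | succ j ih =>
    rw [pow_succ, pow_succ, (blocks_mul _ _).1, (blocks_mul _ _).2.2.1, ih.1, ih.2, h]
    simp

/-- A central element of `p`-power order is trivial. -/
theorem eq_one_of_central {p : ℕ} [Fact p.Prime] [CharP F p] {z : Sp m F} (hz : z ∈ Subgroup.center (Sp m F))
    {j : ℕ} (hj : z ^ p ^ j = 1) : z = 1 := by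
  have hc : ∀ g, Commute z g := fun g => (Subgroup.mem_center_iff.1 hz g).symm
  have h1 := commute_sy (hc (sy 1 transpose_one))
  rw [Matrix.one_mul, Matrix.mul_one, Matrix.one_mul] at h1
  obtain ⟨h21, h22⟩ := h1
  have h12 : b12 z = 0 := by
    have h := congrArg b11 (hc (syl 1 transpose_one)).eq
    rw [(blocks_mul _ _).1, (blocks_mul _ _).1] at h
    simpa using h
  have hA : ∀ (S : Matrix (Fin m) (Fin m) F), Sᵀ = S → b11 z * S = S * b11 z := fun S hS' => by
    rw [(commute_sy (hc (sy S hS'))).2, h22]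
  have hoff : ∀ a b, a ≠ b → b11 z a b = 0 := fun a b hab =>
    (of_commute_single (hA _ (sym_single b 1))).1 a hab
  have hd : ∀ a, b11 z a a = 1 := by
    intro a
    have hdiag : b11 z = diagonal fun x => b11 z x x := by
      ext x y
      rcases eq_or_ne x y with rfl | hxy
      · simp
      · rw [hoff x y hxy, diagonal_apply_ne _ hxy]
    have h := congrArg (fun M : Matrix (Fin m) (Fin m) F => M a a) ((b11_pow h21 (p ^ j)).1.symm.trans
      (by rw [hj, blocks_one.1]))
    rw [hdiag, diagonal_pow] at h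
    simp only [diagonal_apply_eq, Pi.pow_apply, Matrix.one_apply_eq] at h
    have h2 : (b11 z a a - 1) ^ p ^ j = 0 := by rw [sub_pow_char_pow, one_pow, h, sub_self]
    exact sub_eq_zero.1 (pow_eq_zero_iff (pow_ne_zero j (Fact.out : p.Prime).ne_zero) |>.1 h2)
  have h11 : b11 z = 1 := by
    ext x y
    rcases eq_or_ne x y with rfl | hxy
    · rw [hd, Matrix.one_apply_eq]
    · rw [hoff x y hxy, Matrix.one_apply_ne hxy]
  exact sp_ext (h11.trans blocks_one.1.symm) (h12.trans blocks_one.2.1.symm) (h21.trans blocks_one.2.2.1.symm)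
    (h22.symm.trans (h11.trans blocks_one.2.2.2.symm))

/-- A short lower root element normalizes its radical. -/
theorem RS_conj_lower {k k' : Fin m} {hk : (k' : ℕ) = k + 1} (hne : k' ≠ k) (t : F) {u : Sp m F}
    (hu : u ∈ RS k k' hk) : levS (X hne t) * u * (levS (X hne t))⁻¹ ∈ RS k k' hk := by
  obtain ⟨N, S, hS, rfl, hN, hNe⟩ := exists_levS_sy hu.1
  have hkk : N.1 k k' = 0 := hNe ▸ hu.2
  have hUK := UK_conj_lower hne t (show N ∈ UK k k' hk from ⟨hN, hkk⟩)
  rw [show levS (X hne t) * (levS N * sy S hS) * (levS (X hne t))⁻¹ =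
    levS (X hne t * N * (X hne t)⁻¹) * (levS (X hne t) * sy S hS * (levS (X hne t))⁻¹) by
      simp only [map_mul, map_inv]; group]
  rw [show levS (X hne t) = lev (Matrix.SpecialLinearGroup.toGL (X hne t)) from rfl, lev_conj_sy]
  refine ⟨mul_mem (levS_mem_U0 hUK.1) (sy_mem_U0 _ _), ?_⟩
  rw [(blocks_mul _ _).1, levS_b11, levS_b12, sy_b11, Matrix.mul_one, Matrix.zero_mul, add_zero]
  exact hUK.2

theorem RS_of_conj_lower {k k' : Fin m} {hk : (k' : ℕ) = k + 1} (hne : k' ≠ k) {u : Sp m F} (hu : u ∈ U0 F m)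
    (h : (levS (X hne (1 : F)))⁻¹ * u * levS (X hne (1 : F)) ∈ U0 F m) : u ∈ RS k k' hk := by
  obtain ⟨N, S, hS, rfl, hN, hNe⟩ := exists_levS_sy hu
  refine ⟨hu, ?_⟩
  rw [← hNe]
  refine (UK_of_conj_lower (hk := hk) hne hN ?_).2
  rw [mem_U0] at h
  have e : b11 ((levS (X hne (1 : F)))⁻¹ * (levS N * sy S hS) * levS (X hne (1 : F))) =
      ((X hne (1 : F))⁻¹ * N * X hne (1 : F)).1 := by
    rw [← map_inv]
    simp only [(blocks_mul _ _).1, (blocks_mul _ _).2.1, (blocks_mul _ _).2.2.1, levS_b11, levS_b12, levS_b21, sy_b11,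
      sy_b21, Matrix.mul_zero, Matrix.zero_mul, add_zero, Matrix.mul_one, Matrix.SpecialLinearGroup.coe_mul]
  rw [e] at h
  exact h.2

/-- Conjugation by a long lower root element. -/
theorem conj_syl_blocks (E : Matrix (Fin m) (Fin m) F) (hE : Eᵀ = E) (u : Sp m F) :
    b11 (syl E hE * u * (syl E hE)⁻¹) = b11 u - b12 u * E ∧ b12 (syl E hE * u * (syl E hE)⁻¹) = b12 u ∧
    b21 (syl E hE * u * (syl E hE)⁻¹) = E * b11 u + b21 u - (E * b12 u + b22 u) * E := by
  rw [syl_inv]
  simp only [(blocks_mul _ _).1, (blocks_mul _ _).2.1, (blocks_mul _ _).2.2.1, (blocks_mul _ _).2.2.2, syl_b11,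
    syl_b12, syl_b21, syl_b22, Matrix.one_mul, Matrix.mul_one, Matrix.zero_mul, Matrix.mul_zero, add_zero, zero_add,
    Matrix.mul_neg]
  exact ⟨(sub_eq_add_neg _ _).symm, trivial, (sub_eq_add_neg _ _).symm⟩

theorem RL_conj_lower {L : Fin m} {hL : (L : ℕ) + 1 = m} (t : F) {u : Sp m F} (hu : u ∈ RL L hL) :
    syl (single L L t) (sym_single L t) * u * (syl (single L L t) (sym_single L t))⁻¹ ∈ RL L hL := by
  obtain ⟨e1, e2, e3⟩ := conj_syl_blocks (single L L t) (sym_single L t) u
  refine ⟨⟨?_, ?_⟩, by rw [e2]; exact hu.2⟩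
  · rw [e3, hu.1.1, add_zero, Matrix.add_mul]
    have hrow : single L L t * b11 u = single L L t := by
      ext a b
      rw [single_mul', Matrix.single_apply]
      rcases eq_or_ne a L with rfl | ha
      · rcases eq_or_ne a b with rfl | hb
        · simp [sub_eq_zero.1 (by simpa using hu.1.2 a a (by omega) : b11 u a a - 1 = 0)]
        · have := hu.1.2 a b (by have := Fin.val_ne_of_ne hb; have := b.2; omega)
          rw [Matrix.sub_apply, Matrix.one_apply_ne hb, sub_zero] at this
          simp [this, hb]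
      · simp [ha, Ne.symm ha]
    have hcol : b22 u * single L L t = single L L t := by
      obtain ⟨N, S, hS, hu', hN, -⟩ := exists_levS_sy hu.1
      have h22 : b22 u = (N⁻¹ : Matrix.SpecialLinearGroup (Fin m) F).1ᵀ := by
        rw [hu', (blocks_mul _ _).2.2.2, levS, MonoidHom.comp_apply, lev_b22, lev_b21, ← map_inv, sy_b22,
          Matrix.zero_mul, zero_add, Matrix.mul_one]
        rfl
      ext a b
      rw [mul_single', Matrix.single_apply, h22, transpose_apply]
      rcases eq_or_ne b L with rfl | hb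
      · rcases eq_or_ne a b with rfl | ha
        · rw [U_diag (inv_mem hN)]; simp
        · rw [U_below (inv_mem hN) (Fin.lt_def.2 (by have := Fin.val_ne_of_ne ha; have := a.2; omega))]
          simp [Ne.symm ha]
      · simp [hb, Ne.symm hb]
    have hmid : single L L t * b12 u * single L L t = 0 := by
      ext a b
      rw [mul_single', single_mul']
      split_ifs <;> simp [hu.2]
    rw [hrow, hcol, hmid, zero_add, sub_self]
  · rw [e1]
    intro a b hab
    rw [Matrix.sub_apply, Matrix.sub_apply, mul_single']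
    have h0 := hu.1.2 a b hab
    rw [Matrix.sub_apply] at h0
    split_ifs with hb
    · subst hb
      rcases eq_or_ne a b with rfl | ha
      · rw [hu.2, zero_mul, sub_zero]; exact h0
      · exact absurd hab (by have := Fin.val_ne_of_ne ha; have := a.2; omega)
    · rw [sub_zero]; exact h0

theorem RL_of_conj_lower {L : Fin m} {hL : (L : ℕ) + 1 = m} {u : Sp m F} (hu : u ∈ U0 F m)
    (h : syl (single L L (1 : F)) (sym_single L 1) * u * (syl (single L L (1 : F)) (sym_single L 1))⁻¹ ∈ U0 F m) :
    u ∈ RL L hL := by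
  refine ⟨hu, ?_⟩
  have h1 := congrArg (fun M : Matrix (Fin m) (Fin m) F => M L L)
    ((conj_syl_blocks (single L L (1 : F)) (sym_single L 1) u).2.2.symm.trans h.1)
  obtain ⟨N, S, hS, hu', hN, hNe⟩ := exists_levS_sy hu
  have h22 : b22 u = (N⁻¹ : Matrix.SpecialLinearGroup (Fin m) F).1ᵀ := by
    rw [hu', (blocks_mul _ _).2.2.2, levS, MonoidHom.comp_apply, lev_b22, lev_b21, ← map_inv, sy_b22,
      Matrix.zero_mul, zero_add, Matrix.mul_one]
    rfl
  rw [hu.1, add_zero, Matrix.add_mul, h22, ← hNe] at h1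
  simp only [Matrix.sub_apply, Matrix.add_apply, Matrix.zero_apply, mul_single', single_mul', if_pos, one_mul,
    mul_one, transpose_apply] at h1
  rw [U_diag hN, U_diag (inv_mem hN), sub_add_cancel_right, neg_eq_zero] at h1
  exact h1

/-- The root `SL₂` at a coordinate. -/
def sl2At (i : Fin m) : Matrix.SpecialLinearGroup (Fin 2) F →* Sp m F where
  toFun A := ⟨fromBlocks (1 + single i i (A.1 0 0 - 1)) (single i i (A.1 0 1)) (single i i (A.1 1 0))
      (1 + single i i (A.1 1 1 - 1)), SymplecticGroup.fromBlocks_mem_iff.2 ⟨by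
    simp [transpose_add, transpose_single, add_mul, mul_add, mul_comm], by
    simp [transpose_add, transpose_single, add_mul, mul_add, mul_comm], by
    have h := A.2
    rw [Matrix.det_fin_two] at h
    ext a b
    simp only [transpose_add, transpose_one, transpose_single, add_mul, mul_add, one_mul, mul_one,
      single_mul_single_same, Matrix.sub_apply, Matrix.add_apply, Matrix.single_apply]
    split_ifs with h0
    · linear_combination h
    · simp⟩⟩
  map_one' := Subtype.ext (by simp)
  map_mul' A B := Subtype.ext (by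
    show fromBlocks _ _ _ _ = fromBlocks _ _ _ _ * fromBlocks _ _ _ _
    rw [fromBlocks_multiply]
    simp only [Matrix.SpecialLinearGroup.coe_mul, Matrix.mul_apply, Fin.sum_univ_two, add_mul, mul_add, one_mul,
      mul_one, single_mul_single_same, fromBlocks_inj]
    refine ⟨?_, ?_, ?_, ?_⟩ <;> ext a b <;> simp only [Matrix.add_apply, Matrix.single_apply] <;> split_ifs <;> ring)

theorem sl2At_transvection_upper (i : Fin m) (h : (0 : Fin 2) ≠ 1) (t : F) :
    sl2At i (Matrix.SpecialLinearGroup.transvection h t) = sy (single i i t) (sym_single i t) := by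
  refine Subtype.ext ?_
  show fromBlocks _ _ _ _ = fromBlocks _ _ _ _
  simp [Matrix.SpecialLinearGroup.transvection_coe]

theorem sl2At_transvection_lower (i : Fin m) (h : (1 : Fin 2) ≠ 0) (t : F) :
    sl2At i (Matrix.SpecialLinearGroup.transvection h t) = syl (single i i t) (sym_single i t) := by
  refine Subtype.ext ?_
  show fromBlocks _ _ _ _ = fromBlocks _ _ _ _
  simp [Matrix.SpecialLinearGroup.transvection_coe]

theorem lev_diag_single (i : Fin m) (c : Fˣ) :
    lev (diagGL (Pi.mulSingle i c)) = sl2At i (Matrix.SpecialLinearGroup.diag2 (c : F) c.ne_zero) := by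
  have hsingle : ∀ x : Fˣ, (diagonal fun a => ((Pi.mulSingle i x : Fin m → Fˣ) a : F)) =
      1 + single i i ((x : F) - 1) := fun x => by
    ext a b
    rcases eq_or_ne a b with rfl | hab
    · rcases eq_or_ne a i with rfl | ha
      · simp
      · simp [ha, Ne.symm ha]
    · rw [diagonal_apply_ne _ hab, Matrix.add_apply, Matrix.one_apply_ne hab, Matrix.single_apply,
        if_neg (fun e => hab (e.1.symm.trans e.2)), add_zero]
  refine Subtype.ext ?_
  show fromBlocks (diagGL _).1 0 0 ((diagGL _)⁻¹).1ᵀ = fromBlocks _ _ _ _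
  rw [diagGL_inv, diagGL_val, diagGL_val, diagonal_transpose, ← Pi.mulSingle_inv, hsingle, hsingle]
  simp [Matrix.SpecialLinearGroup.diag2_coe']

/-- The torus normalizes the unipotent subgroup. -/
theorem diag_conj_U0 (d : Fin m → Fˣ) {u : Sp m F} (hu : u ∈ U0 F m) :
    lev (diagGL d) * u * (lev (diagGL d))⁻¹ ∈ U0 F m := by
  rw [← map_inv, diagGL_inv]
  refine ⟨?_, fun a b hab => ?_⟩
  · simp [(blocks_mul _ _).2.2.1, (blocks_mul _ _).2.2.2, hu.1]
  · have h := hu.2 a b hab
    rw [(blocks_mul _ _).1, (blocks_mul _ _).1, lev_b12, lev_b21, lev_b11, lev_b11, Matrix.zero_mul, add_zero,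
      Matrix.mul_zero, add_zero, Matrix.sub_apply, diagGL_val, diagGL_val, mul_diagonal, diagonal_mul]
    rw [Matrix.sub_apply] at h
    rcases eq_or_ne a b with rfl | hne
    · rw [Matrix.one_apply_eq] at h ⊢
      rw [sub_eq_zero.1 h]
      simp
    · rw [Matrix.one_apply_ne hne, sub_zero] at h ⊢
      rw [h]; simp

end CfsgLib.PGroup.BorelSp
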