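import Cfsg.Agent.Lib.PGroup.EqualOrder
import Cfsg.Agent.Lib.Solvable.FPFNilpotent
import Mathlib.GroupTheory.SchurZassenhaus
import Mathlib.GroupTheory.Frattini
import Mathlib.GroupTheory.SpecificGroups.Quaternion

/-!
Camina pairs.
-/

set_option linter.style.haveILetI false

namespace CfsgLib.PGroup.Camina

open CfsgLib.PGroup.EqualOrder CfsgLib.Solvable.Cores

variable {G : Type*} [Group G]

/-- The Camina condition: the class of every `g ∉ N` is a union of cosets of `N`. -/
def IsCamina (N : Subgroup G) : Prop :=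
  ∀ g : G, g ∉ N → ∀ n ∈ N, ∃ x : G, x * g * x⁻¹ = g * n

theorem eqOrd {N : Subgroup G} (h : IsCamina N) : EqOrd N := by
  intro g hg n hn
  obtain ⟨x, hx⟩ := h g hg n hn
  rw [← hx, ← MulAut.conj_apply x g, MulEquiv.orderOf_eq]

/-- A coprime commuting element of `N` is trivial. -/
theorem eq_one_of_commute [Finite G] {N : Subgroup G} (heq : EqOrd N) {g n : G} (hg : g ∉ N)
    (hn : n ∈ N) (hc : Commute g n) (hcop : (orderOf g).Coprime (orderOf n)) : n = 1 := by
  have ho := hc.orderOf_mul_eq_mul_orderOf_of_coprime hcop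
  rw [heq g hg n hn] at ho
  exact orderOf_eq_one_iff.mp (mul_left_cancel₀ (orderOf_pos g).ne' (by rw [mul_one]; exact ho.symm))

variable [Finite G] (N : Subgroup G) [N.Normal]

/-- `|C_{G/N}(gN)| = |C_G(g)|` is equivalent to the Camina condition at `g`. -/
theorem card_centralizer (g : G) :
    Nat.card (Subgroup.centralizer ({(g : G ⧸ N)} : Set (G ⧸ N))) ≤
      Nat.card (Subgroup.centralizer ({g} : Set G)) ∧
    (Nat.card (Subgroup.centralizer ({(g : G ⧸ N)} : Set (G ⧸ N))) =
      Nat.card (Subgroup.centralizer ({g} : Set G)) ↔ ∀ n ∈ N, ∃ x : G, x * g * x⁻¹ = g * n) := by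
  classical
  let π := QuotientGroup.mk' N
  let T : Subgroup G := (Subgroup.centralizer ({(g : G ⧸ N)} : Set (G ⧸ N))).comap π
  set C := Subgroup.centralizer ({g} : Set G)
  have hT : ∀ x : G, x ∈ T ↔ g⁻¹ * (x * g * x⁻¹) ∈ N := by
    intro x
    rw [show g⁻¹ * (x * g * x⁻¹) ∈ N ↔ ((g⁻¹ * (x * g * x⁻¹) : G) : G ⧸ N) = 1 from
      (QuotientGroup.eq_one_iff _).symm, QuotientGroup.mk_mul, QuotientGroup.mk_mul, QuotientGroup.mk_mul,
      QuotientGroup.mk_inv, QuotientGroup.mk_inv, inv_mul_eq_one, eq_mul_inv_iff_mul_eq]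
    exact Subgroup.mem_centralizer_singleton_iff.trans eq_comm
  have hCT : C ≤ T := fun x hx => by
    rw [hT, Subgroup.mem_centralizer_singleton_iff.mp hx]
    simp
  let ψ : T ⧸ C.subgroupOf T → N := Quotient.lift
    (fun x : T => (⟨g⁻¹ * ((x : G) * g * (x : G)⁻¹), (hT x).mp x.2⟩ : N)) (by
      intro a b hab
      have h := Subgroup.mem_centralizer_singleton_iff.mp
        (Subgroup.mem_subgroupOf.mp (QuotientGroup.leftRel_apply.mp hab) : ((a⁻¹ * b : T) : G) ∈ C)
      simp only [Subgroup.coe_mul, Subgroup.coe_inv] at h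
      refine Subtype.ext ?_
      show g⁻¹ * ((a : G) * g * (a : G)⁻¹) = g⁻¹ * ((b : G) * g * (b : G)⁻¹)
      congr 1
      calc (a : G) * g * (a : G)⁻¹ = (a : G) * (g * ((a : G)⁻¹ * b)) * (b : G)⁻¹ := by group
        _ = (b : G) * g * (b : G)⁻¹ := by rw [← h]; group)
  have hinj : Function.Injective ψ := by
    intro a b
    induction a using Quotient.inductionOn with | _ a =>
    induction b using Quotient.inductionOn with | _ b =>
    intro h
    have h1 : g⁻¹ * ((a : G) * g * (a : G)⁻¹) = g⁻¹ * ((b : G) * g * (b : G)⁻¹) :=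
      congrArg Subtype.val h
    have h2 := mul_left_cancel h1
    refine Quotient.sound (QuotientGroup.leftRel_apply.mpr (Subgroup.mem_subgroupOf.mpr ?_))
    simp only [Subgroup.coe_mul, Subgroup.coe_inv]
    refine Subgroup.mem_centralizer_singleton_iff.mpr ?_
    calc (a : G)⁻¹ * b * g = (a : G)⁻¹ * ((b : G) * g * (b : G)⁻¹) * b := by group
      _ = g * ((a : G)⁻¹ * b) := by rw [← h2]; group
  have hcT : Nat.card (T ⧸ C.subgroupOf T) * Nat.card C =
      Nat.card (Subgroup.centralizer ({(g : G ⧸ N)} : Set (G ⧸ N))) * Nat.card N := by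
    rw [← Subgroup.index_eq_card,
      ← Nat.card_congr (Subgroup.subgroupOfEquivOfLe hCT).toEquiv, mul_comm,
      Subgroup.card_mul_index]
    have hNT : N ≤ T := fun x hx => by
      show π x ∈ Subgroup.centralizer ({(g : G ⧸ N)} : Set (G ⧸ N))
      rw [show π x = 1 from (QuotientGroup.eq_one_iff x).mpr hx]
      exact one_mem _
    rw [← (N.subgroupOf T).card_mul_index,
      Nat.card_congr (Subgroup.subgroupOfEquivOfLe hNT).toEquiv, mul_comm]
    congr 1
    show N.relIndex T = _
    have hk : N = (⊥ : Subgroup (G ⧸ N)).comap π := by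
      rw [MonoidHom.comap_bot, QuotientGroup.ker_mk']
    conv_lhs => rw [hk, Subgroup.relIndex_comap]
    rw [Subgroup.map_comap_eq_self_of_surjective (QuotientGroup.mk'_surjective N),
      Subgroup.relIndex_bot_left]
  have hle := Nat.card_le_card_of_injective ψ hinj
  have hpos : 0 < Nat.card N := Nat.card_pos
  refine ⟨Nat.le_of_mul_le_mul_right (hcT.symm.le.trans ?_) hpos, ?_⟩
  · rw [mul_comm (Nat.card C)]
    exact Nat.mul_le_mul_right _ hle
  constructor
  · intro he n hn
    rw [he, mul_comm] at hcT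
    have hb : Function.Bijective ψ := (Nat.bijective_iff_injective_and_card ψ).mpr
      ⟨hinj, Nat.eq_of_mul_eq_mul_left Nat.card_pos hcT⟩
    obtain ⟨q, hq⟩ := hb.2 ⟨n, hn⟩
    induction q using Quotient.inductionOn with | _ x =>
    refine ⟨(x : G), ?_⟩
    have h1 : g⁻¹ * ((x : G) * g * (x : G)⁻¹) = n := congrArg Subtype.val hq
    rw [← h1, mul_inv_cancel_left]
  · intro hcam
    have hsurj : Function.Surjective ψ := fun ⟨n, hn⟩ => by
      obtain ⟨x, hx⟩ := hcam n hn
      have hxT : x ∈ T := by rw [hT, hx, inv_mul_cancel_left]; exact hn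
      exact ⟨Quotient.mk _ ⟨x, hxT⟩, Subtype.ext (show g⁻¹ * (x * g * x⁻¹) = n by
        rw [hx, inv_mul_cancel_left])⟩
    rw [Nat.card_eq_of_bijective ψ ⟨hinj, hsurj⟩, mul_comm] at hcT
    exact (Nat.eq_of_mul_eq_mul_right hpos hcT).symm

/-- A group element outside `N` has a prime-power power outside `N`. -/
theorem exists_primePow_power {c : G} (hc : c ∉ N) :
    ∃ (p k b : ℕ), p.Prime ∧ p ∣ N.index ∧ c ^ b ∉ N ∧ orderOf (c ^ b) = p ^ k := by
  have h1 : orderOf (c : G ⧸ N) ≠ 1 := fun h => hc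
    ((QuotientGroup.eq_one_iff c).mp (orderOf_eq_one_iff.mp h))
  obtain ⟨p, hp, hpd⟩ := Nat.exists_prime_and_dvd h1
  obtain ⟨k, b, hb, hcb⟩ := Nat.exists_eq_pow_mul_and_not_dvd (orderOf_pos c).ne' p hp.ne_one
  refine ⟨p, k, b, hp, ?_, fun h => hb ?_, ?_⟩
  · rw [Subgroup.index_eq_card]; exact hpd.trans (orderOf_dvd_natCard _)
  · refine hpd.trans (orderOf_dvd_of_pow_eq_one ?_)
    rw [← QuotientGroup.mk_pow, QuotientGroup.eq_one_iff]
    exact h
  · have hb0 : b ≠ 0 := fun h => (orderOf_pos c).ne' (by rw [hcb, h, mul_zero])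
    rw [orderOf_pow_of_dvd hb0 (Dvd.intro_left _ hcb.symm), hcb,
      Nat.mul_div_cancel _ (Nat.pos_of_ne_zero hb0)]

/-- In a cyclic or generalized quaternion group there is an order `k` all whose elements are
self-centralizing. -/
theorem exists_selfCentralizing {P : Type*} [Group P] [Finite P]
    (h : IsCyclic P ∨ ∃ n : ℕ, Nonempty (P ≃* QuaternionGroup (2 ^ n))) :
    ∃ y : P, ∀ y' : P, orderOf y' = orderOf y → ∀ z : P, Commute z y' → z ∈ Subgroup.zpowers y' := by
  classical
  have hcyc : IsCyclic P →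
      ∃ y : P, ∀ y' : P, orderOf y' = orderOf y → ∀ z : P, Commute z y' → z ∈ Subgroup.zpowers y' := by
    intro hc
    obtain ⟨y, hy⟩ := IsCyclic.exists_ofOrder_eq_natCard (α := P)
    refine ⟨y, fun y' hy' z _ => ?_⟩
    have htop : Subgroup.zpowers y' = ⊤ :=
      Subgroup.eq_top_of_card_eq _ (by rw [Nat.card_zpowers, hy', hy])
    rw [htop]; trivial
  rcases h with hc | ⟨n, ⟨e⟩⟩
  · exact hcyc hc
  rcases Nat.eq_zero_or_pos n with rfl | hn
  · refine hcyc ?_
    rw [pow_zero] at e
    have : IsCyclic (QuaternionGroup 1) := QuaternionGroup.quaternionGroup_one_isCyclic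
    exact isCyclic_of_surjective e.symm.toMonoidHom e.symm.surjective
  set m := 2 ^ n
  have hm2 : 2 ≤ m := Nat.le_self_pow hn.ne' 2
  haveI : NeZero m := ⟨by omega⟩
  refine ⟨e.symm (QuaternionGroup.a 1), fun y hy z hz => ?_⟩
  have hyo : orderOf y = 2 * m := by
    rw [hy, MulEquiv.orderOf_eq, QuaternionGroup.orderOf_a_one]
  by_contra hzy
  have hcard : Nat.card P = 4 * m := by
    rw [Nat.card_congr e.toEquiv, Nat.card_eq_fintype_card, QuaternionGroup.card]
  set S := Subgroup.centralizer ({y} : Set P)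
  have hle : Subgroup.zpowers y ≤ S := Subgroup.zpowers_le.mpr
    (Subgroup.mem_centralizer_singleton_iff.mpr rfl)
  have hzS : z ∈ S := Subgroup.mem_centralizer_singleton_iff.mpr hz.eq
  have hidx : (Subgroup.zpowers y).index = 2 := by
    have h1 := (Subgroup.zpowers y).card_mul_index
    rw [Nat.card_zpowers, hyo, hcard] at h1
    exact Nat.eq_of_mul_eq_mul_left (by omega : 0 < 2 * m) (h1.trans (by ring))
  have hgen : ∀ K : Subgroup P, Subgroup.zpowers y ≤ K → z ∈ K → K = ⊤ := by
    intro K hK hzK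
    rw [← Subgroup.index_eq_one]
    rcases (Nat.dvd_prime Nat.prime_two).mp (hidx ▸ Subgroup.index_dvd_of_le hK) with h | h
    · exact h
    · exfalso
      have h4 := Subgroup.relIndex_mul_index hK
      rw [h, hidx] at h4
      have h3 : (Subgroup.zpowers y).relIndex K = 1 := by omega
      exact hzy (Subgroup.relIndex_eq_one.mp h3 hzK)
  have hS : S = ⊤ := hgen S hle hzS
  have hyc : y ∈ Subgroup.center P := Subgroup.mem_center_iff.mpr fun w =>
    (Subgroup.mem_centralizer_singleton_iff.mp (hS ▸ Subgroup.mem_top w : w ∈ S))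
  have hcomm : ∀ u v : P, u * v = v * u := by
    have hC : Subgroup.centralizer ({z} : Set P) = ⊤ := hgen _
      (Subgroup.zpowers_le.mpr (Subgroup.mem_centralizer_singleton_iff.mpr hz.eq.symm))
      (Subgroup.mem_centralizer_singleton_iff.mpr rfl)
    have hzc : z ∈ Subgroup.center P := Subgroup.mem_center_iff.mpr fun w =>
      (Subgroup.mem_centralizer_singleton_iff.mp
        (hC ▸ Subgroup.mem_top w : w ∈ Subgroup.centralizer ({z} : Set P)))
    intro u v
    have := hgen (Subgroup.center P) (Subgroup.zpowers_le.mpr hyc) hzc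
    exact (Subgroup.mem_center_iff.mp (this ▸ Subgroup.mem_top v) u)
  have h5 := congrArg e (hcomm (e.symm (QuaternionGroup.a 1)) (e.symm (QuaternionGroup.xa 0)))
  simp only [map_mul, MulEquiv.apply_symm_apply, QuaternionGroup.a_mul_xa, QuaternionGroup.xa_mul_a,
    QuaternionGroup.xa.injEq] at h5
  have h7 : ((2 : ℕ) : ZMod (2 * m)) = 0 := by
    push_cast
    linear_combination (-1 : ZMod (2 * m)) * h5
  have h8 := Nat.le_of_dvd (by norm_num) ((ZMod.natCast_eq_zero_iff 2 (2 * m)).mp h7)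
  omega

/-- The nilpotent case: no common prime. -/
theorem coprime_of_nilpotent (hcam : IsCamina N) (hN : N ≠ ⊥) (hnil : Group.IsNilpotent N)
    (hnpp : ¬ IsPrimePow (Nat.card N)) : (Nat.card N).Coprime N.index := by
  refine Nat.coprime_of_dvd fun p hp hpN hpI => ?_
  haveI := Fact.mk hp
  obtain ⟨Q⟩ : Nonempty (Sylow p (G ⧸ N)) := inferInstance
  obtain ⟨y, hy⟩ := exists_selfCentralizing
    (sylow_quotient_cyclic_or_quaternion (eqOrd hcam) hN hnil hnpp Q)
  have hQne : (Q : Subgroup (G ⧸ N)) ≠ ⊥ := Q.ne_bot_of_dvd_card (by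
    rw [← Subgroup.index_eq_card]; exact hpI)
  have hy1 : y ≠ 1 := by
    rintro rfl
    apply hQne
    rw [eq_bot_iff]
    intro w hw
    obtain ⟨k, hk⟩ := Subgroup.mem_zpowers_iff.mp (hy 1 rfl ⟨w, hw⟩ (Commute.one_right _))
    rw [one_zpow] at hk
    exact Subgroup.mem_bot.mpr (congrArg Subtype.val hk).symm
  -- a `p`-element over `y`
  obtain ⟨g₀, hg₀⟩ := QuotientGroup.mk'_surjective N (y : G ⧸ N)
  obtain ⟨j, hj⟩ := IsPGroup.iff_orderOf.mp Q.isPGroup' y
  obtain ⟨k, b, hb, hob⟩ := Nat.exists_eq_pow_mul_and_not_dvd (orderOf_pos g₀).ne' p hp.ne_one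
  set g := g₀ ^ b with hg
  have hgo : orderOf g = p ^ k := by
    have hb0 : b ≠ 0 := fun h => (orderOf_pos g₀).ne' (by rw [hob, h, mul_zero])
    rw [hg, orderOf_pow_of_dvd hb0 (Dvd.intro_left _ hob.symm), hob,
      Nat.mul_div_cancel _ (Nat.pos_of_ne_zero hb0)]
  have hgy : (g : G ⧸ N) = (y : G ⧸ N) ^ b := by rw [← hg₀, hg]; rfl
  have hord : orderOf (g : G ⧸ N) = orderOf y := by
    rw [hgy, Nat.Coprime.orderOf_pow]
    · rw [Subgroup.orderOf_coe]
    · rw [Subgroup.orderOf_coe, hj]
      exact ((hp.coprime_iff_not_dvd).mpr hb).pow_left j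
  have hgN : g ∉ N := fun h => hy1 (by
    rw [← orderOf_eq_one_iff, ← hord, orderOf_eq_one_iff]
    exact (QuotientGroup.eq_one_iff g).mpr h)
  -- Sylow subgroups of the two centralizers
  have hcard := ((card_centralizer N g).2.mpr (hcam g hgN))
  set C := Subgroup.centralizer ({g} : Set G)
  obtain ⟨S, hS⟩ := ((IsPGroup.of_card (n := k) (by rw [Nat.card_zpowers, hgo]) :
    IsPGroup p (Subgroup.zpowers g)).comap_subtype (K := C)).exists_le_sylow
  obtain ⟨R⟩ : Nonempty (Sylow p (Subgroup.centralizer ({(g : G ⧸ N)} : Set (G ⧸ N)))) := inferInstance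
  have hSR : Nat.card S = Nat.card R := by
    rw [S.card_eq_multiplicity, R.card_eq_multiplicity, hcard]
  -- `R` is generated by `gN`
  have hRle : Nat.card R ≤ orderOf y := by
    set R' := (R : Subgroup _).map (Subgroup.centralizer ({(g : G ⧸ N)} : Set (G ⧸ N))).subtype
    have hR' : Nat.card R' = Nat.card R :=
      Subgroup.card_map_of_injective (Subgroup.subtype_injective _)
    set W := R' ⊔ Subgroup.zpowers (g : G ⧸ N)
    have hgp : IsPGroup p (Subgroup.zpowers (g : G ⧸ N)) := IsPGroup.of_card (n := j) (by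
      rw [Nat.card_zpowers, hord, hj])
    have hRc : R' ≤ Subgroup.centralizer ({(g : G ⧸ N)} : Set (G ⧸ N)) := Subgroup.map_subtype_le _
    have hnorm : R' ≤ Subgroup.normalizer (Subgroup.zpowers (g : G ⧸ N) : Set (G ⧸ N)) := by
      refine hRc.trans (le_trans ?_ (Subgroup.centralizer_le_normalizer _))
      intro w hw
      rw [Subgroup.mem_centralizer_iff]
      rintro _ ⟨i, rfl⟩
      exact ((Commute.zpow_left (Subgroup.mem_centralizer_singleton_iff.mp hw).symm i))
    have hW : IsPGroup p W := (R.isPGroup'.map _).to_sup_of_normal_right' hgp hnorm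
    obtain ⟨T, hT⟩ := hW.exists_le_sylow
    obtain ⟨c, hc⟩ := MulAction.exists_smul_eq (G ⧸ N) T Q
    have hconj : ∀ w ∈ W, c * w * c⁻¹ ∈ (Q : Subgroup (G ⧸ N)) := fun w hw => by
      rw [← hc]; exact ⟨w, hT hw, rfl⟩
    have hgW : (g : G ⧸ N) ∈ W := Subgroup.mem_sup_right (Subgroup.mem_zpowers _)
    set y' : (Q : Subgroup (G ⧸ N)) := ⟨_, hconj _ hgW⟩
    have hy' : orderOf y' = orderOf y := by
      rw [← hord, ← Subgroup.orderOf_coe]
      exact MulEquiv.orderOf_eq (MulAut.conj c) _
    have hsub : R' ≤ Subgroup.zpowers (g : G ⧸ N) := by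
      intro w hw
      have hwW : w ∈ W := Subgroup.mem_sup_left hw
      have hcom : Commute (⟨_, hconj w hwW⟩ : (Q : Subgroup (G ⧸ N))) y' := Subtype.ext (by
        show c * w * c⁻¹ * (c * g * c⁻¹) = c * g * c⁻¹ * (c * w * c⁻¹)
        have h1 := Subgroup.mem_centralizer_singleton_iff.mp (hRc hw)
        calc c * w * c⁻¹ * (c * g * c⁻¹) = c * (w * g) * c⁻¹ := by group
          _ = c * (g * w) * c⁻¹ := by rw [h1]
          _ = c * g * c⁻¹ * (c * w * c⁻¹) := by group)
      obtain ⟨i, hi⟩ := Subgroup.mem_zpowers_iff.mp (hy y' hy' _ hcom)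
      have h2 : (c * g * c⁻¹) ^ i = c * w * c⁻¹ := by
        have h3 := congrArg (fun v : (Q : Subgroup (G ⧸ N)) => (v : G ⧸ N)) hi
        simp only [SubgroupClass.coe_zpow] at h3
        exact h3
      rw [conj_zpow] at h2
      exact ⟨i, mul_left_cancel (mul_right_cancel h2)⟩
    rw [← hR', ← hord, ← Nat.card_zpowers]
    exact Subgroup.card_le_of_le hsub
  -- but `S` is larger
  have hgC : g ∈ C := Subgroup.mem_centralizer_singleton_iff.mpr rfl
  set Np : Subgroup G := (Cfsg.pCore p N).map N.subtype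
  haveI : Np.Normal := inferInstance
  obtain ⟨x, hx, hx1, hxc⟩ : ∃ x ∈ Np, x ≠ 1 ∧ Commute g x := by
    obtain ⟨x₀, hx₀⟩ := exists_prime_orderOf_dvd_card' (G := N) p hpN
    let _ : MulAction (Subgroup.zpowers g) Np := MulAction.compHom Np
      ((MulAut.conjNormal (H := Np)).comp (Subgroup.zpowers g).subtype)
    have hP : IsPGroup p (Subgroup.zpowers g) := IsPGroup.of_card (n := k) (by rw [Nat.card_zpowers, hgo])
    have hdvd : p ∣ Nat.card Np := by
      have hmem : (x₀ : G) ∈ Np := Subgroup.mem_map_of_mem _ (mem_pCore_of_pow hnil (k := 1)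
        (by rw [pow_one, ← hx₀, pow_orderOf_eq_one]))
      rw [← hx₀, ← Subgroup.orderOf_coe, ← Subgroup.orderOf_mk (x₀ : G) hmem]
      exact orderOf_dvd_natCard _
    have hone : (1 : Np) ∈ MulAction.fixedPoints (Subgroup.zpowers g) Np := fun a => by
      apply Subtype.ext
      show (a : G) * 1 * (a : G)⁻¹ = 1
      group
    obtain ⟨x, hx, hx1⟩ := hP.exists_fixed_point_of_prime_dvd_card_of_fixed_point (α := Np) hdvd hone
    have h1 : g * (x : G) * g⁻¹ = x := congrArg Subtype.val (hx ⟨g, Subgroup.mem_zpowers g⟩)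
    exact ⟨x, x.2, fun h => hx1 (Subtype.ext h.symm), mul_inv_eq_iff_eq_mul.mp h1⟩
  have hNS : Np.subgroupOf C ≤ (S : Subgroup C) := by
    refine IsPGroup.le_sylow_of_normal ?_ S
    exact ((isPGroup_pCore p).map _).comap_subtype
  let f : (S : Subgroup C) →* G ⧸ N :=
    ((QuotientGroup.mk' N).comp C.subtype).comp (S : Subgroup C).subtype
  have hfr : orderOf y ≤ Nat.card f.range := by
    rw [← hord, ← Nat.card_zpowers]
    refine Subgroup.card_le_of_le (Subgroup.zpowers_le.mpr ?_)
    exact ⟨⟨⟨g, hgC⟩, hS (Subgroup.mem_zpowers g)⟩, rfl⟩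
  have hker : 1 < Nat.card f.ker := by
    refine (Subgroup.one_lt_card_iff_ne_bot _).mpr fun h => hx1 ?_
    have hxC : x ∈ C := Subgroup.mem_centralizer_singleton_iff.mpr hxc.eq.symm
    have h1 : (⟨⟨x, hxC⟩, hNS (Subgroup.mem_subgroupOf.mpr hx)⟩ : (S : Subgroup C)) ∈ f.ker :=
      (QuotientGroup.eq_one_iff x).mpr (Subgroup.map_subtype_le _ hx)
    rw [h, Subgroup.mem_bot] at h1
    exact congrArg (fun s : (S : Subgroup C) => ((s : C) : G)) h1
  have hsz := f.ker.card_mul_index
  rw [Subgroup.index_ker] at hsz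
  have hlt : orderOf y < Nat.card f.ker * Nat.card f.range :=
    lt_of_le_of_lt hfr ((lt_mul_iff_one_lt_left Nat.card_pos).mpr hker)
  rw [hsz, hSR] at hlt
  exact absurd hRle (not_le.mpr hlt)

omit [N.Normal] in
/-- Coprime Camina pairs are Frobenius. -/
theorem centralizer_le_of_coprime [N.Normal] (hcam : IsCamina N) (hcop : (Nat.card N).Coprime N.index)
    {x : G} (hx : x ∈ N) (hx1 : x ≠ 1) : Subgroup.centralizer ({x} : Set G) ≤ N := by
  intro c hc
  by_contra hcN
  obtain ⟨p, k, b, hp, hpd, hbN, hbo⟩ := exists_primePow_power N hcN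
  refine hx1 (eq_one_of_commute (eqOrd hcam) hbN hx ?_ ?_)
  · exact Commute.pow_left (Subgroup.mem_centralizer_singleton_iff.mp hc) b
  · rw [hbo]
    exact (Nat.Coprime.coprime_dvd_left hpd hcop.symm |>.pow_left k).coprime_dvd_right
      (Subgroup.orderOf_dvd_natCard N hx)

theorem main (hcam : IsCamina N) (hN : N ≠ ⊥) (hN2 : N ≠ ⊤) :
    (∀ x ∈ N, x ≠ 1 → Subgroup.centralizer ({x} : Set G) ≤ N) ∨ IsPrimePow (Nat.card N) ∨
      IsPrimePow N.index := by
  classical
  rw [or_iff_not_imp_right]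
  intro hnot
  push Not at hnot
  obtain ⟨L, hL⟩ := ({L : Subgroup G | L ⊔ N = ⊤}).toFinite.exists_minimal ⟨⊤, top_sup_eq N⟩
  have hLN : L ⊔ N = ⊤ := hL.1
  set K := N.subgroupOf L with hK
  -- the quotient is unchanged
  let φ : L →* G ⧸ N := (QuotientGroup.mk' N).comp L.subtype
  have hφs : Function.Surjective φ := fun q => by
    induction q using QuotientGroup.induction_on with | _ x =>
    obtain ⟨l, hl, n, hn, rfl⟩ := Subgroup.mem_sup_of_normal_right.mp (hLN ▸ Subgroup.mem_top x)
    exact ⟨⟨l, hl⟩, (QuotientGroup.eq.mpr (by simpa using hn) : _)⟩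
  have hφk : φ.ker = K := by
    ext x
    exact QuotientGroup.eq_one_iff (x : G)
  let e : L ⧸ K ≃* G ⧸ N := (QuotientGroup.quotientMulEquivOfEq hφk.symm).trans
    (QuotientGroup.quotientKerEquivOfSurjective φ hφs)
  have hidx : K.index = N.index := by
    rw [Subgroup.index_eq_card, Subgroup.index_eq_card]; exact Nat.card_congr e.toEquiv
  have hcentr : ∀ g : L, (g : G) ∉ N →
      Nat.card (Subgroup.centralizer ({g} : Set L)) =
        Nat.card (Subgroup.centralizer ({(g : L ⧸ K)} : Set (L ⧸ K))) ∧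
      Subgroup.centralizer ({(g : G)} : Set G) ≤ L := by
    intro g hg
    have h1 := (card_centralizer K g).1
    have h2 : Nat.card (Subgroup.centralizer ({(g : L ⧸ K)} : Set (L ⧸ K))) =
        Nat.card (Subgroup.centralizer ({(g : G)} : Set G)) := by
      rw [← (card_centralizer N (g : G)).2.mpr (hcam _ hg)]
      refine Nat.card_congr (e.toEquiv.subtypeEquiv fun q => ?_)
      simp only [Subgroup.mem_centralizer_singleton_iff]
      rw [show ((g : G) : G ⧸ N) = e (g : L ⧸ K) from rfl]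
      show _ ↔ e q * e g = e g * e q
      rw [← map_mul, ← map_mul, e.injective.eq_iff]
    let ι : Subgroup.centralizer ({g} : Set L) → Subgroup.centralizer ({(g : G)} : Set G) := fun c =>
      ⟨(c.1 : G), Subgroup.mem_centralizer_singleton_iff.mpr
        (congrArg Subtype.val (Subgroup.mem_centralizer_singleton_iff.mp c.2))⟩
    have hιinj : Function.Injective ι := fun a b h =>
      Subtype.ext (Subtype.ext (congrArg (fun c : Subgroup.centralizer ({(g : G)} : Set G) => (c : G)) h))
    have h3 := Nat.card_le_card_of_injective ι hιinj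
    have h4 : Function.Bijective ι := (Nat.bijective_iff_injective_and_card ι).mpr
      ⟨hιinj, le_antisymm h3 (h2 ▸ h1)⟩
    refine ⟨le_antisymm (h3.trans h2.symm.le) h1, fun c hc => ?_⟩
    obtain ⟨c', hc'⟩ := h4.2 ⟨c, hc⟩
    have h5 : (c'.1 : G) = c := congrArg Subtype.val hc'
    rw [← h5]
    exact c'.1.2
  have hcamK : IsCamina K := fun g hg n hn =>
    ((card_centralizer K g).2.mp (hcentr g hg).1.symm) n hn
  -- `K` lies in the Frattini subgroup
  have hfrat : K ≤ frattini L := by
    refine le_iInf₂ fun M hM => ?_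
    by_contra hMK
    have htop : M ⊔ K = ⊤ := hM.2 _ (lt_of_le_of_ne le_sup_left fun h => hMK (h ▸ le_sup_right))
    have hsup : M.map L.subtype ⊔ N = ⊤ := by
      rw [← top_le_iff, ← hLN]
      refine sup_le (fun l hl => ?_) le_sup_right
      have h1 : (⟨l, hl⟩ : L) ∈ M ⊔ K := htop ▸ Subgroup.mem_top _
      obtain ⟨m, hm, n, hn, he⟩ := Subgroup.mem_sup_of_normal_right.mp h1
      have he' : (m : G) * (n : G) = l := congrArg Subtype.val he
      rw [← he']
      exact Subgroup.mul_mem_sup (Subgroup.mem_map_of_mem _ hm) hn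
    have hle := hL.2 hsup (Subgroup.map_subtype_le M)
    exact hM.1 (eq_top_iff.mpr fun l _ => by
      obtain ⟨m, hm, hme⟩ := hle l.2
      rwa [← Subtype.ext (hme : (m : G) = l)])
  haveI : Group.IsNilpotent (frattini L) := frattini_nilpotent
  have hKnil : Group.IsNilpotent K := Subgroup.isNilpotent_of_ker_le_center
    (Subgroup.inclusion hfrat) (by rw [Subgroup.ker_inclusion]; exact bot_le)
  obtain ⟨g₁, hg₁⟩ : ∃ g, g ∉ N := by
    by_contra hc
    push Not at hc
    exact hN2 (eq_top_iff.mpr fun x _ => hc x)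
  -- centralizers of elements outside `N` meet `N` in a conjugate of a centralizer in `K`
  by_cases hK1 : K = ⊥
  · intro x hx hx1 c hc
    by_contra hcN
    obtain ⟨l, hl, n, hn, hln⟩ := Subgroup.mem_sup_of_normal_right.mp (hLN ▸ Subgroup.mem_top c)
    have hlN : l ∉ N := fun h => hcN (hln ▸ N.mul_mem h hn)
    obtain ⟨t, ht⟩ := hcam l hlN n hn
    rw [hln] at ht
    have hy : Commute l (t⁻¹ * x * t) := by
      have h1 : x * (t * l * t⁻¹) = t * l * t⁻¹ * x := by
        rw [ht]; exact (Subgroup.mem_centralizer_singleton_iff.mp hc).symm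
      show l * (t⁻¹ * x * t) = t⁻¹ * x * t * l
      calc l * (t⁻¹ * x * t) = t⁻¹ * (t * l * t⁻¹ * x) * t := by group
        _ = t⁻¹ * x * t * l := by rw [← h1]; group
    have hyL : t⁻¹ * x * t ∈ L :=
      (hcentr ⟨l, hl⟩ hlN).2 (Subgroup.mem_centralizer_singleton_iff.mpr hy.eq.symm)
    have hyN : t⁻¹ * x * t ∈ N := by simpa using ‹N.Normal›.conj_mem x hx t⁻¹
    have h2 : (⟨_, hyL⟩ : L) ∈ K := Subgroup.mem_subgroupOf.mpr hyN
    rw [hK1, Subgroup.mem_bot] at h2
    have h3 : t⁻¹ * x * t = 1 := congrArg Subtype.val h2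
    exact hx1 (by
      calc x = t * (t⁻¹ * x * t) * t⁻¹ := by group
        _ = 1 := by rw [h3]; group)
  have hN' : Group.IsNilpotent N := by
    by_cases hKpp : IsPrimePow (Nat.card K)
    · obtain ⟨p, a, hp, ha0, ha⟩ := hKpp
      have hp' : p.Prime := hp.nat_prime
      haveI := Fact.mk hp'
      -- a prime of the quotient other than `p`
      obtain ⟨q, hq, hqd, hqp⟩ : ∃ q, q.Prime ∧ q ∣ N.index ∧ q ≠ p := by
        by_contra hc
        push Not at hc
        apply hnot.2
        obtain ⟨t, ht, htd⟩ := Nat.exists_prime_and_dvd (n := N.index)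
          (fun h => hN2 (Subgroup.index_eq_one.mp h))
        exact isPrimePow_iff_unique_prime_dvd.mpr
          ⟨t, ⟨ht, htd⟩, fun s hs => (hc s hs.1 hs.2).trans (hc t ht htd).symm⟩
      haveI := Fact.mk hq
      obtain ⟨z, hz⟩ := exists_prime_orderOf_dvd_card' (G := L ⧸ K) q
        (by rw [← Subgroup.index_eq_card, hidx]; exact hqd)
      obtain ⟨l₀, rfl⟩ := QuotientGroup.mk'_surjective K z
      have hl₀ : l₀ ∉ K := fun h => hq.ne_one (by
        rw [← hz, show QuotientGroup.mk' K l₀ = 1 from (QuotientGroup.eq_one_iff l₀).mpr h, orderOf_one])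
      -- `g` has order exactly `q`
      set g := l₀ ^ (p ^ a) with hgdef
      have hgK : g ∉ K := fun h => by
        have h1 : q ∣ p ^ a := hz ▸ orderOf_dvd_of_pow_eq_one (by
          rw [← map_pow]; exact (QuotientGroup.eq_one_iff g).mpr h)
        exact hqp ((Nat.prime_dvd_prime_iff_eq hq hp').mp (hq.dvd_of_dvd_pow h1))
      have hgq : g ^ q = 1 := by
        have h1 : l₀ ^ q ∈ K := by
          rw [← QuotientGroup.eq_one_iff, ← hz]
          exact pow_orderOf_eq_one (QuotientGroup.mk' K l₀)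
        have h2 : (⟨_, h1⟩ : K) ^ (p ^ a) = 1 := by rw [ha]; exact pow_card_eq_one'
        rw [hgdef, ← pow_mul, mul_comm, pow_mul]
        exact congrArg Subtype.val h2
      have hgN : (g : G) ∉ N := hgK
      refine CfsgLib.Solvable.FPFNilpotent.isNilpotent_of_mulAut hq
        (MulAut.conjNormal (g : G)) ?_ ?_
      · rw [← map_pow, show ((g : G)) ^ q = 1 from congrArg Subtype.val hgq, map_one]
      · intro x hx
        have h1 : (g : G) * x * (g : G)⁻¹ = x := congrArg Subtype.val hx
        have hc : Commute (g : G) (x : G) := mul_inv_eq_iff_eq_mul.mp h1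
        have hxL : (x : G) ∈ L := (hcentr g hgN).2 (Subgroup.mem_centralizer_singleton_iff.mpr hc.eq.symm)
        refine Subtype.ext (eq_one_of_commute (eqOrd hcam) hgN x.2 hc ?_)
        have hog : orderOf (g : G) ∣ q :=
          orderOf_dvd_of_pow_eq_one (congrArg Subtype.val hgq)
        have hox : orderOf (x : G) ∣ p ^ a := by
          have h3 := Subgroup.orderOf_dvd_natCard K
            (show (⟨x, hxL⟩ : L) ∈ K from Subgroup.mem_subgroupOf.mpr x.2)
          rw [Subgroup.orderOf_mk] at h3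
          rw [ha]; exact h3
        exact ((((Nat.coprime_primes hq hp').mpr hqp).pow_right a).coprime_dvd_left hog).coprime_dvd_right hox
    · -- impossible: a Hall subgroup inside the Frattini subgroup
      exfalso
      have hK2 : K ≠ ⊤ := fun h => hN2 (Subgroup.index_eq_one.mp (by rw [← hidx, h, Subgroup.index_top]))
      have hcop := coprime_of_nilpotent K hcamK hK1 hKnil hKpp
      obtain ⟨M, hM⟩ := Subgroup.exists_right_complement'_of_coprime hcop
      obtain hc | ⟨C, hC, hMC⟩ := eq_top_or_exists_le_coatom M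
      · apply hK1
        rw [← hc] at hK2
        exact Subgroup.isComplement'_top_right.mp (hc ▸ hM)
      · apply hC.1
        rw [← top_le_iff, ← hM.sup_eq_top]
        exact sup_le (hfrat.trans (frattini_le_coatom hC)) hMC
  intro x hx hx1
  exact centralizer_le_of_coprime N hcam (coprime_of_nilpotent N hcam hN hN' hnot.1) hx hx1

end CfsgLib.PGroup.Camina
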