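import Cfsg.Agent.NumberTheory.PrimitivePart
import Mathlib

/-!
# One class cosets in `p`-groups

A prime power dividing `p ^ r - 1` and no smaller `p ^ i - 1`; automorphisms of small `p`-groups
of that order; centrality of a normal subgroup `R` with all cosets `xR`, `x ∉ R`, single classes,
in the presence of an automorphism acting fixed point freely on the quotient; `2`-groups with
derived subgroup of index four.
-/

set_option autoImplicit false
set_option linter.unusedSectionVars false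

namespace CfsgLib.PGroup.CentralKernel

/-- A prime power dividing `p ^ r - 1` but no `p ^ i - 1` with `0 < i < r`. -/
theorem exists_prime_power {p r : ℕ} (hp : p.Prime) (hr : 2 ≤ r) :
    ∃ l e : ℕ, l.Prime ∧ 0 < e ∧ l ^ e ∣ p ^ r - 1 ∧
      ∀ i, 0 < i → i < r → ¬ l ^ e ∣ p ^ i - 1 := by
  by_cases h6 : p = 2 ∧ r = 6
  · obtain ⟨rfl, rfl⟩ := h6
    refine ⟨3, 2, Nat.prime_three, two_pos, by decide, fun i hi hi6 => ?_⟩
    interval_cases i <;> decide
  by_cases h2 : r = 2 ∧ ∃ m : ℕ, p + 1 = 2 ^ m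
  · obtain ⟨rfl, m, hm⟩ := h2
    refine ⟨2, m + 1, Nat.prime_two, Nat.succ_pos _, ?_, fun i hi hi2 => ?_⟩
    · have hsq : p ^ 2 - 1 = (p + 1) * (p - 1) := by
        rw [← Nat.sq_sub_sq, one_pow]
      rw [hsq, hm, pow_succ]
      refine mul_dvd_mul_left _ ?_
      rcases hp.eq_two_or_odd' with rfl | ho
      · exfalso
        rcases m with _ | m
        · simp at hm
        · rw [pow_succ] at hm; omega
      · obtain ⟨k, hk⟩ := ho
        exact ⟨k, by omega⟩
    · obtain rfl : i = 1 := by omega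
      rw [pow_one]
      intro hd
      have h3 := Nat.le_of_dvd (by have := hp.two_le; omega) hd
      rw [pow_succ] at h3
      omega
  · obtain ⟨l, hl, hld, hli⟩ := CfsgLib.NT.exists_primitive_prime hp.two_le hr h6 h2
    exact ⟨l, 1, hl, one_pos, by rwa [pow_one], fun i hi hir => by rw [pow_one]; exact hli i hi hir⟩

variable {p r l e : ℕ}

/-- A power of an automorphism of `l`-power order centralises a `p`-group of order less than
`p ^ r`. -/
theorem apply_eq_self_of_small {U : Type*} [Group U] [Finite U] [hp : Fact p.Prime]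
    (hl : l.Prime) (he : 0 < e) (hL : ∀ i, 0 < i → i < r → ¬ l ^ e ∣ p ^ i - 1)
    (hLp : ¬ l ∣ p) (hU : IsPGroup p U) (hUc : Nat.card U < p ^ r)
    (φ : MulAut U) {n : ℕ} (hφ : φ ^ l ^ n = 1) (u : U) : (φ ^ l ^ (e - 1)) u = u := by
  classical
  haveI := Fintype.ofFinite U
  set ψ : MulAut U := φ ^ l ^ (e - 1) with hψ
  let C : Subgroup U :=
    { carrier := {u | ψ u = u}
      one_mem' := map_one ψ
      mul_mem' := fun {a b} ha hb => show ψ (a * b) = a * b by rw [map_mul, ha, hb]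
      inv_mem' := fun {a} ha => show ψ a⁻¹ = a⁻¹ by rw [map_inv, ha] }
  -- the points moved by `ψ` fall into `⟨φ⟩`-orbits of sizes divisible by `l ^ e`
  have key : l ^ e ∣ Nat.card {u : U // u ∉ C} := by
    let A := Subgroup.zpowers φ
    have hstab : ∀ (a : A) (u : U), u ∉ C → (a : MulAut U) u ∉ C := by
      intro a u hu h
      apply hu
      have hc : Commute ψ (a : MulAut U) := by
        obtain ⟨k, hk⟩ := Subgroup.mem_zpowers_iff.mp a.2
        rw [← hk]
        exact ((Commute.refl φ).zpow_right k).pow_left _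
      change ψ ((a : MulAut U) u) = (a : MulAut U) u at h
      rw [← MulAut.mul_apply, hc.eq, MulAut.mul_apply] at h
      exact (a : MulAut U).injective h
    letI : MulAction A {u : U // u ∉ C} :=
      { smul := fun a u => ⟨(a : MulAut U) u.1, hstab a u.1 u.2⟩
        one_smul := fun u => Subtype.ext rfl
        mul_smul := fun a b u => Subtype.ext rfl }
    rw [Nat.card_congr (MulAction.selfEquivSigmaOrbits A {u : U // u ∉ C})]
    haveI : ∀ ω : Quotient (MulAction.orbitRel A {u : U // u ∉ C}),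
        Finite (MulAction.orbit A ω.out) := fun _ => inferInstance
    rw [Nat.card_sigma]
    refine Finset.dvd_sum fun ω _ => ?_
    set u := ω.out
    have hdiv : Nat.card (MulAction.orbit A u) ∣ l ^ n := by
      rw [Nat.card_congr (MulAction.orbitEquivQuotientStabilizer A u), ← Subgroup.index_eq_card]
      refine (Subgroup.index_dvd_card _).trans ?_
      rw [Nat.card_zpowers]
      exact orderOf_dvd_of_pow_eq_one hφ
    obtain ⟨i, -, hi⟩ := (Nat.dvd_prime_pow hl).mp hdiv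
    rw [hi]
    refine pow_dvd_pow l ?_
    by_contra hlt
    apply u.2
    change ψ u.1 = u.1
    have hor : Nat.card (MulAction.orbit A u) = Nat.card (MulAction.orbit A u.1) :=
      Nat.card_congr (Equiv.ofBijective
        (fun w => ⟨w.1.1, by obtain ⟨a, ha⟩ := w.2; exact ⟨a, congrArg Subtype.val ha⟩⟩)
        ⟨fun w w' h => Subtype.ext (Subtype.ext (congrArg (fun z => z.1) h)),
          fun ⟨_, a, ha⟩ => ⟨⟨a • u, a, rfl⟩, Subtype.ext ha⟩⟩)
    haveI := Fintype.ofFinite (MulAction.orbit (Subgroup.zpowers φ) u.1)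
    have hper : Function.minimalPeriod (φ • ·) u.1 ∣ l ^ (e - 1) := by
      rw [MulAction.minimalPeriod_eq_card, ← Nat.card_eq_fintype_card, ← hor, hi]
      exact pow_dvd_pow l (by omega)
    exact MulAction.pow_smul_eq_iff_minimalPeriod_dvd.mpr hper
  have hC : Nat.card C + Nat.card {u : U // u ∉ C} = Nat.card U := by
    rw [← Nat.card_congr (Equiv.sumCompl (fun u => u ∈ C)), Nat.card_sum]
  obtain ⟨s, hs⟩ := IsPGroup.iff_card.mp hU
  obtain ⟨j, hj⟩ := IsPGroup.iff_card.mp (hU.to_subgroup C)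
  have hjs : j ≤ s := (Nat.pow_le_pow_iff_right hp.1.one_lt).mp
    (by rw [← hs, ← hj]; exact Subgroup.card_le_card_group C)
  have hsr : s < r := (Nat.pow_lt_pow_iff_right hp.1.one_lt).mp (by rw [← hs]; exact hUc)
  have hd : l ^ e ∣ p ^ j * (p ^ (s - j) - 1) := by
    rw [Nat.mul_sub, mul_one, ← pow_add, Nat.add_sub_cancel' hjs, ← hs, ← hj]
    rwa [show Nat.card U - Nat.card C = Nat.card {u : U // u ∉ C} by omega]
  have hd' : l ^ e ∣ p ^ (s - j) - 1 :=
    (Nat.Coprime.pow e j ((Nat.Prime.coprime_iff_not_dvd hl).mpr hLp)).dvd_of_dvd_mul_left hd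
  have hsj : j = s := by
    by_contra hne
    exact hL (s - j) (by omega) (by omega) hd'
  have htop : C = ⊤ := Subgroup.eq_top_of_card_eq C (by rw [hs, hj, hsj])
  exact show u ∈ C from htop ▸ Subgroup.mem_top u

/-- The same for an invariant subgroup. -/
theorem apply_eq_self_of_small_subgroup {U : Type*} [Group U] [Finite U] [hp : Fact p.Prime]
    (hl : l.Prime) (he : 0 < e) (hL : ∀ i, 0 < i → i < r → ¬ l ^ e ∣ p ^ i - 1)
    (hLp : ¬ l ∣ p) (S : Subgroup U) (hS : IsPGroup p S) (hSc : Nat.card S < p ^ r)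
    (φ : MulAut U) (hinv : ∀ u ∈ S, φ u ∈ S) {n : ℕ} (hφ : φ ^ l ^ n = 1) {u : U} (hu : u ∈ S) :
    (φ ^ l ^ (e - 1)) u = u := by
  let φS : MulAut S := MulEquiv.ofBijective
    ((φ.toMonoidHom.comp S.subtype).codRestrict S fun v => hinv v v.2)
    (Finite.injective_iff_bijective.mp fun a b h => Subtype.ext (φ.injective (congrArg Subtype.val h)))
  have hpow : ∀ k : ℕ, ∀ v : S, (((φS ^ k) v : S) : U) = (φ ^ k) (v : U) := by
    intro k
    induction k with
    | zero => intro v; rfl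
    | succ k ih =>
      intro v
      rw [pow_succ, pow_succ, MulAut.mul_apply, MulAut.mul_apply, ih]
      rfl
  have h1 : φS ^ l ^ n = 1 := MulEquiv.ext fun v => Subtype.ext (by rw [hpow, hφ]; rfl)
  have h := congrArg Subtype.val (apply_eq_self_of_small hl he hL hLp hS hSc φS h1 ⟨u, hu⟩)
  rwa [hpow] at h

/-- An element of a `p`-group whose class is the coset `xR`. -/
theorem card_centralizer {P : Type*} [Group P] [Finite P] (R : Subgroup P) (x : P)
    (hcls : ∀ ρ ∈ R, ∃ v : P, v * x * v⁻¹ = x * ρ) (hsub : ∀ v : P, x⁻¹ * (v * x * v⁻¹) ∈ R) :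
    Nat.card (Subgroup.centralizer ({x} : Set P)) = R.index := by
  set C := Subgroup.centralizer ({x} : Set P)
  have hC : ∀ a b : P, a⁻¹ * b ∈ C ↔ a * x * a⁻¹ = b * x * b⁻¹ := by
    intro a b
    rw [Subgroup.mem_centralizer_singleton_iff]
    constructor
    · intro h
      calc a * x * a⁻¹ = a * (x * (a⁻¹ * b)) * b⁻¹ := by group
        _ = a * (a⁻¹ * b * x) * b⁻¹ := by rw [h]
        _ = b * x * b⁻¹ := by group
    · intro h
      calc a⁻¹ * b * x = a⁻¹ * (b * x * b⁻¹) * b := by group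
        _ = a⁻¹ * (a * x * a⁻¹) * b := by rw [h]
        _ = x * (a⁻¹ * b) := by group
  have hbij : Nat.card (P ⧸ C) = Nat.card R := by
    refine Nat.card_congr (Equiv.ofBijective
      (Quotient.lift (fun v => (⟨x⁻¹ * (v * x * v⁻¹), hsub v⟩ : R)) fun a b h => Subtype.ext ?_)
      ⟨?_, ?_⟩)
    · exact congrArg (x⁻¹ * ·) ((hC a b).mp (QuotientGroup.leftRel_apply.mp h))
    · rintro ⟨a⟩ ⟨b⟩ h
      have h' : x⁻¹ * (a * x * a⁻¹) = x⁻¹ * (b * x * b⁻¹) := congrArg Subtype.val h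
      exact Quotient.sound (QuotientGroup.leftRel_apply.mpr ((hC a b).mpr (mul_left_cancel h')))
    · rintro ⟨ρ, hρ⟩
      obtain ⟨v, hv⟩ := hcls ρ hρ
      exact ⟨Quotient.mk'' v, Subtype.ext (show x⁻¹ * (v * x * v⁻¹) = ρ by
        rw [hv, inv_mul_cancel_left])⟩
  have h1 := Subgroup.card_mul_index C
  rw [Subgroup.index_eq_card, hbij, ← R.card_mul_index, mul_comm] at h1
  exact Nat.eq_of_mul_eq_mul_left Nat.card_pos h1

/-- A normal subgroup all whose outside cosets are single classes is central, if a coprime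
automorphism is fixed point free modulo it. -/
theorem le_center {P : Type*} [Group P] [Finite P] [hp : Fact p.Prime] (hP : IsPGroup p P)
    (hl : l.Prime) (he : 0 < e) (hL : ∀ i, 0 < i → i < r → ¬ l ^ e ∣ p ^ i - 1) (hLp : ¬ l ∣ p)
    (R : Subgroup P) [R.Normal] (hRi : R.index = p ^ r) (hR : R ≠ ⊤)
    (hcls : ∀ x : P, x ∉ R → ∀ ρ ∈ R, ∃ v : P, v * x * v⁻¹ = x * ρ)
    (hab : ∀ v w : P, v⁻¹ * (w * v * w⁻¹) ∈ R) (φ : MulAut P) (hinv : ∀ ρ ∈ R, φ ρ ∈ R)
    {n : ℕ} (hφ : φ ^ l ^ n = 1)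
    (hfpf : ∀ v : P, v⁻¹ * (φ ^ l ^ (e - 1)) v ∈ R → v ∈ R) :
    R ≤ Subgroup.center P ∧ ∀ ρ ∈ R, (φ ^ l ^ (e - 1)) ρ = ρ := by
  classical
  set ψ := φ ^ l ^ (e - 1) with hψdef
  have hψR : ∀ ρ ∈ R, ψ ρ ∈ R := by
    rw [hψdef]
    generalize l ^ (e - 1) = k
    induction k with
    | zero => intro ρ hρ; exact hρ
    | succ k ih =>
      intro ρ hρ
      rw [pow_succ, MulAut.mul_apply]
      exact ih _ (hinv ρ hρ)
  obtain ⟨x₀, hx₀⟩ : ∃ x, x ∉ R := by
    by_contra h
    push Not at h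
    exact hR (eq_top_iff.mpr fun x _ => h x)
  have hcard : ∀ x, x ∉ R → Nat.card (Subgroup.centralizer ({x} : Set P)) = p ^ r := fun x hx =>
    hRi ▸ card_centralizer R x (hcls x hx) fun v => hab x v
  -- the central part
  set Z₀ := R ⊓ Subgroup.center P
  haveI : Z₀.Normal := ⟨fun z hz g => by
    have : g * z * g⁻¹ = z := by rw [Subgroup.mem_center_iff.mp hz.2 g, mul_inv_cancel_right]
    rwa [this]⟩
  have hZ₀inv : ∀ z ∈ Z₀, φ z ∈ Z₀ := fun z hz => ⟨hinv z hz.1,
    Subgroup.mem_center_iff.mpr fun g => by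
      have h := congrArg φ (Subgroup.mem_center_iff.mp hz.2 (φ.symm g))
      simpa only [map_mul, MulEquiv.apply_symm_apply] using h⟩
  have hZ₀lt : Nat.card Z₀ < p ^ r := by
    rw [← hcard x₀ hx₀]
    have hle : Z₀ ≤ Subgroup.centralizer ({x₀} : Set P) := fun z hz =>
      Subgroup.mem_centralizer_singleton_iff.mpr (Subgroup.mem_center_iff.mp hz.2 x₀).symm
    refine lt_of_le_of_ne (Subgroup.card_le_of_le hle) fun h => hx₀ ?_
    have := Subgroup.eq_of_le_of_card_ge hle h.ge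
    exact ((this ▸ Subgroup.mem_centralizer_singleton_iff.mpr rfl : x₀ ∈ Z₀)).1
  have hfix₀ : ∀ z ∈ Z₀, ψ z = z := fun z hz =>
    apply_eq_self_of_small_subgroup hl he hL hLp Z₀ (hP.to_subgroup _) hZ₀lt φ hZ₀inv hφ hz
  -- the next layer
  let Z₁ : Subgroup P :=
    { carrier := {z | z ∈ R ∧ ∀ v : P, z⁻¹ * (v * z * v⁻¹) ∈ Z₀}
      one_mem' := ⟨R.one_mem, fun v => by simp [Z₀.one_mem]⟩
      mul_mem' := fun {a b} ha hb => ⟨R.mul_mem ha.1 hb.1, fun v => by
        have e : (a * b)⁻¹ * (v * (a * b) * v⁻¹) =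
            b⁻¹ * (a⁻¹ * (v * a * v⁻¹)) * b * (b⁻¹ * (v * b * v⁻¹)) := by group
        rw [e]
        exact Z₀.mul_mem (by simpa using (inferInstance : Z₀.Normal).conj_mem _ (ha.2 v) b⁻¹) (hb.2 v)⟩
      inv_mem' := fun {a} ha => ⟨R.inv_mem ha.1, fun v => by
        have e : a⁻¹⁻¹ * (v * a⁻¹ * v⁻¹) = a * (a⁻¹ * (v * a * v⁻¹))⁻¹ * a⁻¹ := by group
        rw [e]
        exact (inferInstance : Z₀.Normal).conj_mem _ (Z₀.inv_mem (ha.2 v)) a⟩ }
  have hZ₁R : Z₁ ≤ R := fun z hz => hz.1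
  have hZ₁n : Z₁.Normal := ⟨fun z hz g => ⟨(inferInstance : R.Normal).conj_mem _ hz.1 g, fun v => by
    have e : (g * z * g⁻¹)⁻¹ * (v * (g * z * g⁻¹) * v⁻¹) =
        g * ((z⁻¹ * (g⁻¹ * v * g * z * (g⁻¹ * v * g)⁻¹))) * g⁻¹ := by group
    rw [e]
    exact (inferInstance : Z₀.Normal).conj_mem _ (hz.2 _) g⟩⟩
  have hZ₁inv : ∀ z ∈ Z₁, φ z ∈ Z₁ := fun z hz => ⟨hinv z hz.1, fun v => by
    have h := hZ₀inv _ (hz.2 (φ.symm v))
    simpa only [map_mul, map_inv, MulEquiv.apply_symm_apply] using h⟩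
  -- `ψ` is trivial on the layer
  have hfix₁ : ∀ z ∈ Z₁, ψ z = z := by
    have hquot : ∀ z ∈ Z₁, z⁻¹ * ψ z ∈ Z₀ := by
      intro z hz
      let π := QuotientGroup.mk' Z₀
      let φ' : MulAut (P ⧸ Z₀) := QuotientGroup.congr Z₀ Z₀ φ
        (Subgroup.eq_of_le_of_card_ge (Subgroup.map_le_iff_le_comap.mpr hZ₀inv)
          (Subgroup.card_map_of_injective (f := φ.toMonoidHom) φ.injective).ge)
      have hπ : ∀ k : ℕ, ∀ v : P, (φ' ^ k) (π v) = π ((φ ^ k) v) := by
        intro k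
        induction k with
        | zero => intro v; rfl
        | succ k ih =>
          intro v
          rw [pow_succ, pow_succ, MulAut.mul_apply, MulAut.mul_apply, ← ih]
          rfl
      have hD : Nat.card (Z₁.map π) < p ^ r := by
        -- the preimage of the centraliser of `x₀` modulo `Z₀`
        set C := Subgroup.centralizer ({π x₀} : Set (P ⧸ Z₀))
        have hC : Nat.card C = p ^ r := by
          have hRm : (R.map π).index = p ^ r := by
            rw [Subgroup.index_map_eq _ (QuotientGroup.mk'_surjective _)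
              (by rw [QuotientGroup.ker_mk']; exact inf_le_left), hRi]
          rw [← hRm]
          refine card_centralizer (R.map π) (π x₀) ?_ fun v => ?_
          · rintro _ ⟨ρ, hρ, rfl⟩
            obtain ⟨v, hv⟩ := hcls x₀ hx₀ ρ hρ
            exact ⟨π v, by rw [← map_inv, ← map_mul, ← map_mul, ← map_mul, hv]⟩
          · obtain ⟨v, rfl⟩ := QuotientGroup.mk'_surjective Z₀ v
            exact ⟨_, hab x₀ v, by simp [π]⟩
        have hle : Z₁.map π ≤ C := by
          rintro _ ⟨z₁, hz₁, rfl⟩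
          rw [Subgroup.mem_centralizer_singleton_iff, ← map_mul, ← map_mul]
          refine (QuotientGroup.eq.mpr ?_).symm
          have := hz₁.2 x₀
          have e : (x₀ * z₁)⁻¹ * (z₁ * x₀) = (z₁⁻¹ * (x₀⁻¹ * z₁ * x₀⁻¹⁻¹))⁻¹⁻¹ := by group
          rw [e, inv_inv]
          exact hz₁.2 x₀⁻¹
        rw [← hC]
        refine lt_of_le_of_ne (Subgroup.card_le_of_le hle) fun h => hx₀ ?_
        have heq := Subgroup.eq_of_le_of_card_ge hle h.ge
        have hx : π x₀ ∈ Z₁.map π := heq ▸ Subgroup.mem_centralizer_singleton_iff.mpr rfl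
        obtain ⟨z₁, hz₁, he₁⟩ := hx
        have := QuotientGroup.eq.mp he₁
        simpa using R.mul_mem hz₁.1 this.1
      have hφ' : φ' ^ l ^ n = 1 := MulEquiv.ext fun q => by
        obtain ⟨v, rfl⟩ := QuotientGroup.mk'_surjective Z₀ q
        rw [hπ, hφ]; rfl
      have h := apply_eq_self_of_small_subgroup hl he hL hLp (Z₁.map π)
        ((hP.to_subgroup Z₁).map π) hD φ' (by
          rintro _ ⟨z₁, hz₁, rfl⟩
          exact ⟨φ z₁, hZ₁inv z₁ hz₁, (hπ 1 z₁).symm.trans rfl⟩) hφ' (Subgroup.mem_map_of_mem π hz)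
      rw [hπ] at h
      exact QuotientGroup.eq.mp h.symm
    intro z hz
    -- a coprime automorphism trivial on both layers is trivial
    set c := z⁻¹ * ψ z with hc
    have hcz : ψ z = z * c := by rw [hc, mul_inv_cancel_left]
    have hiter : ∀ k : ℕ, (ψ ^ k) z = z * c ^ k := by
      intro k
      induction k with
      | zero => simp
      | succ k ih => rw [pow_succ', MulAut.mul_apply, ih, map_mul, hcz, map_pow,
          hfix₀ c (hquot z hz), mul_assoc, ← pow_succ']
    have hord : (ψ ^ l ^ n) z = z := by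
      rw [hψdef, ← pow_mul, mul_comm, pow_mul, hφ, one_pow]; rfl
    rw [hiter] at hord
    have h1 : orderOf c ∣ l ^ n := orderOf_dvd_of_pow_eq_one (mul_eq_left.mp hord)
    obtain ⟨a, ha⟩ := IsPGroup.iff_orderOf.mp hP c
    rw [ha] at h1
    have hcop : (p ^ a).Coprime (l ^ n) := Nat.Coprime.pow a n ((Nat.coprime_primes hp.1 hl).mpr
      fun h => hLp (h ▸ dvd_refl l))
    have hc1 : c = 1 := orderOf_eq_one_iff.mp (by rw [ha]; exact Nat.Coprime.eq_one_of_dvd hcop h1)
    rw [hcz, hc1, mul_one]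
  -- every coset of `R` meets `C(Z₁)`
  have hcov : ∀ x : P, ∃ ρ ∈ R, ∀ z ∈ Z₁, x * ρ * z = z * (x * ρ) := by
    intro x
    let f : P ⧸ R → P ⧸ R := Quotient.lift
      (fun v => QuotientGroup.mk' R (v⁻¹ * ψ v)) fun a b h => QuotientGroup.eq.mpr (by
        have hd := QuotientGroup.leftRel_apply.mp h
        have e1 : (a⁻¹ * ψ a)⁻¹ * (b⁻¹ * ψ b) =
            (ψ a)⁻¹ * (a * b⁻¹) * ψ a * ψ (a⁻¹ * b) := by simp [mul_assoc]
        rw [e1]
        refine R.mul_mem ?_ (hψR _ hd)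
        have h2 : a * b⁻¹ ∈ R := by
          have := (inferInstance : R.Normal).conj_mem _ (R.inv_mem hd) a
          simpa [mul_assoc] using this
        simpa [mul_assoc] using (inferInstance : R.Normal).conj_mem _ h2 (ψ a)⁻¹)
    have hinj : Function.Injective f := by
      rintro ⟨a⟩ ⟨b⟩ h
      refine Quotient.sound (QuotientGroup.leftRel_apply.mpr ?_)
      have hd : (a⁻¹ * ψ a)⁻¹ * (b⁻¹ * ψ b) ∈ R := QuotientGroup.eq.mp h
      have key : (a⁻¹ * b)⁻¹ * ψ (a⁻¹ * b) ∈ R := by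
        set u := a⁻¹ * ψ a with hu
        have hw : b * u * b⁻¹ * u⁻¹ ∈ R := by
          have := (inferInstance : R.Normal).conj_mem _ (hab u b) u
          simpa [mul_assoc] using this
        have hw2 : u * a * u⁻¹ * a⁻¹ ∈ R := by
          have := (inferInstance : R.Normal).conj_mem _ (hab a u) a
          simpa [mul_assoc] using this
        have hw' := (inferInstance : R.Normal).conj_mem _ (R.mul_mem hw hw2) (ψ b)⁻¹
        have e : (a⁻¹ * b)⁻¹ * ψ (a⁻¹ * b) =
            (u⁻¹ * (b⁻¹ * ψ b)) * ((ψ b)⁻¹ * (b * u * b⁻¹ * u⁻¹ * (u * a * u⁻¹ * a⁻¹)) * (ψ b)⁻¹⁻¹) := by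
          rw [hu, map_mul, map_inv]; group
        rw [e]
        exact R.mul_mem hd hw'
      exact hfpf _ key
    obtain ⟨q, hq⟩ := (Finite.injective_iff_surjective.mp hinj) (QuotientGroup.mk' R x)
    obtain ⟨v, rfl⟩ := QuotientGroup.mk'_surjective R q
    refine ⟨x⁻¹ * (v⁻¹ * ψ v), QuotientGroup.eq.mp hq.symm, fun z hz => ?_⟩
    rw [mul_inv_cancel_left]
    -- `[v, z]` is central and fixed
    have hw : z⁻¹ * (v * z * v⁻¹) ∈ Z₀ := hz.2 v
    have h1 := hfix₀ _ hw
    rw [map_mul, map_mul, map_mul, map_inv, map_inv, hfix₁ z hz] at h1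
    have h2 : ψ v * z * (ψ v)⁻¹ = v * z * v⁻¹ := mul_left_cancel h1
    calc v⁻¹ * ψ v * z = v⁻¹ * (ψ v * z * (ψ v)⁻¹) * ψ v := by group
      _ = z * (v⁻¹ * ψ v) := by rw [h2]; group
  have hZ₁c : ∀ z ∈ Z₁, ∀ v : P, v * z = z * v := by
    have hR' : ∀ ρ ∈ R, ∀ z ∈ Z₁, ρ * z = z * ρ := by
      intro ρ hρ z hz
      obtain ⟨σ, hσ, hx⟩ := hcov x₀
      set x := x₀ * σ
      have hxR : x ∉ R := fun h => hx₀ (by simpa [x] using R.mul_mem h (R.inv_mem hσ))
      obtain ⟨v, hv⟩ := hcls x hxR ρ hρ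
      have h1 : ∀ w ∈ Z₁, x * ρ * w = w * (x * ρ) := by
        intro w hw
        rw [← hv]
        have hw' : v⁻¹ * w * v ∈ Z₁ := by simpa using hZ₁n.conj_mem w hw v⁻¹
        calc v * x * v⁻¹ * w = v * (x * (v⁻¹ * w * v)) * v⁻¹ := by group
          _ = v * (v⁻¹ * w * v * x) * v⁻¹ := by rw [hx _ hw']
          _ = w * (v * x * v⁻¹) := by group
      refine mul_left_cancel (a := x) ?_
      calc x * (ρ * z) = z * (x * ρ) := by rw [← mul_assoc, h1 z hz]
        _ = x * z * ρ := by rw [← mul_assoc, ← hx z hz]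
        _ = x * (z * ρ) := mul_assoc _ _ _
    intro z hz v
    obtain ⟨ρ, hρ, hvz⟩ := hcov v
    calc v * z = v * ρ * (ρ⁻¹ * z) := by group
      _ = v * ρ * (z * ρ⁻¹) := by rw [hR' _ (R.inv_mem hρ) z hz]
      _ = z * (v * ρ) * ρ⁻¹ := by rw [← mul_assoc, hvz z hz]
      _ = z * v := by group
  have hRc : R ≤ Subgroup.center P := by
    haveI : Group.IsNilpotent P := hP.isNilpotent
    have hstep : ∀ i, Subgroup.upperCentralSeries P i ⊓ R ≤ Z₀ := by
      intro i
      induction i with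
      | zero =>
        intro z hz
        have : z = 1 := by simpa [Subgroup.upperCentralSeries_zero] using hz.1
        exact this ▸ Z₀.one_mem
      | succ i ih =>
        intro z hz
        have hz1 : z ∈ Z₁ := ⟨hz.2, fun v => by
          refine ih ⟨?_, ?_⟩
          · have h := Subgroup.mem_upperCentralSeries_succ_iff.mp hz.1 v
            have hn : (Subgroup.upperCentralSeries P i).Normal := inferInstance
            have h' := hn.conj_mem _ ((Subgroup.upperCentralSeries P i).inv_mem h) z⁻¹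
            simpa [commutatorElement_def, mul_assoc] using h'
          · exact R.mul_mem (R.inv_mem hz.2) ((inferInstance : R.Normal).conj_mem _ hz.2 v)⟩
        exact ⟨hz.2, Subgroup.mem_center_iff.mpr fun g => hZ₁c z hz1 g⟩
    intro z hz
    refine (hstep (Group.nilpotencyClass P) ⟨?_, hz⟩).2
    rw [Subgroup.upperCentralSeries_nilpotencyClass]
    exact Subgroup.mem_top z
  exact ⟨hRc, fun ρ hρ => hfix₀ ρ ⟨hρ, hRc hρ⟩⟩

end CfsgLib.PGroup.CentralKernel
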