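import Cfsg.Agent.Lib.PGroup.ChevLeading
import Cfsg.Agent.Lib.PGroup.GreenInter
import Cfsg.Agent.Lib.KnownB.Steinberg.Irreducible

/-!
A Chevalley group has two blocks in its defining characteristic.
-/

set_option autoImplicit false
set_option linter.unusedSectionVars false
set_option linter.style.haveILetI false

namespace CfsgLib.PGroup.ChevBlocks

open Cfsg CfsgLib.Blocks CfsgLib.Chevalley CfsgLib.Chevalley.Tbl
open CfsgLib.PGroup.ChevBigCell CfsgLib.PGroup.ChevLeading CfsgLib.PGroup.ChevRad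
open scoped commutatorElement
attribute [local instance] Classical.propDecidable

variable {T : Tbl} {F : Type*} [Field F] [Fintype F]
variable (hT : T.Valid) (hC : T.chkComm = true) (hS : T.chkSorted = true) (hD : chkDom T = true)
  (hSp : chkSpan T = true) (hpos : 0 < T.half)
variable (p : ℕ) [Fact p.Prime] [CharP F p] [Fintype ↥(T.datum.group F)] {M : Ideal AlgInt}

section RootGroups

include hT

theorem mem_centralizer_gen {P : ℕ → Prop} {c : ↥(T.datum.group F)} :
    c ∈ Subgroup.centralizer (gen T F P : Set ↥(T.datum.group F)) ↔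
      ∀ k < T.n, P k → ∀ t : F, (c : GL T.I F) * T.xU F k t = T.xU F k t * c := by
  refine ⟨fun hc k hk hP t => ?_, fun h => Subgroup.mem_centralizer_iff.2 fun x hx => ?_⟩
  · have := Subgroup.mem_centralizer_iff.1 hc ⟨T.xU F k t, xU_mem_group hT hk t⟩
      (mem_gen.2 (xU_mem_rootGen hk hP t))
    exact (congrArg Subtype.val this).symm
  · have hle : T.rootGen F P ≤ Subgroup.centralizer ({(c : GL T.I F)} : Set (GL T.I F)) :=
      rootGen_le fun k hk hP t => Subgroup.mem_centralizer_singleton_iff.2 (h k hk hP t).symm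
    exact Subtype.ext (Subgroup.mem_centralizer_singleton_iff.1 (hle (mem_gen.1 hx)))

include hC

theorem isPGroup_gen_of_pos {P : ℕ → Prop} (hP : ∀ k < T.n, P k → T.half ≤ k) : IsPGroup p (gen T F P) :=
  (isPGroup_gen hT hC p).to_le fun _ hx => mem_gen.2 (rootGen_mono hP (mem_gen.1 hx))

/-- The last root group is central in `U`. -/
theorem commute_last {x : GL T.I F} (hx : x ∈ T.rootGen F fun k => T.half ≤ k) (hpos : 0 < T.half) (t : F) :
    x * T.xU F (T.n - 1) t = T.xU F (T.n - 1) t * x := by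
  have hn : T.n - 1 < T.n := by unfold n; omega
  have h1 := commutator_mem hT hC (k := T.n - 1) (by unfold n; omega)
    (xU_mem_rootGen (P := fun k => T.n - 1 ≤ k) hn le_rfl t) hx
  rw [show (T.n - 1) + 1 = T.n by omega, ge_n_eq_bot hT, Subgroup.mem_bot,
    commutatorElement_eq_one_iff_mul_comm] at h1
  exact h1.symm

/-- A non-trivial intersection of `U` with a conjugate contains a conjugate root group. -/
theorem exists_root_le {z : ↥(T.datum.group F)}
    (hne : gen T F (fun k => T.half ≤ k) ⊓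
      (gen T F (fun k => T.half ≤ k)).map (MulAut.conj z).toMonoidHom ≠ ⊥) :
    ∃ (a : ↥(T.datum.group F)) (r : Fin T.n), T.half ≤ r.val ∧
      ∀ x ∈ gen T F (fun k => k = r.val), a * x * a⁻¹ ∈ gen T F (fun k => T.half ≤ k) ⊓
        (gen T F (fun k => T.half ≤ k)).map (MulAut.conj z).toMonoidHom := by
  obtain ⟨b, hb, n, hn, w, hw, hm, u, hu, e⟩ := exists_canonical hT hC z.2
  have huU : u ∈ T.rootGen F fun k => T.half ≤ k := rootGen_mono (fun k _ h => h.2.1) hu
  by_cases hlw : Long w
  · exfalso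
    refine hne (Subgroup.eq_bot_iff_forall _ |>.2 ?_)
    rintro x ⟨hx, v, hv, hvx⟩
    change z * v * z⁻¹ = x at hvx
    have h1 : b⁻¹ * (x : GL T.I F) * b ∈ T.rootGen F fun k => T.half ≤ k := by
      have := borel_normalizes hT (inv_mem hb) (mem_gen.1 hx)
      rwa [inv_inv] at this
    have h2 : n * (u * (v : GL T.I F) * u⁻¹) * n⁻¹ ∈ T.rootGen F fun k => k < T.half :=
      conj_mem_rootGen hT hm (fun k h => hlw k h) (mul_mem (mul_mem huU (mem_gen.1 hv)) (inv_mem huU))
    have h3 : n * (u * (v : GL T.I F) * u⁻¹) * n⁻¹ = b⁻¹ * (x : GL T.I F) * b := by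
      rw [show (x : GL T.I F) = (z : GL T.I F) * v * (z : GL T.I F)⁻¹ from (congrArg Subtype.val hvx).symm, e]
      group
    have h4 := pos_neg_eq_one hT h1 (h3 ▸ h2)
    refine Subtype.ext ?_
    calc (x : GL T.I F) = b * (b⁻¹ * (x : GL T.I F) * b) * b⁻¹ := by group
      _ = 1 := by rw [h4]; group
  · simp only [Long] at hlw
    push Not at hlw
    obtain ⟨s, hs, hws⟩ := hlw
    refine ⟨⟨b, borel_le_group hT hb⟩, w s, hws, fun x hx => ?_⟩
    have hxU : (x : GL T.I F) ∈ T.rootGen F fun k => T.half ≤ k :=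
      rootGen_mono (fun k _ h => h ▸ hws) (mem_gen.1 hx)
    have h1 : n⁻¹ * (x : GL T.I F) * n ∈ T.rootGen F fun k => T.half ≤ k := by
      have := conj_mem_rootGen hT hm.inv (Q := fun k => T.half ≤ k)
        (fun k h => by rw [show k = w s from Fin.ext h, show w⁻¹ (w s) = s from w.symm_apply_apply s]; exact hs)
        (mem_gen.1 hx)
      rwa [inv_inv] at this
    refine ⟨mem_gen.2 (borel_normalizes hT hb hxU), ⟨u⁻¹ * (n⁻¹ * (x : GL T.I F) * n) * u,
      rootGen_le_group hT _ (mul_mem (mul_mem (inv_mem huU) h1) huU)⟩,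
      mem_gen.2 (mul_mem (mul_mem (inv_mem huU) h1) huU), Subtype.ext ?_⟩
    show (z : GL T.I F) * (u⁻¹ * (n⁻¹ * (x : GL T.I F) * n) * u) * (z : GL T.I F)⁻¹ =
      b * (x : GL T.I F) * b⁻¹
    rw [e]; group

include hS hD hSp

/-- A unit coefficient at an element centralizing a root group forces the element to be `1`. -/
theorem coeff_eq_one (hM : IsPModular p M) {B : Set (IrrCharacter ↥(T.datum.group F))} (hB : IsPBlock M B)
    {c : ↥(T.datum.group F)} {r : Fin T.n} (hr : T.half ≤ r.val)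
    (hc : c ∈ Subgroup.centralizer (gen T F (fun k => k = r.val) : Set ↥(T.datum.group F)))
    (hne : ¬ MemLocalIdeal M (blockCoeff B c)) : c = 1 := by
  obtain ⟨w, hw, hmax⟩ := exists_maxOrb hT r
  obtain ⟨nN, hnN⟩ := wHom_surjective (F := F) hT ⟨w, hw⟩
  have hm : T.Mono (nN : GL T.I F) w := by
    have := mono_wHom hT nN
    rwa [hnN] at this
  let nn : ↥(T.datum.group F) := ⟨nN, monomial_le_group hT nN.2⟩
  set r₀ := w r
  have hr₀ : T.half ≤ r₀.val := half_le_of_max hT hr hw hmax
  set c₀ := nn * c * nn⁻¹ with hc₀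
  suffices h : c₀ = 1 by rwa [hc₀, conj_eq_one_iff] at h
  have hne₀ : ¬ MemLocalIdeal M (blockCoeff B c₀) := by
    have h : blockCoeff B c₀ = blockCoeff B c := blockCoeff_isClassFunction B c nn
    rwa [h]
  -- move the root to the largest in its orbit
  have hc1 : c₀ ∈ Subgroup.centralizer (gen T F (fun k => k = r₀.val) : Set ↥(T.datum.group F)) := by
    refine (mem_centralizer_gen hT).2 fun k hk e t => ?_
    subst e
    obtain ⟨d, hd⟩ := hm.conj r
    have e1 : T.xU F r₀.val t = (nN : GL T.I F) * T.xU F r.val (((d⁻¹ : Fˣ) : F) * t) * (nN : GL T.I F)⁻¹ := by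
      rw [(hd _).1, mul_inv_cancel_right, ← mul_assoc, ← Units.val_mul, mul_inv_cancel, Units.val_one, one_mul]
    have h1 := (mem_centralizer_gen hT).1 hc r.val r.2 rfl (((d⁻¹ : Fˣ) : F) * t)
    show (nN : GL T.I F) * (c : GL T.I F) * (nN : GL T.I F)⁻¹ * T.xU F r₀.val t =
      T.xU F r₀.val t * ((nN : GL T.I F) * (c : GL T.I F) * (nN : GL T.I F)⁻¹)
    rw [e1]
    calc _ = (nN : GL T.I F) * ((c : GL T.I F) * T.xU F r.val (((d⁻¹ : Fˣ) : F) * t)) * (nN : GL T.I F)⁻¹ := by group
      _ = (nN : GL T.I F) * (T.xU F r.val (((d⁻¹ : Fˣ) : F) * t) * c) * (nN : GL T.I F)⁻¹ := by rw [h1]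
      _ = _ := by group
  have hpos : 0 < T.half := by
    have := r.2
    unfold n at this
    omega
  have hn1 : T.n - 1 < T.n := by unfold n; omega
  set θ : Fin T.n := ⟨T.n - 1, hn1⟩
  have hθ : T.half ≤ θ.val := by simp only [θ]; unfold n; omega
  have hθmax : MaxOrb hT θ := fun v _ => by
    have := (v θ).2
    simp only [θ]
    omega
  have hnorm : ∀ {s : Fin T.n}, T.half ≤ s.val → MaxOrb hT s → ∀ g ∈ Subgroup.centralizer
      (gen T F (fun k => k = s.val) : Set ↥(T.datum.group F)), ∀ x : ↥(T.datum.group F),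
      (x ∈ gen T F (Rad T s.val) ↔ g * x * g⁻¹ ∈ gen T F (Rad T s.val)) := by
    intro s hs hsm g hg x
    rw [mem_gen, mem_gen]
    exact Subgroup.mem_normalizer_iff.1
      (normalizes_rad hT hC hS hD hs hsm g.2 ((mem_centralizer_gen hT).1 hg s.val s.2 rfl 1)) _
  -- the element centralizes the last root group
  set P := gen T F (fun k => k = r₀.val)
  set Q := gen T F (Rad T r₀.val) ⊓ Subgroup.centralizer (P : Set ↥(T.datum.group F))
  have hc2 : c₀ ∈ Subgroup.centralizer (Q : Set ↥(T.datum.group F)) := by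
    refine GreenInter.mem_centralizer_of_coeff hM hB (isPGroup_gen_of_pos hT hC p fun k _ (e : k = r₀.val) => e ▸ hr₀)
      ((isPGroup_gen_of_pos hT hC p fun k _ h => h.1).to_le inf_le_left) inf_le_right ?_ hc1 hne₀
    intro g hg
    refine Subgroup.mem_normalizer_iff.2 fun x => ?_
    have h1 := hnorm hr₀ hmax g hg x
    refine ⟨fun ⟨hx1, hx2⟩ => ⟨h1.1 hx1, Subgroup.mul_mem _ (Subgroup.mul_mem _ hg hx2) (Subgroup.inv_mem _ hg)⟩, fun ⟨hx1, hx2⟩ => ⟨h1.2 hx1, ?_⟩⟩
    have := Subgroup.mul_mem _ (Subgroup.mul_mem _ (Subgroup.inv_mem _ hg) hx2) hg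
    simpa [mul_assoc] using this
  have hc3 : c₀ ∈ Subgroup.centralizer (gen T F (fun k => k = θ.val) : Set ↥(T.datum.group F)) := by
    refine (mem_centralizer_gen hT).2 fun k hk e t => ?_
    subst e
    have hmem : (⟨T.xU F θ.val t, xU_mem_group hT θ.2 t⟩ : ↥(T.datum.group F)) ∈ Q := by
      refine ⟨mem_gen.2 (xU_mem_rootGen θ.2 ⟨hθ, (dom_facts hT hS hD hr₀ hmax).2⟩ t), ?_⟩
      refine (mem_centralizer_gen hT).2 fun k hk e u => ?_
      subst e
      exact (commute_last hT hC (xU_mem_rootGen (P := fun k => T.half ≤ k) r₀.2 hr₀ u) hpos t).symm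
    exact (congrArg Subtype.val (Subgroup.mem_centralizer_iff.1 hc2 _ hmem)).symm
  -- the element centralizes the radical of the last root
  have hc4 : c₀ ∈ Subgroup.centralizer (gen T F (Rad T θ.val) : Set ↥(T.datum.group F)) := by
    refine GreenInter.mem_centralizer_of_coeff hM hB (isPGroup_gen_of_pos hT hC p fun k _ (e : k = θ.val) => e ▸ hθ)
      (isPGroup_gen_of_pos hT hC p fun k _ h => h.1) ?_ ?_ hc3 hne₀
    · intro x hx
      refine (mem_centralizer_gen hT).2 fun k hk e u => ?_
      subst e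
      exact commute_last hT hC (rootGen_mono (fun k _ h => h.1) (mem_gen.1 hx)) hpos u
    · exact fun g hg => Subgroup.mem_normalizer_iff.2 fun x => hnorm hθ hθmax g hg x
  have hU : c₀ ∈ gen T F (fun k => T.half ≤ k) :=
    mem_gen.2 (mem_pos_of_commute_rad hT hC hS hD hSp c₀.2 fun s hs h =>
      (mem_centralizer_gen hT).1 hc4 s hs h 1)
  obtain ⟨k, hk⟩ := IsPGroup.iff_orderOf.1 (isPGroup_gen hT hC p) ⟨c₀, hU⟩
  rw [Subgroup.orderOf_mk] at hk
  have hreg : ¬ p ∣ orderOf c₀ := isPRegular_of_not_LI hM hB hne₀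
  rw [hk] at hreg
  rcases k with _ | k
  · rwa [pow_zero, orderOf_eq_one_iff] at hk
  · exact absurd (dvd_pow_self p (Nat.succ_ne_zero k)) hreg

/-- A block of positive defect has full defect and a unit coefficient at `1`. -/
theorem full_defect (hM : IsPModular p M) {B : Set (IrrCharacter ↥(T.datum.group F))} (hB : IsPBlock M B)
    (h0 : blockDefect p B ≠ 0) :
    blockDefect p B = (Nat.card ↥(T.datum.group F)).factorization p ∧ ¬ MemLocalIdeal M (blockCoeff B 1) := by
  obtain ⟨D, hDg⟩ := exists_isDefectGroup hM hB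
  obtain ⟨P, y, hDP⟩ := GreenInter.exists_sylow_inter hM hB hDg
  obtain ⟨c, hcD, hcl⟩ := exists_unit_coeff_centralizer hM hDg
  set U := gen T F (fun k => T.half ≤ k)
  let P₀ : Sylow p ↥(T.datum.group F) := Sylow.ofCard U (isBigCell hT hC p).card_U
  obtain ⟨g, hg⟩ := MulAction.exists_smul_eq ↥(T.datum.group F) P₀ P
  have hP : (P : Subgroup ↥(T.datum.group F)) = U.map (MulAut.conj g).toMonoidHom := by
    rw [← hg, Sylow.coe_subgroup_smul]
    rfl
  set E := U ⊓ U.map (MulAut.conj (g⁻¹ * y * g)).toMonoidHom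
  have hDE : D = E.map (MulAut.conj g).toMonoidHom := by
    rw [hDP, hP, Subgroup.map_inf _ _ _ (MulAut.conj g).injective, Subgroup.map_map, Subgroup.map_map]
    congr 2
    ext x
    simp [mul_assoc]
  have hEne : E ≠ ⊥ := fun h => h0 (Nat.pow_right_injective hM.1.two_le (by
    show p ^ blockDefect p B = p ^ 0
    rw [← card_defectGroup hM hB hDg, hDE, h, Subgroup.map_bot, Subgroup.card_bot, pow_zero]))
  obtain ⟨a, r, hr, ha⟩ := exists_root_le hT hC hEne
  set h := g * a
  have hc1 : h⁻¹ * c * h ∈ Subgroup.centralizer (gen T F (fun k => k = r.val) : Set ↥(T.datum.group F)) := by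
    refine Subgroup.mem_centralizer_iff.2 fun x hx => ?_
    have hxD : h * x * h⁻¹ ∈ D := by
      rw [hDE]
      exact ⟨a * x * a⁻¹, ha x hx, by simp [h, mul_assoc]⟩
    have h2 := Subgroup.mem_centralizer_iff.1 hcD _ hxD
    calc x * (h⁻¹ * c * h) = h⁻¹ * (h * x * h⁻¹ * c) * h := by group
      _ = h⁻¹ * (c * (h * x * h⁻¹)) * h := by rw [h2]
      _ = _ := by group
  have hcoeff : blockCoeff B (h⁻¹ * c * h) = blockCoeff B c := by
    have := blockCoeff_isClassFunction B c h⁻¹
    simpa using this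
  have h1 := coeff_eq_one hT hC hS hD hSp p hM hB hr hc1 (by rw [hcoeff]; exact hcl.2.1)
  have hc : c = 1 := by
    calc c = h * (h⁻¹ * c * h) * h⁻¹ := by group
      _ = 1 := by rw [h1]; group
  subst hc
  refine ⟨?_, hcl.2.1⟩
  rw [← centExp_eq_of_isDefectClass hM hB hcl, centExp]
  rw [show Subgroup.centralizer ({(1 : ↥(T.datum.group F))} : Set ↥(T.datum.group F)) = ⊤ from
    eq_top_iff.2 fun x _ => Subgroup.mem_centralizer_singleton_iff.2 (by rw [mul_one, one_mul]),
    Subgroup.card_top]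

include hpos

/-- There is only one block of positive defect. -/
theorem positive_unique (hM : IsPModular p M) {B B' : Set (IrrCharacter ↥(T.datum.group F))}
    (hB : IsPBlock M B) (hB' : IsPBlock M B') (h : blockDefect p B ≠ 0) (h' : blockDefect p B' ≠ 0) :
    B = B' := by
  by_contra hne
  have hdisj : B ∩ B' = ∅ := by
    refine Set.eq_empty_iff_forall_notMem.2 fun χ hχ => hne ?_
    exact IsPBlock.eq_of_mem hM hB hB' hχ.1 hχ.2
  set U := gen T F (fun k => T.half ≤ k)
  have h1 := conv_congr_centralizer hM (isPGroup_gen hT hC p) (blockCoeff_LR hM hB) (blockCoeff_LR hM hB')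
    (fun u _ x => blockCoeff_isClassFunction B x u) (fun u _ x => blockCoeff_isClassFunction B' x u)
    (Subgroup.one_mem (Subgroup.centralizer (U : Set ↥(T.datum.group F))))
  rw [blockCoeff_conv, hdisj, show blockCoeff (∅ : Set (IrrCharacter ↥(T.datum.group F))) 1 = 0 by
    rw [blockCoeff, finsum_mem_empty, mul_zero]] at h1
  have h2 : MemLocalIdeal M ((∑ x : ↥(T.datum.group F) with x ∈ Subgroup.centralizer (U : Set ↥(T.datum.group F)),
      blockCoeff B x * blockCoeff B' (x⁻¹ * 1)) - blockCoeff B 1 * blockCoeff B' 1) := by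
    rw [← Finset.add_sum_erase _ _ (a := (1 : ↥(T.datum.group F)))
      (Finset.mem_filter.2 ⟨Finset.mem_univ _, Subgroup.one_mem _⟩), inv_one, one_mul, add_sub_cancel_left]
    refine LI.sum hM fun x hx => LI.mul_right hM ?_ (blockCoeff_LR hM hB' _)
    obtain ⟨hx1, hx2⟩ := Finset.mem_erase.1 hx
    by_contra hne'
    have hn1 : T.n - 1 < T.n := by unfold n; omega
    refine hx1 (coeff_eq_one hT hC hS hD hSp p hM hB (r := ⟨T.n - 1, hn1⟩)
      (show T.half ≤ T.n - 1 by unfold n; omega) ?_ hne')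
    refine (mem_centralizer_gen hT).2 fun k hk e t => ?_
    exact (mem_centralizer_gen hT).1 (Finset.mem_filter.1 hx2).2 k hk
      (show T.half ≤ k by rw [e]; show T.half ≤ T.n - 1; unfold n; omega) t
  have h3 := LI.add hM h1 h2
  rw [sub_add_sub_cancel, zero_sub] at h3
  have h4 := LI.neg h3
  rw [neg_neg] at h4
  rcases LI.mem_or_mem hM (blockCoeff_LR hM hB 1) (blockCoeff_LR hM hB' 1) h4 with h5 | h5
  · exact (full_defect hT hC hS hD hSp p hM hB h).2 h5
  · exact (full_defect hT hC hS hD hSp p hM hB' h').2 h5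

/-- Exactly two blocks. -/
theorem card_blocks (hM : IsPModular p M) :
    Nat.card {B : Set (IrrCharacter ↥(T.datum.group F)) // IsPBlock M B} = 2 := by
  set G := ↥(T.datum.group F)
  set a := (Nat.card G).factorization p
  let St : IrrCharacter G := ⟨_, CfsgLib.KnownB.Steinberg.steinberg_isIrr (F := F) hT hC⟩
  have hSt : BigCell.DZ (p := p) St := by
    have hdeg : charDegree (St : G → ℂ) = p ^ a := by
      rw [charDegree, show (St : G → ℂ) 1 = ((p ^ a : ℕ) : ℂ) by
        rw [ChevBigCell.factorization_card hT hC p,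
          show (St : G → ℂ) 1 = T.datum.steinbergCharacter F 1 from rfl,
          CfsgLib.KnownB.Steinberg.steinberg_one hT hC]
        push_cast; rfl, Complex.natCast_re, Nat.floor_natCast]
    show degVal p St = _
    rw [degVal, hdeg, Nat.Prime.factorization_pow Fact.out, Finsupp.single_eq_same]
  have hSB := BigCell.isPBlock_single hM hSt
  have ha : a ≠ 0 := fun h => by
    have := ChevBigCell.factorization_card (F := F) hT hC p
    rw [show (Nat.card ↥(T.datum.group F)).factorization p = 0 from h, pow_zero] at this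
    exact (Nat.one_lt_pow hpos.ne' Fintype.one_lt_card).ne this
  set B₀ := blockOf M (trivChar G : G → ℂ)
  have hB₀ : IsPBlock M B₀ := isPBlock_blockOf _
  have hd₀ : blockDefect p B₀ ≠ 0 := by
    have h1 := minDegVal_le (p := p) (show trivChar G ∈ B₀ from SameBlock_refl hM _)
    have h0 : degVal p (trivChar G) = 0 := by
      have : charDegree (trivChar G : G → ℂ) = 1 := by simp [charDegree]
      rw [degVal, this, Nat.factorization_one]; rfl
    have h2 := blockDefect_add_min (p := p) (IsPBlock.nonempty hM hB₀)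
    omega
  have hdS : blockDefect p ({St} : Set (IrrCharacter G)) = 0 := by
    rw [blockDefect_eq, minDegVal, Set.image_singleton, csInf_singleton]
    exact Nat.sub_eq_zero_of_le (le_of_eq hSt.symm)
  rw [Nat.card_eq_two_iff]
  refine ⟨⟨B₀, hB₀⟩, ⟨{St}, hSB⟩, fun h => hd₀ ?_, Set.eq_univ_iff_forall.2 fun B => ?_⟩
  · have h' : B₀ = {St} := congrArg Subtype.val h
    rw [h', hdS]
  · by_cases h0 : blockDefect p B.1 = 0
    · right
      refine Subtype.ext ?_
      obtain ⟨ψ, hψ⟩ := IsPBlock.nonempty hM B.2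
      have h1 := blockDefect_add_min (p := p) (IsPBlock.nonempty hM B.2)
      have h2 := minDegVal_le (p := p) hψ
      have h3 := degVal_le (p := p) ψ
      have hψ0 : BigCell.DZ (p := p) ψ := by show degVal p ψ = _; omega
      show B.1 = {St}
      rw [IsPBlock.eq_blockOf hM B.2 hψ, (blockOf_eq_singleton_iff hM ψ).2 hψ0,
        BigCell.defectZero_unique (isBigCell hT hC p) hM hψ0 hSt]
    · left
      exact Subtype.ext (positive_unique hT hC hS hD hSp hpos p hM B.2 hB₀ h0 hd₀)

end RootGroups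

end CfsgLib.PGroup.ChevBlocks
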