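import Cfsg.Agent.Lib.Chevalley.Table

/-!
Checks on a table about dominant roots and the radical attached to the highest root.
-/

set_option autoImplicit false

namespace CfsgLib.PGroup.ChevRad

open CfsgLib.Chevalley

/-- A dominant root pairs non-negatively with fundamental roots and positively with the highest root. -/
def chkDom (T : Tbl) : Bool :=
  allLt (fun r => !(T.isPos r) || !(allLt (fun i => decide (0 ≤ T.ca i r)) T.rank) ||
    (allLt (fun i => decide (0 ≤ T.pair r (T.simple i))) T.rank && decide (0 < T.pair r (T.n - 1)))) T.n

/-- Each fundamental root is a difference of two roots pairing positively with the highest root. -/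
def chkSpan (T : Tbl) : Bool :=
  allLt (fun i => (List.range T.n).any fun s => T.isPos s && decide (0 < T.pair (T.n - 1) s) &&
    (List.range T.n).any fun t => T.isPos t && decide (0 < T.pair (T.n - 1) t) &&
      allLt (fun k => decide (T.co t k = T.co s k + (bif Nat.beq k i then 1 else 0))) T.rank) T.rank

end CfsgLib.PGroup.ChevRad
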