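import Cfsg.Agent.Lib.PGroup.ChevBigCell
import Cfsg.Agent.Lib.PGroup.ChevRadCheck
import Cfsg.Agent.Lib.Chevalley.Steinberg

/-!
Centralizers of root elements in a Chevalley group through leading coordinates.
-/

set_option autoImplicit false
set_option linter.unusedSectionVars false
set_option linter.style.haveILetI false

namespace CfsgLib.PGroup.ChevLeading

open CfsgLib.Chevalley CfsgLib.Chevalley.Tbl CfsgLib.PGroup.ChevBigCell CfsgLib.PGroup.ChevRad
open scoped commutatorElement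
attribute [local instance] Classical.propDecidable

/-- The positive roots pairing positively with `r`. -/
def Rad (T : Tbl) (r s : ℕ) : Prop := T.half ≤ s ∧ 0 < T.pair r s

/-- `r` has the largest index in its orbit. -/
def MaxOrb {T : Tbl} (hT : T.Valid) (r : Fin T.n) : Prop := ∀ w ∈ T.WP hT, (w r).val ≤ r.val

variable {T : Tbl} {F : Type*} [Field F] (hT : T.Valid)
include hT

theorem pair_combine {r a b c : ℕ} (ha : a < T.n) (hb : b < T.n) (hc : c < T.n) {i j : ℤ}
    (h : ∀ k < T.rank, T.co c k = i * T.co a k + j * T.co b k) :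
    T.pair r c = i * T.pair r a + j * T.pair r b := by
  rw [pair_eq_sum, pair_eq_sum, pair_eq_sum, Finset.mul_sum, Finset.mul_sum, ← Finset.sum_add_distrib]
  refine Finset.sum_congr rfl fun k _ => ?_
  rw [ca_eq hT hc k.2, ca_eq hT ha k.2, ca_eq hT hb k.2, list_sum_range, list_sum_range, list_sum_range,
    Finset.mul_sum, Finset.mul_sum, Finset.mul_sum, Finset.mul_sum, Finset.mul_sum, ← Finset.sum_add_distrib]
  exact Finset.sum_congr rfl fun l _ => by rw [h l l.2]; ring

theorem pair_eq_sum_co {r s : ℕ} (hs : s < T.n) :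
    T.pair r s = ∑ j : Fin T.rank, T.co s j * T.pair r (T.simple j) := by
  simp only [pair_eq_sum, Finset.mul_sum]
  rw [Finset.sum_comm]
  refine Finset.sum_congr rfl fun k _ => ?_
  rw [ca_eq hT hs k.2, list_sum_range, Finset.mul_sum]
  exact Finset.sum_congr rfl fun l _ => by ring

/-- The pairing is invariant under `W`. -/
theorem pair_WP {w : Equiv.Perm (Fin T.n)} (hw : w ∈ T.WP hT) (r s : Fin T.n) :
    T.pair (w r).val (w s).val = T.pair r.val s.val := by
  induction hw using Subgroup.closure_induction generalizing r s with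
  | mem x hx =>
    obtain ⟨i, rfl⟩ := hx
    show T.pair (T.refl i r) (T.refl i s) = _
    rw [pair_refl hT i.2 r.2 (refl_lt hT i.2 s.2), refl_refl hT i.2 s.2]
  | one => rfl
  | mul x y _ _ hx hy => rw [Equiv.Perm.mul_apply, Equiv.Perm.mul_apply, hx, hy]
  | inv x _ hx =>
    have := hx (x⁻¹ r) (x⁻¹ s)
    rw [show x (x⁻¹ r) = r from x.apply_symm_apply r, show x (x⁻¹ s) = s from x.apply_symm_apply s] at this
    exact this.symm

theorem key_lt_of (hS : T.chkSorted = true) {a b : Fin T.n} (h : T.key a.val < T.key b.val) :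
    a.val < b.val := by
  by_contra hge
  rcases Nat.eq_or_lt_of_le (not_lt.1 hge) with e | e
  · rw [e] at h; exact lt_irrefl _ h
  · have := key_mono hS (a.val - b.val - 1) b.val (by omega)
    rw [show b.val + (a.val - b.val - 1) + 1 = a.val by omega] at this
    omega

/-- A root of largest index in its orbit is dominant. -/
theorem ca_nonneg_of_max (hS : T.chkSorted = true) {r : Fin T.n} (hr : MaxOrb hT r) (i : Fin T.rank) :
    0 ≤ T.ca i r.val := by
  by_contra hneg
  have h1 : T.key r.val < T.key (T.refP hT i r).val := by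
    rw [key_eq hT, key_eq hT, refP_apply]
    refine Finset.sum_lt_sum (fun k _ => ?_) ⟨i, Finset.mem_univ _, ?_⟩
    · refine mul_le_mul_of_nonneg_right ?_ (by positivity)
      rw [co_refl hT i.2 r.2 k.2]
      split <;> omega
    · refine mul_lt_mul_of_pos_right ?_ (by positivity)
      rw [co_refl hT i.2 r.2 i.2, if_pos rfl]
      omega
  have h2 := key_lt_of hT hS h1
  have h3 := hr _ (Subgroup.subset_closure ⟨i, rfl⟩)
  omega

theorem exists_maxOrb (s : Fin T.n) : ∃ w ∈ T.WP hT, MaxOrb hT (w s) := by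
  obtain ⟨w, hw, hmax⟩ := Finset.exists_max_image (Finset.univ.filter fun w => w ∈ T.WP hT)
    (fun w : Equiv.Perm (Fin T.n) => (w s).val) ⟨1, by simp⟩
  rw [Finset.mem_filter] at hw
  refine ⟨w, hw.2, fun v hv => ?_⟩
  have := hmax (v * w) (Finset.mem_filter.2 ⟨Finset.mem_univ _, mul_mem hv hw.2⟩)
  simpa using this

theorem half_le_of_max {s : Fin T.n} (hs : T.half ≤ s.val) {w : Equiv.Perm (Fin T.n)} (hw : w ∈ T.WP hT)
    (h : MaxOrb hT (w s)) : T.half ≤ (w s).val := by
  have := h w⁻¹ (inv_mem hw)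
  rw [show w⁻¹ (w s) = s from w.symm_apply_apply s] at this
  omega

section Dominant

variable (hS : T.chkSorted = true) (hD : chkDom T = true) {r : Fin T.n} (hr : T.half ≤ r.val)
  (hmax : MaxOrb hT r)
include hS hD hr hmax

theorem dom_facts : (∀ i < T.rank, 0 ≤ T.pair r.val (T.simple i)) ∧ 0 < T.pair r.val (T.n - 1) := by
  have h := allLt_iff.1 hD r.val r.2
  have hp : T.isPos r.val = true := isPos_iff.2 hr
  have hc : allLt (fun i => decide (0 ≤ T.ca i r.val)) T.rank = true :=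
    allLt_iff.2 fun i hi => decide_eq_true (ca_nonneg_of_max hT hS hmax ⟨i, hi⟩)
  simp only [hp, hc, Bool.not_true, Bool.false_or, Bool.and_eq_true, decide_eq_true_eq, allLt_iff] at h
  exact h

theorem pair_pos_nonneg {s : ℕ} (hs : s < T.n) (hp : T.half ≤ s) : 0 ≤ T.pair r.val s := by
  rw [pair_eq_sum_co hT hs]
  exact Finset.sum_nonneg fun j _ => mul_nonneg (co_nonneg hT hs (isPos_iff.2 hp) j.2)
    ((dom_facts hT hS hD hr hmax).1 j j.2)

theorem rad_image {w : Equiv.Perm (Fin T.n)} (hw : w ∈ T.WP hT) (hfix : w r = r) {s : Fin T.n}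
    (hs : Rad T r.val s.val) : Rad T r.val (w s).val := by
  have h1 : 0 < T.pair r.val (w s).val := by
    conv => rhs; rw [← hfix]
    rw [pair_WP hT hw]
    exact hs.2
  refine ⟨?_, h1⟩
  by_contra hlt
  have h2 := pair_pos_nonneg hT hS hD hr hmax (neg_lt' (w s).2) (le_negF (not_le.1 hlt))
  have h3 : T.pair r.val (T.neg (w s).val) = -T.pair r.val (w s).val := by
    rw [pair_eq_sum, pair_eq_sum, ← Finset.sum_neg_distrib]
    exact Finset.sum_congr rfl fun i _ => by rw [ca_neg hT (w s).2 i.2]; ring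
  omega

theorem pos_le_normalizer_rad (hC : T.chkComm = true) :
    T.rootGen F (fun k => T.half ≤ k) ≤ Subgroup.normalizer (T.rootGen F (Rad T r.val) : Set (GL T.I F)) :=
  rootGen_le fun a ha hap t => xU_mem_normalizer hT hC ha (fun s hs ⟨hsp, hpos⟩ hne => by
    refine ⟨by unfold neg n at *; omega, fun c hc => ⟨?_, ?_⟩⟩
    · have := (commT_gt hT ha hs hap hsp c hc).2
      omega
    · obtain ⟨hi, hj, hco⟩ := commT_co hT ha hs c hc
      rw [pair_combine hT ha hs (commT_lt hT ha hs c hc) hco]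
      have h1 := pair_pos_nonneg hT hS hD hr hmax ha hap
      have : (0 : ℤ) < c.2.2.2 := by exact_mod_cast hj
      positivity) t

end Dominant

variable (hC : T.chkComm = true)
include hC

theorem ge_inter {P : ℕ → Prop} (hP : T.Closed P) :
    ∀ m k, k + m = T.n → T.half ≤ k → ∀ j, k ≤ j → ∀ g ∈ T.rootGen F (fun v => P v ∧ k ≤ v),
      g ∈ T.rootGen F (fun v => j ≤ v) → g ∈ T.rootGen F (fun v => P v ∧ j ≤ v) := by
  intro m
  induction m with
  | zero =>
    intro k hkm _ j hkj g hg _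
    have hbot : T.rootGen F (fun v => P v ∧ k ≤ v) = ⊥ := eq_bot_iff.2 (rootGen_le fun v hv h => by omega)
    rw [hbot, Subgroup.mem_bot] at hg
    rw [hg]; exact one_mem _
  | succ m ih =>
    intro k hkm hk j hkj g hg hgj
    rcases Nat.eq_or_lt_of_le hkj with rfl | hlt
    · exact hg
    have hkn : k < T.n := by omega
    by_cases hPk : P k
    · obtain ⟨t, g', hg', rfl⟩ := mem_closed_split hT hC hP hk hkn hPk hg
      have hg'' : g' ∈ T.rootGen F (fun v => k + 1 ≤ v) := rootGen_mono (fun _ _ h => h.2) hg'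
      have hgk : T.xU F k t * g' ∈ T.rootGen F (fun v => k + 1 ≤ v) :=
        rootGen_mono (fun v _ (h : j ≤ v) => show k + 1 ≤ v by omega) hgj
      obtain ⟨ht, -⟩ := xU_mul_inj hT hC hk hkn hg'' hgk
        (show T.xU F k t * g' = T.xU F k 0 * (T.xU F k t * g') by rw [xU_zero hT hkn, one_mul])
      rw [ht, xU_zero hT hkn, one_mul] at hgj ⊢
      exact ih (k + 1) (by omega) (by omega) j hlt g' hg' hgj
    · refine ih (k + 1) (by omega) (by omega) j hlt g (rootGen_mono (fun v _ h => ⟨h.1, ?_⟩) hg) hgj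
      rcases Nat.eq_or_lt_of_le h.2 with e | e
      · exact absurd (e ▸ h.1) hPk
      · exact e

/-- Conjugating a root element by an element of `U` keeps its leading coordinate. -/
theorem pos_lead {s : ℕ} (hs : s < T.n) (hp : T.half ≤ s) {u : GL T.I F}
    (hu : u ∈ T.rootGen F fun k => T.half ≤ k) (a : F) :
    ∃ g ∈ T.rootGen F (fun v => s + 1 ≤ v), u * T.xU F s a * u⁻¹ = T.xU F s a * g := by
  refine ⟨⁅(T.xU F s a)⁻¹, u⁆, commutator_mem hT hC hp
    (inv_mem (xU_mem_rootGen (P := fun v => s ≤ v) hs le_rfl a)) hu, ?_⟩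
  rw [commutatorElement_def]
  group

theorem lead_eq {s : ℕ} (hs : s < T.n) (hp : T.half ≤ s) {a b : F} {g : GL T.I F}
    (hg : g ∈ T.rootGen F fun v => s + 1 ≤ v) (h : T.xU F s a * g = T.xU F s b) : a = b :=
  (xU_mul_inj hT hC hp hs hg (one_mem _) (by rw [h, mul_one])).1

/-- If `b n u` commutes with `x_s(1)`, the preimage of `s` comes no earlier. -/
theorem le_preimage (hS : T.chkSorted = true) {b n u : GL T.I F} {w : Equiv.Perm (Fin T.n)}
    (hb : b ∈ T.datum.borelSubgroup F) (hw : w ∈ T.WP hT) (hm : T.Mono n w)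
    (hu : u ∈ T.rootGen F fun k => T.half ≤ k) {s : Fin T.n} (hs : T.half ≤ s.val)
    (hcomm : b * n * u * T.xU F s.val 1 = T.xU F s.val 1 * (b * n * u)) : s.val ≤ (w⁻¹ s).val := by
  set x := T.xU F s.val (1 : F)
  set q := u * x * u⁻¹ with hq
  set z := b⁻¹ * x * b with hz
  have hqz : n * q * n⁻¹ = z := by
    rw [hq, hz]
    calc n * (u * x * u⁻¹) * n⁻¹ = b⁻¹ * (b * n * u * x) * (n * u)⁻¹ := by group
      _ = b⁻¹ * (x * (b * n * u)) * (n * u)⁻¹ := by rw [hcomm]
      _ = _ := by group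
  obtain ⟨v, hv, h, hh, hbi⟩ := (mem_borel_iff hT).1 (inv_mem hb)
  rw [posUnipotent_rootGen hT] at hv
  obtain ⟨χ, hχ, rfl⟩ := diag_exists_char hT hh
  obtain ⟨g1, hg1, e1⟩ := pos_lead hT hC s.2 hs hu 1
  obtain ⟨g2, hg2, e2⟩ := pos_lead hT hC s.2 hs hv (χ s.val : F)
  have hz' : z = T.xU F s.val (χ s.val : F) * g2 := by
    rw [hz, ← e2, show b = (v * T.dU χ)⁻¹ by rw [← hbi, inv_inv], inv_inv,
      show v * T.dU χ * x * (v * T.dU χ)⁻¹ = v * (T.dU χ * x * (T.dU χ)⁻¹) * v⁻¹ by group,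
      dU_conj_X hT hχ s.2, mul_inv_cancel_right, mul_one]
  have hge : ∀ (a : F) {g : GL T.I F}, g ∈ T.rootGen F (fun k => s.val + 1 ≤ k) →
      T.xU F s.val a * g ∈ T.rootGen F (fun k => s.val ≤ k) := fun a g hg =>
    mul_mem (xU_mem_rootGen (P := fun k => s.val ≤ k) s.2 le_rfl a)
      (rootGen_mono (fun k _ h => Nat.le_of_succ_le h) hg)
  have hqs : q ∈ T.rootGen F (fun k => s.val ≤ k) := by rw [hq, e1]; exact hge 1 hg1
  have hzs : z ∈ T.rootGen F (fun k => s.val ≤ k) := by rw [hz']; exact hge _ hg2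
  have hqU : q ∈ T.rootGen F (fun k => T.half ≤ k) := rootGen_mono (fun k _ h => le_trans hs h) hqs
  have hzU : z ∈ T.rootGen F (fun k => T.half ≤ k) := rootGen_mono (fun k _ h => le_trans hs h) hzs
  -- `q` is supported on roots that stay positive
  obtain ⟨a, ha, c, hc, e⟩ := exists_factor hT hC (T.posSet w) (T.negSet w) (fun k hk hkp => by
    rcases Nat.lt_or_ge (w ⟨k, hk⟩).val T.half with h | h
    · exact Or.inr ⟨hk, hkp, h⟩
    · exact Or.inl ⟨hk, hkp, h⟩) T.half T.half (Nat.two_mul _).symm le_rfl _ hqU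
  have hc1 : c = 1 := by
    have h1 := conj_mem_rootGen hT hm (Q := fun k => T.half ≤ k) (fun k ⟨_, _, h⟩ => h) ha
    have h2 := conj_mem_rootGen hT hm (Q := fun k => k < T.half) (fun k ⟨_, _, h⟩ => h) hc
    have h3 : n * c * n⁻¹ = (n * a * n⁻¹)⁻¹ * z := by rw [← hqz, e]; group
    exact conj_eq_one_iff.1 (pos_neg_eq_one hT (h3 ▸ mul_mem (inv_mem h1) hzU) h2)
  rw [hc1, mul_one] at e
  rw [← e] at ha
  have hq2 : q ∈ T.rootGen F (fun k => T.posSet w k ∧ s.val ≤ k) :=
    ge_inter hT hC (closed_posSet hT hw) T.half T.half (Nat.two_mul _).symm le_rfl s.val hs q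
      (rootGen_mono (fun k _ h => ⟨h, h.2.1⟩) ha) hqs
  let Q : ℕ → Prop := fun k => ∃ hk : k < T.n, T.posSet w (w⁻¹ ⟨k, hk⟩).val ∧ s.val ≤ (w⁻¹ ⟨k, hk⟩).val
  have hQpos : ∀ k, Q k → T.half ≤ k := by
    rintro k ⟨hk, ⟨_, -, h⟩, -⟩
    rw [show w ⟨(w⁻¹ ⟨k, hk⟩).val, _⟩ = ⟨k, hk⟩ from w.apply_symm_apply _] at h
    exact h
  have hz2 : z ∈ T.rootGen F Q := by
    rw [← hqz]
    refine conj_mem_rootGen hT hm (fun k hk => ⟨(w k).2, ?_⟩) hq2
    rw [show w⁻¹ ⟨(w k).val, (w k).2⟩ = k from w.symm_apply_apply k]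
    exact hk
  have hQ : T.Closed Q := by
    intro r1 h1 r2 h2 hQ1 hQ2 _ _ c hc
    have hp1 := hQpos r1 hQ1
    have hp2 := hQpos r2 hQ2
    obtain ⟨_, ⟨_, ha1, -⟩, -⟩ := hQ1
    obtain ⟨_, ⟨_, ha2, -⟩, hs2⟩ := hQ2
    have hcn := commT_lt hT h1 h2 c hc
    obtain ⟨hi, hj, -⟩ := commT_co hT h1 h2 c hc
    have hco : ∀ j < T.rank, T.co (w⁻¹ ⟨c.1, hcn⟩).val j =
        c.2.2.1 * T.co (w⁻¹ ⟨r1, h1⟩).val j + c.2.2.2 * T.co (w⁻¹ ⟨r2, h2⟩).val j := fun j hj =>
      commT_image hT (inv_mem hw) (r := ⟨r1, h1⟩) (s := ⟨r2, h2⟩) hc hj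
    have hlt := index_lt_of_co hT hS (w⁻¹ ⟨r1, h1⟩) (w⁻¹ ⟨r2, h2⟩) (w⁻¹ ⟨c.1, hcn⟩) ha1 ha2
      c.2.2.1 c.2.2.2 hi hj hco
    have hcp := (commT_gt hT h1 h2 hp1 hp2 c hc).2
    refine ⟨hcn, ⟨(w⁻¹ ⟨c.1, hcn⟩).2, by omega, ?_⟩, by omega⟩
    rw [show w ⟨(w⁻¹ ⟨c.1, hcn⟩).val, _⟩ = ⟨c.1, hcn⟩ from w.apply_symm_apply _]
    show T.half ≤ c.1
    omega
  have hz3 := ge_inter hT hC hQ T.half T.half (Nat.two_mul _).symm le_rfl s.val hs z
    (rootGen_mono (fun k _ h => ⟨h, hQpos k h⟩) hz2) hzs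
  by_contra hlt
  have hz4 : z ∈ T.rootGen F (fun k => s.val + 1 ≤ k) := by
    refine rootGen_mono (fun k _ h => ?_) hz3
    rcases Nat.eq_or_lt_of_le h.2 with e' | e'
    · obtain ⟨hk, -, h2⟩ := h.1
      rw [show (⟨k, hk⟩ : Fin T.n) = s from Fin.ext e'.symm] at h2
      exact absurd h2 hlt
    · exact e'
  rw [hz'] at hz4
  exact (χ s.val).ne_zero (lead_eq hT hC s.2 hs (one_mem _) (a := (χ s.val : F)) (b := 0) (by
    have h5 : T.xU F s.val (χ s.val : F) * g2 = T.xU F s.val 0 * (T.xU F s.val (χ s.val : F) * g2) := by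
      rw [xU_zero hT s.2, one_mul]
    rw [mul_one, (xU_mul_inj hT hC hs s.2 hg2 hz4 h5).1]))

section Dominant

variable (hS : T.chkSorted = true) (hD : chkDom T = true)
include hS hD

/-- The centralizer of a dominant root element normalises the attached radical. -/
theorem normalizes_rad {r : Fin T.n} (hr : T.half ≤ r.val) (hmax : MaxOrb hT r) {g : GL T.I F}
    (hg : g ∈ T.datum.group F) (hcomm : g * T.xU F r.val 1 = T.xU F r.val 1 * g) :
    g ∈ Subgroup.normalizer (T.rootGen F (Rad T r.val) : Set (GL T.I F)) := by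
  obtain ⟨b, hb, n, -, w, hw, hm, u, hu, rfl⟩ := exists_canonical hT hC hg
  have huU : u ∈ T.rootGen F fun k => T.half ≤ k := rootGen_mono (fun k _ h => h.2.1) hu
  have hle := le_preimage hT hC hS hb hw hm huU hr hcomm
  have hfix' : w⁻¹ r = r := Fin.ext (le_antisymm (hmax _ (inv_mem hw)) hle)
  have hfix : w r = r := by
    conv_lhs => rw [← hfix']
    exact w.apply_symm_apply r
  have hU := pos_le_normalizer_rad (F := F) hT hS hD hr hmax hC
  have hN := Subgroup.normalizer (T.rootGen F (Rad T r.val) : Set (GL T.I F))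
  refine mul_mem (mul_mem ?_ ?_) (hU huU)
  · obtain ⟨v, hv, h, hh, rfl⟩ := (mem_borel_iff hT).1 hb
    rw [posUnipotent_rootGen hT] at hv
    exact mul_mem (hU hv) (diag_le_normalizer hT _ hh)
  · refine Subgroup.mem_normalizer_iff.2 fun x => ⟨conj_mem_rootGen hT hm
      (fun k hk => rad_image hT hS hD hr hmax hw hfix hk), fun hx => ?_⟩
    have := conj_mem_rootGen hT hm.inv (Q := Rad T r.val)
      (fun k hk => rad_image hT hS hD hr hmax (inv_mem hw) hfix' hk) hx
    simpa [mul_assoc] using this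

/-- An element commuting with all root elements of the radical of the highest root lies in `U`. -/
theorem mem_pos_of_commute_rad (hSp : chkSpan T = true) {g : GL T.I F} (hg : g ∈ T.datum.group F)
    (hcomm : ∀ s < T.n, Rad T (T.n - 1) s → g * T.xU F s 1 = T.xU F s 1 * g) :
    g ∈ T.rootGen F fun k => T.half ≤ k := by
  rcases Nat.eq_zero_or_pos T.half with h0 | hpos
  · have hle : T.datum.group F ≤ T.rootGen F fun k => T.half ≤ k := by
      rw [group_eq hT, Subgroup.closure_le]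
      rintro _ ⟨k, hk, t, rfl⟩
      unfold n at hk
      omega
    exact hle hg
  let θ : Fin T.n := ⟨T.n - 1, by unfold n; omega⟩
  have hθ : T.half ≤ θ.val := by simp only [θ]; unfold n; omega
  have hθmax : MaxOrb hT θ := fun v _ => by
    have := (v θ).2
    simp only [θ]
    omega
  obtain ⟨b, hb, n, hn, w, hw, hm, u, hu, rfl⟩ := exists_canonical hT hC hg
  have huU : u ∈ T.rootGen F fun k => T.half ≤ k := rootGen_mono (fun k _ h => h.2.1) hu
  have hle : ∀ s : Fin T.n, Rad T θ.val s.val → s.val ≤ (w⁻¹ s).val := fun s hs =>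
    le_preimage hT hC hS hb hw hm huU hs.1 (hcomm s s.2 hs)
  have hθR : Rad T θ.val θ.val := ⟨hθ, by rw [pair_self hT θ.2]; norm_num⟩
  have hθfix : w⁻¹ θ = θ := Fin.ext (le_antisymm (hθmax _ (inv_mem hw)) (hle θ hθR))
  have hfix : ∀ m, ∀ s : Fin T.n, T.n - s.val ≤ m → Rad T θ.val s.val → w⁻¹ s = s := by
    intro m
    induction m with
    | zero => intro s hs; have := s.2; omega
    | succ m ih =>
      intro s hs hR
      by_contra hne
      have h1 := hle s hR
      have h2 : (w⁻¹ s).val ≠ s.val := fun e => hne (Fin.ext e)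
      have h3 := ih (w⁻¹ s) (by omega) (rad_image hT hS hD hθ hθmax (inv_mem hw) hθfix hR)
      exact hne (w⁻¹.injective h3)
  have hfix' : ∀ s : Fin T.n, Rad T θ.val s.val → w s = s := fun s hs => by
    conv_lhs => rw [← hfix _ s le_rfl hs]
    exact w.apply_symm_apply s
  have hspan : ∀ i : Fin T.rank, ∃ s t : Fin T.n, Rad T θ.val s.val ∧ Rad T θ.val t.val ∧
      ∀ k < T.rank, T.co t.val k = T.co s.val k + if k = i.val then 1 else 0 := by
    intro i
    have h := allLt_iff.1 hSp i.val i.2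
    simp only [List.any_eq_true, List.mem_range, Bool.and_eq_true, decide_eq_true_eq, allLt_iff] at h
    obtain ⟨s, hs, ⟨hsp, hs0⟩, t, ht, ⟨htp, ht0⟩, hco⟩ := h
    refine ⟨⟨s, hs⟩, ⟨t, ht⟩, ⟨isPos_iff.1 hsp, hs0⟩, ⟨isPos_iff.1 htp, ht0⟩, fun k hk => ?_⟩
    rw [hco k hk]
    by_cases e : k = i.val
    · simp [e]
    · rw [if_neg e, show Nat.beq k i.val = false from Bool.eq_false_iff.2 fun h' => e (Nat.eq_of_beq_eq_true h'), cond_false]
  have hw1 : w = 1 := by
    refine eq_one_of_pos hT hw fun i => ?_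
    obtain ⟨s, t, hs, ht, hco⟩ := hspan i
    refine half_le_of_co_nonneg hT (Fin.isLt _) fun j hj => ?_
    have h1 := WP_linear hT hw t hj
    rw [hfix' t ht, Finset.sum_congr rfl fun k _ => by rw [hco k k.2, add_mul], Finset.sum_add_distrib,
      ← WP_linear hT hw s hj, hfix' s hs, Finset.sum_eq_single i
        (fun k _ hk => by rw [if_neg fun e => hk (Fin.ext e), zero_mul]) (by simp), if_pos rfl, one_mul,
      hco j hj] at h1
    split at h1 <;> omega
  subst hw1
  have hu1 : u = 1 := by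
    refine Subgroup.mem_bot.1 ((rootGen_le fun k hk ⟨_, h1, h2⟩ => ?_ : T.rootGen F (T.negSet 1) ≤ ⊥) hu)
    simp only [Equiv.Perm.one_apply] at h2
    omega
  subst hu1
  have hbn : b * n * 1 ∈ T.datum.borelSubgroup F := by
    rw [mul_one]
    exact mul_mem hb (Subgroup.mem_sup_right (mem_diag_of_mono_one hT hn hm))
  obtain ⟨v, hv, h, hh, e⟩ := (mem_borel_iff hT).1 hbn
  rw [posUnipotent_rootGen hT] at hv
  obtain ⟨f, hf⟩ := (mem_diag_iff hT).1 hh
  subst hf
  set χ : ℕ → Fˣ := fun s => ∏ i, f i ^ T.ca i s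
  have hχ : T.IsChar χ := isChar_prod hT f
  have hone : ∀ s : Fin T.n, Rad T θ.val s.val → χ s.val = 1 := by
    intro s hs
    obtain ⟨g1, hg1, e1⟩ := pos_lead hT hC s.2 hs.1 hv (χ s.val : F)
    have h1 : v * T.dU χ * T.xU F s.val 1 * (v * T.dU χ)⁻¹ = T.xU F s.val 1 := by
      have h0 := hcomm s s.2 hs
      rw [e] at h0
      rw [mul_inv_eq_iff_eq_mul]
      exact h0
    rw [show v * T.dU χ * T.xU F s.val 1 * (v * T.dU χ)⁻¹ =
      v * (T.dU χ * T.xU F s.val 1 * (T.dU χ)⁻¹) * v⁻¹ by group, dU_conj_X hT hχ s.2, mul_inv_cancel_right,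
      mul_one, e1] at h1
    exact Units.ext (lead_eq hT hC s.2 hs.1 hg1 h1)
  have hsimple : ∀ i : Fin T.rank, χ (T.simple i) = 1 := by
    intro i
    obtain ⟨s, t, hs, ht, hco⟩ := hspan i
    have hsum : ∀ l : Fin T.rank, T.ca l t.val = T.ca l s.val + T.ca l (T.simple i) := by
      intro l
      rw [ca_eq hT t.2 l.2, ca_eq hT s.2 l.2, list_sum_range, list_sum_range,
        Finset.sum_congr rfl fun k _ => by rw [hco k k.2, add_mul], Finset.sum_add_distrib]
      congr 1
      rw [Finset.sum_eq_single i (fun k _ hk => by rw [if_neg fun e => hk (Fin.ext e), zero_mul]) (by simp),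
        if_pos rfl, one_mul]
    have h2 : χ t.val = χ s.val * χ (T.simple i) := by
      simp only [χ, hsum, zpow_add, Finset.prod_mul_distrib]
    rw [hone t ht, hone s hs, one_mul] at h2
    exact h2.symm
  have hall : ∀ s < T.n, χ s = (1 : ℕ → Fˣ) s := by
    intro s hs
    have h1 : χ s = ∏ j : Fin T.rank, χ (T.simple j) ^ T.co s j := by
      simp only [χ, ← Finset.prod_zpow]
      rw [Finset.prod_comm]
      refine Finset.prod_congr rfl fun i _ => ?_
      rw [ca_eq hT hs i.2, list_sum_range, zpow_sum_eq]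
      exact Finset.prod_congr rfl fun j _ => by rw [← zpow_mul, mul_comm]
    rw [h1]
    simp [hsimple]
  rw [e, dU_congr hall, dU_one, mul_one]
  exact hv

end Dominant

end CfsgLib.PGroup.ChevLeading
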