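import Cfsg.Agent.Lib.PGroup.ChevRadCheck
import Cfsg.Agent.Lib.Chevalley.Data.G2
import Cfsg.Agent.Lib.Chevalley.Data.B2
import Cfsg.Agent.Lib.Chevalley.Data.D4
import Cfsg.Agent.Lib.Chevalley.Data.F4
import Cfsg.Agent.Lib.Chevalley.Data.E6
import Cfsg.Agent.Lib.Chevalley.Data.E7
import Cfsg.Agent.Lib.Chevalley.Data.E8

/-! The certificates for dominant roots. -/

set_option autoImplicit false
set_option Elab.async false
set_option maxRecDepth 100000

namespace CfsgLib.PGroup.ChevRad

open CfsgLib.Chevalley

theorem chkDom_G2 : chkDom Data.G2.tbl = true := by decide +kernel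

theorem chkSpan_G2 : chkSpan Data.G2.tbl = true := by decide +kernel

theorem chkDom_B2 : chkDom Data.B2.tbl = true := by decide +kernel

theorem chkSpan_B2 : chkSpan Data.B2.tbl = true := by decide +kernel

theorem chkDom_D4 : chkDom Data.D4.tbl = true := by decide +kernel

theorem chkSpan_D4 : chkSpan Data.D4.tbl = true := by decide +kernel

theorem chkDom_F4 : chkDom Data.F4.tbl = true := by decide +kernel

theorem chkSpan_F4 : chkSpan Data.F4.tbl = true := by decide +kernel

theorem chkDom_E6 : chkDom Data.E6.tbl = true := by decide +kernel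

theorem chkSpan_E6 : chkSpan Data.E6.tbl = true := by decide +kernel

theorem chkDom_E7 : chkDom Data.E7.tbl = true := by decide +kernel

theorem chkSpan_E7 : chkSpan Data.E7.tbl = true := by decide +kernel

theorem chkDom_E8 : chkDom Data.E8.tbl = true := by decide +kernel

theorem chkSpan_E8 : chkSpan Data.E8.tbl = true := by decide +kernel

end CfsgLib.PGroup.ChevRad
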