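import Mathlib

/-!
# Counting elements by the index of their centralisers
-/

set_option autoImplicit false

namespace CfsgLib.PGroup.ClassSizeCount

open Subgroup

/-- the index of the centraliser -/
noncomputable def ind {G : Type*} [Group G] (x : G) : ℕ := (centralizer ({x} : Set G)).index

variable {G : Type*} [Group G]

theorem card_carrier (x : G) : Nat.card (ConjClasses.mk x).carrier = ind x := by
  rw [← ConjAct.orbit_eq_carrier_conjClasses, Nat.card_coe_set_eq, ← MulAction.index_stabilizer,
    ConjAct.stabilizer_eq_centralizer]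
  rfl

theorem ind_pos [Finite G] (x : G) : 0 < ind x :=
  Nat.pos_of_ne_zero index_ne_zero_of_finite

theorem ind_le [Finite G] (x : G) : ind x ≤ Nat.card G :=
  Nat.le_of_dvd Nat.card_pos (index_dvd_card _)

theorem ind_eq_one_iff (x : G) : ind x = 1 ↔ x ∈ center G := by
  rw [ind, index_eq_one, eq_top_iff]
  constructor
  · exact fun h => mem_center_iff.mpr fun g => mem_centralizer_singleton_iff.mp (h (mem_top g))
  · exact fun h g _ => mem_centralizer_singleton_iff.mpr (mem_center_iff.mp h g)

/-- the elements of class size `k` -/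
theorem card_ind_eq [Finite G] (k : ℕ) :
    Nat.card {x : G // ind x = k} = k * Nat.card {C : ConjClasses G // Nat.card C.carrier = k} := by
  classical
  have : Finite (ConjClasses G) := Finite.of_surjective _ ConjClasses.mk_surjective
  have := Fintype.ofFinite {C : ConjClasses G // Nat.card C.carrier = k}
  let e : (Σ C : {C : ConjClasses G // Nat.card C.carrier = k}, C.1.carrier) ≃
      {x : G // ind x = k} :=
    { toFun := fun y => ⟨y.2.1, by
        rw [← card_carrier, ConjClasses.mem_carrier_iff_mk_eq.mp y.2.2]; exact y.1.2⟩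
      invFun := fun x => ⟨⟨ConjClasses.mk x.1, (card_carrier x.1).trans x.2⟩,
        ⟨x.1, ConjClasses.mem_carrier_mk⟩⟩
      left_inv := by
        rintro ⟨⟨C, hC⟩, ⟨x, hx⟩⟩
        obtain rfl := ConjClasses.mem_carrier_iff_mk_eq.mp hx
        rfl
      right_inv := fun _ => rfl }
  rw [← Nat.card_congr e, Nat.card_sigma]
  rw [Finset.sum_congr rfl (fun C _ => C.2), Finset.sum_const, smul_eq_mul, mul_comm,
    Finset.card_univ, Nat.card_eq_fintype_card]

/-- the number of elements whose class size satisfies `Q` -/
theorem card_ind_pred [Finite G] (Q : ℕ → Prop) [DecidablePred Q] (n : ℕ) (hn : Nat.card G ≤ n) :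
    Nat.card {x : G // Q (ind x)} = ∑ k ∈ (Finset.range (n + 1)).filter Q,
      k * Nat.card {C : ConjClasses G // Nat.card C.carrier = k} := by
  classical
  have := Fintype.ofFinite G
  rw [Nat.card_eq_fintype_card, Fintype.card_subtype]
  rw [Finset.card_eq_sum_card_fiberwise (f := ind) (t := (Finset.range (n + 1)).filter Q)
    (fun x hx => by
      simp only [Finset.coe_filter, Finset.mem_univ, true_and, Set.mem_ofPred_eq] at hx
      simp only [Finset.coe_filter, Finset.mem_range, Set.mem_ofPred_eq]
      exact ⟨Nat.lt_succ_of_le ((ind_le x).trans hn), hx⟩)]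
  refine Finset.sum_congr rfl fun k hk => ?_
  rw [← card_ind_eq, Nat.card_eq_fintype_card, Fintype.card_subtype]
  congr 1
  rw [Finset.mem_filter] at hk
  ext x
  simp only [Finset.mem_filter, Finset.mem_univ, true_and]
  exact ⟨fun h => h.2, fun h => ⟨h ▸ hk.2, h⟩⟩

/-- groups with the same class sizes have the same numbers of elements by class size -/
theorem card_pred_congr {H : Type*} [Group H] [Finite G] [Finite H]
    (h : ∀ k : ℕ, Nat.card {C : ConjClasses G // Nat.card C.carrier = k} =
      Nat.card {C : ConjClasses H // Nat.card C.carrier = k}) (Q : ℕ → Prop) :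
    Nat.card {x : G // Q (ind x)} = Nat.card {x : H // Q (ind x)} := by
  classical
  rw [card_ind_pred Q (max (Nat.card G) (Nat.card H)) (le_max_left _ _),
    card_ind_pred Q (max (Nat.card G) (Nat.card H)) (le_max_right _ _)]
  exact Finset.sum_congr rfl fun k _ => by rw [h]

theorem card_center_eq [Finite G] : Nat.card (center G) = Nat.card {x : G // ind x = 1} :=
  Nat.card_congr (Equiv.subtypeEquivRight fun x => (ind_eq_one_iff x).symm)

theorem ind_map {H : Type*} [Group H] (e : G ≃* H) (x : G) : ind (e x) = ind x := by
  rw [ind, ind, ← index_map_of_bijective (f := e.toMonoidHom) e.bijective (centralizer ({x} : Set G))]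
  congr 1
  ext y
  constructor
  · intro hy
    refine ⟨e.symm y, mem_centralizer_singleton_iff.mpr (e.injective ?_), e.apply_symm_apply y⟩
    simpa using mem_centralizer_singleton_iff.mp hy
  · rintro ⟨z, hz, rfl⟩
    refine mem_centralizer_singleton_iff.mpr ?_
    show e z * e x = e x * e z
    rw [← map_mul, ← map_mul, mem_centralizer_singleton_iff.mp hz]

theorem ind_prod {A B : Type*} [Group A] [Group B] (a : A) (b : B) :
    ind (a, b) = ind a * ind b := by
  rw [ind, ind, ind, ← Subgroup.index_prod]
  congr 1
  ext ⟨u, v⟩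
  simp [mem_centralizer_singleton_iff, mem_prod, Prod.ext_iff]

/-- an element whose index is prime to `r` centralises a Sylow `r`-subgroup -/
theorem exists_sylow_le_centralizer [Finite G] {r : ℕ} [Fact r.Prime] {x : G}
    (hx : ¬ r ∣ ind x) : ∃ R : Sylow r G, (R : Subgroup G) ≤ centralizer ({x} : Set G) := by
  obtain ⟨S⟩ : Nonempty (Sylow r (centralizer ({x} : Set G))) := inferInstance
  have hp : IsPGroup r ((S : Subgroup (centralizer ({x} : Set G))).map
      (centralizer ({x} : Set G)).subtype) := S.2.map _
  refine ⟨hp.toSylow ?_, map_subtype_le _⟩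
  rw [index_map_subtype]
  exact Nat.Prime.not_dvd_mul Fact.out S.not_dvd_index hx

end CfsgLib.PGroup.ClassSizeCount
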