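import Mathlib

/-!
# The index of the derived subgroup in terms of a normal subgroup of prime index
-/

set_option autoImplicit false

namespace CfsgLib.PGroup.CommutatorIndex

open scoped commutatorElement

variable {P : Type*} [Group P] [Finite P] {p : ℕ} [Fact p.Prime]

/-- With `N` normal of prime index and `x ∉ N`, the commutators `[x, n]` fill `P'` modulo `N'`. -/
theorem index_commutator_mul (N : Subgroup P) [N.Normal] (hN : N.index = p) {x : P} (hx : x ∉ N) :
    (commutator P).index * Nat.card (commutator N)
      = p * Nat.card {n : N // x * n * x⁻¹ * (n : P)⁻¹ ∈ (commutator N).map N.subtype} := by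
  set M : Subgroup P := (commutator N).map N.subtype with hM
  haveI : M.Normal := by rw [hM]; infer_instance
  have hMN : ∀ a ∈ N, ∀ b ∈ N, ⁅a, b⁆ ∈ M := fun a ha b hb => by
    refine ⟨⁅(⟨a, ha⟩ : N), (⟨b, hb⟩ : N)⁆, ?_, map_commutatorElement N.subtype _ _⟩
    rw [commutator_def]
    exact Subgroup.commutator_mem_commutator (Subgroup.mem_top _) (Subgroup.mem_top _)
  set q := QuotientGroup.mk' M
  have hcommN : ∀ a ∈ N, ∀ b ∈ N, Commute (q a) (q b) := fun a ha b hb => by
    rw [← commutatorElement_eq_one_iff_commute, ← map_commutatorElement]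
    exact (QuotientGroup.eq_one_iff _).2 (hMN a ha b hb)
  have hxn : ∀ n : N, ⁅x, (n : P)⁆ ∈ N := fun n => by
    rw [commutatorElement_def]
    exact N.mul_mem (Subgroup.Normal.conj_mem inferInstance _ n.2 x) (N.inv_mem n.2)
  let f : N →* P ⧸ M :=
    { toFun := fun n => q ⁅x, (n : P)⁆
      map_one' := by simp
      map_mul' := fun a b => by
        rw [Subgroup.coe_mul, show ⁅x, (a : P) * (b : P)⁆ = ⁅x, (a : P)⁆ * ((a : P) * ⁅x, (b : P)⁆ * (a : P)⁻¹) by
          simp only [commutatorElement_def]; group, map_mul, map_mul q _ (a : P)⁻¹, map_mul q,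
          (hcommN _ a.2 _ (hxn b)).eq, map_inv, mul_inv_cancel_right] }
  have hker : Nat.card f.ker
      = Nat.card {n : N // x * n * x⁻¹ * (n : P)⁻¹ ∈ M} := by
    refine Nat.card_congr (Equiv.subtypeEquivRight fun n => ?_)
    rw [MonoidHom.mem_ker]
    exact (QuotientGroup.eq_one_iff _).trans (by rw [commutatorElement_def])
  -- the normal closure is generated by the image
  have hsup : N ⊔ Subgroup.zpowers x = ⊤ := by
    have hlt : N < N ⊔ Subgroup.zpowers x :=
      SetLike.lt_iff_le_and_exists.2 ⟨le_sup_left, x,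
        Subgroup.mem_sup_right (Subgroup.mem_zpowers x), hx⟩
    have hd := Subgroup.index_dvd_of_le hlt.le
    rw [hN] at hd
    rcases (Nat.dvd_prime (Fact.out : p.Prime)).1 hd with e | e
    · exact Subgroup.index_eq_one.1 e
    · refine absurd (Subgroup.eq_of_le_of_card_ge hlt.le (le_of_eq ?_)) hlt.ne
      have e1 := (N ⊔ Subgroup.zpowers x).card_mul_index
      rw [e, ← N.card_mul_index, hN] at e1
      exact Nat.eq_of_mul_eq_mul_right (Fact.out : p.Prime).pos e1
  set R := f.range with hR
  have hRle : R ≤ N.map q := by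
    rintro _ ⟨n, rfl⟩
    exact ⟨_, hxn n, rfl⟩
  have hRn : R.Normal := by
    have key : ∀ z : P, z ∈ N ⊔ Subgroup.zpowers x → q z ∈ Subgroup.normalizer (R : Set (P ⧸ M)) := by
      intro z hz
      refine (show N ⊔ Subgroup.zpowers x ≤ (Subgroup.normalizer (R : Set (P ⧸ M))).comap q from
        sup_le (fun a ha => ?_) (Subgroup.zpowers_le.2 ?_)) hz
      · refine Subgroup.centralizer_le_normalizer _ (Subgroup.mem_centralizer_iff.2 fun r hr => ?_)
        obtain ⟨b, hb, rfl⟩ := hRle hr
        exact (hcommN b hb a ha).eq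
      · have hsub : R.map (MulAut.conj (q x)).toMonoidHom = R := by
          refine Subgroup.eq_of_le_of_card_ge ?_ (Subgroup.card_map_of_injective
            (MulEquiv.injective _)).ge
          rintro _ ⟨_, ⟨n, rfl⟩, rfl⟩
          refine ⟨⟨x * (n : P) * x⁻¹, Subgroup.Normal.conj_mem inferInstance _ n.2 x⟩, ?_⟩
          show q ⁅x, x * (n : P) * x⁻¹⁆ = q x * q ⁅x, (n : P)⁆ * (q x)⁻¹
          rw [← map_inv, ← map_mul, ← map_mul]
          congr 1
          simp only [commutatorElement_def]; group
        refine Subgroup.mem_normalizer_iff.2 fun r => ⟨fun hr => ?_, fun hr => ?_⟩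
        · rw [← hsub]; exact ⟨r, hr, rfl⟩
        · rw [← hsub] at hr
          obtain ⟨s, hs, he⟩ := hr
          exact (mul_left_cancel (mul_right_cancel (he : q x * s * (q x)⁻¹ = q x * r * (q x)⁻¹))) ▸ hs
    refine Subgroup.normalizer_eq_top_iff.1 (eq_top_iff.2 fun z _ => ?_)
    obtain ⟨z, rfl⟩ := QuotientGroup.mk'_surjective M z
    exact key z (hsup ▸ Subgroup.mem_top z)
  have hMle : M ≤ commutator P := by
    rw [hM, commutator_def, Subgroup.map_commutator]
    exact Subgroup.commutator_mono le_top le_top
  have hK : R.comap q = commutator P := by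
    refine le_antisymm (fun z hz => ?_) ?_
    · obtain ⟨n, hn⟩ := hz
      have h1 : ⁅x, (n : P)⁆⁻¹ * z ∈ M := (QuotientGroup.eq).1 hn
      rw [← mul_inv_cancel_left ⁅x, (n : P)⁆ z]
      refine (commutator P).mul_mem ?_ (hMle h1)
      rw [commutator_def]
      exact Subgroup.commutator_mem_commutator (Subgroup.mem_top _) (Subgroup.mem_top _)
    · haveI := hRn
      haveI : (R.comap q).Normal := hRn.comap q
      set r := QuotientGroup.mk' (R.comap q)
      have hMK : ∀ m ∈ M, m ∈ R.comap q := fun m hm => by
        rw [Subgroup.mem_comap, show q m = 1 from (QuotientGroup.eq_one_iff _).2 hm]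
        exact R.one_mem
      have h1 : ∀ a ∈ N, Commute (r x) (r a) := fun a ha => by
        rw [← commutatorElement_eq_one_iff_commute, ← map_commutatorElement]
        exact (QuotientGroup.eq_one_iff _).2 ⟨⟨a, ha⟩, rfl⟩
      have h2 : ∀ a ∈ N, ∀ b ∈ N, Commute (r a) (r b) := fun a ha b hb => by
        rw [← commutatorElement_eq_one_iff_commute, ← map_commutatorElement]
        exact (QuotientGroup.eq_one_iff _).2 (hMK _ (hMN a ha b hb))
      have hcen : ∀ a : P, r a ∈ Subgroup.center (P ⧸ R.comap q) := by
        intro a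
        refine (show N ⊔ Subgroup.zpowers x ≤ (Subgroup.center _).comap r from ?_)
          (hsup ▸ Subgroup.mem_top a)
        have hall : ∀ u : P, (∀ b ∈ N, Commute (r b) (r u)) → Commute (r x) (r u) →
            r u ∈ Subgroup.center (P ⧸ R.comap q) := by
          intro u hb hxu
          refine Subgroup.mem_center_iff.2 fun z => ?_
          obtain ⟨z, rfl⟩ := QuotientGroup.mk'_surjective (R.comap q) z
          have hle : N ⊔ Subgroup.zpowers x ≤ (Subgroup.centralizer {r u}).comap r :=
            sup_le (fun b hbN => Subgroup.mem_centralizer_singleton_iff.2 (hb b hbN).eq)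
              (Subgroup.zpowers_le.2 (Subgroup.mem_centralizer_singleton_iff.2 hxu.eq))
          exact Subgroup.mem_centralizer_singleton_iff.1 (hle (hsup ▸ Subgroup.mem_top z))
        refine sup_le (fun b hb => hall b (fun c hc => h2 c hc b hb) (h1 b hb)) ?_
        exact Subgroup.zpowers_le.2 (hall x (fun c hc => (h1 c hc).symm) (Commute.refl _))
      rw [commutator_def, Subgroup.commutator_le]
      intro a _ b _
      rw [← QuotientGroup.eq_one_iff (N := R.comap q)]
      show r ⁅a, b⁆ = 1
      rw [map_commutatorElement, commutatorElement_eq_one_iff_commute]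
      exact (Subgroup.mem_center_iff.1 (hcen b) (r a))
  have hidx : (commutator P).index = R.index := by
    rw [← hK, Subgroup.index_comap_of_surjective _ (QuotientGroup.mk'_surjective M)]
  have e1 : Nat.card f.ker * Nat.card R = Nat.card N := by
    rw [← Subgroup.card_mul_index f.ker, Subgroup.index_ker]
  have e2 : Nat.card R * R.index = M.index := by
    rw [Subgroup.card_mul_index, Subgroup.index_eq_card]
  have e3 : Nat.card M * M.index = Nat.card N * p := by
    rw [Subgroup.card_mul_index, ← hN, Subgroup.card_mul_index]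
  have e4 : Nat.card M = Nat.card (commutator N) :=
    Subgroup.card_map_of_injective N.subtype_injective
  rw [hidx, ← hker, ← e4]
  refine Nat.eq_of_mul_eq_mul_left (Nat.card_pos : 0 < Nat.card R) ?_
  calc Nat.card R * (R.index * Nat.card M) = Nat.card M * (Nat.card R * R.index) := by ring
    _ = Nat.card N * p := by rw [e2, e3]
    _ = Nat.card R * (p * Nat.card f.ker) := by rw [← e1]; ring

end CfsgLib.PGroup.CommutatorIndex
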