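import Cfsg.Agent.Lib.Coprime.Sylow
import Cfsg.Agent.Lib.Coprime.Abelian
import Cfsg.Agent.Lib.Solvable.Basic
import Mathlib.GroupTheory.Sylow
import Mathlib.Data.Nat.Factorization.Basic

/-!
The product of the fixed-point orders of a coprime action of a `p`-group.
-/

set_option autoImplicit false
set_option linter.style.haveILetI false

namespace CfsgLib.PGroup.CoprimeFixProd

open Subgroup
open scoped commutatorElement

universe u

variable {G : Type u} [Group G]

/-- `∏_{x ∈ P} |C_N(x)|`. -/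
noncomputable def fixProd (P N : Subgroup G) : ℕ :=
  ∏ᶠ x : P, Nat.card ↥(N ⊓ centralizer {(x : G)})

/-- The inequality to be proved. -/
def Good (p : ℕ) (P N : Subgroup G) : Prop :=
  fixProd P N ^ p ≤ Nat.card N ^ Nat.card P *
    Nat.card ↥(N ⊓ centralizer (P : Set G)) ^ ((p - 1) * Nat.card P)

theorem card_mul_of_inf_eq_bot [Finite G] {A B V : Subgroup G} (hA : A ≤ V) (hB : B ≤ V)
    (h : A ⊓ B = ⊥) (hV : ∀ v ∈ V, ∃ a ∈ A, ∃ b ∈ B, v = a * b) :
    Nat.card V = Nat.card A * Nat.card B := by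
  rw [← Nat.card_prod]
  refine (Nat.card_congr (Equiv.ofBijective
    (fun z : A × B => (⟨z.1.1 * z.2.1, V.mul_mem (hA z.1.2) (hB z.2.2)⟩ : V)) ⟨?_, ?_⟩)).symm
  · rintro ⟨a, b⟩ ⟨a', b'⟩ e
    have e' : (a : G) * b = a' * b' := congrArg Subtype.val e
    have h1 : (a' : G)⁻¹ * a = (b' : G) * (b : G)⁻¹ := by
      rw [eq_mul_inv_iff_mul_eq, mul_assoc, e', inv_mul_cancel_left]
    have h2 : (a' : G)⁻¹ * a ∈ A ⊓ B :=
      mem_inf.2 ⟨A.mul_mem (A.inv_mem a'.2) a.2, h1 ▸ B.mul_mem b'.2 (B.inv_mem b.2)⟩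
    rw [h, mem_bot] at h2
    have h3 : a = a' := Subtype.ext (inv_mul_eq_one.1 h2).symm
    subst h3
    exact Prod.ext rfl (Subtype.ext (mul_left_cancel e'))
  · rintro ⟨v, hv⟩
    obtain ⟨a, ha, b, hb, rfl⟩ := hV v hv
    exact ⟨(⟨a, ha⟩, ⟨b, hb⟩), rfl⟩

/-- An element of a `p`-group, central of order `p` modulo a proper normal subgroup. -/
theorem exists_central_mod {P : Type*} [Group P] [Finite P] {p : ℕ} [Fact p.Prime]
    (hP : IsPGroup p P) (K : Subgroup P) [K.Normal] (hK : K ≠ ⊤) :
    ∃ z : P, z ∉ K ∧ z ^ p ∈ K ∧ ∀ x : P, x⁻¹ * z * x * z⁻¹ ∈ K := by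
  haveI : Nontrivial (P ⧸ K) := by
    rw [← not_subsingleton_iff_nontrivial, QuotientGroup.subsingleton_iff]; exact hK
  haveI := (hP.to_quotient K).center_nontrivial
  obtain ⟨j, hj0, hj⟩ := ((hP.to_quotient K).to_subgroup (center (P ⧸ K))).nontrivial_iff_card.1
    inferInstance
  obtain ⟨c, hc⟩ := exists_prime_orderOf_dvd_card' (G := center (P ⧸ K)) p
    (hj ▸ dvd_pow_self p hj0.ne')
  obtain ⟨z, hz⟩ := QuotientGroup.mk'_surjective K (c : P ⧸ K)
  refine ⟨z, fun h => ?_, ?_, fun x => ?_⟩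
  · have h1 : (c : P ⧸ K) = 1 := hz ▸ (QuotientGroup.eq_one_iff z).2 h
    rw [← Subgroup.orderOf_coe, h1, orderOf_one] at hc
    exact (Fact.out : p.Prime).one_lt.ne hc
  · rw [← QuotientGroup.eq_one_iff, QuotientGroup.mk_pow]
    change (QuotientGroup.mk' K z) ^ p = 1
    rw [hz, ← hc, ← Subgroup.orderOf_coe, pow_orderOf_eq_one]
  · rw [← QuotientGroup.eq_one_iff]
    simp only [QuotientGroup.mk_mul, QuotientGroup.mk_inv]
    change (x : P ⧸ K)⁻¹ * QuotientGroup.mk' K z * x * (QuotientGroup.mk' K z)⁻¹ = 1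
    rw [hz, mul_assoc (x : P ⧸ K)⁻¹, ← mem_center_iff.1 c.2, inv_mul_cancel_left, mul_inv_cancel]

theorem good_abelian [Finite G] {p : ℕ} [Fact p.Prime] : ∀ n : ℕ, ∀ P V : Subgroup G,
    Nat.card V = n → IsPGroup p P → P ≤ normalizer (V : Set G) → IsMulCommutative V →
    (Nat.card P).Coprime (Nat.card V) → Good p P V := by
  classical
  intro n
  induction n using Nat.strong_induction_on with | _ n ih =>
  intro P V hn hP hPV hV hcop
  have hp := (Fact.out : p.Prime)
  haveI := Fintype.ofFinite P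
  unfold Good fixProd
  rw [finprod_eq_prod_of_fintype]
  set K : Subgroup P := (centralizer (V : Set G)).subgroupOf P
  by_cases hKtop : K = ⊤
  · have hc : ∀ x : P, V ⊓ centralizer {(x : G)} = V := fun x => inf_eq_left.2 fun v hv =>
      mem_centralizer_singleton_iff.2
        (mem_centralizer_iff.1 (mem_subgroupOf.1 (hKtop ▸ mem_top x : x ∈ K)) v hv)
    have hcP : V ⊓ centralizer (P : Set G) = V := inf_eq_left.2 fun v hv =>
      mem_centralizer_iff.2 fun x hx =>
        (mem_centralizer_iff.1 (mem_subgroupOf.1 (hKtop ▸ mem_top (⟨x, hx⟩ : P) : (⟨x, hx⟩ : P) ∈ K)) v hv).symm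
    simp only [hc, Finset.prod_const, Finset.card_univ, hcP, ← Nat.card_eq_fintype_card,
      ← pow_mul, ← pow_add]
    refine le_of_eq (congrArg _ ?_)
    obtain ⟨q, rfl⟩ : ∃ q, p = q + 1 := ⟨p - 1, by have := hp.one_lt; omega⟩
    rw [Nat.add_sub_cancel]; ring
  haveI : K.Normal := by
    constructor
    intro k hk x
    rw [mem_subgroupOf, mem_centralizer_iff] at hk ⊢
    intro v hv
    have h1 := hk _ ((mem_normalizer_iff''.1 (hPV x.2) v).1 hv)
    simp only [Subgroup.coe_mul, Subgroup.coe_inv] at *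
    calc v * ((x : G) * k * (x : G)⁻¹) = x * ((x : G)⁻¹ * v * x * k) * (x : G)⁻¹ := by group
      _ = x * (k * ((x : G)⁻¹ * v * x)) * (x : G)⁻¹ := by rw [h1]
      _ = (x : G) * k * (x : G)⁻¹ * v := by group
  obtain ⟨z, hzK, hzp, hzc⟩ := exists_central_mod hP K hKtop
  set A : Subgroup G := zpowers (z : G)
  have hAP : A ≤ P := zpowers_le.2 z.2
  have hAV : A ≤ normalizer (V : Set G) := hAP.trans hPV
  have hcopA : (Nat.card A).Coprime (Nat.card V) := hcop.coprime_dvd_left (card_dvd_of_le hAP)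
  letI : CommGroup V := { (inferInstance : Group V) with mul_comm := mul_comm' }
  have hVsol : Group.IsSolvable V := Group.isSolvable_of_comm mul_comm'
  set U := ⁅V, A⁆ with hU
  set W := V ⊓ centralizer (A : Set G) with hW
  have hUV : U ≤ V := le_normalizer_iff_commutator_le_left.1 hAV
  have hWU : W ⊓ U = ⊥ := CfsgLib.Coprime.centralizer_inf_commutator_eq_bot hAV hcopA
  have hsup : U ⊔ W = V := CfsgLib.Coprime.commutator_sup_centralizer hAV hcopA (Or.inr hVsol)
  have hcomm : ∀ a ∈ V, ∀ b ∈ V, a * b = b * a := fun a ha b hb =>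
    congrArg Subtype.val (mul_comm' (⟨a, ha⟩ : V) ⟨b, hb⟩)
  have hVd : ∀ v ∈ V, ∃ w ∈ W, ∃ u ∈ U, v = w * u := by
    intro v hv
    have hWn : W ≤ normalizer (U : Set G) := fun w hw => by
      rw [mem_normalizer_iff]
      intro y
      constructor
      · intro hy
        rw [hcomm w hw.1 y (hUV hy), mul_inv_cancel_right]; exact hy
      · intro hy
        have hy' := hcomm w⁻¹ (V.inv_mem hw.1) _ (hUV hy)
        have e : y = w * y * w⁻¹ := by
          calc y = w⁻¹ * (w * y * w⁻¹) * w := by group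
            _ = w * y * w⁻¹ * w⁻¹ * w := by rw [hy']
            _ = w * y * w⁻¹ := by group
        rwa [e]
    have h1 : v ∈ ((W ⊔ U : Subgroup G) : Set G) := by rw [sup_comm, hsup]; exact hv
    rw [coe_mul_of_left_le_normalizer_right W U hWn] at h1
    obtain ⟨w, hw, y, hy, e⟩ := Set.mem_mul.1 h1
    exact ⟨w, hw, y, hy, e.symm⟩
  -- `P` normalizes `W` and `U`
  have hzact : ∀ (x : P) (v : G), v ∈ V → ((x : G)⁻¹ * z * x) * v * ((x : G)⁻¹ * z * x)⁻¹
      = (z : G) * v * (z : G)⁻¹ := by
    intro x v hv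
    have hk := mem_centralizer_iff.1 (mem_subgroupOf.1 (hzc x)) _
      (((mem_normalizer_iff.1 (hPV z.2) v)).1 hv)
    simp only [Subgroup.coe_mul, Subgroup.coe_inv] at hk
    calc _ = ((x : G)⁻¹ * z * x * (z : G)⁻¹) * ((z : G) * v * (z : G)⁻¹) *
          ((x : G)⁻¹ * z * x * (z : G)⁻¹)⁻¹ := by group
      _ = (z : G) * v * (z : G)⁻¹ := by rw [← hk]; group
  have hzact' : ∀ (x : P) (v : G), v ∈ V → (z : G) * ((x : G) * v * (x : G)⁻¹) * (z : G)⁻¹
      = (x : G) * ((z : G) * v * (z : G)⁻¹) * (x : G)⁻¹ := by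
    intro x v hv
    rw [← hzact x v hv]; group
  have hWmem : ∀ v, v ∈ W ↔ v ∈ V ∧ (z : G) * v * (z : G)⁻¹ = v := by
    intro v
    rw [hW, mem_inf, show A = closure {(z : G)} from zpowers_eq_closure _, centralizer_closure,
      mem_centralizer_singleton_iff]
    exact and_congr_right fun _ => by rw [mul_inv_eq_iff_eq_mul]; exact eq_comm
  have hPW : ∀ x ∈ P, ∀ w ∈ W, x * w * x⁻¹ ∈ W := fun x hx w hw => by
    rw [hWmem] at hw ⊢
    exact ⟨(mem_normalizer_iff.1 (hPV hx) w).1 hw.1, by rw [hzact' ⟨x, hx⟩ w hw.1, hw.2]⟩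
  have hPU : ∀ x ∈ P, ∀ y ∈ U, x * y * x⁻¹ ∈ U := fun x hx y hy => by
    have h : U ≤ U.comap (MulAut.conj x).toMonoidHom := by
      refine commutator_le.2 fun v hv a ha => ?_
      obtain ⟨i, rfl⟩ := mem_zpowers_iff.1 ha
      show x * ⁅v, (z : G) ^ i⁆ * x⁻¹ ∈ U
      have hv' : x * v * x⁻¹ ∈ V := (mem_normalizer_iff.1 (hPV hx) v).1 hv
      have hzi : ((z : G) ^ i) * (x * v⁻¹ * x⁻¹) * ((z : G) ^ i)⁻¹ =
          x * ((z : G) ^ i * v⁻¹ * ((z : G) ^ i)⁻¹) * x⁻¹ := by
        have hk : (⟨x, hx⟩ : P) * z ^ i * (⟨x, hx⟩ : P)⁻¹ * (z ^ i)⁻¹ ∈ K := by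
          rw [← QuotientGroup.eq_one_iff]
          have hc : Commute ((⟨x, hx⟩ : P) : P ⧸ K) ((z : P) : P ⧸ K) := by
            have h0 := (QuotientGroup.eq_one_iff _).2 (hzc ⟨x, hx⟩)
            simp only [QuotientGroup.mk_mul, QuotientGroup.mk_inv] at h0
            rw [mul_inv_eq_one, mul_assoc, inv_mul_eq_iff_eq_mul] at h0
            exact h0.symm
          simp only [QuotientGroup.mk_mul, QuotientGroup.mk_inv, QuotientGroup.mk_zpow]
          rw [(hc.zpow_right i).eq, mul_inv_cancel_right, mul_inv_cancel]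
        have hk' := mem_centralizer_iff.1 (mem_subgroupOf.1 hk) _
          ((mem_normalizer_iff.1 (hPV ((z ^ i).2)) _).1
            ((mem_normalizer_iff.1 (hPV hx) v⁻¹).1 (V.inv_mem hv)))
        simp only [Subgroup.coe_mul, Subgroup.coe_inv, SubgroupClass.coe_zpow] at hk'
        symm
        calc x * ((z : G) ^ i * v⁻¹ * ((z : G) ^ i)⁻¹) * x⁻¹
            = (x * (z : G) ^ i * x⁻¹ * ((z : G) ^ i)⁻¹) *
                ((z : G) ^ i * (x * v⁻¹ * x⁻¹) * ((z : G) ^ i)⁻¹) *
                (x * (z : G) ^ i * x⁻¹ * ((z : G) ^ i)⁻¹)⁻¹ := by group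
          _ = _ := by rw [← hk']; group
      have e : x * ⁅v, (z : G) ^ i⁆ * x⁻¹ = ⁅x * v * x⁻¹, (z : G) ^ i⁆ := by
        rw [commutatorElement_def, commutatorElement_def]
        calc x * (v * (z : G) ^ i * v⁻¹ * ((z : G) ^ i)⁻¹) * x⁻¹
            = (x * v * x⁻¹) * (x * ((z : G) ^ i * v⁻¹ * ((z : G) ^ i)⁻¹) * x⁻¹) := by group
          _ = _ := by rw [← hzi]; group
      rw [e]
      exact commutator_mem_commutator hv' ha
    exact h hy
  -- decomposition of the fixed points
  have hsplit : ∀ S : Set G, S ⊆ P → Nat.card ↥(V ⊓ centralizer S) =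
      Nat.card ↥(W ⊓ centralizer S) * Nat.card ↥(U ⊓ centralizer S) := by
    intro S hS
    refine card_mul_of_inf_eq_bot (inf_le_inf_right _ inf_le_left) (inf_le_inf_right _ hUV)
      (le_bot_iff.1 ((inf_le_inf inf_le_left inf_le_left).trans hWU.le)) ?_
    rintro v ⟨hv, hvS⟩
    obtain ⟨w, hw, y, hy, rfl⟩ := hVd v hv
    have key : ∀ s ∈ S, s * w = w * s ∧ s * y = y * s := by
      intro s hs
      have h1 : (s * w * s⁻¹) * (s * y * s⁻¹) = w * y := by
        rw [show (s * w * s⁻¹) * (s * y * s⁻¹) = s * (w * y) * s⁻¹ by group,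
          mem_centralizer_iff.1 hvS s hs, mul_inv_cancel_right]
      have h2 : w⁻¹ * (s * w * s⁻¹) = y * (s * y * s⁻¹)⁻¹ := by
        rw [eq_mul_inv_iff_mul_eq, mul_assoc, h1, inv_mul_cancel_left]
      have h3 : w⁻¹ * (s * w * s⁻¹) ∈ W ⊓ U := mem_inf.2 ⟨W.mul_mem (W.inv_mem hw) (hPW s (hS hs) w hw),
        h2 ▸ U.mul_mem hy (U.inv_mem (hPU s (hS hs) y hy))⟩
      rw [hWU, mem_bot] at h3
      have h4 := h3
      rw [h2, mul_inv_eq_one] at h4
      exact ⟨mul_inv_eq_iff_eq_mul.1 (inv_mul_eq_one.1 h3).symm, mul_inv_eq_iff_eq_mul.1 h4.symm⟩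
    exact ⟨w, mem_inf.2 ⟨hw, mem_centralizer_iff.2 fun s hs => (key s hs).1⟩,
      y, mem_inf.2 ⟨hy, mem_centralizer_iff.2 fun s hs => (key s hs).2⟩, rfl⟩
  have hcardV : Nat.card V = Nat.card W * Nat.card U :=
    card_mul_of_inf_eq_bot inf_le_left hUV hWU hVd
  have hWlt : Nat.card W < n := by
    rw [← hn]
    refine lt_of_le_of_ne (card_le_of_le inf_le_left) fun h => hzK ?_
    have h1 : W = V := eq_of_le_of_card_ge inf_le_left h.ge
    refine mem_subgroupOf.2 (mem_centralizer_iff.2 fun v hv => ?_)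
    have h2 := ((hWmem v).1 (h1 ▸ hv)).2
    exact (mul_inv_eq_iff_eq_mul.1 h2).symm
  have hWc : IsMulCommutative W := ⟨⟨fun a b => Subtype.ext (hcomm a a.2.1 b b.2.1)⟩⟩
  have hW' := ih _ hWlt P W rfl hP
    (fun x hx => by
      rw [mem_normalizer_iff]
      refine fun w => ⟨hPW x hx w, fun h => ?_⟩
      have h1 := hPW x⁻¹ (P.inv_mem hx) _ h
      simpa [mul_assoc] using h1)
    hWc (hcop.coprime_dvd_right (card_dvd_of_le inf_le_left))
  unfold Good fixProd at hW'
  rw [finprod_eq_prod_of_fintype] at hW'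
  -- the part moved by `z`
  have hUtriv : ∀ y ∈ U, (z : G) * y * (z : G)⁻¹ = y → y = 1 := fun y hy h => by
    have h1 : y ∈ W ⊓ U := mem_inf.2 ⟨(hWmem y).2 ⟨hUV hy, h⟩, hy⟩
    rwa [hWU, mem_bot] at h1
  have hUfix : U ⊓ centralizer (P : Set G) = ⊥ := by
    rw [eq_bot_iff]
    rintro y ⟨hy, hyc⟩
    exact mem_bot.2 (hUtriv y hy (by rw [mem_centralizer_iff.1 hyc _ z.2, mul_inv_cancel_right]))
  have hU' : (∏ x : P, Nat.card ↥(U ⊓ centralizer {(x : G)})) ^ p ≤ Nat.card U ^ Nat.card P := by
    have e : (∏ x : P, Nat.card ↥(U ⊓ centralizer {(x : G)})) ^ p =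
        ∏ x : P, ∏ i : Fin p, Nat.card ↥(U ⊓ centralizer {((x * z ^ (i : ℕ) : P) : G)}) := by
      rw [Finset.prod_comm]
      have hs : ∀ i : Fin p, ∏ x : P, Nat.card ↥(U ⊓ centralizer {((x * z ^ (i : ℕ) : P) : G)}) =
          ∏ x : P, Nat.card ↥(U ⊓ centralizer {(x : G)}) := fun i =>
        Fintype.prod_equiv (Equiv.mulRight (z ^ (i : ℕ))) _ _ fun x => rfl
      simp only [hs, Finset.prod_const, Finset.card_univ, Fintype.card_fin]
    rw [e, Nat.card_eq_fintype_card (α := P)]
    refine Finset.prod_le_pow_card _ _ _ fun x _ => ?_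
    -- the fixed subgroups of the `x z^i` form a direct product inside `U`
    let Y : Fin p → P := fun i => x * z ^ (i : ℕ)
    have hdir : ∀ (s : Finset (Fin p)) (f : Fin p → V), (∀ i ∈ s, (f i : G) ∈ U ∧
        (Y i : G) * (f i : G) * (Y i : G)⁻¹ = f i) → ∏ i ∈ s, f i = 1 → ∀ i ∈ s, f i = 1 := by
      intro s
      induction s using Finset.induction_on with
      | empty => intro f _ _ i hi; simp at hi
      | @insert j s hj ihs =>
        intro f hf hprod
        let conjV : P → V →* V := fun y =>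
          { toFun := fun v => ⟨(y : G) * v * (y : G)⁻¹, (mem_normalizer_iff.1 (hPV y.2) v).1 v.2⟩
            map_one' := Subtype.ext (by simp)
            map_mul' := fun a b => Subtype.ext (by simp [mul_assoc]) }
        let D : V →* V := MonoidHom.mk' (fun v => conjV (Y j) v * v⁻¹) (fun a b => Subtype.ext (by
          simp only [map_mul, Subgroup.coe_mul, Subgroup.coe_inv, mul_inv_rev]
          have ha := (conjV (Y j) a).2
          have hb := (conjV (Y j) b).2
          set a' : G := ((conjV (Y j) a : V) : G)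
          set b' : G := ((conjV (Y j) b : V) : G)
          rw [hcomm (b : G)⁻¹ (V.inv_mem b.2) (a : G)⁻¹ (V.inv_mem a.2)]
          calc a' * b' * ((a : G)⁻¹ * (b : G)⁻¹) = a' * (b' * (a : G)⁻¹) * (b : G)⁻¹ := by group
            _ = _ := by rw [hcomm b' hb (a : G)⁻¹ (V.inv_mem a.2)]; group))
        have hDj : D (f j) = 1 := Subtype.ext (by
          show (Y j : G) * (f j : G) * (Y j : G)⁻¹ * (f j : G)⁻¹ = 1
          rw [(hf j (Finset.mem_insert_self j s)).2, mul_inv_cancel])
        have hDs : ∏ i ∈ s, D (f i) = 1 := by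
          have h1 := congrArg D hprod
          rwa [map_prod, Finset.prod_insert hj, hDj, one_mul, map_one] at h1
        have hDprop : ∀ i ∈ s, (D (f i) : G) ∈ U ∧ (Y i : G) * (D (f i) : G) * (Y i : G)⁻¹ = D (f i) := by
          intro i hi
          obtain ⟨hiU, hifix⟩ := hf i (Finset.mem_insert_of_mem hi)
          refine ⟨U.mul_mem (hPU _ (Y j).2 _ hiU) (U.inv_mem hiU), ?_⟩
          show (Y i : G) * ((Y j : G) * (f i : G) * (Y j : G)⁻¹ * (f i : G)⁻¹) * (Y i : G)⁻¹ = _
          have hk : Y i * Y j * (Y i)⁻¹ * (Y j)⁻¹ ∈ K := by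
            rw [← QuotientGroup.eq_one_iff]
            have hc : Commute ((x : P) : P ⧸ K) ((z : P) : P ⧸ K) := by
              have h0 := (QuotientGroup.eq_one_iff _).2 (hzc x)
              simp only [QuotientGroup.mk_mul, QuotientGroup.mk_inv] at h0
              rw [mul_inv_eq_one, mul_assoc, inv_mul_eq_iff_eq_mul] at h0
              exact h0.symm
            have hcc : Commute ((Y i : P) : P ⧸ K) ((Y j : P) : P ⧸ K) := by
              simp only [Y, QuotientGroup.mk_mul, QuotientGroup.mk_pow]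
              exact (((Commute.refl _).mul_right (hc.pow_right _)).mul_left
                (((hc.symm.pow_left _)).mul_right ((Commute.refl _).pow_pow _ _)))
            simp only [QuotientGroup.mk_mul, QuotientGroup.mk_inv]
            rw [hcc.eq, mul_inv_cancel_right, mul_inv_cancel]
          have hk' := mem_centralizer_iff.1 (mem_subgroupOf.1 hk) _
            ((mem_normalizer_iff.1 (hPV (Y j).2) _).1 (f i).2)
          simp only [Subgroup.coe_mul, Subgroup.coe_inv] at hk'
          have h2 : (Y i : G) * ((Y j : G) * (f i : G) * (Y j : G)⁻¹) * (Y i : G)⁻¹ =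
              (Y j : G) * (f i : G) * (Y j : G)⁻¹ := by
            calc _ = ((Y i : G) * Y j * (Y i : G)⁻¹ * (Y j : G)⁻¹) *
                  ((Y j : G) * ((Y i : G) * f i * (Y i : G)⁻¹) * (Y j : G)⁻¹) *
                  ((Y i : G) * Y j * (Y i : G)⁻¹ * (Y j : G)⁻¹)⁻¹ := by group
              _ = _ := by rw [hifix, ← hk']; group
          calc _ = (Y i : G) * ((Y j : G) * (f i : G) * (Y j : G)⁻¹) * (Y i : G)⁻¹ *
                ((Y i : G) * (f i : G) * (Y i : G)⁻¹)⁻¹ := by group
            _ = _ := by rw [h2, hifix]; rfl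
        have hall : ∀ i ∈ s, f i = 1 := by
          intro i hi
          obtain ⟨hiU, hifix⟩ := hf i (Finset.mem_insert_of_mem hi)
          have h1 := congrArg Subtype.val (ihs (fun i => D (f i)) hDprop hDs i hi)
          change (Y j : G) * (f i : G) * (Y j : G)⁻¹ * (f i : G)⁻¹ = 1 at h1
          rw [mul_inv_eq_one] at h1
          -- an element fixed by two translates is fixed by `z`
          let S : Subgroup P := (centralizer {(f i : G)}).comap P.subtype
          have hmem : ∀ y : P, (y : G) * (f i : G) * (y : G)⁻¹ = f i → y ∈ S := fun y h =>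
            mem_centralizer_singleton_iff.2 (mul_inv_eq_iff_eq_mul.1 h)
          have hd : ((j : ℕ) : ℤ) - ((i : ℕ) : ℤ) ≠ 0 := by
            intro h0
            exact hj (by rwa [show j = i from Fin.ext (by omega)])
          have hzd : z ^ (((j : ℕ) : ℤ) - ((i : ℕ) : ℤ)) ∈ S := by
            have h3 := S.mul_mem (S.inv_mem (hmem _ hifix)) (hmem _ h1)
            have e : (Y i)⁻¹ * Y j = z ^ (((j : ℕ) : ℤ) - ((i : ℕ) : ℤ)) := by
              simp only [Y, zpow_sub, zpow_natCast, mul_inv_rev, mul_assoc, inv_mul_cancel_left]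
              exact ((Commute.refl z).pow_pow _ _).inv_left.eq
            rwa [e] at h3
          have hzpS : z ^ (p : ℤ) ∈ S := by
            rw [zpow_natCast]
            exact mem_centralizer_singleton_iff.2 (mem_centralizer_iff.1 (mem_subgroupOf.1 hzp) _ (f i).2).symm
          have hzS : z ∈ S := by
            set d : ℤ := ((j : ℕ) : ℤ) - ((i : ℕ) : ℤ) with hdd
            have hg : Int.gcd d (p : ℤ) = 1 := by
              rw [Int.gcd, Int.natAbs_natCast, Nat.gcd_comm]
              refine hp.coprime_iff_not_dvd.2 fun hdvd => ?_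
              have := Nat.le_of_dvd (Int.natAbs_pos.2 hd) hdvd
              have := i.2; have := j.2; omega
            have hb := Int.gcd_eq_gcd_ab d (p : ℤ)
            rw [hg] at hb
            have h4 := S.mul_mem (S.zpow_mem hzd (Int.gcdA d p)) (S.zpow_mem hzpS (Int.gcdB d p))
            rwa [← zpow_mul, ← zpow_mul, ← zpow_add, ← hb, Nat.cast_one, zpow_one] at h4
          refine Subtype.ext (hUtriv _ hiU ?_)
          rw [mul_inv_eq_iff_eq_mul]
          exact mem_centralizer_singleton_iff.1 hzS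
        intro i hi
        rcases Finset.mem_insert.1 hi with rfl | hi
        · rw [Finset.prod_insert hj, Finset.prod_eq_one hall, mul_one] at hprod
          exact hprod
        · exact hall i hi
    rw [← Nat.card_pi]
    refine Nat.card_le_card_of_injective
      (fun f : ∀ i : Fin p, ↥(U ⊓ centralizer {((x * z ^ (i : ℕ) : P) : G)}) =>
        (⟨((∏ i : Fin p, (⟨(f i).1, hUV (f i).2.1⟩ : V)) : V), by
          have hle : ∀ i, (⟨(f i).1, hUV (f i).2.1⟩ : V) ∈ U.subgroupOf V := fun i =>
            mem_subgroupOf.2 (f i).2.1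
          exact mem_subgroupOf.1 (Subgroup.prod_mem _ fun i _ => hle i)⟩ : U)) ?_
    intro f g hfg
    have h1 : ∏ i : Fin p, (⟨(f i).1, hUV (f i).2.1⟩ : V) = ∏ i : Fin p, ⟨(g i).1, hUV (g i).2.1⟩ :=
      Subtype.ext (congrArg (fun u : U => (u : G)) hfg)
    have h2 := hdir Finset.univ (fun i => (⟨(f i).1, hUV (f i).2.1⟩ : V) * (⟨(g i).1, hUV (g i).2.1⟩ : V)⁻¹)
      (fun i _ => ⟨U.mul_mem (f i).2.1 (U.inv_mem (g i).2.1), by
        have hm := (centralizer {((x * z ^ (i : ℕ) : P) : G)}).mul_mem (f i).2.2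
          ((centralizer {((x * z ^ (i : ℕ) : P) : G)}).inv_mem (g i).2.2)
        rw [mul_inv_eq_iff_eq_mul]
        exact (mem_centralizer_singleton_iff.1 hm).symm⟩)
      (by rw [Finset.prod_mul_distrib, Finset.prod_inv_distrib, h1, mul_inv_cancel])
    funext i
    have h3 := h2 i (Finset.mem_univ i)
    rw [mul_inv_eq_one] at h3
    exact Subtype.ext (congrArg (fun v : V => (v : G)) h3)
  have hsP : Nat.card ↥(V ⊓ centralizer (P : Set G)) = Nat.card ↥(W ⊓ centralizer (P : Set G)) := by
    rw [hsplit (P : Set G) le_rfl, hUfix, Subgroup.card_bot, mul_one]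
  rw [hsP, hcardV, Finset.prod_congr rfl (fun (x : P) _ => hsplit {(x : G)} (Set.singleton_subset_iff.2 x.2)),
    Finset.prod_mul_distrib, mul_pow, mul_pow]
  calc _ ≤ _ := Nat.mul_le_mul hW' hU'
    _ = _ := by ring

theorem map_centralizer_card {H : Type u} [Group H] (f : H →* G) (hf : Function.Injective f)
    (N : Subgroup H) (S : Set H) :
    Nat.card ↥(N.map f ⊓ centralizer (f '' S)) = Nat.card ↥(N ⊓ centralizer S) := by
  have h : N.map f ⊓ centralizer (f '' S) = (N ⊓ centralizer S).map f := by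
    ext y
    constructor
    · rintro ⟨⟨x, hx, rfl⟩, hy⟩
      refine ⟨x, mem_inf.2 ⟨hx, mem_centralizer_iff.2 fun t ht => hf ?_⟩, rfl⟩
      rw [map_mul, map_mul]
      exact mem_centralizer_iff.1 hy _ ⟨t, ht, rfl⟩
    · rintro ⟨x, ⟨hx, hxS⟩, rfl⟩
      refine mem_inf.2 ⟨⟨x, hx, rfl⟩, mem_centralizer_iff.2 ?_⟩
      rintro _ ⟨t, ht, rfl⟩
      rw [← map_mul, ← map_mul, mem_centralizer_iff.1 hxS t ht]
  rw [h, card_map_of_injective hf]

/-- `Good` passes to a containing group. -/
theorem good_map [Finite G] {p : ℕ} {H : Type u} [Group H] [Finite H] (f : H →* G)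
    (hf : Function.Injective f) {P N : Subgroup H} (h : Good p P N) :
    Good p (P.map f) (N.map f) := by
  unfold Good fixProd at *
  rw [card_map_of_injective hf, card_map_of_injective hf, coe_map, map_centralizer_card f hf N]
  refine le_trans (le_of_eq ?_) h
  congr 1
  refine (finprod_eq_of_bijective (P.equivMapOfInjective f hf)
    (P.equivMapOfInjective f hf).bijective fun x => ?_).symm
  have h1 := map_centralizer_card f hf N {(x : H)}
  rw [Set.image_singleton] at h1
  exact h1.symm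

theorem card_ker_mul_range {A B : Subgroup G} [Finite G] [B.Normal] :
    Nat.card A = Nat.card ↥(B ⊓ A) * Nat.card ↥(A.map (QuotientGroup.mk' B)) := by
  have h := (B.subgroupOf A).card_mul_index
  rw [← h]
  congr 1
  · rw [← card_map_of_injective A.subtype_injective, subgroupOf_map_subtype]
  · have e : ((QuotientGroup.mk' B).comp A.subtype).range = A.map (QuotientGroup.mk' B) := by
      rw [MonoidHom.range_comp, range_subtype]
    rw [← e, ← Subgroup.index_ker]
    congr 1
    ext x
    simp [mem_subgroupOf, QuotientGroup.eq_one_iff]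

/-- The inequality passes through a normal series. -/
theorem good_of_normal [Finite G] {p : ℕ} [Fact p.Prime] {P N M : Subgroup G} [M.Normal] [N.Normal]
    (hP : IsPGroup p P) (hM : M ≤ N) (hsol : Group.IsSolvable M)
    (hcop : (Nat.card P).Coprime (Nat.card N))
    (h1 : Good p P M) (h2 : Good p (P.map (QuotientGroup.mk' M)) (N.map (QuotientGroup.mk' M))) :
    Good p P N := by
  classical
  set π := QuotientGroup.mk' M
  have hinj : ∀ x ∈ P, π x = 1 → x = 1 := fun x hx h => by
    have h3 : x ∈ P ⊓ M := mem_inf.2 ⟨hx, (QuotientGroup.eq_one_iff x).1 h⟩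
    rwa [(disjoint_of_coprime_natCard (hcop.coprime_dvd_right (card_dvd_of_le hM))).eq_bot,
      mem_bot] at h3
  let e : P → P.map π := fun x => ⟨π x, mem_map_of_mem π x.2⟩
  have he : Function.Bijective e := ⟨fun a b h => by
    have h3 : π ((a : G)⁻¹ * b) = 1 := by
      rw [map_mul, map_inv, show π a = π b from congrArg Subtype.val h, inv_mul_cancel]
    exact Subtype.ext (inv_mul_eq_one.1 (hinj _ (P.mul_mem (P.inv_mem a.2) b.2) h3)),
    fun ⟨y, x, hx, hxy⟩ => ⟨⟨x, hx⟩, Subtype.ext hxy⟩⟩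
  have hlift : ∀ A : Subgroup G, A ≤ P → Group.IsSolvable A ∨ True →
      Nat.card ↥(N ⊓ centralizer (A : Set G)) =
        Nat.card ↥(M ⊓ centralizer (A : Set G)) *
          Nat.card ↥(N.map π ⊓ centralizer (π '' (A : Set G))) := by
    intro A hA _
    rw [card_ker_mul_range (A := N ⊓ centralizer (A : Set G)) (B := M), ← inf_assoc,
      inf_eq_left.2 hM]
    congr 1
    refine congrArg (fun H : Subgroup (G ⧸ M) => Nat.card ↥H) ?_
    refine SetLike.ext' ?_
    ext y
    constructor
    · rintro ⟨x, ⟨hxN, hxc⟩, rfl⟩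
      refine ⟨⟨x, hxN, rfl⟩, ?_⟩
      rintro _ ⟨a, ha, rfl⟩
      rw [← map_mul, ← map_mul, mem_centralizer_iff.1 hxc a ha]
    · rintro ⟨⟨x, hxN, rfl⟩, hc⟩
      have hk : ∀ a ∈ A, ⁅a, x⁆ ∈ M := fun a ha => by
        rw [← QuotientGroup.eq_one_iff]
        show π ⁅a, x⁆ = 1
        rw [map_commutatorElement, commutatorElement_eq_one_iff_mul_comm]
        exact hc _ ⟨a, ha, rfl⟩
      obtain ⟨c, hc', hcM⟩ := CfsgLib.Coprime.exists_centralizer_inv_mul_mem (A := A) (K := N)
        (N := M) (le_normalizer_of_normal) hM (le_normalizer_of_normal)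
        ((hcop.coprime_dvd_left (card_dvd_of_le hA)).coprime_dvd_right (card_dvd_of_le hM))
        (Or.inr hsol) hxN hk
      exact ⟨c, hc', (QuotientGroup.eq.2 (by simpa using inv_mem hcM))⟩
  have hsing : ∀ x : P, Nat.card ↥(N ⊓ centralizer {(x : G)}) =
      Nat.card ↥(M ⊓ centralizer {(x : G)}) * Nat.card ↥(N.map π ⊓ centralizer {((e x : P.map π) : G ⧸ M)}) := by
    intro x
    have hz : ∀ S : Subgroup G, centralizer ((zpowers (x : G) : Subgroup G) : Set G) = centralizer {(x : G)} := fun _ => by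
      rw [zpowers_eq_closure, centralizer_closure]
    have hz' : centralizer (π '' ((zpowers (x : G) : Subgroup G) : Set G)) =
        centralizer {((e x : P.map π) : G ⧸ M)} := by
      rw [← coe_map, MonoidHom.map_zpowers, zpowers_eq_closure, centralizer_closure]
    have h := hlift (zpowers (x : G)) (zpowers_le.2 x.2) (Or.inr trivial)
    rwa [hz ⊥, hz'] at h
  have hP' := hlift P le_rfl (Or.inr trivial)
  have hN : Nat.card N = Nat.card M * Nat.card (N.map π) := by
    rw [card_ker_mul_range (A := N) (B := M), inf_eq_left.2 hM]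
  have hPc : Nat.card (P.map π) = Nat.card P := (Nat.card_eq_of_bijective e he).symm
  unfold Good fixProd at *
  rw [hPc, ← finprod_eq_of_bijective e he (fun x => rfl), coe_map] at h2
  rw [finprod_congr hsing, finprod_mul_distrib (Set.toFinite _) (Set.toFinite _), hP', hN,
    mul_pow, mul_pow, mul_pow]
  calc _ ≤ _ := Nat.mul_le_mul h1 h2
    _ = _ := by ring

/-- The inequality for `r`-groups. -/
theorem good_rgroup {p r : ℕ} [Fact p.Prime] [Fact r.Prime] : ∀ (n : ℕ) (G : Type u) [Group G]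
    [Finite G] (P N : Subgroup G) [N.Normal], Nat.card N = n → IsPGroup p P → IsPGroup r N →
    (Nat.card P).Coprime (Nat.card N) → Good p P N := by
  intro n
  induction n using Nat.strong_induction_on with | _ n ih =>
  intro G _ _ P N _ hn hP hN hcop
  by_cases hc : IsMulCommutative N
  · exact good_abelian n P N hn hP le_normalizer_of_normal hc hcop
  have hne : N ≠ ⊥ := fun h => hc (by subst h; infer_instance)
  set M : Subgroup G := (center N).map N.subtype with hM
  haveI : M.Normal := inferInstance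
  have hMN : M ≤ N := map_subtype_le _
  have hMc : IsMulCommutative M := ⟨⟨fun a b => by
    obtain ⟨x, hx, hxa⟩ := a.2
    obtain ⟨y, hy, hyb⟩ := b.2
    refine Subtype.ext ?_
    show (a : G) * b = b * a
    rw [← hxa, ← hyb]
    exact congrArg Subtype.val (mem_center_iff.1 hy x)⟩⟩
  have hsol : Group.IsSolvable M := Group.isSolvable_of_comm mul_comm'
  have hM1 : 1 < Nat.card M := by
    rw [hM, card_map_of_injective N.subtype_injective]
    haveI : Nontrivial N := (nontrivial_iff_ne_bot N).2 hne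
    haveI := hN.center_nontrivial
    exact Finite.one_lt_card
  refine good_of_normal hP hMN hsol hcop (good_abelian _ P M rfl hP le_normalizer_of_normal hMc
    (hcop.coprime_dvd_right (card_dvd_of_le hMN))) ?_
  haveI : (N.map (QuotientGroup.mk' M)).Normal :=
    Subgroup.Normal.map inferInstance _ (QuotientGroup.mk'_surjective M)
  refine ih _ ?_ _ _ _ rfl (hP.map _) (hN.map _)
    ((hcop.coprime_dvd_left (card_map_dvd _ _)).coprime_dvd_right (card_map_dvd _ _))
  rw [← hn, card_ker_mul_range (A := N) (B := M), inf_eq_left.2 hMN]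
  exact (lt_mul_iff_one_lt_left Nat.card_pos).2 hM1

/-- The inequality in general. -/
theorem good [Finite G] {p : ℕ} [Fact p.Prime] {P N : Subgroup G} (hP : IsPGroup p P)
    (hPN : P ≤ normalizer (N : Set G)) (hcop : (Nat.card P).Coprime (Nat.card N)) : Good p P N := by
  classical
  have hsolP : Group.IsSolvable P := by
    haveI := hP.isNilpotent
    infer_instance
  -- for each prime, an invariant Sylow subgroup
  have hex : ∀ r : ℕ, ∃ R : Subgroup G, R ≤ N ∧ P ≤ normalizer (R : Set G) ∧ (r.Prime → IsPGroup r R) ∧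
      ∀ A : Subgroup G, A ≤ P → r.Prime →
        Nat.card ↥(R ⊓ centralizer (A : Set G)) =
          r ^ (Nat.card ↥(N ⊓ centralizer (A : Set G))).factorization r := by
    intro r
    by_cases hr : r.Prime
    swap
    · exact ⟨N, le_rfl, hPN, fun h => absurd h hr, fun _ _ h => absurd h hr⟩
    haveI := Fact.mk hr
    obtain ⟨R, hR⟩ := CfsgLib.Coprime.exists_invariant_sylow hPN hcop (Or.inl hsolP) r
    refine ⟨(R : Subgroup N).map N.subtype, map_subtype_le _, hR, fun _ => R.isPGroup'.map _,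
      fun A hA _ => ?_⟩
    set C := N ⊓ centralizer (A : Set G)
    let U : Sylow r C := default
    have hUp : IsPGroup r ((U : Subgroup C).map C.subtype) := U.isPGroup'.map _
    have hUA : A ≤ normalizer (((U : Subgroup C).map C.subtype : Subgroup G) : Set G) :=
      fun a ha => by
        refine centralizer_le_normalizer _ (mem_centralizer_iff.2 ?_)
        rintro _ ⟨u, -, rfl⟩
        exact (mem_centralizer_iff.1 u.2.2 a ha).symm
    have hsolA : Group.IsSolvable A := by
      haveI := (hP.to_le hA).isNilpotent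
      infer_instance
    have hcA := hcop.coprime_dvd_left (card_dvd_of_le hA)
    obtain ⟨Q, hUQ, hQA⟩ := CfsgLib.Coprime.exists_le_invariant_sylow (hA.trans hPN) hcA
      (Or.inl hsolA) ((map_subtype_le _).trans inf_le_left) hUp hUA
    obtain ⟨c, hcc, hcQ⟩ := CfsgLib.Coprime.exists_centralizer_conj_sylow (hA.trans hPN) hcA
      (Or.inl hsolA) Q R hQA (hA.trans hR)
    refine le_antisymm ?_ ?_
    · set T := (R : Subgroup N).map N.subtype ⊓ centralizer (A : Set G)
      have hT : IsPGroup r T := (R.isPGroup'.map N.subtype).to_le inf_le_left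
      obtain ⟨k, hk⟩ := IsPGroup.iff_card.1 hT
      rw [hk]
      refine Nat.pow_le_pow_right hr.pos ((hr.pow_dvd_iff_le_factorization Nat.card_pos.ne').1 ?_)
      rw [← hk]
      exact card_dvd_of_le (inf_le_inf_right _ (map_subtype_le _))
    · rw [← U.card_eq_multiplicity, ← CfsgLib.Coprime.card_map_subtype,
        ← card_map_of_injective (f := (MulAut.conj (c : G)).toMonoidHom) (MulAut.conj (c : G)).injective]
      refine card_le_of_le (le_inf ?_ ?_)
      · refine (map_mono hUQ).trans ?_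
        rw [← hcQ, CfsgLib.Coprime.map_smul_sylow]
      · rintro _ ⟨u, ⟨u', -, rfl⟩, rfl⟩
        exact (centralizer (A : Set G)).mul_mem ((centralizer (A : Set G)).mul_mem hcc u'.2.2)
          ((centralizer (A : Set G)).inv_mem hcc)
  choose R hRN hPR hRp hRc using hex
  set S := (Nat.card N).primeFactors
  have hdec : ∀ A : Subgroup G, A ≤ P →
      ∏ r ∈ S, Nat.card ↥(R r ⊓ centralizer (A : Set G)) = Nat.card ↥(N ⊓ centralizer (A : Set G)) := by
    intro A hA
    rw [Finset.prod_congr rfl fun r hr => hRc r A hA (Nat.prime_of_mem_primeFactors hr)]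
    set m := Nat.card ↥(N ⊓ centralizer (A : Set G))
    conv_rhs => rw [← Nat.prod_factorization_pow_eq_self (n := m) Nat.card_pos.ne']
    refine (Finsupp.prod_of_support_subset _ ?_ _ fun _ _ => pow_zero _).symm
    rw [Nat.support_factorization]
    exact Nat.primeFactors_mono (card_dvd_of_le inf_le_left) Nat.card_pos.ne'
  have hsub : ∀ r ∈ S, Good p P (R r) := by
    intro r hr
    haveI := Fact.mk (Nat.prime_of_mem_primeFactors hr)
    set L := R r ⊔ P
    haveI : ((R r).subgroupOf L).Normal := (normal_subgroupOf_iff_le_normalizer le_sup_left).2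
      (sup_le le_normalizer (hPR r))
    have h := good_rgroup (p := p) (r := r) _ L (P.subgroupOf L) ((R r).subgroupOf L) rfl
      (hP.of_equiv (subgroupOfEquivOfLe le_sup_right).symm)
      ((hRp r (Fact.out)).of_equiv (subgroupOfEquivOfLe le_sup_left).symm) (by
        rw [Nat.card_congr (subgroupOfEquivOfLe (le_sup_right : P ≤ L)).toEquiv,
          Nat.card_congr (subgroupOfEquivOfLe (le_sup_left : R r ≤ L)).toEquiv]
        exact hcop.coprime_dvd_right (card_dvd_of_le (hRN r)))
    have h' := good_map L.subtype L.subtype_injective h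
    rwa [map_subgroupOf_eq_of_le le_sup_right, map_subgroupOf_eq_of_le le_sup_left] at h'
  haveI := Fintype.ofFinite P
  unfold Good fixProd at *
  simp only [finprod_eq_prod_of_fintype] at hsub ⊢
  have hx : ∀ x : P, Nat.card ↥(N ⊓ centralizer {(x : G)}) =
      ∏ r ∈ S, Nat.card ↥(R r ⊓ centralizer {(x : G)}) := fun x => by
    have h := hdec (zpowers (x : G)) (zpowers_le.2 x.2)
    rw [zpowers_eq_closure, centralizer_closure] at h
    exact h.symm
  have hN : Nat.card N = ∏ r ∈ S, Nat.card (R r) := by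
    have h := hdec ⊥ bot_le
    have hb : centralizer ((⊥ : Subgroup G) : Set G) = ⊤ :=
      eq_top_iff.2 fun g _ => mem_centralizer_iff.2 fun h hh => by
        rw [mem_bot.1 hh, one_mul, mul_one]
    simp only [hb, inf_top_eq] at h
    exact h.symm
  rw [Finset.prod_congr rfl (fun x _ => hx x), Finset.prod_comm, ← Finset.prod_pow, hN,
    ← hdec P le_rfl, ← Finset.prod_pow, ← Finset.prod_pow, ← Finset.prod_mul_distrib]
  exact Finset.prod_le_prod' hsub

end CfsgLib.PGroup.CoprimeFixProd
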