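import Cfsg.Agent.Lib.Coprime.Sylow
import Cfsg.Agent.Lib.Fusion.Abelian
import Mathlib

/-!
# Coprime action on a group with cyclic Sylow subgroups

If `Q` acts coprimely on a group `H` all of whose Sylow subgroups are cyclic, then `[H, Q]` and
`C_H(Q)` have coprime orders.
-/

set_option autoImplicit false

namespace CfsgLib.PGroup.CoprimeZGroup

open Subgroup
open scoped commutatorElement

variable {X : Type*} [Group X] [Finite X]

/-- A coprime action on a cyclic `p`-group fixing a non-trivial element is trivial. -/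
theorem commute_of_fixed {p : ℕ} [Fact p.Prime] {P : Subgroup X} [IsCyclic P] (hP : IsPGroup p P)
    {q : X} (hq : q ∈ normalizer (P : Set X)) (hcop : (orderOf q).Coprime p)
    {a : X} (ha : a ∈ P) (ha1 : a ≠ 1) (hqa : Commute q a) : q ∈ centralizer (P : Set X) := by
  have hp : p.Prime := Fact.out
  obtain ⟨⟨g, hgP⟩, hg⟩ := IsCyclic.exists_generator (α := P)
  have hgen : ∀ x ∈ P, ∃ k : ℤ, g ^ k = x := fun x hx => by
    obtain ⟨k, hk⟩ := mem_zpowers_iff.1 (hg ⟨x, hx⟩)
    exact ⟨k, by simpa using congrArg Subtype.val hk⟩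
  obtain ⟨n, hn⟩ : ∃ n : ℕ, orderOf g = p ^ n := by
    obtain ⟨n, hn⟩ := IsPGroup.iff_orderOf.1 hP ⟨g, hgP⟩
    exact ⟨n, by rwa [Subgroup.orderOf_mk] at hn⟩
  obtain ⟨i, hi⟩ := hgen _ ((mem_normalizer_iff.1 hq g).1 hgP)
  obtain ⟨k, rfl⟩ := hgen a ha
  have hpow : ∀ m : ℕ, q ^ m * g * (q ^ m)⁻¹ = g ^ (i ^ m) := by
    intro m
    induction m with
    | zero => simp
    | succ m ih =>
      rw [pow_succ (n := m), mul_inv_rev,
        show q ^ m * q * g * (q⁻¹ * (q ^ m)⁻¹) = q ^ m * (q * g * q⁻¹) * (q ^ m)⁻¹ by group, ← hi,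
        ← conj_zpow, ih, ← zpow_mul, pow_succ]
  have hord : ((p ^ n : ℕ) : ℤ) ∣ i ^ orderOf q - 1 := by
    rw [← hn]
    have h := hpow (orderOf q)
    rw [pow_orderOf_eq_one, inv_one, one_mul, mul_one] at h
    rw [orderOf_dvd_sub_iff_zpow_eq_zpow, ← h, zpow_one]
  have hik : ((p ^ n : ℕ) : ℤ) ∣ (i - 1) * k := by
    rw [← hn, orderOf_dvd_iff_zpow_eq_one, sub_mul, one_mul, zpow_sub, mul_inv_eq_one, zpow_mul, hi,
      conj_zpow, hqa.eq, mul_inv_cancel_right]
  have hpi : (p : ℤ) ∣ i - 1 := by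
    by_contra hnd
    apply ha1
    rw [← orderOf_dvd_iff_zpow_eq_one, hn]
    refine Int.dvd_of_dvd_mul_right_of_gcd_one hik ?_
    rw [← Int.isCoprime_iff_gcd_eq_one]
    push_cast
    exact ((Nat.prime_iff_prime_int.1 hp).coprime_iff_not_dvd.2 hnd).pow_left
  have hpn : ((p ^ n : ℕ) : ℤ) ∣ i ^ p ^ n - 1 := by
    have h := dvd_sub_pow_of_dvd_sub (R := ℤ) hpi n
    rw [one_pow] at h
    refine dvd_trans ?_ h
    push_cast
    exact pow_dvd_pow _ (Nat.le_succ n)
  have hfin : q * g * q⁻¹ = g := by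
    rw [← hi]
    have h1 : (i : ZMod (p ^ n)) ^ orderOf q = 1 := by
      have := (ZMod.intCast_zmod_eq_zero_iff_dvd (i ^ orderOf q - 1) (p ^ n)).2 hord
      push_cast at this
      exact sub_eq_zero.1 this
    have h2 : (i : ZMod (p ^ n)) ^ (p ^ n) = 1 := by
      have := (ZMod.intCast_zmod_eq_zero_iff_dvd (i ^ p ^ n - 1) (p ^ n)).2 hpn
      push_cast at this
      exact sub_eq_zero.1 this
    have h3 := pow_gcd_eq_one.2 ⟨h1, h2⟩
    rw [(Nat.Coprime.pow_right n hcop).gcd_eq_one, pow_one] at h3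
    have h4 : ((i - 1 : ℤ) : ZMod (p ^ n)) = 0 := by push_cast; rw [h3, sub_self]
    rw [ZMod.intCast_zmod_eq_zero_iff_dvd, ← hn, orderOf_dvd_sub_iff_zpow_eq_zpow, zpow_one] at h4
    exact h4
  refine mem_centralizer_iff.2 fun x hx => ?_
  obtain ⟨j, rfl⟩ := hgen x hx
  exact ((show Commute g q from (mul_inv_eq_iff_eq_mul.1 hfin).symm).zpow_left j).eq

/-- `[H, Q]` and `C_H(Q)` have coprime orders. -/
theorem coprime_commutator_centralizer {H Q : Subgroup X} [IsZGroup H]
    (hQH : Q ≤ normalizer (H : Set X)) (hcop : (Nat.card Q).Coprime (Nat.card H)) :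
    (Nat.card (⁅H, Q⁆ : Subgroup X)).Coprime (Nat.card (H ⊓ centralizer (Q : Set X) : Subgroup X)) := by
  classical
  refine Nat.coprime_of_dvd fun p hp hD hC => ?_
  have := Fact.mk hp
  set C := H ⊓ centralizer (Q : Set X) with hCdef
  set D := ⁅H, Q⁆ with hDdef
  have hsolv : Group.IsSolvable H := inferInstance
  have hDH : D ≤ H := le_normalizer_iff_commutator_le_left.1 hQH
  obtain ⟨⟨a, haC⟩, hao⟩ := exists_prime_orderOf_dvd_card' p hC
  rw [Subgroup.orderOf_mk] at hao
  obtain ⟨haH, haQ⟩ := mem_inf.1 haC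
  have hUA : Q ≤ normalizer (zpowers a : Set X) := by
    intro q hq
    refine centralizer_le_normalizer _ (mem_centralizer_iff.2 fun z hz => ?_)
    obtain ⟨k, rfl⟩ := mem_zpowers_iff.1 hz
    exact ((show Commute a q from ((mem_centralizer_iff.1 haQ) q hq).symm).zpow_left k).eq
  obtain ⟨S, hUS, hQS⟩ := Coprime.exists_le_invariant_sylow hQH hcop (Or.inr hsolv)
    (zpowers_le.2 haH) (IsPGroup.of_card (n := 1) (by rw [Nat.card_zpowers, hao, pow_one]) :
      IsPGroup p (zpowers a)) hUA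
  set P := (S : Subgroup H).map H.subtype with hPdef
  have hPp : IsPGroup p P := S.2.map _
  have : IsCyclic P := isCyclic_of_surjective
    ((S : Subgroup H).equivMapOfInjective H.subtype H.subtype_injective)
    (MulEquiv.surjective _)
  have hPQ : Q ≤ centralizer (P : Set X) := by
    intro q hq
    refine commute_of_fixed hPp (hQS hq) ?_ (hUS (mem_zpowers a))
      (fun h => by rw [h, orderOf_one] at hao; exact hp.one_lt.ne hao)
      (show Commute q a from (mem_centralizer_iff.1 haQ) q hq)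
    refine Nat.Coprime.coprime_dvd_left (Subgroup.orderOf_dvd_natCard _ hq) ?_
    exact hcop.coprime_dvd_right (hao ▸ Subgroup.orderOf_dvd_natCard _ haH)
  -- the Sylow subgroup of `D` is centralised
  have hDn : (D.subgroupOf H).Normal :=
    (normal_subgroupOf_iff_le_normalizer hDH).2 (normalizer_commutator_ge_left H Q)
  have hZD : IsZGroup D := IsZGroup.of_injective (Subgroup.inclusion_injective hDH)
  let ι : D →* H := Subgroup.inclusion hDH
  obtain ⟨T⟩ : Nonempty (Sylow p D) := inferInstance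
  obtain ⟨T', hT'⟩ := T.exists_comap_eq_of_injective (f := ι) (Subgroup.inclusion_injective hDH)
  obtain ⟨u, hu⟩ := MulAction.exists_smul_eq H T' S
  -- the conjugate of `T` by `u` is a Sylow subgroup of `D` inside `P`
  let c : D ≃* D := D.normalizerMonoidHom ⟨(u : X), normalizer_commutator_ge_left H Q u.2⟩
  set T1 : Sylow p D := T.mapSurjective (f := c.toMonoidHom) c.surjective with hT1
  have hT1P : ∀ x : D, x ∈ (T1 : Subgroup D) → (x : X) ∈ P := by
    intro x hx
    obtain ⟨y, hy, rfl⟩ := (hx : x ∈ (T : Subgroup D).map c.toMonoidHom)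
    have h1 : ι y ∈ (T' : Subgroup H) := by
      have h0 : y ∈ (T' : Subgroup H).comap ι := hT' ▸ hy
      exact h0
    have h2 : u * ι y * u⁻¹ ∈ (S : Subgroup H) := by
      rw [← hu, Sylow.coe_subgroup_smul]; exact ⟨_, h1, rfl⟩
    exact ⟨_, h2, rfl⟩
  have hfix : ∀ x : D, x ∈ (T1 : Subgroup D) → ∀ q ∈ Q, Commute q (x : X) := fun x hx q hq =>
    ((mem_centralizer_iff.1 (hPQ hq)) _ (hT1P x hx)).symm
  have hDQ : ⁅D, Q⁆ = D := Coprime.commutator_commutator_self hQH hcop (Or.inr hsolv)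
  have hDn' : ∀ q ∈ Q, q ∈ normalizer (D : Set X) := fun q hq => normalizer_commutator_ge_right H Q hq
  have hT1c : Nat.card (T1 : Subgroup D) = p ^ (Nat.card D).factorization p := T1.card_eq_multiplicity
  have hT1ne : (T1 : Subgroup D) ≠ ⊥ := T1.ne_bot_of_dvd_card hD
  by_cases hd : p ∣ Nat.card (_root_.commutator D)
  · -- the Sylow subgroup is central and in the derived group
    have hcopr := IsZGroup.coprime_commutator_index (G := D)
    have hT1le : (T1 : Subgroup D) ≤ _root_.commutator D := by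
      intro x hx
      obtain ⟨j, hj⟩ := IsPGroup.iff_orderOf.1 T1.2 ⟨x, hx⟩
      rw [Subgroup.orderOf_mk] at hj
      rw [← QuotientGroup.eq_one_iff, ← orderOf_eq_one_iff]
      refine Nat.eq_one_of_dvd_coprimes ?_ (hj ▸ orderOf_map_dvd (QuotientGroup.mk' _) x)
        (_root_.orderOf_dvd_natCard _)
      rw [← index_eq_card]
      refine Nat.Coprime.pow_left _ ?_
      exact hcopr.coprime_dvd_left hd
    have hcyc : IsCyclic (_root_.commutator D) := IsZGroup.isCyclic_commutator D
    have hT1n : (T1 : Subgroup D).Normal := by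
      have h1 : ((T1 : Subgroup D).subgroupOf (_root_.commutator D)).Characteristic :=
        Sylow.characteristic_of_normal (T1.subtype hT1le) (by
          have : IsMulCommutative (_root_.commutator D) := ⟨⟨fun a b => hcyc.commGroup.mul_comm a b⟩⟩
          infer_instance)
      have h2 := ConjAct.normal_of_characteristic_of_normal (H := _root_.commutator D)
        (K := (T1 : Subgroup D).subgroupOf (_root_.commutator D))
      rwa [subgroupOf_map_subtype, inf_eq_left.2 hT1le] at h2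
    have hcent : ∀ d : D, ∀ x ∈ (T1 : Subgroup D), d * x = x * d := by
      let R : Subgroup X := centralizer (((T1 : Subgroup D).map D.subtype : Subgroup X) : Set X)
      have hle : ⁅D, Q⁆ ≤ R := commutator_le.2 fun d hd' q hq => mem_centralizer_iff.2 fun w hw => by
        obtain ⟨x, hx, rfl⟩ := hw
        have e1 : q⁻¹ * (x : X) * q = x := by
          rw [mul_assoc, ← (hfix x hx q hq).eq, inv_mul_cancel_left]
        have hy : (⟨d, hd'⟩ : D)⁻¹ * x * (⟨d, hd'⟩ : D) ∈ (T1 : Subgroup D) := by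
          simpa using hT1n.conj_mem x hx (⟨d, hd'⟩ : D)⁻¹
        have e2 : q * (d⁻¹ * (x : X) * d) * q⁻¹ = d⁻¹ * x * d := by
          have h0 : q * (d⁻¹ * (x : X) * d) = d⁻¹ * x * d * q := (hfix _ hy q hq).eq
          rw [h0, mul_inv_cancel_right]
        have e3 : ⁅d, q⁆⁻¹ * (x : X) * ⁅d, q⁆ = x := by
          rw [commutatorElement_def]
          calc (d * q * d⁻¹ * q⁻¹)⁻¹ * (x : X) * (d * q * d⁻¹ * q⁻¹)
              = q * d * (q⁻¹ * (d⁻¹ * (x : X) * d) * q) * d⁻¹ * q⁻¹ := by group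
            _ = q * d * (d⁻¹ * (x : X) * d) * d⁻¹ * q⁻¹ := by
                congr 3
                calc q⁻¹ * (d⁻¹ * (x : X) * d) * q = q⁻¹ * (q * (d⁻¹ * (x : X) * d) * q⁻¹) * q := by
                      rw [e2]
                  _ = _ := by group
            _ = q * x * q⁻¹ := by group
            _ = x := by rw [(hfix x hx q hq).eq, mul_inv_cancel_right]
        calc (D.subtype x) * ⁅d, q⁆ = ⁅d, q⁆ * (⁅d, q⁆⁻¹ * (x : X) * ⁅d, q⁆) := by
              rw [Subgroup.coe_subtype]; group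
          _ = ⁅d, q⁆ * D.subtype x := by rw [e3, Subgroup.coe_subtype]
      intro d x hx
      have hd' := hle (hDQ.symm ▸ d.2 : (d : X) ∈ ⁅D, Q⁆)
      exact Subtype.ext ((mem_centralizer_iff.1 hd') _ (mem_map_of_mem D.subtype hx)).symm
    have hle : (T1 : Subgroup D) ≤ center D := fun x hx =>
      mem_center_iff.2 fun d => hcent d x hx
    apply hT1ne
    have : IsMulCommutative (T1 : Subgroup D) :=
      ⟨⟨fun a b => Subtype.ext (hcent a b b.2)⟩⟩
    have h0 := Fusion.Abelian.inf_commutator_inf_center (T1 : Subgroup D) this T1.card_coprime_index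
    rwa [inf_eq_left.2 hT1le, inf_eq_left.2 hle] at h0
  · -- `D` would not be generated by commutators with `Q`
    let π : D →* Abelianization D := Abelianization.of
    have hπ : ∀ x : D, π x = 1 ↔ x ∈ _root_.commutator D := fun x => QuotientGroup.eq_one_iff x
    let k := ordCompl[p] (Nat.card (Abelianization D))
    let R0 : Subgroup D := ((powMonoidHom k).comp π).ker
    obtain ⟨x0, hx0, hx01⟩ : ∃ x ∈ (T1 : Subgroup D), x ≠ 1 := by
      by_contra h
      push Not at h
      exact hT1ne ((eq_bot_iff_forall _).2 h)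
    have hxR : x0 ∉ R0 := by
      intro h
      apply hx01
      obtain ⟨j, hj⟩ := IsPGroup.iff_orderOf.1 T1.2 ⟨x0, hx0⟩
      rw [Subgroup.orderOf_mk] at hj
      have hπ1 : π x0 = 1 := by
        rw [← orderOf_eq_one_iff]
        refine Nat.eq_one_of_dvd_coprimes ?_ (hj ▸ orderOf_map_dvd π x0)
          (orderOf_dvd_of_pow_eq_one (h : π x0 ^ k = 1))
        exact Nat.Coprime.pow_left _ ((Nat.coprime_ordCompl hp Nat.card_pos.ne'))
      rw [← orderOf_eq_one_iff]
      refine Nat.eq_one_of_dvd_coprimes ?_ (dvd_of_eq hj)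
        (Subgroup.orderOf_dvd_natCard _ ((hπ x0).1 hπ1))
      exact Nat.Coprime.pow_left _ ((hp.coprime_iff_not_dvd).2 hd)
    refine hxR ?_
    suffices hle : ⁅D, Q⁆ ≤ R0.map D.subtype by
      obtain ⟨y, hy, e⟩ := hle (hDQ.symm ▸ x0.2 : (x0 : X) ∈ ⁅D, Q⁆)
      exact Subtype.ext e ▸ hy
    refine commutator_le.2 fun d hd' q hq => ?_
    let σ : D ≃* D := D.normalizerMonoidHom ⟨q, hDn' q hq⟩
    refine ⟨⟨d, hd'⟩ * (σ ⟨d, hd'⟩)⁻¹, ?_, ?_⟩
    · show (π (⟨d, hd'⟩ * (σ ⟨d, hd'⟩)⁻¹)) ^ k = 1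
      rw [map_mul, map_inv, mul_pow, inv_pow, mul_inv_eq_one, ← map_pow, ← map_pow]
      -- the `k`-th power is a `p`-element, lying in the image of the fixed Sylow subgroup
      have hImg : π ((⟨d, hd'⟩ : D) ^ k) ∈ (T1 : Subgroup D).map π := by
        let TA : Sylow p (Abelianization D) :=
          T1.mapSurjective (f := π) QuotientGroup.mk_surjective
        have hzp : IsPGroup p (zpowers (π ((⟨d, hd'⟩ : D) ^ k))) := by
          refine IsPGroup.of_card_dvd_pow (n := (Nat.card (Abelianization D)).factorization p) ?_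
          rw [Nat.card_zpowers, map_pow]
          refine orderOf_dvd_of_pow_eq_one ?_
          rw [← pow_mul, mul_comm, Nat.ordProj_mul_ordCompl_eq_self, pow_card_eq_one']
        exact (hzp.le_sylow_of_normal TA) (mem_zpowers _)
      obtain ⟨w, hw, hwe⟩ := hImg
      have hσw : σ w = w := Subtype.ext (by
        show q * (w : X) * q⁻¹ = w
        rw [(hfix w hw q hq).eq, mul_inv_cancel_right])
      have hmem : w⁻¹ * (⟨d, hd'⟩ : D) ^ k ∈ _root_.commutator D :=
        (hπ _).1 (by rw [map_mul, map_inv, hwe, inv_mul_cancel])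
      have h2 : σ (w⁻¹ * (⟨d, hd'⟩ : D) ^ k) ∈ _root_.commutator D :=
        (characteristic_iff_map_le.1 inferInstance σ) (mem_map_of_mem σ.toMonoidHom hmem)
      have h3 := (hπ _).2 h2
      rw [map_mul σ, map_inv σ, hσw, map_mul, map_inv, hwe, inv_mul_eq_one] at h3
      rw [map_pow σ] at h3
      exact h3
    · simp [σ, commutatorElement_def, mul_assoc]

end CfsgLib.PGroup.CoprimeZGroup
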