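import Cfsg.Agent.Lib.PGroup.TrivialCores
import Mathlib

/-!
Even permutation groups on at most eight points: elements of order seven, and the groups of degree at most
eight with trivial cores.
-/

set_option autoImplicit false
set_option linter.style.haveILetI false

namespace CfsgLib.PGroup.DegreeSeven

open Subgroup Equiv CfsgLib.PGroup.TrivialCores

variable {X : Type*} [Fintype X] [DecidableEq X]

theorem isCycle_seven {c : Perm X} (hc : orderOf c = 7) (hX : Fintype.card X ≤ 8) :
    c.IsCycle ∧ c.support.card = 7 := by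
  obtain ⟨n, hn⟩ := Perm.cycleType_prime_order (σ := c) (by rw [hc]; norm_num)
  have hsum := c.sum_cycleType
  rw [hn, hc, Multiset.sum_replicate, smul_eq_mul] at hsum
  have := c.support.card_le_univ
  obtain rfl : n = 0 := by omega
  exact ⟨Perm.card_cycleType_eq_one.mp (by rw [hn, Multiset.card_replicate]), hsum.symm⟩

theorem apply_mem_support_of_normalizing {c g : Perm X} {j : ℕ} (hcg : g * c * g⁻¹ = c ^ j) {x : X}
    (hx : g x ∉ c.support) : c x = x := by
  rw [Perm.notMem_support] at hx
  have h1 : ∀ n : ℕ, (c ^ n) (g x) = g x := fun n => Perm.pow_apply_eq_self_of_apply_eq_self hx n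
  have h2 : g (c x) = g x := by
    have h3 : g * c = c ^ j * g := mul_inv_eq_iff_eq_mul.mp hcg
    have h4 := congrArg (fun f : Perm X => f x) h3
    simp only [Perm.mul_apply] at h4
    rw [h4, h1 j]
  exact g.injective h2

/-- Only powers of a seven-cycle commute with it, on at most eight points. -/
theorem card_commuting_le {c : Perm X} (hc : orderOf c = 7) (hX : Fintype.card X ≤ 8) {H : Subgroup (Perm X)}
    (hH : ∀ g ∈ H, Commute g c) : Nat.card H ≤ 7 := by
  obtain ⟨hcy, hcard⟩ := isCycle_seven hc hX
  obtain ⟨x0, hx0⟩ := Finset.card_pos.mp (by rw [hcard]; norm_num : 0 < c.support.card)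
  have hmem : ∀ g : H, (g : Perm X) x0 ∈ c.support := by
    intro g
    by_contra hn
    exact Perm.mem_support.mp hx0 (apply_mem_support_of_normalizing (j := 1)
      (by rw [pow_one, (hH g g.2).eq, mul_inv_cancel_right]) hn)
  have hle := Nat.card_le_card_of_injective (fun g : H => (⟨(g : Perm X) x0, hmem g⟩ : c.support)) fun g g' h => by
    have h0 : (g : Perm X) x0 = (g' : Perm X) x0 := congrArg Subtype.val h
    refine Subtype.ext (Equiv.ext fun y => ?_)
    by_cases hy : y ∈ c.support
    · obtain ⟨i, rfl⟩ := hcy.exists_pow_eq (Perm.mem_support.mp hx0) (Perm.mem_support.mp hy)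
      have e1 := congrArg (fun f : Perm X => f x0) ((hH g g.2).pow_right i).eq
      have e2 := congrArg (fun f : Perm X => f x0) ((hH g' g'.2).pow_right i).eq
      simp only [Perm.mul_apply] at e1 e2
      rw [e1, e2, h0]
    · -- outside the cycle there is at most one point
      have hcompl : (c.supportᶜ).card ≤ 1 := by rw [Finset.card_compl, hcard]; omega
      have hout : ∀ f ∈ H, f y ∈ c.supportᶜ := fun f hf => by
        rw [Finset.mem_compl]
        intro hfy
        rw [Perm.mem_support] at hfy
        have e1 := congrArg (fun q : Perm X => q y) (hH f hf).eq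
        simp only [Perm.mul_apply] at e1
        exact hfy (by rw [← e1, Perm.notMem_support.mp hy])
      exact Finset.card_le_one.mp hcompl _ (hout g g.2) _ (hout g' g'.2)
  rw [Nat.card_eq_fintype_card (α := c.support), Fintype.card_coe, hcard] at hle
  exact hle

/-- An involution inverting a seven-cycle is odd. -/
theorem sign_inverting {c u : Perm X} (hc : orderOf c = 7) (hX : Fintype.card X ≤ 8) (hu : orderOf u = 2)
    (hinv : u * c * u⁻¹ = c⁻¹) : Perm.sign u = -1 := by
  obtain ⟨hcy, hcard⟩ := isCycle_seven hc hX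
  have hj : u * c * u⁻¹ = c ^ 6 := by
    rw [hinv, inv_eq_iff_mul_eq_one, ← pow_succ', show 6 + 1 = 7 by rfl, ← hc, pow_orderOf_eq_one]
  have huu : ∀ y, u (u y) = y := fun y => by
    rw [← Perm.mul_apply, ← sq, ← hu, pow_orderOf_eq_one, Perm.one_apply]
  have hS : ∀ y, u y ∈ c.support ↔ y ∈ c.support := by
    intro y
    constructor
    · intro h
      by_contra hy
      rw [Perm.mem_support] at h
      refine h (apply_mem_support_of_normalizing (g := u) (x := u y) hj ?_)
      rwa [huu]
    · intro h
      by_contra hy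
      exact Perm.mem_support.mp h (apply_mem_support_of_normalizing hj hy)
  -- a fixed point in the cycle
  obtain ⟨x0, hx0, hfix⟩ : ∃ x0 ∈ c.support, u x0 = x0 := by
    by_contra hno
    push Not at hno
    have hsub : ∀ y, y ∈ c.support ↔ u y ∈ c.support := fun y => (hS y).symm
    let v := u.subtypePerm (p := fun y => y ∈ c.support) hS
    have hv : orderOf v ∣ 2 := orderOf_dvd_of_pow_eq_one (Equiv.ext fun y => Subtype.ext (by
      rw [pow_two]; exact huu y))
    have hP : IsPGroup 2 (zpowers v) := by
      rcases (Nat.dvd_prime Nat.prime_two).mp hv with h | h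
      · exact IsPGroup.of_card (n := 0) (by rw [Nat.card_zpowers, h, pow_zero])
      · exact IsPGroup.of_card (n := 1) (by rw [Nat.card_zpowers, h, pow_one])
    obtain ⟨⟨y, hy⟩, hyf⟩ := hP.nonempty_fixed_point_of_prime_not_dvd_card (c.support)
      (by rw [Nat.card_eq_fintype_card, Fintype.card_coe, hcard]; norm_num)
    exact hno y hy (congrArg Subtype.val (hyf ⟨v, mem_zpowers v⟩ :))
  have hsupp : u.support = c.support.erase x0 := by
    ext y
    rw [Perm.mem_support, Finset.mem_erase]
    constructor
    · intro hy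
      refine ⟨fun h => hy (h ▸ hfix), ?_⟩
      by_contra hys
      have hcompl : (c.supportᶜ).card ≤ 1 := by rw [Finset.card_compl, hcard]; omega
      exact hy (Finset.card_le_one.mp hcompl _ (Finset.mem_compl.mpr (fun h => hys ((hS y).mp h))) _
        (Finset.mem_compl.mpr hys))
    · rintro ⟨hne, hys⟩ hy
      obtain ⟨i, rfl⟩ := hcy.exists_pow_eq (Perm.mem_support.mp hx0) (Perm.mem_support.mp hys)
      have e0 : u * c ^ i = c⁻¹ ^ i * u := by
        rw [← mul_inv_eq_iff_eq_mul, ← conj_pow, hinv]
      have e1 := congrArg (fun q : Perm X => q x0) e0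
      simp only [Perm.mul_apply, hfix] at e1
      rw [hy, inv_pow] at e1
      have e2 : (c ^ (i + i)) x0 = x0 := by
        rw [pow_add, Perm.mul_apply]
        exact (congrArg (c ^ i) e1).trans (Equiv.apply_symm_apply _ _)
      have e3 : c ^ (i + i) = 1 := hcy.pow_eq_one_iff.mpr ⟨x0, Perm.mem_support.mp hx0, e2⟩
      have e4 := orderOf_dvd_of_pow_eq_one e3
      rw [hc] at e4
      have e5 : 7 ∣ i := by omega
      obtain ⟨l, rfl⟩ := e5
      exact hne (by rw [pow_mul, ← hc, pow_orderOf_eq_one, one_pow, Perm.one_apply])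
  obtain ⟨n, hn⟩ := Perm.cycleType_prime_order (σ := u) (by rw [hu]; norm_num)
  have hsum := u.sum_cycleType
  rw [hn, hu, Multiset.sum_replicate, smul_eq_mul, hsupp, Finset.card_erase_of_mem hx0, hcard] at hsum
  obtain rfl : n = 2 := by omega
  rw [Perm.sign_of_cycleType, hn, hu, Multiset.sum_replicate, Multiset.card_replicate]
  decide

/-- The normaliser of a Sylow 7-subgroup in an even group on at most eight points. -/
theorem card_normalizer {K : Subgroup (Perm X)} (hK : K ≤ alternatingGroup X) (hX : Fintype.card X ≤ 8)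
    (P : Sylow 7 K) [Fact (Nat.Prime 7)] (hP : Nat.card P = 7) :
    Nat.card (normalizer ((P : Subgroup K) : Set K)) = 7 ∨ Nat.card (normalizer ((P : Subgroup K) : Set K)) = 21 := by
  haveI : IsCyclic (P : Subgroup K) := isCyclic_of_prime_card (p := 7) hP
  obtain ⟨c0, hc0⟩ := IsCyclic.exists_generator (α := (P : Subgroup K))
  set c : Perm X := ((c0 : K) : Perm X)
  have hc0ord : orderOf c0 = 7 := by
    rw [orderOf_eq_card_of_forall_mem_zpowers hc0]; exact hP
  have hc : orderOf c = 7 := by rw [Subgroup.orderOf_coe, Subgroup.orderOf_coe, hc0ord]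
  set N := normalizer ((P : Subgroup K) : Set K)
  set C := centralizer ((P : Subgroup K) : Set K)
  have hPN : (P : Subgroup K) ≤ N := Subgroup.le_normalizer
  have hPC : (P : Subgroup K) ≤ C := Subgroup.le_centralizer (P : Subgroup K)
  have hC : Nat.card C = 7 := by
    refine le_antisymm ?_ (hP.symm.le.trans (card_le_of_le hPC))
    rw [← Subgroup.card_map_of_injective K.subtype_injective]
    refine card_commuting_le hc hX ?_
    rintro _ ⟨g, hg, rfl⟩
    exact congrArg Subtype.val (mem_centralizer_iff.mp hg (c0 : K) c0.2).symm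
  have hdvd : Nat.card N ∣ 42 := by
    let φ := (P : Subgroup K).normalizerMonoidHom
    have h1 := φ.ker.card_mul_index
    rw [Subgroup.index_ker, (P : Subgroup K).normalizerMonoidHom_ker,
      Nat.card_congr (subgroupOfEquivOfLe (centralizer_le_normalizer _)).toEquiv] at h1
    rw [← h1, hC, show 42 = 7 * 6 by rfl]
    refine mul_dvd_mul_left 7 ((card_subgroup_dvd_card _).trans ?_)
    rw [IsCyclic.card_mulAut, hP]
    decide
  have h7 : 7 ∣ Nat.card N := hP ▸ card_dvd_of_le hPN
  have h2 : ¬ 2 ∣ Nat.card N := by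
    intro h2
    haveI := Fact.mk Nat.prime_two
    obtain ⟨u0, hu0⟩ := exists_prime_orderOf_dvd_card' (G := N) 2 h2
    set u : Perm X := ((u0 : K) : Perm X)
    have hu : orderOf u = 2 := by rw [Subgroup.orderOf_coe, Subgroup.orderOf_coe, hu0]
    have hmem : (u0 : K) * c0 * (u0 : K)⁻¹ ∈ (P : Subgroup K) := (mem_normalizer_iff.mp u0.2 _).mp c0.2
    obtain ⟨j, hj⟩ := (Submonoid.mem_powers_iff _ _).mp (mem_powers_iff_mem_zpowers.mpr (hc0 ⟨_, hmem⟩))
    have hjc : u * c * u⁻¹ = c ^ j := by
      have := congrArg (fun q : (P : Subgroup K) => ((q : K) : Perm X)) hj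
      simpa using this.symm
    have hjj : c ^ (j * j) = c := by
      have h3 : u * (u * c * u⁻¹) * u⁻¹ = c := by
        have h4 : u * u = 1 := by rw [← sq, ← hu, pow_orderOf_eq_one]
        calc u * (u * c * u⁻¹) * u⁻¹ = (u * u) * c * (u * u)⁻¹ := by group
          _ = c := by rw [h4, one_mul, inv_one, mul_one]
      rw [hjc, ← conj_pow, hjc, ← pow_mul] at h3
      exact h3
    have hj7 : j % 7 = 1 ∨ j % 7 = 6 := by
      have h5 : (j * j) % 7 = 1 % 7 := by
        rw [← hc]
        exact (pow_eq_pow_iff_modEq (x := c)).mp (by rw [pow_one]; exact hjj)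
      have h6 := Nat.mod_lt j (show 7 > 0 by norm_num)
      rw [Nat.mul_mod] at h5
      interval_cases h7 : j % 7 <;> simp_all
    rcases hj7 with h | h
    · have hcm : c ^ j = c := by
        conv_rhs => rw [← pow_one c]
        exact pow_eq_pow_iff_modEq.mpr (by rw [hc]; exact h)
      have huC : (u0 : K) ∈ C := by
        rw [mem_centralizer_iff]
        intro x hx
        obtain ⟨i, hi⟩ := hc0 ⟨x, hx⟩
        have hcu : Commute (u0 : K) (c0 : K) := Subtype.ext (by
          show u * c = c * u
          rw [← mul_inv_eq_iff_eq_mul, hjc, hcm])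
        have hxi : x = (c0 : K) ^ i := (congrArg Subtype.val hi.symm :).trans (SubgroupClass.coe_zpow c0 i)
        rw [hxi]
        exact (hcu.zpow_right i).eq.symm
      have hd := orderOf_dvd_natCard (⟨(u0 : K), huC⟩ : C)
      rw [hC, ← Subgroup.orderOf_coe] at hd
      change orderOf (u0 : K) ∣ 7 at hd
      rw [Subgroup.orderOf_coe, hu0] at hd
      omega
    · have hinv : u * c * u⁻¹ = c⁻¹ := by
        rw [hjc, eq_inv_iff_mul_eq_one, ← pow_succ, ← orderOf_dvd_iff_pow_eq_one, hc]
        omega
      have hev : Perm.sign u = 1 := Perm.mem_alternatingGroup.mp (hK (u0 : K).2)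
      rw [sign_inverting hc hX hu hinv] at hev
      exact absurd hev (by decide)
  have := Nat.le_of_dvd (by norm_num) hdvd
  interval_cases h : Nat.card N <;> omega

theorem sylow_seven_card {K : Type*} [Group K] [Finite K] [Fact (Nat.Prime 7)] (h7 : 7 ∣ Nat.card K)
    (h49 : ¬ 49 ∣ Nat.card K) (P : Sylow 7 K) : Nat.card P = 7 := by
  obtain ⟨k, hk⟩ := IsPGroup.iff_card.mp P.isPGroup'
  have hd : Nat.card P ∣ Nat.card K := card_subgroup_dvd_card _
  have h1 := P.dvd_card_of_dvd_card h7
  rcases Nat.lt_or_ge k 2 with hlt | hge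
  · interval_cases k
    · rw [hk] at h1; norm_num at h1
    · simpa using hk
  · exact absurd ((pow_dvd_pow 7 hge).trans (hk ▸ hd)) h49

/-- Sylow 7 arithmetic. -/
theorem sylow_data {K : Subgroup (Perm X)} (hK : K ≤ alternatingGroup X) (hX : Fintype.card X ≤ 8)
    [Fact (Nat.Prime 7)] (h7 : 7 ∣ Nat.card K) (P : Sylow 7 K) :
    ∃ n N : ℕ, Nat.card P = 7 ∧ n % 7 = 1 ∧ (N = 7 ∨ N = 21) ∧ Nat.card K = N * n ∧
      Nat.card (normalizer ((P : Subgroup K) : Set K)) = N := by
  have h49 : ¬ 49 ∣ Nat.card K := fun h => by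
    have h1 : Nat.card K ∣ Nat.factorial 8 := by
      refine (card_subgroup_dvd_card K).trans ?_
      rw [Nat.card_perm, Nat.card_eq_fintype_card]
      exact Nat.factorial_dvd_factorial hX
    exact absurd (h.trans h1) (by decide)
  have hP := sylow_seven_card h7 h49 P
  have hmod := card_sylow_modEq_one 7 K
  refine ⟨Nat.card (Sylow 7 K), _, hP, hmod, card_normalizer hK hX P hP, ?_, rfl⟩
  rw [P.card_eq_index_normalizer]
  exact (Subgroup.card_mul_index _).symm

theorem eq_one_of_normal_sylow {K : Type*} [Group K] [Finite K] [Fact (Nat.Prime 7)] (h : Good K)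
    (h7 : 7 ∣ Nat.card K) (P : Sylow 7 K) (hn : Nat.card (Sylow 7 K) = 1) : False := by
  haveI := (Nat.card_eq_one_iff_unique.mp hn).1
  haveI : (P : Subgroup K).Normal := Sylow.normal_of_subsingleton P
  have := P.dvd_card_of_dvd_card h7
  rw [h.pGroup_eq_bot P.isPGroup', Subgroup.card_bot] at this
  omega

/-- Burnside: a self-normalising Sylow subgroup of prime order has a normal complement. -/
theorem exists_complement {K : Type*} [Group K] [Finite K] [Fact (Nat.Prime 7)] (P : Sylow 7 K) (hP : Nat.card P = 7)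
    (hN : Nat.card (normalizer ((P : Subgroup K) : Set K)) = 7) :
    ∃ M : Subgroup K, M.Normal ∧ Nat.card M * 7 = Nat.card K := by
  haveI : IsCyclic (P : Subgroup K) := isCyclic_of_prime_card (p := 7) hP
  have heq : (P : Subgroup K) = normalizer ((P : Subgroup K) : Set K) :=
    eq_of_le_of_card_ge Subgroup.le_normalizer (by rw [hN]; exact hP.ge)
  have hle : normalizer ((P : Subgroup K) : Set K) ≤ centralizer ((P : Subgroup K) : Set K) :=
    heq.symm.le.trans (Subgroup.le_centralizer (P : Subgroup K))
  refine ⟨(MonoidHom.transferSylow P hle).ker, inferInstance, ?_⟩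
  rw [← (MonoidHom.ker_transferSylow_isComplement' P hle).card_mul]
  exact congrArg (_ * ·) hP.symm

/-- A group with trivial cores, a Sylow normaliser of order 21 and order not divisible by nine is simple. -/
theorem isSimpleGroup_of {K : Type*} [Group K] [Finite K] [Fact (Nat.Prime 7)] (h : Good K) (P : Sylow 7 K)
    (hP : Nat.card P = 7) (hN : Nat.card (normalizer ((P : Subgroup K) : Set K)) = 21) (h9 : ¬ 9 ∣ Nat.card K)
    (hpf : (Nat.card K).primeFactors ⊆ {2, 3, 7}) : IsSimpleGroup K := by
  haveI : Nontrivial K := Finite.one_lt_card_iff_nontrivial.mp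
    (lt_of_le_of_ne (Nat.one_le_iff_ne_zero.mpr Nat.card_pos.ne') (Ne.symm h.ne_one))
  refine ⟨fun M hM => ?_⟩
  by_contra hcon
  push Not at hcon
  obtain ⟨hb, ht⟩ := hcon
  haveI := hM
  have hMG := h.normal hb
  have hMd : Nat.card M ∣ Nat.card K := card_subgroup_dvd_card M
  have hsub : (Nat.card M).primeFactors = {2, 3, 7} := by
    refine Finset.eq_of_subset_of_card_le ((Nat.primeFactors_mono hMd Nat.card_pos.ne').trans hpf) ?_
    exact le_trans (by rfl) hMG.three_primes
  have h3M : 3 ∣ Nat.card M := Nat.dvd_of_mem_primeFactors (by rw [hsub]; simp)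
  have h7M : 7 ∣ Nat.card M := Nat.dvd_of_mem_primeFactors (by rw [hsub]; simp)
  -- all elements of order 7 lie in `M`
  have hcop : ¬ 7 ∣ M.index := fun hd => by
    have h1 : 7 * 7 ∣ Nat.card K := by rw [← M.card_mul_index]; exact mul_dvd_mul h7M hd
    have h2 := P.card_eq_multiplicity
    rw [hP] at h2
    have h3 : 2 ≤ (Nat.card K).factorization 7 :=
      ((Fact.out : Nat.Prime 7).pow_dvd_iff_le_factorization Nat.card_pos.ne').mp (by rw [sq]; exact h1)
    have h4 : 7 ^ 2 ≤ 7 ^ (Nat.card K).factorization 7 := Nat.pow_le_pow_right (by norm_num) h3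
    omega
  have hPM : (P : Subgroup K) ≤ M := fun x hx => by
    rw [← QuotientGroup.eq_one_iff, ← orderOf_eq_one_iff]
    have hd1 : orderOf (x : K ⧸ M) ∣ 7 := by
      refine orderOf_dvd_of_pow_eq_one ?_
      rw [← QuotientGroup.mk_pow]
      have : x ^ 7 = 1 := by
        have := pow_card_eq_one' (x := (⟨x, hx⟩ : (P : Subgroup K)))
        rw [hP] at this
        exact congrArg Subtype.val this
      rw [this, QuotientGroup.mk_one]
    have hd2 : orderOf (x : K ⧸ M) ∣ M.index := orderOf_dvd_natCard _
    rcases (Nat.dvd_prime Fact.out).mp hd1 with h1 | h1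
    · exact h1
    · exact absurd (h1 ▸ hd2) hcop
  have hsup : normalizer ((P : Subgroup K) : Set K) ⊔ M = ⊤ := P.normalizer_sup_eq_top' hPM
  have hrel := Subgroup.relIndex_sup_right (H := normalizer ((P : Subgroup K) : Set K)) (K := M)
  rw [hsup, Subgroup.relIndex_top_right] at hrel
  have hd21 : M.index ∣ 21 := by
    rw [hrel, ← hN]
    exact M.relIndex_dvd_card _
  have h3 : ¬ 3 ∣ M.index := fun hd => h9 (by rw [← M.card_mul_index]; exact mul_dvd_mul h3M hd)
  have hne : M.index ≠ 1 := fun h1 => ht (index_eq_one.mp h1)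
  have := Nat.le_of_dvd (by norm_num) hd21
  interval_cases hi : M.index <;> omega

end CfsgLib.PGroup.DegreeSeven
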