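import Mathlib

/-!
# No strongly regular graph is a Cayley graph of a dihedral group of order `2 m`, `m` odd

Such a graph is given by two subsets `a`, `b` of the cyclic group `C` of order `m` (the rotations and the
reflections in the connection set).  In the group ring of `C`, with `Z = 2a - α`, the equations are
`Z b = μ C` and `Z² + 4 b b* = D + 4 μ C`.  Reduction modulo a prime `q ∣ m` and one character make `a`
(or its complement) invariant under the subgroup of order `q`, and then the parameters are impossible.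
-/

set_option autoImplicit false
set_option linter.unusedSectionVars false

open scoped Classical
open Finset

namespace CfsgLib.PGroup.DihedralSRG

variable {C : Type*} [CommGroup C] [Fintype C]

/-- The group ring. -/
local notation "R" => MonoidAlgebra ℤ C

/-- The element of the group ring attached to a subset. -/
noncomputable def el (K : Type*) [CommRing K] (s : Finset C) : MonoidAlgebra K C :=
  ∑ x ∈ s, MonoidAlgebra.of K C x

theorem coeff_el {K : Type*} [CommRing K] (s : Finset C) (x : C) :
    (el K s).coeff x = if x ∈ s then 1 else 0 := by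
  simp [el, MonoidAlgebra.of_apply, MonoidAlgebra.coeff_sum, Finsupp.single_apply]

theorem coeff_el_mul {K : Type*} [CommRing K] (s : Finset C) (Y : MonoidAlgebra K C) (x : C) :
    (el K s * Y).coeff x = ∑ y ∈ s, Y.coeff (y⁻¹ * x) := by
  simp [el, Finset.sum_mul, MonoidAlgebra.of_apply, MonoidAlgebra.coeff_sum]

theorem coeff_el_mul_el (s t : Finset C) (x : C) :
    (el ℤ s * el ℤ t).coeff x = (s.filter fun y => y⁻¹ * x ∈ t).card := by
  rw [coeff_el_mul]
  simp only [coeff_el, Finset.sum_boole]

theorem el_univ_mul (f : MonoidAlgebra ℤ C →+* ℤ) (hf : ∀ x, f (MonoidAlgebra.of ℤ C x) = 1)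
    (Y : MonoidAlgebra ℤ C) : el ℤ univ * Y = f Y • el ℤ univ := by
  induction Y using MonoidAlgebra.induction_on with
  | of x =>
    rw [hf, one_smul]
    simp only [el, Finset.sum_mul, ← map_mul]
    exact Fintype.sum_equiv (Equiv.mulRight x) _ _ fun _ => rfl
  | add Y Y' hY hY' => rw [mul_add, hY, hY', map_add, add_smul]
  | smul r Y hY => rw [mul_smul_comm, hY, map_zsmul, smul_assoc]

/-- A sum of distinct nontrivial `q`-th roots of unity is rational only if it is empty or full. -/
theorem roots_all_or_none {q : ℕ} (hq : q.Prime) {ζ : ℂ} (hζ : IsPrimitiveRoot ζ q) (I : Finset ℕ)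
    (hI : I ⊆ Finset.Ico 1 q) (r : ℤ) (hs : 2 * ∑ i ∈ I, ζ ^ i = (r : ℂ)) : I = ∅ ∨ I = Finset.Ico 1 q := by
  open Polynomial in
  haveI := Fact.mk hq
  let P : ℚ[X] := ∑ i ∈ I, C 2 * X ^ i - C (r : ℚ)
  have hP : aeval ζ P = 0 := by
    simp only [P, map_sub, map_sum, map_mul, map_pow, aeval_X, aeval_C, map_ofNat, map_intCast]
    rw [← Finset.mul_sum, hs, sub_self]
  have hdvd : cyclotomic q ℚ ∣ P := by
    rw [cyclotomic_eq_minpoly_rat hζ hq.pos]
    exact minpoly.dvd ℚ ζ hP
  have hdeg : P.natDegree ≤ q - 1 := by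
    refine (natDegree_sub_le _ _).trans (max_le (natDegree_sum_le_of_forall_le _ _ fun i hi => ?_) (by simp))
    exact (natDegree_C_mul_X_pow_le _ _).trans (by have := Finset.mem_Ico.1 (hI hi); omega)
  obtain ⟨Q, hQ⟩ := hdvd
  have hcc : ∃ c : ℚ, P = C c * cyclotomic q ℚ := by
    by_cases hP0 : P = 0
    · exact ⟨0, by simp [hP0]⟩
    · have hQ0 : Q ≠ 0 := fun h => hP0 (by rw [hQ, h, mul_zero])
      have h1 := natDegree_mul (cyclotomic_ne_zero q ℚ) hQ0
      rw [← hQ, natDegree_cyclotomic, Nat.totient_prime hq] at h1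
      obtain ⟨c, hc⟩ := natDegree_eq_zero.1 (show Q.natDegree = 0 by omega)
      exact ⟨c, by rw [hQ, ← hc, mul_comm]⟩
  obtain ⟨c, hc⟩ := hcc
  have hco : ∀ i ∈ Finset.Ico 1 q, (if i ∈ I then (2 : ℚ) else 0) = c := fun i hi => by
    rw [Finset.mem_Ico] at hi
    have h := congrArg (fun f => coeff f i) hc
    simpa [P, cyclotomic_prime, coeff_X_pow, hi.2, show i ≠ 0 by omega, coeff_C, -map_intCast] using h
  by_cases hc0 : c = 0
  · left
    refine Finset.eq_empty_of_forall_notMem fun i hi => ?_
    have := hco i (hI hi)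
    rw [if_pos hi, hc0] at this
    exact two_ne_zero this
  · right
    refine le_antisymm hI fun i hi => ?_
    by_contra h
    have := hco i hi
    rw [if_neg h] at this
    exact hc0 this.symm

theorem coeff_intCast_mul {K : Type*} [CommRing K] (n : ℤ) (Y : MonoidAlgebra K C) (x : C) :
    ((n : MonoidAlgebra K C) * Y).coeff x = (n : K) * Y.coeff x := by
  rw [← zsmul_eq_mul, MonoidAlgebra.coeff_smul, Finsupp.smul_apply, zsmul_eq_mul]

theorem coeff_one_apply {K : Type*} [CommRing K] (x : C) :
    (1 : MonoidAlgebra K C).coeff x = if x = 1 then 1 else 0 := by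
  rw [← map_one (MonoidAlgebra.of K C)]
  simp [MonoidAlgebra.of_apply, Finsupp.single_apply, eq_comm]

theorem coeff_intCast_apply {K : Type*} [CommRing K] (n : ℤ) (x : C) :
    (n : MonoidAlgebra K C).coeff x = (n : K) * if x = 1 then 1 else 0 := by
  rw [← mul_one (n : MonoidAlgebra K C), coeff_intCast_mul, coeff_one_apply]

theorem coeff_two_mul {K : Type*} [CommRing K] (Y : MonoidAlgebra K C) (x : C) :
    ((2 : MonoidAlgebra K C) * Y).coeff x = 2 * Y.coeff x := by
  rw [two_mul, two_mul, MonoidAlgebra.coeff_add, Finsupp.add_apply]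

theorem coeff_pow_mul {K : Type*} [CommRing K] (n : ℤ) (i : ℕ) (Y : MonoidAlgebra K C) (x : C) :
    ((n : MonoidAlgebra K C) ^ i * Y).coeff x = (n : K) ^ i * Y.coeff x := by
  induction i with
  | zero => rw [pow_zero, pow_zero, one_mul, one_mul]
  | succ i ih => rw [pow_succ', pow_succ', mul_assoc, coeff_intCast_mul, ih, mul_assoc]

/-- The final count. -/
theorem arithmetic {m n k μ d b : ℤ} (hm : Odd m) (hn : n = 2 * m) (hμ : 0 < μ) (hμ' : 2 * k < n + μ)
    (hd : 0 ≤ d) (hk : k = μ + d ^ 2) (hkk : k ^ 2 = d ^ 2 + μ * n) (hb : k = 2 * b + d ∨ k = 2 * b - d)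
    (hb1 : d ^ 2 ≤ b) (hb2 : b + d ^ 2 ≤ m) : False := by
  obtain ⟨w, rfl⟩ := hm
  subst hn hk
  have hd2 : 2 ≤ d := by
    by_contra h
    rcases (show d = 0 ∨ d = 1 by omega) with rfl | rfl
    · have : μ * μ = μ * (2 * (2 * w + 1)) := by linear_combination hkk
      have := mul_left_cancel₀ hμ.ne' this
      omega
    · have : μ * (μ + 2) = μ * (2 * (2 * w + 1)) := by linear_combination hkk
      have := mul_left_cancel₀ hμ.ne' this
      omega
  have h1 : d ^ 2 - d ≤ μ := by rcases hb with h | h <;> linarith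
  have hkey : μ * (2 * (2 * w + 1) - μ - 2 * d ^ 2) = d ^ 2 * (d ^ 2 - 1) := by linear_combination -hkk
  have h2 : μ ≤ d ^ 2 + d := by
    have h3 : d ^ 2 - d ≤ 2 * (2 * w + 1) - μ - 2 * d ^ 2 := by rcases hb with h | h <;> linarith
    have h4 : μ * (d ^ 2 - d) ≤ (d ^ 2 + d) * (d ^ 2 - d) := by
      calc μ * (d ^ 2 - d) ≤ μ * (2 * (2 * w + 1) - μ - 2 * d ^ 2) := mul_le_mul_of_nonneg_left h3 hμ.le
        _ = _ := by rw [hkey]; ring
    exact le_of_mul_le_mul_right h4 (by nlinarith)
  set j := μ - d ^ 2 with hj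
  have hμj : μ = d ^ 2 + j := by rw [hj]; ring
  set N := 2 * (2 * w + 1)
  have hjj : μ * (N - μ - 2 * d ^ 2 - (μ - 2 * j - 1)) = j * (j + 1) := by
    linear_combination hkey + (2 * j + 1 - d ^ 2 - μ) * hμj + hμj * 0
  set M := N - μ - 2 * d ^ 2 - (μ - 2 * j - 1) with hM
  by_cases hM0 : M = 0
  · rw [hM0, mul_zero] at hjj
    rcases mul_eq_zero.1 hjj.symm with h | h
    · rw [hμj, h] at hM; omega
    · rw [hμj, show j = -1 by omega] at hM; omega
  · have h0 : j * (j + 1) ≠ 0 := fun h => hM0 ((mul_eq_zero.1 (hjj.trans h)).resolve_left hμ.ne')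
    have hjpos : j ≥ 1 ∨ j ≤ -2 := by
      by_contra h
      rcases (show j = 0 ∨ j = -1 by omega) with h' | h' <;> simp [h'] at h0
    have hnn : 0 < j * (j + 1) := by rcases hjpos with h | h <;> nlinarith
    have hM1 : 1 ≤ M := by
      by_contra h
      have : μ * M ≤ 0 := mul_nonpos_of_nonneg_of_nonpos hμ.le (by omega)
      omega
    have hle : μ ≤ j * (j + 1) := by nlinarith
    have hdn : (j = d ∨ j = -d) := by
      rcases hjpos with h | h
      · left
        have : j ≤ d := by linarith
        nlinarith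
      · right
        have : -d ≤ j := by linarith
        nlinarith
    have hMone : M = 1 := by
      rcases hdn with h | h
      · have : μ = j * (j + 1) := by rw [hμj, h]; ring
        exact mul_left_cancel₀ hμ.ne' (by rw [hjj, ← this, mul_one])
      · have : μ = j * (j + 1) := by rw [hμj, h]; ring
        exact mul_left_cancel₀ hμ.ne' (by rw [hjj, ← this, mul_one])
    have h4 : N = 4 * d ^ 2 := by rw [hMone, hμj] at hM; omega
    omega

/-- No strongly regular Cayley graph on a dihedral group of twice odd order. -/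
theorem no_srg [IsCyclic C] (hodd : Odd (Fintype.card C)) (h1 : 1 < Fintype.card C) (a b : Finset C) (l μ : ℕ)
    (ha1 : (1 : C) ∉ a) (hinv : ∀ x ∈ a, x⁻¹ ∈ a) (hμ : 0 < μ) (hμk : μ < a.card + b.card)
    (hμ' : 2 * (a.card + b.card) < 2 * Fintype.card C + l)
    (E1 : ∀ x : C, x ≠ 1 → (a.filter fun y => y⁻¹ * x ∈ a).card + (b.filter fun y => x⁻¹ * y ∈ b).card =
      if x ∈ a then l else μ)
    (E2 : ∀ x : C, (a.filter fun y => y⁻¹ * x ∈ b).card + (b.filter fun y => y⁻¹ * x ∈ a).card =
      if x ∈ b then l else μ) : False := by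
  set m := Fintype.card C with hm
  let b' := b.image (·⁻¹)
  set α : ℤ := (l : ℤ) - μ with hα
  set β : ℤ := ((a.card : ℤ) + b.card) - μ with hβ
  set A := el ℤ a with hA
  set B := el ℤ b with hB
  set B' := el ℤ b' with hB'
  set J := el ℤ (univ : Finset C) with hJ
  have hb'c : b'.card = b.card := card_image_of_injective _ inv_injective
  have hfb : ∀ x, (b.filter fun y => y⁻¹ * x ∈ b') = b.filter fun y => x⁻¹ * y ∈ b := fun x => by
    refine Finset.filter_congr fun y _ => ?_
    constructor
    · intro h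
      obtain ⟨z, hz, hzy⟩ := mem_image.1 h
      have : z = x⁻¹ * y := by rw [← inv_inv z, hzy, mul_inv_rev, inv_inv]
      exact this ▸ hz
    · exact fun h => mem_image.2 ⟨_, h, by rw [mul_inv_rev, inv_inv]⟩
  have hone : (1 : R) = MonoidAlgebra.of ℤ C 1 := (map_one _).symm
  have hc1 : ∀ x : C, (1 : R).coeff x = if x = 1 then 1 else 0 := fun x => by
    rw [hone]; simp [MonoidAlgebra.of_apply, Finsupp.single_apply, eq_comm]
  have H1 : A * A + B * B' = β • (1 : R) + α • A + (μ : ℤ) • J := by
    apply MonoidAlgebra.ext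
    ext x
    rw [MonoidAlgebra.coeff_add, Finsupp.add_apply, hA, hB, hB', coeff_el_mul_el, coeff_el_mul_el, hfb]
    simp only [MonoidAlgebra.coeff_add, Finsupp.add_apply, MonoidAlgebra.coeff_smul, Finsupp.smul_apply,
      smul_eq_mul, hc1, hJ, coeff_el, Finset.mem_univ, if_true]
    by_cases hx : x = 1
    · subst hx
      rw [if_neg ha1, if_pos rfl, Finset.filter_true_of_mem (fun y hy => by simpa using hinv y hy),
        Finset.filter_true_of_mem (fun y hy => by simpa using hy)]
      rw [hβ]; ring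
    · have := E1 x hx
      rw [if_neg hx]
      by_cases hxa : x ∈ a
      · rw [if_pos hxa] at this ⊢; rw [hα]; omega
      · rw [if_neg hxa] at this ⊢; omega
  have H2 : 2 * A * B = α • B + (μ : ℤ) • J := by
    rw [two_mul, add_mul]
    apply MonoidAlgebra.ext
    ext x
    rw [MonoidAlgebra.coeff_add, Finsupp.add_apply]
    nth_rewrite 2 [mul_comm]
    rw [hA, hB, coeff_el_mul_el, coeff_el_mul_el]
    simp only [MonoidAlgebra.coeff_add, Finsupp.add_apply, MonoidAlgebra.coeff_smul, Finsupp.smul_apply,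
      smul_eq_mul, hJ, coeff_el, Finset.mem_univ, if_true]
    have := E2 x
    by_cases hxb : x ∈ b
    · rw [if_pos hxb] at this ⊢; rw [hα]; omega
    · rw [if_neg hxb] at this ⊢; omega
  -- augmentation
  let ε : R →+* ℤ := (MonoidAlgebra.lift ℤ ℤ C (1 : C →* ℤ)).toRingHom
  have hε : ∀ x, ε (MonoidAlgebra.of ℤ C x) = 1 := fun x => by simp [ε]
  have hεel : ∀ s : Finset C, ε (el ℤ s) = (s.card : ℤ) := fun s => by simp only [el, map_sum, hε]; simp
  set a0 : ℤ := (a.card : ℤ) with ha0
  set b0 : ℤ := (b.card : ℤ) with hb0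
  have e1 : a0 * a0 + b0 * b0 = β + α * a0 + μ * m := by
    have := congrArg ε H1
    simp only [map_add, map_mul, map_zsmul, map_one, hA, hB, hB', hJ, hεel, hb'c, smul_eq_mul, mul_one,
      card_univ] at this
    exact this
  have e2 : 2 * a0 * b0 = α * b0 + μ * m := by
    have := congrArg ε H2
    simp only [map_add, map_mul, map_zsmul, map_ofNat, hA, hB, hJ, hεel, smul_eq_mul, card_univ] at this
    exact this
  set Z : R := 2 * A - (α : R) with hZ
  set D : ℤ := α ^ 2 + 4 * β with hD
  set δ : ℤ := 2 * (a0 - b0) - α with hδ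
  have hδD : δ ^ 2 = D := by rw [hδ, hD]; linear_combination 4 * e1 - 4 * e2
  have hZB : Z * B = (μ : R) * J := by
    rw [hZ]
    simp only [zsmul_eq_mul] at H2
    linear_combination H2
  have hS : Z * Z + 4 * (B * B') = (D : R) + 4 * (μ : R) * J := by
    rw [hZ, hD]
    simp only [zsmul_eq_mul, mul_one] at H1
    push_cast
    linear_combination 4 * H1
  have hJmul : ∀ Y : R, J * Y = (ε Y : R) * J := fun Y => by
    rw [hJ, el_univ_mul ε hε, zsmul_eq_mul]
  have hZ3 : ∃ c : ℤ, Z * Z * Z = (D : R) * Z + (c : R) * J := by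
    refine ⟨4 * μ * ε Z - 4 * μ * ε B', ?_⟩
    push_cast
    linear_combination Z * hS - 4 * B' * hZB + 4 * (μ : R) * hJmul Z - 4 * (μ : R) * hJmul B'
  obtain ⟨c₃, hZ3⟩ := hZ3
  -- a prime dividing the order
  set q := m.minFac with hqdef
  have hq : q.Prime := Nat.minFac_prime (by omega)
  have hqm : q ∣ m := Nat.minFac_dvd m
  have hq2 : q ≠ 2 := fun h => by
    obtain ⟨w, hw⟩ := hodd
    obtain ⟨v, hv⟩ := h ▸ hqm
    omega
  obtain ⟨h, hh⟩ := hq.odd_of_ne_two hq2
  have hZq : ∀ i : ℕ, ∃ c : ℤ, Z ^ (2 * i + 1) = (D : R) ^ i * Z + (c : R) * J := by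
    intro i
    induction i with
    | zero => exact ⟨0, by simp⟩
    | succ i ih =>
      obtain ⟨c, hc⟩ := ih
      refine ⟨D ^ i * c₃ + c * ε (Z * Z), ?_⟩
      rw [show 2 * (i + 1) + 1 = 2 * i + 1 + 2 by ring, pow_add, hc]
      push_cast
      linear_combination (D : R) ^ i * hZ3 + (c : R) * hJmul (Z * Z)
  obtain ⟨g, hg⟩ := IsCyclic.exists_generator (α := C)
  have hgo : orderOf g = m := by rw [orderOf_eq_card_of_forall_mem_zpowers hg, Nat.card_eq_fintype_card]
  set h₀ := g ^ (m / q) with hh₀
  have hh₀o : orderOf h₀ = q := by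
    rw [hh₀, orderOf_pow_of_dvd (Nat.div_pos (Nat.le_of_dvd (by omega) hqm) hq.pos).ne'
      (by rw [hgo]; exact Nat.div_dvd_of_dvd hqm), hgo, Nat.div_div_self hqm (by omega)]
  have hh₀q : h₀ ^ q = 1 := hh₀o ▸ pow_orderOf_eq_one h₀
  have hgen : ∀ x : C, ∃ i : ℕ, x = g ^ i := fun x => by
    obtain ⟨i, hi⟩ := mem_powers_iff_mem_zpowers.2 (hg x)
    exact ⟨i, hi.symm⟩
  have hker : ∀ x : C, x ^ q = 1 → ∃ i, i < q ∧ x = h₀ ^ i := fun x hx => by
    obtain ⟨i, rfl⟩ := hgen x
    rw [← pow_mul, ← orderOf_dvd_iff_pow_eq_one, hgo] at hx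
    obtain ⟨v, hv⟩ : m / q ∣ i := by
      rw [← Nat.mul_dvd_mul_iff_right hq.pos, Nat.div_mul_cancel hqm]; exact hx
    exact ⟨v % q, Nat.mod_lt _ hq.pos, by rw [hv, pow_mul, ← hh₀, ← hh₀o, pow_mod_orderOf]⟩
  -- reduction modulo q
  haveI := Fact.mk hq
  let Φ : R →+* (MonoidAlgebra (ZMod q) C) := (MonoidAlgebra.lift ℤ (MonoidAlgebra (ZMod q) C) C (MonoidAlgebra.of (ZMod q) C)).toRingHom
  have hΦel : ∀ s : Finset C, Φ (el ℤ s) = el (ZMod q) s := fun s => by simp [Φ, el, map_sum]
  haveI : CharP (MonoidAlgebra (ZMod q) C) q := charP_of_injective_algebraMap (algebraMap (ZMod q) (MonoidAlgebra (ZMod q) C)).injective q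
  have hfrob : ∀ s : Finset C, (el (ZMod q) s) ^ q = ∑ x ∈ s, MonoidAlgebra.of (ZMod q) C (x ^ q) := fun s => by
    rw [← frobenius_def, el, map_sum]
    exact Finset.sum_congr rfl fun x _ => by rw [frobenius_def, map_pow]
  obtain ⟨cq, hcq⟩ := hZq h
  have hmodq : ∀ x : C, (2 : ZMod q) * ((a.filter fun y => y ^ q = x).card : ZMod q) - (α : ZMod q) * (if x = 1 then 1 else 0) =
      (D : ZMod q) ^ h * (2 * (if x ∈ a then 1 else 0) - (α : ZMod q) * (if x = 1 then 1 else 0)) + cq := by
    intro x
    have := congrArg Φ hcq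
    rw [← hh, map_pow, hZ, map_sub, map_mul, map_ofNat, map_intCast, map_add, map_mul, map_pow, map_intCast,
      map_mul, map_intCast, map_sub, map_mul, map_ofNat, map_intCast, hA, hJ, hΦel, hΦel,
      sub_pow_char, mul_pow, hfrob] at this
    have e2q : (2 : (MonoidAlgebra (ZMod q) C)) ^ q = 2 := by
      rw [← map_ofNat (algebraMap (ZMod q) (MonoidAlgebra (ZMod q) C)) 2, ← map_pow, ZMod.pow_card]
    have eαq : ((α : (MonoidAlgebra (ZMod q) C))) ^ q = α := by
      rw [← map_intCast (algebraMap (ZMod q) (MonoidAlgebra (ZMod q) C)) α, ← map_pow, ZMod.pow_card]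
    rw [e2q, eαq] at this
    have h' := congrArg (fun Y : (MonoidAlgebra (ZMod q) C) => Y.coeff x) this
    simp only [MonoidAlgebra.coeff_sub, MonoidAlgebra.coeff_add, Finsupp.sub_apply, Finsupp.add_apply,
      coeff_intCast_mul, coeff_intCast_apply, coeff_two_mul, coeff_pow_mul, coeff_el, Finset.mem_univ, if_true, MonoidAlgebra.coeff_sum,
      MonoidAlgebra.of_apply, MonoidAlgebra.coeff_single, Finsupp.coe_finset_sum, Finset.sum_apply,
      Finsupp.single_apply, Finset.sum_boole, mul_one] at h'
    exact h'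
  set r := m / q with hr
  have hrm : r * q = m := Nat.div_mul_cancel hqm
  have hnoroot : ∀ x : C, x ^ r ≠ 1 → ∀ y : C, y ^ q ≠ x := fun x hx y hy => hx (by
    rw [← hy, ← pow_mul, mul_comm, hrm]
    exact pow_card_eq_one)
  have hgr : g ^ r ≠ 1 := fun e => by
    rw [← hh₀] at e
    rw [e, orderOf_one] at hh₀o
    exact hq.one_lt.ne hh₀o
  have hZε : ε Z = 2 * a0 - α := by
    rw [hZ, map_sub, map_mul, map_ofNat, map_intCast, hA, hεel]; rfl
  have hεB : ε B = b0 := by rw [hB, hεel]
  have hεB' : ε B' = b0 := by rw [hB', hεel, hb'c]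
  have hεJ : ε J = m := by rw [hJ, hεel, card_univ]
  have hb0m : b0 ≤ m := by rw [hb0]; exact_mod_cast card_le_univ b
  by_cases hDq : (D : ZMod q) = 0
  swap
  · -- `a` is constant outside the subgroup of index `q`
    have hconst : ∀ x y : C, x ^ r ≠ 1 → y ^ r ≠ 1 → (x ∈ a ↔ y ∈ a) := by
      intro x y hx hy
      have key : ∀ z : C, z ^ r ≠ 1 → 0 = (D : ZMod q) ^ h * (2 * (if z ∈ a then 1 else 0)) + cq := fun z hz => by
        have h' := hmodq z
        rw [Finset.filter_false_of_mem (fun w _ => hnoroot z hz w), Finset.card_empty, Nat.cast_zero,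
          if_neg (fun e : z = 1 => hz (by rw [e, one_pow]))] at h'
        simpa using h'
      have h2q : (2 : ZMod q) ≠ 0 := fun e => hq2 ((Nat.prime_dvd_prime_iff_eq hq Nat.prime_two).1
        ((ZMod.natCast_eq_zero_iff 2 q).1 (by exact_mod_cast e)))
      have h' := (key x hx).symm.trans (key y hy)
      rw [add_left_inj, mul_right_inj' (pow_ne_zero h hDq), mul_right_inj' h2q] at h'
      by_cases hxa : x ∈ a <;> by_cases hya : y ∈ a <;> simp [hxa, hya] at h' ⊢
    obtain ⟨v, hv01, hv⟩ : ∃ v : ℤ, (v = 0 ∨ v = 1) ∧ ∀ x : C, x ^ r ≠ 1 → (if x ∈ a then (1 : ℤ) else 0) = v :=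
      ⟨if g ∈ a then 1 else 0, by split_ifs <;> simp, fun x hx => if_congr (hconst x g hx hgr) rfl rfl⟩
    let P : R →+* R := MonoidAlgebra.mapDomainRingHom ℤ (powMonoidHom r : C →* C)
    have hPof : ∀ x, P (MonoidAlgebra.of ℤ C x) = MonoidAlgebra.of ℤ C (x ^ r) := fun x => by
      simp [P, MonoidAlgebra.of_apply]
    obtain ⟨u, hu⟩ : ∃ u : ℤ, P A = (u : R) + (v : R) * P J := by
      refine ⟨∑ x ∈ univ.filter (fun x : C => x ^ r = 1), ((if x ∈ a then (1 : ℤ) else 0) - v), ?_⟩
      have hsplit : A = ∑ x, (((if x ∈ a then (1 : ℤ) else 0) - v : ℤ) : R) * MonoidAlgebra.of ℤ C x +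
          (v : R) * J := by
        rw [hJ, el, Finset.mul_sum, ← Finset.sum_add_distrib, hA, el]
        simp only [← add_mul, ← Int.cast_add, sub_add_cancel, Int.cast_ite, Int.cast_one, Int.cast_zero,
          ite_mul, one_mul, zero_mul, Finset.sum_ite_mem, Finset.univ_inter]
      conv_lhs => rw [hsplit]
      rw [map_add, map_mul, map_intCast, map_sum, Int.cast_sum, Finset.sum_filter]
      congr 1
      refine Finset.sum_congr rfl fun x _ => ?_
      rw [map_mul, map_intCast, hPof]
      by_cases hx : x ^ r = 1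
      · rw [if_pos hx, hx, map_one, mul_one]
      · rw [hv x hx, sub_self, Int.cast_zero, zero_mul, if_neg hx]
    set PJ := P J with hPJ
    have hPε : ∀ Y, ε (P Y) = ε Y := fun Y => by
      induction Y using MonoidAlgebra.induction_on with
      | of x => rw [hPof, hε, hε]
      | add Y Y' hY hY' => rw [map_add, map_add, map_add, hY, hY']
      | smul w Y hY => rw [map_zsmul, map_zsmul, map_zsmul, hY]
    set z : ℤ := 2 * u - α with hz
    have hPZ : P Z = (z : R) + 2 * (v : R) * PJ := by
      rw [hZ, map_sub, map_mul, map_ofNat, map_intCast, hu, hz]; push_cast; ring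
    have hPm : ∀ Y, PJ * P Y = (ε Y : R) * PJ := fun Y => by
      have := congrArg P (hJmul Y)
      rwa [map_mul, map_mul, map_intCast] at this
    have hZB' := congrArg P hZB
    rw [map_mul, map_mul, map_natCast, hPZ, ← hPJ] at hZB'
    have hstar : (z : R) * P B = ((μ - 2 * v * b0 : ℤ) : R) * PJ := by
      have e := hPm B
      rw [hεB] at e
      push_cast
      linear_combination hZB' - 2 * (v : R) * e
    have hS' := congrArg P hS
    simp only [map_add, map_mul, map_ofNat, map_intCast, map_natCast, hPZ, ← hPJ] at hS'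
    have hkey : ∃ c : ℤ, ((z * z * z - D * z : ℤ) : R) = (c : R) * PJ := by
      refine ⟨4 * z * μ - 4 * z * z * v - 4 * z * v * v * m - 4 * (μ - 2 * v * b0) * b0, ?_⟩
      have e1' := hPm J
      rw [hεJ] at e1'
      have e2' := hPm B'
      rw [hεB', ← hPJ] at *
      push_cast at hstar ⊢
      linear_combination (z : R) * hS' - 4 * P B' * hstar - 4 * (z : R) * (v : R) * (v : R) * e1'
        - 4 * ((μ : R) - 2 * (v : R) * (b0 : R)) * e2'
    obtain ⟨c, hc⟩ := hkey
    have hPJco : PJ.coeff (g ^ r) ≠ 0 := by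
      rw [hPJ, hJ, el, map_sum, Finset.sum_congr rfl fun x _ => hPof x]
      simp only [MonoidAlgebra.coeff_sum, MonoidAlgebra.of_apply, MonoidAlgebra.coeff_single,
        Finsupp.coe_finset_sum, Finset.sum_apply, Finsupp.single_apply, Finset.sum_boole]
      exact Nat.cast_ne_zero.2 (card_ne_zero.2 ⟨g, mem_filter.2 ⟨mem_univ _, rfl⟩⟩)
    have hc0 : c = 0 := by
      have := congrArg (fun Y : R => Y.coeff (g ^ r)) hc
      simp only [coeff_intCast_apply, coeff_intCast_mul, if_neg hgr, mul_zero, Int.cast_id] at this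
      exact (mul_eq_zero.1 this.symm).resolve_right hPJco
    have hzD : z * (z ^ 2 - D) = 0 := by
      have := congrArg (fun Y : R => Y.coeff 1) hc
      simp only [coeff_intCast_apply, coeff_intCast_mul, hc0, if_true, mul_one, Int.cast_id, Int.cast_zero,
        zero_mul, MonoidAlgebra.coeff_zero, Finsupp.zero_apply] at this
      linear_combination this
    have hεz : 2 * a0 - α = z + 2 * v * m := by
      have := congrArg ε hPZ
      rw [hPε, hZε, map_add, map_mul, map_mul, map_ofNat, map_intCast, map_intCast, hPJ, hPε, hεJ] at this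
      exact this
    have hεs : z * b0 = (μ - 2 * v * b0) * m := by
      have := congrArg ε hstar
      rw [map_mul, map_mul, map_intCast, map_intCast, hPJ, hPε, hPε, hεB, hεJ] at this
      exact this
    have hcomp : 2 * a0 - α < μ + 2 * m - 2 * b0 := by rw [hα, ha0, hb0]; omega
    have hm0 : (m : ℤ) ≠ 0 := by omega
    rcases mul_eq_zero.1 hzD with hz0 | hz2
    · have : μ - 2 * v * b0 = 0 := (mul_eq_zero.1 (hεs.symm.trans (by rw [hz0, zero_mul]))).resolve_right hm0
      rw [hz0, zero_add] at hεz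
      rcases hv01 with rfl | rfl
      · rw [mul_zero, zero_mul, sub_zero] at this
        exact absurd this (by exact_mod_cast hμ.ne')
      · linarith
    · rcases sq_eq_sq_iff_eq_or_eq_neg.1 (show z ^ 2 = δ ^ 2 by linarith) with hzd | hzd
      · rw [hδ] at hzd
        rcases hv01 with rfl | rfl
        · have hb00 : b0 = 0 := by linarith
          rw [hb00] at hεs
          have : (μ : ℤ) * m = 0 := by linear_combination -hεs
          rcases mul_eq_zero.1 this with h' | h' <;> omega
        · have hb00 : b0 = m := by linarith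
          rw [hb00] at hεs
          have : z = μ - 2 * m := mul_right_cancel₀ hm0 (by linear_combination hεs)
          omega
      · rw [hδ] at hzd
        have hzb : z = b0 - v * m := by linarith
        have hmq : ((m : ℤ) : ZMod q) = 0 := by
          rw [Int.cast_natCast, ZMod.natCast_eq_zero_iff]; exact hqm
        have h1' := congrArg (fun w : ℤ => (w : ZMod q)) hεs
        have h2' : (z : ZMod q) = (b0 : ZMod q) := by
          rw [hzb, Int.cast_sub, Int.cast_mul, hmq, mul_zero, sub_zero]
        simp only [Int.cast_mul, hmq, mul_zero, h2'] at h1'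
        refine hDq ?_
        rw [show D = z ^ 2 by linarith, Int.cast_pow, h2', sq]
        exact h1'
  · -- `a` is a union of cosets of the subgroup of order `q`
    have hh0 : h ≠ 0 := fun e => hq.ne_one (by omega)
    simp only [hDq, zero_pow hh0, zero_mul, zero_add] at hmodq
    have h2q : (2 : ZMod q) ≠ 0 := fun e => hq2 ((Nat.prime_dvd_prime_iff_eq hq Nat.prime_two).1
      ((ZMod.natCast_eq_zero_iff 2 q).1 (by exact_mod_cast e)))
    have hcnt : ∀ x : C, x ≠ 1 → q ∣ (a.filter fun y => y ^ q = x).card := by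
      intro x hx
      have e0 := hmodq g
      rw [Finset.filter_false_of_mem (fun w _ => hnoroot g hgr w), Finset.card_empty, Nat.cast_zero,
        if_neg (fun e : g = 1 => hgr (by rw [e, one_pow]))] at e0
      have e := hmodq x
      rw [if_neg hx, ← e0, mul_zero, mul_zero, sub_zero, sub_zero] at e
      exact (ZMod.natCast_eq_zero_iff _ q).1 ((mul_eq_zero.1 e).resolve_left h2q)
    have hinvq : ∀ x ∈ a, x ^ q ≠ 1 → ∀ i : ℕ, x * h₀ ^ i ∈ a := by
      intro x hx hxq i
      set F := a.filter fun y => y ^ q = x ^ q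
      have hsub : F ⊆ (Finset.range q).image fun j => x * h₀ ^ j := fun y hy => by
        obtain ⟨j, hj, hj'⟩ := hker (x⁻¹ * y) (by rw [mul_pow, inv_pow, (mem_filter.1 hy).2, inv_mul_cancel])
        exact mem_image.2 ⟨j, mem_range.2 hj, by rw [← hj', mul_inv_cancel_left]⟩
      have hpos : 0 < F.card := card_pos.2 ⟨x, mem_filter.2 ⟨hx, rfl⟩⟩
      have hge := Nat.le_of_dvd hpos (hcnt (x ^ q) hxq)
      have heq := eq_of_subset_of_card_le hsub (le_trans (card_image_le.trans (card_range q).le) hge)
      have hmem : x * h₀ ^ (i % q) ∈ F := by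
        rw [heq]; exact mem_image.2 ⟨_, mem_range.2 (Nat.mod_lt _ hq.pos), rfl⟩
      rw [← hh₀o, pow_mod_orderOf] at hmem
      exact (mem_filter.1 hmem).1
    obtain ⟨φ, hφ⟩ := CommGroup.exists_apply_ne_one_of_hasEnoughRootsOfUnity C ℂ
      (a := h₀) (fun e => by rw [e, orderOf_one] at hh₀o; exact hq.one_lt.ne hh₀o)
    set ζ : ℂ := ((φ h₀ : ℂˣ) : ℂ) with hζdef
    have hζ1 : ζ ≠ 1 := fun e => hφ (Units.ext e)
    have hζ : IsPrimitiveRoot ζ q := by
      rw [IsPrimitiveRoot.iff_orderOf]
      refine orderOf_eq_prime ?_ hζ1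
      rw [hζdef, ← Units.val_pow_eq_pow_val, ← map_pow, hh₀q, map_one, Units.val_one]
    let ψ : R →+* ℂ := (MonoidAlgebra.lift ℤ ℂ C ((Units.coeHom ℂ).comp φ)).toRingHom
    have hψ : ∀ x, ψ (MonoidAlgebra.of ℤ C x) = ((φ x : ℂˣ) : ℂ) := fun x => by simp [ψ]
    have hkill : ∀ s : Finset C, (∀ x ∈ s, x * h₀ ∈ s) → ψ (el ℤ s) = 0 := by
      intro s hs
      have himg : s.image (· * h₀) = s := eq_of_subset_of_card_le
        (image_subset_iff.2 hs) (card_image_of_injective _ (mul_left_injective h₀)).ge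
      have e : ψ (el ℤ s) = ψ (el ℤ s) * ζ := by
        conv_lhs => rw [← himg]
        rw [el, el, sum_image fun x _ y _ e => mul_left_injective h₀ e, map_sum, map_sum, Finset.sum_mul]
        refine sum_congr rfl fun x _ => ?_
        rw [hψ, hψ, map_mul, Units.val_mul]
      exact (mul_eq_zero.1 (show ψ (el ℤ s) * (ζ - 1) = 0 by linear_combination -e)).resolve_right
        (sub_ne_zero.2 hζ1)
    have hψJ : ψ J = 0 := hkill _ fun _ _ => mem_univ _
    set I := (Finset.Ico 1 q).filter fun i => h₀ ^ i ∈ a with hI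
    have hψA : ψ A = ∑ i ∈ I, ζ ^ i := by
      have hsplit : A = el ℤ (a.filter fun x => x ^ q ≠ 1) + el ℤ (I.image fun i => h₀ ^ i) := by
        rw [hA, el, el, el, ← sum_filter_add_sum_filter_not (s := a) (p := fun x => x ^ q ≠ 1)]
        congr 1
        refine sum_congr ?_ fun _ _ => rfl
        ext x
        simp only [mem_filter, not_not, mem_image, hI, Finset.mem_Ico]
        constructor
        · rintro ⟨hxa, hxq⟩
          obtain ⟨i, hi, rfl⟩ := hker x hxq
          refine ⟨i, ⟨⟨Nat.one_le_iff_ne_zero.2 fun e => ha1 (by rwa [e, pow_zero] at hxa), hi⟩, hxa⟩, rfl⟩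
        · rintro ⟨i, ⟨-, hi⟩, rfl⟩
          exact ⟨hi, by rw [← pow_mul, mul_comm, pow_mul, hh₀q, one_pow]⟩
      rw [hsplit, map_add, hkill _ fun x hx => ?_, zero_add, el, sum_image ?_, map_sum]
      · exact sum_congr rfl fun i _ => by rw [hψ, map_pow, Units.val_pow_eq_pow_val]
      · intro i hi j hj e
        have hi' := Finset.mem_Ico.1 (mem_filter.1 hi).1
        have hj' := Finset.mem_Ico.1 (mem_filter.1 hj).1
        exact pow_injOn_Iio_orderOf (Set.mem_Iio.2 (hh₀o ▸ hi'.2)) (Set.mem_Iio.2 (hh₀o ▸ hj'.2)) e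
      · rw [mem_filter] at hx ⊢
        refine ⟨by simpa using hinvq x hx.1 hx.2 1, ?_⟩
        rw [mul_pow, hh₀q, mul_one]
        exact hx.2
    obtain ⟨w₀, hw₀⟩ : ∃ w₀ : ℤ, 2 * ∑ i ∈ I, ζ ^ i = (w₀ : ℂ) := by
      have e1' := congrArg ψ hZB
      rw [map_mul, map_mul, hψJ, mul_zero] at e1'
      have e2' := congrArg ψ hS
      simp only [map_add, map_mul, map_ofNat, map_intCast, map_natCast, hψJ, mul_zero, add_zero] at e2'
      have hψZ : ψ Z = 2 * ψ A - (α : ℂ) := by rw [hZ, map_sub, map_mul, map_ofNat, map_intCast]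
      rcases mul_eq_zero.1 e1' with h' | h'
      · exact ⟨α, by rw [← hψA]; linear_combination h' - hψZ⟩
      · rw [h', zero_mul, mul_zero, add_zero, ← hδD, Int.cast_pow, ← pow_two] at e2'
        rcases sq_eq_sq_iff_eq_or_eq_neg.1 e2' with h'' | h''
        · exact ⟨α + δ, by push_cast; rw [← hψA]; linear_combination h'' - hψZ⟩
        · exact ⟨α - δ, by push_cast; rw [← hψA]; linear_combination h'' - hψZ⟩
    obtain ⟨c, hc01, hcinv⟩ : ∃ c : ℤ, (c = 0 ∨ c = 1) ∧
        MonoidAlgebra.of ℤ C h₀ * (A + (c : R)) = A + (c : R) := by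
      have hshift : ∀ s : Finset C, (∀ x ∈ s, x * h₀ ∈ s) → MonoidAlgebra.of ℤ C h₀ * el ℤ s = el ℤ s := by
        intro s hs
        have himg : s.image (· * h₀) = s := eq_of_subset_of_card_le
          (image_subset_iff.2 hs) (card_image_of_injective _ (mul_left_injective h₀)).ge
        conv_rhs => rw [← himg]
        rw [el, el, sum_image fun x _ y _ e => mul_left_injective h₀ e, Finset.mul_sum]
        exact sum_congr rfl fun x _ => by rw [← map_mul, mul_comm]
      rcases roots_all_or_none hq hζ I (filter_subset _ _) w₀ hw₀ with hI0 | hI1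
      · refine ⟨0, Or.inl rfl, ?_⟩
        rw [Int.cast_zero, add_zero, hA]
        refine hshift a fun x hx => ?_
        by_cases hxq : x ^ q = 1
        · exfalso
          obtain ⟨i, hi, rfl⟩ := hker x hxq
          have : i ∈ I := mem_filter.2 ⟨Finset.mem_Ico.2
            ⟨Nat.one_le_iff_ne_zero.2 fun e => ha1 (by rwa [e, pow_zero] at hx), hi⟩, hx⟩
          rw [hI0] at this
          exact notMem_empty _ this
        · simpa using hinvq x hx hxq 1
      · refine ⟨1, Or.inr rfl, ?_⟩
        have hins : A + ((1 : ℤ) : R) = el ℤ (insert 1 a) := by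
          rw [hA, el, el, sum_insert ha1, map_one, Int.cast_one, add_comm]
        rw [hins]
        refine hshift _ fun x hx => ?_
        by_cases hxq : x ^ q = 1
        · obtain ⟨i, hi, rfl⟩ := hker x hxq
          rw [← pow_succ, ← pow_mod_orderOf, hh₀o, mem_insert]
          by_cases hi0 : (i + 1) % q = 0
          · left; rw [hi0, pow_zero]
          · right
            have : (i + 1) % q ∈ I := by
              rw [hI1]; exact Finset.mem_Ico.2 ⟨by omega, Nat.mod_lt _ hq.pos⟩
            exact (mem_filter.1 this).2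
        · rcases mem_insert.1 hx with rfl | hxa
          · exact absurd (one_pow q) hxq
          · exact mem_insert_of_mem (by simpa using hinvq x hxa hxq 1)
    set T : R := MonoidAlgebra.of ℤ C h₀ with hT
    have hTJ : T * J = J := by
      rw [mul_comm, hJmul, hT, hε, Int.cast_one, one_mul]
    set w : ℤ := α + 2 * c with hw
    have hZw : Z = 2 * (A + (c : R)) - (w : R) := by rw [hZ, hw]; push_cast; ring
    have hT1 : ∀ n : ℤ, (T * (n : R)).coeff 1 = 0 := fun n => by
      rw [hT, MonoidAlgebra.of_apply, MonoidAlgebra.coeff_single_mul_apply, one_mul, mul_one, coeff_intCast_apply,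
        if_neg (inv_ne_one.2 fun e => by rw [e, orderOf_one] at hh₀o; exact hq.one_lt.ne hh₀o), mul_zero]
    have hk2 : (a0 + b0) ^ 2 = β + α * (a0 + b0) + μ * (2 * m) := by linear_combination e1 + e2
    by_cases hw0 : w = 0
    swap
    · have hTB : T * B = B := by
        have h' : ((w : ℤ) : R) * (T * B - B) = 0 := by
          linear_combination -(T - 1) * hZB + (T - 1) * B * hZw + 2 * B * hcinv - (μ : R) * hTJ
        apply MonoidAlgebra.ext
        ext x
        have := congrArg (fun Y : R => Y.coeff x) h'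
        simp only [coeff_intCast_mul, MonoidAlgebra.coeff_sub, Finsupp.sub_apply, MonoidAlgebra.coeff_zero,
          Finsupp.zero_apply, Int.cast_id] at this
        linarith [(mul_eq_zero.1 this).resolve_left hw0]
      have h' : T * ((w ^ 2 - D : ℤ) : R) - ((w ^ 2 - D : ℤ) : R) = 0 := by
        push_cast
        linear_combination (T - 1) * hS - (T - 1) * (Z + (2 * (A + (c : R)) - (w : R))) * hZw
          - 4 * B' * hTB + 4 * (μ : R) * hTJ - (4 * (A + (c : R)) - 4 * (w : R)) * hcinv
      have hwD : w ^ 2 = D := by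
        have := congrArg (fun Y : R => Y.coeff 1) h'
        simp only [MonoidAlgebra.coeff_sub, Finsupp.sub_apply, hT1, coeff_intCast_apply, if_true,
          MonoidAlgebra.coeff_zero, Finsupp.zero_apply, mul_one, Int.cast_id] at this
        linarith
      rw [hw, hD] at hwD
      rcases hc01 with rfl | rfl
      · have : β = 0 := by linarith
        rw [hβ] at this; omega
      · have hβα : β = α + 1 := by linarith
        have hl : a0 + b0 = l + 1 := by
          have := hβα; rw [hβ, hα] at this; rw [ha0, hb0]; omega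
        have hμn : (μ : ℤ) * (2 * m) = μ * (a0 + b0 + 1) := by
          have hαk : α = a0 + b0 - 1 - μ := by rw [hα]; omega
          rw [hβα, hαk] at hk2
          linear_combination -hk2
        have := mul_left_cancel₀ (show (μ : ℤ) ≠ 0 by omega) hμn
        omega
    · have hbb : ((b0 : ℤ) - ((b.filter fun y => h₀⁻¹ * y ∈ b).card : ℤ)) = β + c := by
        have hSc : (A + (c : R)) * (A + (c : R)) * 4 + 4 * (B * B') = (D : R) + 4 * (μ : R) * J := by
          rw [← hS, hZw, hw0, Int.cast_zero]; ring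
        have h' : (T - 1) * (4 * (B * B')) = (T - 1) * (D : R) := by
          linear_combination (T - 1) * hSc - 4 * (A + (c : R)) * hcinv + 4 * (μ : R) * hTJ
        have := congrArg (fun Y : R => Y.coeff h₀) h'
        simp only [sub_mul, one_mul, MonoidAlgebra.coeff_sub, Finsupp.sub_apply, hT, MonoidAlgebra.of_apply,
          MonoidAlgebra.coeff_single_mul_apply, inv_mul_cancel, coeff_intCast_apply,
          show ((4 : R) = ((4 : ℤ) : R)) by norm_num, coeff_intCast_mul, hB, hB', coeff_el_mul_el, hfb, if_true,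
          if_neg (show h₀ ≠ 1 from fun e => by rw [e, orderOf_one] at hh₀o; exact hq.one_lt.ne hh₀o),
          Int.cast_id, mul_one, mul_zero, sub_zero, inv_one] at this
        rw [filter_true_of_mem (fun y hy => mem_image_of_mem _ hy)] at this
        have hDc : D = 4 * (β + c) := by
          rw [hD, show α = -2 * c by linarith]
          rcases hc01 with rfl | rfl <;> ring
        rw [hDc] at this
        rw [hb0]
        linarith
      set e0 := (b.filter fun y => h₀⁻¹ * y ∈ b).card with he0
      have he1 : 2 * b.card ≤ m + e0 := by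
        have himg : (b.image (h₀ * ·)).card = b.card := card_image_of_injective _ (mul_right_injective h₀)
        have hcap : b ∩ b.image (h₀ * ·) = b.filter fun y => h₀⁻¹ * y ∈ b := by
          ext y
          simp only [mem_inter, mem_image, mem_filter]
          refine and_congr_right fun _ => ⟨?_, fun h' => ⟨_, h', mul_inv_cancel_left _ _⟩⟩
          rintro ⟨x, hx, rfl⟩
          rwa [inv_mul_cancel_left]
        have := card_union_add_card_inter b (b.image (h₀ * ·))
        rw [hcap, himg] at this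
        have := card_le_univ (b ∪ b.image (h₀ * ·))
        omega
      set d := |a0 - b0 + c| with hd
      have hdd : d ^ 2 = β + c := by
        rw [hd, sq_abs]
        have hαc : α = -2 * c := by linarith
        rw [hαc] at e1 e2
        rcases hc01 with rfl | rfl <;> linear_combination e1 - e2
      refine arithmetic (m := (m : ℤ)) (n := 2 * m) (k := a0 + b0 + c) (μ := (μ : ℤ)) (d := d) (b := b0)
        (by exact_mod_cast hodd) rfl (by exact_mod_cast hμ) ?_ (abs_nonneg _) ?_ ?_ ?_ ?_ ?_
      · have hlc : (l : ℤ) = μ - 2 * c := by linarith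
        have : 2 * (a0 + b0) < 2 * m + l := by rw [ha0, hb0]; exact_mod_cast hμ'
        linarith
      · rw [hdd, hβ]; ring
      · rw [hdd]
        have hαc : α = -2 * c := by linarith
        rw [hαc] at hk2
        rcases hc01 with rfl | rfl <;> linear_combination hk2
      · rcases abs_choice (a0 - b0 + c) with h' | h' <;> rw [hd, h']
        · left; ring
        · right; ring
      · rw [hdd, ← hbb]; omega
      · rw [hdd, ← hbb]; omega

end CfsgLib.PGroup.DihedralSRG
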