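import Cfsg.Agent.Lib.Solvable.Cores
import Cfsg.Agent.Lib.FrobRealize.FixedPointFree

/-!
Normal subgroups `N` such that every coset `xN`, `x ∉ N`, consists of elements of one order.
-/

namespace CfsgLib.PGroup.EqualOrder

open CfsgLib.Solvable.Cores

set_option linter.style.haveILetI false

variable {G : Type*} [Group G] [Finite G] {N : Subgroup G}

/-- The coset condition. -/
def EqOrd (N : Subgroup G) : Prop :=
  ∀ x : G, x ∉ N → ∀ n ∈ N, orderOf (x * n) = orderOf x

theorem isPGroup_of_pCore_not_le (heq : EqOrd N) {q : ℕ} [Fact q.Prime]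
    (h : ¬ Cfsg.pCore q G ≤ N) : IsPGroup q N := by
  obtain ⟨x, hx, hxN⟩ := SetLike.not_le_iff_exists.mp h
  obtain ⟨k, hk⟩ := isPGroup_pCore q ⟨x, hx⟩
  have hk' : x ^ (q ^ k) = 1 := by simpa using congrArg Subtype.val hk
  intro n
  have h1 : (x * (n : G)) ^ (q ^ k) = 1 := by
    rw [← orderOf_dvd_iff_pow_eq_one, heq x hxN n n.2, orderOf_dvd_iff_pow_eq_one]
    exact hk'
  have h2 : (n : G) ^ (q ^ k) ∈ Cfsg.pCore q G := by
    rw [← QuotientGroup.eq_one_iff, QuotientGroup.mk_pow]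
    have h3 := congrArg (QuotientGroup.mk (s := Cfsg.pCore q G)) h1
    rwa [QuotientGroup.mk_pow, QuotientGroup.mk_mul, (QuotientGroup.eq_one_iff x).mpr hx,
      one_mul, QuotientGroup.mk_one] at h3
  obtain ⟨j, hj⟩ := isPGroup_pCore q ⟨_, h2⟩
  refine ⟨k + j, Subtype.ext ?_⟩
  have := congrArg Subtype.val hj
  simp only [SubgroupClass.coe_pow, OneMemClass.coe_one] at this ⊢
  rw [pow_add, pow_mul]
  exact this

theorem exists_pCore_not_le (h : ¬ Cfsg.fittingSubgroup G ≤ N) :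
    ∃ q : ℕ, q.Prime ∧ ¬ Cfsg.pCore q G ≤ N := by
  by_contra hc
  push Not at hc
  apply h
  rw [fittingSubgroup_eq_iSup_pCore]
  exact iSup_le fun p => hc p p.2

theorem le_fitting_or_ge [N.Normal] (heq : EqOrd N) :
    N ≤ Cfsg.fittingSubgroup G ∨ Cfsg.fittingSubgroup G ≤ N := by
  refine or_iff_not_imp_right.mpr fun h => ?_
  obtain ⟨q, hq, hqN⟩ := exists_pCore_not_le h
  haveI := Fact.mk hq
  exact le_fittingSubgroup (isPGroup_of_pCore_not_le heq hqN).isNilpotent

theorem isPrimePow_of_lt [N.Normal] (heq : EqOrd N) (hN : N ≠ ⊥)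
    (hlt : N < Cfsg.fittingSubgroup G) : IsPrimePow (Nat.card (Cfsg.fittingSubgroup G)) := by
  obtain ⟨q, hq, hqN⟩ := exists_pCore_not_le hlt.not_ge
  haveI := Fact.mk hq
  have hNq := isPGroup_of_pCore_not_le heq hqN
  have hF : Cfsg.fittingSubgroup G = Cfsg.pCore q G := by
    refine le_antisymm ?_ (pCore_le_fittingSubgroup q)
    rw [fittingSubgroup_eq_iSup_pCore]
    refine iSup_le fun r => ?_
    by_cases hr : (r : ℕ) = q
    · rw [hr]
    · haveI := Fact.mk r.2
      by_cases hrN : Cfsg.pCore (r : ℕ) G ≤ N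
      · have hd := IsPGroup.disjoint_of_ne _ _ hr _ _ (isPGroup_pCore (r : ℕ)) (hNq.to_le hrN)
        rw [disjoint_self] at hd
        rw [hd]; exact bot_le
      · exfalso
        have hd := IsPGroup.disjoint_of_ne _ _ hr N N (isPGroup_of_pCore_not_le heq hrN) hNq
        exact hN (disjoint_self.mp hd)
  obtain ⟨k, hk⟩ := card_pow_of_pCore (G := G) q
  rw [hF, hk]
  refine (Nat.prime_iff.mp hq).isPrimePow.pow ?_
  rintro rfl
  apply hN
  rw [pow_zero, ← Subgroup.eq_bot_iff_card] at hk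
  rw [eq_bot_iff, ← hk, ← hF]
  exact hlt.le

theorem eq_fitting_of_nilpotent [N.Normal] (heq : EqOrd N) (hN : N ≠ ⊥)
    (hnil : Group.IsNilpotent N) (hnpp : ¬ IsPrimePow (Nat.card N)) :
    N = Cfsg.fittingSubgroup G := by
  refine (le_fittingSubgroup hnil).eq_or_lt.resolve_right fun h => hnpp ?_
  exact (isPrimePow_of_lt heq hN h).dvd (Subgroup.card_dvd_of_le h.le)
    (fun h1 => hN (Subgroup.eq_bot_of_card_eq N h1))

/-- An element of prime power order of a nilpotent group lies in the core of that prime. -/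
theorem mem_pCore_of_pow {H : Type*} [Group H] [Finite H] (hnil : Group.IsNilpotent H) {q : ℕ}
    [Fact q.Prime] {x : H} {k : ℕ} (hx : x ^ q ^ k = 1) : x ∈ Cfsg.pCore q H := by
  obtain ⟨P, hP⟩ := (IsPGroup.of_card_dvd_pow (G := Subgroup.zpowers x) (n := k) (p := q)
    (by rw [Nat.card_zpowers]; exact orderOf_dvd_of_pow_eq_one hx)).exists_le_sylow
  haveI : (P : Subgroup H).Normal := inferInstance
  exact le_pCore P.isPGroup' (hP (Subgroup.mem_zpowers x))

theorem sylow_quotient_cyclic_or_quaternion [N.Normal] (heq : EqOrd N) (hN : N ≠ ⊥)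
    (hnil : Group.IsNilpotent N) (hnpp : ¬ IsPrimePow (Nat.card N))
    {q : ℕ} [Fact q.Prime] (Q : Sylow q (G ⧸ N)) :
    IsCyclic (Q : Subgroup (G ⧸ N)) ∨
      ∃ n : ℕ, Nonempty ((Q : Subgroup (G ⧸ N)) ≃* QuaternionGroup (2 ^ n)) := by
  obtain ⟨r, hr, hrN, hrq⟩ : ∃ r, r.Prime ∧ r ∣ Nat.card N ∧ r ≠ q := by
    by_contra hc
    push Not at hc
    apply hnpp
    obtain ⟨p, hp, hpd⟩ := Nat.exists_prime_and_dvd
      (fun h1 => hN (Subgroup.eq_bot_of_card_eq N h1))
    exact isPrimePow_iff_unique_prime_dvd.mpr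
      ⟨p, ⟨hp, hpd⟩, fun t ht => (hc t ht.1 ht.2).trans (hc p hp hpd).symm⟩
  haveI := Fact.mk hr
  obtain ⟨S, rfl⟩ := Sylow.mapSurjective_surjective (QuotientGroup.mk'_surjective N) q Q
  set C : Subgroup G := (Cfsg.pCore q N).map N.subtype with hC
  set M : Subgroup G := (Cfsg.pCore r N).map N.subtype with hM
  haveI : C.Normal := inferInstance
  haveI : M.Normal := inferInstance
  have hdis : M ⊓ C = ⊥ := disjoint_iff.mp (IsPGroup.disjoint_of_ne _ _ hrq M C
    ((isPGroup_pCore r).map _) ((isPGroup_pCore q).map _))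
  have hMne : ∃ m ∈ M, m ≠ 1 := by
    obtain ⟨x, hx⟩ := exists_prime_orderOf_dvd_card' r hrN
    refine ⟨x, Subgroup.mem_map_of_mem _ (mem_pCore_of_pow hnil (k := 1)
      (by rw [pow_one, ← hx, pow_orderOf_eq_one])), fun h => hr.ne_one ?_⟩
    rw [← hx, orderOf_eq_one_iff]
    exact Subtype.ext h
  have hSN : ∀ s ∈ S, s ∈ N → s ∈ C := by
    intro s hs hsN
    obtain ⟨k, hk⟩ := S.isPGroup' ⟨s, hs⟩
    exact Subgroup.mem_map_of_mem N.subtype (mem_pCore_of_pow (x := (⟨s, hsN⟩ : N)) hnil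
      (Subtype.ext (by simpa using congrArg Subtype.val hk)))
  -- the action on `M` in the quotient by `C`
  let π := QuotientGroup.mk' C
  let A : Subgroup (G ⧸ C) := (S : Subgroup G).map π
  let K : Subgroup (G ⧸ C) := M.map π
  have hK : K ≠ ⊥ := by
    obtain ⟨m, hm, hm1⟩ := hMne
    intro h
    have h2 : π m ∈ K := Subgroup.mem_map_of_mem π hm
    rw [h, Subgroup.mem_bot, QuotientGroup.mk'_apply, QuotientGroup.eq_one_iff] at h2
    exact hm1 (Subgroup.mem_bot.mp (hdis.le ⟨hm, h2⟩))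
  haveI : K.Normal := Subgroup.Normal.map inferInstance _ (QuotientGroup.mk'_surjective C)
  have hAK : A ≤ Subgroup.normalizer (K : Set (G ⧸ C)) := by
    rw [Subgroup.normalizer_eq_top]; exact le_top
  have hfpf : ∀ a ∈ A, a ≠ 1 → K ⊓ Subgroup.centralizer {a} = ⊥ := by
    rintro _ ⟨s, hs, rfl⟩ ha
    have hsC : s ∉ C := fun h => ha ((QuotientGroup.eq_one_iff s).mpr h)
    have hsN : s ∉ N := fun h => hsC (hSN s hs h)
    rw [eq_bot_iff]
    rintro _ ⟨⟨m, hm, rfl⟩, hc⟩
    have hcomm : Commute s m := by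
      have h1 := Subgroup.mem_centralizer_singleton_iff.mp hc
      have h2 : s * m * s⁻¹ * m⁻¹ ∈ C := by
        rw [← QuotientGroup.eq_one_iff]
        simp only [QuotientGroup.mk_mul, QuotientGroup.mk_inv]
        simp only [π, QuotientGroup.mk'_apply] at h1
        rw [← h1]; group
      have h3 : s * m * s⁻¹ * m⁻¹ ∈ M :=
        M.mul_mem (‹M.Normal›.conj_mem m hm s) (M.inv_mem hm)
      have h4 := Subgroup.mem_bot.mp (hdis.le ⟨h3, h2⟩)
      show s * m = m * s
      rwa [mul_inv_eq_one, mul_inv_eq_iff_eq_mul] at h4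
    have hmN : m ∈ N := Subgroup.map_subtype_le _ hm
    have hcop : (orderOf s).Coprime (orderOf m) := by
      obtain ⟨i, hi⟩ := (IsPGroup.iff_orderOf.mp S.isPGroup') ⟨s, hs⟩
      obtain ⟨j, hj⟩ := (IsPGroup.iff_orderOf.mp ((isPGroup_pCore r).map N.subtype)) ⟨m, hm⟩
      rw [Subgroup.orderOf_mk] at hi hj
      rw [hi, hj]
      exact ((Nat.coprime_primes Fact.out hr).mpr hrq.symm).pow i j
    have ho := hcomm.orderOf_mul_eq_mul_orderOf_of_coprime hcop
    rw [heq s hsN m hmN] at ho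
    have hm1 : orderOf m = 1 :=
      mul_left_cancel₀ (orderOf_pos s).ne' (by rw [mul_one]; exact ho.symm)
    rw [orderOf_eq_one_iff.mp hm1, map_one]
    exact one_mem _
  -- `A` maps isomorphically onto the Sylow subgroup of the quotient by `N`
  have hCN : C ≤ N := Subgroup.map_subtype_le _
  let ψ : G ⧸ C →* G ⧸ N := QuotientGroup.map C N (MonoidHom.id G) (by simpa using hCN)
  have hA : A.map ψ = (S : Subgroup G).map (QuotientGroup.mk' N) := by
    rw [Subgroup.map_map]; rfl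
  have hinj : Function.Injective (ψ.subgroupMap A) := by
    rw [← MonoidHom.ker_eq_bot_iff, eq_bot_iff]
    rintro ⟨_, s, hs, rfl⟩ h
    have h1 : (QuotientGroup.mk' N) s = 1 := congrArg Subtype.val h
    exact Subgroup.mem_bot.mpr (Subtype.ext
      ((QuotientGroup.eq_one_iff s).mpr (hSN s hs ((QuotientGroup.eq_one_iff s).mp h1))))
  let e : A ≃* ((S.mapSurjective (QuotientGroup.mk'_surjective N) : Sylow q (G ⧸ N)) :
      Subgroup (G ⧸ N)) :=
    (MulEquiv.ofBijective (ψ.subgroupMap A) ⟨hinj, MonoidHom.subgroupMap_surjective ψ A⟩).trans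
      (MulEquiv.subgroupCongr hA)
  obtain ⟨P, hP⟩ := ((S.isPGroup'.map π).comap_subtype (K := A)).exists_le_sylow
  have hPtop : (P : Subgroup A) = ⊤ := by
    rw [eq_top_iff]; refine le_trans ?_ hP; simp [A]
  let e2 : (P : Subgroup A) ≃* A := (MulEquiv.subgroupCongr hPtop).trans Subgroup.topEquiv
  rcases CfsgLib.FrobRealize.FPF.sylow_cyclic_or_quaternion hK hAK hfpf P with h | ⟨-, n, ⟨f⟩⟩
  · exact Or.inl ((MulEquiv.isCyclic (e2.trans e)).mp h)
  · exact Or.inr ⟨n, ⟨((e2.trans e).symm.trans f)⟩⟩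

end CfsgLib.PGroup.EqualOrder
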