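import Mathlib
import Cfsg.Prelude.Def_Transfer
import Cfsg.Agent.Lib.LocalEven.Residual
import Cfsg.Agent.Lib.PGroup.Frattini

/-!
# Extraspecial 2-groups of both types and their elementary abelian subgroups

`Ext n m` is the group on `ZMod 2 × (ZMod 2 × ZMod 2)^n` given by a bilinear cocycle; `m` chooses the type.
-/

set_option autoImplicit false
set_option linter.style.haveILetI false

open Cfsg
open scoped commutatorElement

namespace CfsgLib.PGroup.ExtraspecialBothRanks

abbrev Pr := ZMod 2 × ZMod 2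
abbrev V (n : ℕ) := Fin n → Pr

/-- The cocycle on one pair. -/
def pb (m : Bool) (u v : Pr) : ZMod 2 := if m then u.1 * v.2 + u.1 * v.1 + u.2 * v.2 else u.1 * v.2

/-- Whether the pair `i` is anisotropic. -/
def mf {n : ℕ} (m : Bool) (i : Fin n) : Bool := m && decide ((i : ℕ) = 0)

variable {n : ℕ} (m : Bool)

def β (u v : V n) : ZMod 2 := ∑ i, pb (mf m i) (u i) (v i)

theorem pb_add_left : ∀ (m : Bool) (u u' v : Pr), pb m (u + u') v = pb m u v + pb m u' v := by decide
theorem pb_add_right : ∀ (m : Bool) (u v v' : Pr), pb m u (v + v') = pb m u v + pb m u v' := by decide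

theorem β_add_left (u u' v : V n) : β m (u + u') v = β m u v + β m u' v := by
  simp [β, pb_add_left, Finset.sum_add_distrib]
theorem β_add_right (u v v' : V n) : β m u (v + v') = β m u v + β m u v' := by
  simp [β, pb_add_right, Finset.sum_add_distrib]
theorem β_zero_left (v : V n) : β m 0 v = 0 := by
  have h := β_add_left m 0 0 v
  rw [add_zero] at h
  exact left_eq_add.mp h
theorem β_zero_right (v : V n) : β m v 0 = 0 := by
  have h := β_add_right m v 0 0
  rw [add_zero] at h
  exact left_eq_add.mp h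

def q (u : V n) : ZMod 2 := β m u u
def B (u v : V n) : ZMod 2 := β m u v + β m v u

theorem z2 (x : ZMod 2) : x + x = 0 := CharTwo.add_self_eq_zero x
theorem v2 (u : V n) : u + u = 0 := funext fun i => Prod.ext (z2 _) (z2 _)
theorem zmod_two : ∀ r : ZMod 2, r = 0 ∨ r = 1 := by decide

theorem q_add (u v : V n) : q m (u + v) = q m u + q m v + B m u v := by
  simp only [q, B, β_add_left, β_add_right]; ring

theorem B_single : ∀ (m : Bool) (u : Pr), (∀ v : Pr, pb m u v + pb m v u = 0) → u = 0 := by decide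

theorem B_nondeg {u : V n} (h : ∀ v, B m u v = 0) : u = 0 := by
  funext i
  refine B_single (mf m i) (u i) fun v => ?_
  have h0 : ∀ (m : Bool) (w : Pr), pb m w 0 = 0 ∧ pb m 0 w = 0 := by decide
  have e : β m u (Pi.single i v) = pb (mf m i) (u i) v ∧ β m (Pi.single i v) u = pb (mf m i) v (u i) := by
    constructor <;>
    · rw [β, Finset.sum_eq_single i]
      · rw [Pi.single_eq_same]
      · intro j _ hj
        rw [Pi.single_eq_of_ne hj]
        first | exact (h0 _ _).1 | exact (h0 _ _).2
      · exact fun h => absurd (Finset.mem_univ i) h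
  have := h (Pi.single i v)
  rwa [B, e.1, e.2] at this

/-! ### The character sums -/

def sgn (e : ZMod 2) : ℤ := if e = 0 then 1 else -1

theorem sgn_add : ∀ a b : ZMod 2, sgn (a + b) = sgn a * sgn b := by decide

theorem sgn_sum {ι : Type*} (s : Finset ι) (f : ι → ZMod 2) : sgn (∑ i ∈ s, f i) = ∏ i ∈ s, sgn (f i) := by
  classical
  induction s using Finset.induction_on with
  | empty => rfl
  | insert a t ha ih => rw [Finset.sum_insert ha, Finset.prod_insert ha, sgn_add, ih]

theorem gauss : ∑ v : V n, sgn (q m v) = ∏ i : Fin n, (if mf m i then -2 else 2 : ℤ) := by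
  classical
  have h : ∀ b : Bool, ∑ u : Pr, sgn (pb b u u) = (if b then -2 else 2 : ℤ) := by decide
  simp only [q, β, sgn_sum]
  refine Eq.trans (Fintype.prod_sum (fun (i : Fin n) (u : Pr) => sgn (pb (mf m i) u u))).symm ?_
  exact Finset.prod_congr rfl fun i _ => h _

open scoped Classical in
/-- The orthogonal of a subgroup. -/
noncomputable def perp (W : AddSubgroup (V n)) : Finset (V n) :=
  Finset.univ.filter fun v => ∀ w ∈ W, B m v w = 0

open scoped Classical in
theorem sum_char (W : AddSubgroup (V n)) (v : V n) :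
    ∑ w : W, sgn (B m v w) = if ∀ w ∈ W, B m v w = 0 then (Nat.card W : ℤ) else 0 := by
  split_ifs with h
  · simp [h _ (Subtype.mem _), sgn, Nat.card_eq_fintype_card]
  · push Not at h
    obtain ⟨w0, hw0, hne⟩ := h
    have hB : sgn (B m v w0) = -1 := by simp [sgn, hne]
    set f : W → ℤ := fun w => sgn (B m v (w : V n)) with hf
    have h2 : ∀ w : W, f (Equiv.addRight (⟨w0, hw0⟩ : W) w) = - f w := fun w => by
      have e : B m v ((w : V n) + w0) = B m v w + B m v w0 := by
        simp only [B, β_add_left, β_add_right]; ring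
      simp only [hf, Equiv.coe_addRight, AddSubgroup.coe_add]
      rw [e, sgn_add, hB]; ring
    have := Equiv.sum_comp (Equiv.addRight (⟨w0, hw0⟩ : W)) f
    rw [Finset.sum_congr rfl fun w _ => h2 w, Finset.sum_neg_distrib] at this
    show ∑ w : W, f w = 0
    omega

theorem card_mul_perp (W : AddSubgroup (V n)) :
    (Nat.card W : ℤ) * (perp m W).card = Nat.card (V n) := by
  classical
  have h1 : ∑ v : V n, ∑ w : W, sgn (B m v w) = (Nat.card W : ℤ) * (perp m W).card := by
    simp only [sum_char, perp]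
    rw [Finset.sum_ite, Finset.sum_const_zero, add_zero, Finset.sum_const, nsmul_eq_mul, mul_comm]
  rw [← h1, Finset.sum_comm, Finset.sum_eq_single (0 : W)]
  · simp [B, β_zero_left, β_zero_right, sgn, Nat.card_eq_fintype_card]
  · intro w _ hw
    have htop := sum_char m (⊤ : AddSubgroup (V n)) w
    rw [if_neg fun h => hw (Subtype.ext (B_nondeg m fun v => h v trivial)),
      Fintype.sum_equiv (Equiv.subtypeUnivEquiv (fun v : V n => AddSubgroup.mem_top v))
        (fun v : (⊤ : AddSubgroup (V n)) => sgn (B m (w : V n) v)) (fun v : V n => sgn (B m v (w : V n)))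
        fun v => by simp [B, add_comm]] at htop
    exact htop
  · exact fun h => absurd (Finset.mem_univ _) h

theorem card_V : Nat.card (V n) = 2 ^ (2 * n) := by
  rw [Nat.card_fun, Nat.card_prod, Nat.card_zmod, Nat.card_fin, pow_mul]; rfl

theorem singular_bound (W : AddSubgroup (V n)) (hW : ∀ w ∈ W, q m w = 0) :
    Nat.card W ≤ 2 ^ n ∧ ((∏ i : Fin n, (if mf m i then -2 else 2 : ℤ)) < 0 → Nat.card W ≠ 2 ^ n) := by
  classical
  have hB : ∀ v ∈ W, ∀ w ∈ W, B m v w = 0 := fun v hv w hw => by
    have h := q_add m v w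
    rw [hW _ (add_mem hv hw), hW v hv, hW w hw, zero_add, zero_add] at h
    exact h.symm
  set I : Finset (V n) := Finset.univ.filter (· ∈ W) with hI
  have hsub : I ⊆ perp m W := fun v hv => by
    simp only [hI, Finset.mem_filter] at hv
    simp only [perp, Finset.mem_filter]
    exact ⟨Finset.mem_univ v, fun w hw => hB v hv.2 w hw⟩
  have hIc : I.card = Nat.card W := by
    rw [hI, ← Fintype.card_subtype, Nat.card_eq_fintype_card]
  have hc := card_mul_perp m W
  rw [card_V] at hc
  have hle : Nat.card W ≤ (perp m W).card := hIc ▸ Finset.card_le_card hsub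
  have hc' : Nat.card W * (perp m W).card = 2 ^ n * 2 ^ n := by
    rw [← pow_add, ← two_mul]; exact_mod_cast hc
  refine ⟨?_, fun hneg heq => ?_⟩
  · by_contra h
    push Not at h
    have : 2 ^ n * 2 ^ n < Nat.card W * (perp m W).card := Nat.mul_lt_mul'' h (h.trans_le hle)
    omega
  · rw [heq] at hc'
    have hpc : (perp m W).card = I.card := by
      rw [hIc, heq]; exact Nat.eq_of_mul_eq_mul_left (Nat.two_pow_pos n) hc'
    have hperp : I = perp m W := Finset.eq_of_subset_of_card_le hsub hpc.le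
    have h1 : ∑ v : V n, ∑ w : W, sgn (q m (v + (w : V n))) = (Nat.card W : ℤ) * ∑ v : V n, sgn (q m v) := by
      rw [Finset.sum_comm]
      rw [Finset.sum_congr rfl fun (w : W) _ => Fintype.sum_equiv (Equiv.addRight ((w : W) : V n))
        (fun v : V n => sgn (q m (v + ((w : W) : V n)))) (fun v : V n => sgn (q m v)) fun v => rfl]
      rw [Finset.sum_const, Finset.card_univ, nsmul_eq_mul, Nat.card_eq_fintype_card]
    have h2 : ∀ v : V n, ∑ w : W, sgn (q m (v + (w : V n))) = if v ∈ I then (Nat.card W : ℤ) else 0 := fun v => by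
      have e : ∀ w : W, sgn (q m (v + (w : V n))) = sgn (q m v) * sgn (B m v w) := fun w => by
        rw [q_add, hW _ w.2, add_zero, sgn_add]
      simp only [e, ← Finset.mul_sum, sum_char]
      by_cases hv : v ∈ I
      · have hv' : v ∈ W := (Finset.mem_filter.mp hv).2
        rw [if_pos hv, if_pos (fun w hw => hB v hv' w hw), hW v hv']
        simp [sgn]
      · rw [if_neg hv, if_neg fun h => hv (by rw [hperp]; simp [perp]; exact h), mul_zero]
    simp only [h2] at h1
    rw [Finset.sum_ite_mem, Finset.univ_inter, Finset.sum_const, nsmul_eq_mul, gauss, hIc] at h1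
    have hpos : (0 : ℤ) < Nat.card W := by exact_mod_cast Nat.card_pos
    nlinarith

/-! ### The group -/

/-- The group. -/
@[ext] structure Ext (n : ℕ) (m : Bool) where
  e : ZMod 2
  u : V n

instance : Group (Ext n m) where
  mul x y := ⟨x.e + y.e + β m x.u y.u, x.u + y.u⟩
  one := ⟨0, 0⟩
  inv x := ⟨x.e + q m x.u, x.u⟩
  mul_assoc x y z := Ext.ext
    (by change x.e + y.e + β m x.u y.u + z.e + β m (x.u + y.u) z.u =
          x.e + (y.e + z.e + β m y.u z.u) + β m x.u (y.u + z.u)
        rw [β_add_left, β_add_right]; ring) (add_assoc _ _ _)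
  one_mul x := Ext.ext (by change 0 + x.e + β m 0 x.u = x.e; rw [β_zero_left]; ring) (zero_add _)
  mul_one x := Ext.ext (by change x.e + 0 + β m x.u 0 = x.e; rw [β_zero_right]; ring) (add_zero _)
  inv_mul_cancel x := Ext.ext
    (by change x.e + q m x.u + x.e + β m x.u x.u = 0
        rw [q, add_right_comm _ _ x.e, z2, zero_add, z2]) (v2 _)

variable {m}

theorem mul_e (x y : Ext n m) : (x * y).e = x.e + y.e + β m x.u y.u := rfl
theorem mul_u (x y : Ext n m) : (x * y).u = x.u + y.u := rfl
theorem one_e : (1 : Ext n m).e = 0 := rfl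
theorem one_u : (1 : Ext n m).u = 0 := rfl

def toProd (n : ℕ) (m : Bool) : Ext n m ≃ ZMod 2 × V n where
  toFun x := (x.e, x.u)
  invFun p := ⟨p.1, p.2⟩
  left_inv _ := rfl
  right_inv _ := rfl

instance : Finite (Ext n m) := Finite.of_equiv _ (toProd n m).symm

theorem card_ext : Nat.card (Ext n m) = 2 ^ (2 * n + 1) := by
  rw [Nat.card_congr (toProd n m), Nat.card_prod, Nat.card_zmod, card_V, pow_succ']

theorem commute_iff (x y : Ext n m) : x * y = y * x ↔ B m x.u y.u = 0 := by
  rw [Ext.ext_iff, mul_e, mul_e, mul_u, mul_u, B]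
  constructor
  · rintro ⟨h, -⟩
    have : β m x.u y.u = β m y.u x.u := by linear_combination h
    rw [this, z2]
  · intro h
    refine ⟨?_, add_comm _ _⟩
    have : β m x.u y.u = β m y.u x.u := by linear_combination h - z2 (β m y.u x.u)
    rw [this]; ring

theorem sq_eq (x : Ext n m) : x * x = ⟨q m x.u, 0⟩ :=
  Ext.ext (by rw [mul_e, z2, zero_add]; rfl) (by rw [mul_u, v2])

theorem mem_center (x : Ext n m) : x ∈ Subgroup.center (Ext n m) ↔ x.u = 0 := by
  rw [Subgroup.mem_center_iff]
  refine ⟨fun h => B_nondeg m fun v => (commute_iff x ⟨0, v⟩).mp (h ⟨0, v⟩).symm, fun h y => ?_⟩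
  rw [commute_iff, h, B, β_zero_left, β_zero_right, add_zero]

theorem isExtraspecial (hn : 1 ≤ n) : Cfsg.IsExtraspecial 2 (Ext n m) := by
  haveI : Fact (Nat.Prime 2) := ⟨Nat.prime_two⟩
  have hP : IsPGroup 2 (Ext n m) := IsPGroup.of_card card_ext
  let z : Ext n m := ⟨1, 0⟩
  have hZ : ∀ a, a ∈ Subgroup.center (Ext n m) ↔ a = 1 ∨ a = z := fun a => by
    rw [mem_center]
    constructor
    · intro h
      rcases zmod_two a.e with h1 | h1
      · exact Or.inl (Ext.ext h1 h)
      · exact Or.inr (Ext.ext h1 h)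
    · rintro (rfl | rfl) <;> rfl
  have hzne : z ≠ 1 := fun h => one_ne_zero (α := ZMod 2) (congrArg Ext.e h)
  obtain ⟨x, y, hxy⟩ : ∃ x y : Ext n m, x * y ≠ y * x := by
    let i0 : Fin n := ⟨0, hn⟩
    by_contra h
    push Not at h
    have h0 : (Pi.single i0 ((1 : ZMod 2), (0 : ZMod 2)) : V n) = 0 :=
      B_nondeg m fun v => (commute_iff ⟨0, _⟩ ⟨0, v⟩).mp (h ⟨0, _⟩ ⟨0, v⟩)
    have h1 := congrArg (fun f : V n => (f i0).1) h0
    simp at h1
  have hc : ∀ a b : Ext n m, ⁅a, b⁆ ∈ Subgroup.center (Ext n m) := fun a b => by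
    rw [mem_center, commutatorElement_def, mul_u, mul_u, mul_u]
    change a.u + b.u + a.u + b.u = 0
    rw [add_right_comm _ b.u a.u, v2, zero_add, v2]
  have hzc : ⁅x, y⁆ = z := ((hZ _).mp (hc x y)).resolve_left fun h =>
    hxy (commutatorElement_eq_one_iff_mul_comm.mp h)
  have hcomm : commutator (Ext n m) = Subgroup.center (Ext n m) := by
    refine le_antisymm (Subgroup.commutator_le.mpr fun a _ b _ => hc a b) fun a ha => ?_
    rcases (hZ a).1 ha with rfl | rfl
    · exact one_mem _
    · rw [← hzc]; exact Subgroup.commutator_mem_commutator (Subgroup.mem_top _) (Subgroup.mem_top _)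
  refine ⟨⟨hP, le_antisymm ?_ ?_, hcomm⟩, ?_⟩
  · refine LocalEven.Residual.frattini_le (p := 2) (fun a b => hc a b) fun a => ?_
    rw [mem_center, pow_two, sq_eq]
  · intro a ha
    rcases (hZ a).1 ha with rfl | rfl
    · exact one_mem _
    · rw [← hzc]; exact CfsgLib.PGroup.Frattini.commutatorElement_mem_frattini hP x y
  · have h2 : (Subgroup.center (Ext n m) : Set (Ext n m)) = {1, z} := Set.ext fun a => by simpa using hZ a
    rw [← SetLike.coe_sort_coe, h2, Nat.card_coe_set_eq, Set.ncard_pair hzne.symm]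

/-- The image in `V`. -/
def image (A : Subgroup (Ext n m)) : AddSubgroup (V n) where
  carrier := {u | ∃ a ∈ A, a.u = u}
  zero_mem' := ⟨1, one_mem _, rfl⟩
  add_mem' := by
    rintro _ _ ⟨a, ha, rfl⟩ ⟨b, hb, rfl⟩
    exact ⟨a * b, mul_mem ha hb, rfl⟩
  neg_mem' := by
    rintro _ ⟨a, ha, rfl⟩
    exact ⟨a, ha, eq_neg_of_add_eq_zero_left (v2 _)⟩

theorem elementary_bound {A : Subgroup (Ext n m)} (hA : Cfsg.IsElementaryAbelian 2 A) :
    (∀ w ∈ image A, q m w = 0) ∧ Nat.card A ≤ 2 * Nat.card (image A) := by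
  refine ⟨?_, ?_⟩
  · rintro _ ⟨a, ha, rfl⟩
    have h := hA.2 a ha
    rw [pow_two, sq_eq] at h
    exact congrArg Ext.e h
  · calc Nat.card A ≤ Nat.card (ZMod 2 × image A) := Nat.card_le_card_of_injective
          (fun a : A => ((a : Ext n m).e, (⟨(a : Ext n m).u, a, a.2, rfl⟩ : image A))) fun a b h => by
            simp only [Prod.mk.injEq, Subtype.mk.injEq] at h
            exact Subtype.ext (Ext.ext h.1 (congrArg Subtype.val h.2))
      _ = 2 * Nat.card (image A) := by rw [Nat.card_prod, Nat.card_zmod]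

/-- The coordinates allowed in the large elementary abelian subgroup. -/
def allow (i : Fin n) (m : Bool) (u : Pr) : Prop := u.2 = 0 ∧ (mf m i → u.1 = 0)

def bigSub (n : ℕ) (m : Bool) : Subgroup (Ext n m) where
  carrier := {x | ∀ i, allow i m (x.u i)}
  one_mem' := fun _ => ⟨rfl, fun _ => rfl⟩
  mul_mem' := fun {x y} hx hy i => by
    refine ⟨?_, fun h => ?_⟩
    · rw [mul_u, Pi.add_apply, Prod.snd_add, (hx i).1, (hy i).1, add_zero]
    · rw [mul_u, Pi.add_apply, Prod.fst_add, (hx i).2 h, (hy i).2 h, add_zero]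
  inv_mem' := fun {x} hx => hx

theorem bigSub_β {x y : Ext n m} (hx : x ∈ bigSub n m) (hy : y ∈ bigSub n m) : β m x.u y.u = 0 := by
  refine Finset.sum_eq_zero fun i _ => ?_
  have h : ∀ (b : Bool) (u v : Pr), u.2 = 0 → v.2 = 0 → (b → u.1 = 0) → pb b u v = 0 := by decide
  exact h _ _ _ (hx i).1 (hy i).1 (hx i).2

theorem bigSub_elementary : Cfsg.IsElementaryAbelian 2 (bigSub n m) := by
  refine ⟨⟨⟨fun x y => Subtype.ext ?_⟩⟩, fun a ha => ?_⟩
  · change (x : Ext n m) * y = (y : Ext n m) * x
    rw [commute_iff, B, bigSub_β x.2 y.2, bigSub_β y.2 x.2, add_zero]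
  · rw [pow_two, sq_eq]
    exact Ext.ext (bigSub_β ha ha) rfl

theorem card_bigSub : Nat.card (bigSub n m) = 2 * ∏ i : Fin n, (if mf m i then 1 else 2) := by
  let T : Fin n → Type := fun i => {u : Pr // allow i m u}
  have e : bigSub n m ≃ ZMod 2 × (∀ i, T i) :=
    { toFun := fun x => (x.1.e, fun i => ⟨x.1.u i, x.2 i⟩)
      invFun := fun p => ⟨⟨p.1, fun i => (p.2 i).1⟩, fun i => (p.2 i).2⟩
      left_inv := fun x => rfl
      right_inv := fun p => rfl }
  rw [Nat.card_congr e, Nat.card_prod, Nat.card_zmod, Nat.card_pi]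
  congr 1
  refine Finset.prod_congr rfl fun i _ => ?_
  have h : ∀ b : Bool, Fintype.card {u : Pr // u.2 = 0 ∧ (b → u.1 = 0)} = if b then 1 else 2 := by decide
  rw [← h (mf m i), ← Nat.card_eq_fintype_card]
  rfl

end CfsgLib.PGroup.ExtraspecialBothRanks
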