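import Cfsg.Agent.Lib.PGroup.SUClosed
import Cfsg.Agent.Lib.PGroup.FusionSp

/-!
The fusion system of `PSU_n(q)` in the defining characteristic is simple.
-/

set_option autoImplicit false
set_option linter.unusedSectionVars false
set_option linter.style.haveILetI false

namespace CfsgLib.PGroup.FusionSU

open Matrix CfsgLib.Classical CfsgLib.PGroup.SplitMonomial CfsgLib.PGroup.SUModel CfsgLib.PGroup.SURoots
  CfsgLib.PGroup.SteinbergSU CfsgLib.PGroup.SUElements CfsgLib.PGroup.SUCentral CfsgLib.PGroup.SUClosed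
  CfsgLib.PGroup.FusionCriterion

variable {F : Type*} [Field F] [Fintype F] {σ : F →+* F} {n : ℕ} (D : Datum σ)

/-- Diagonal elements with equal entries are equal. -/
theorem diag_ext {d e : SUJ σ n} (hd : Monom d.1.1 1) (he : Monom e.1.1 1) (h : ∀ a, d.1.1 a a = e.1.1 a a) :
    d = e := ext' (Matrix.ext fun a b => by
  rcases eq_or_ne a b with rfl | hab
  · exact h a
  · rw [hd a b (by simpa using hab), he a b (by simpa using hab)])

theorem diag_det {d : SUJ σ n} (hd : Monom d.1.1 1) : ∏ a, d.1.1 a a = 1 := by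
  have h := d.1.2
  rw [Matrix.det_of_upperTriangular (fun a b (hab : b < a) => hd a b (by simpa using hab.ne'))] at h
  exact h

theorem emb_off {c : ℕ} (f : Fin c → Fin n) (hf : Function.Injective f) (hrev) (A : SUJ σ c) {a : Fin n}
    (ha : ∀ i, f i ≠ a) : (embU f hf hrev A).1.1 a a = 1 :=
  (slEmbed_apply_off f hf A.1 a a (Or.inl ha)).trans (Matrix.one_apply_eq a)

/-- The rank-one relation gives torus elements. -/
theorem torus_of_rel {i : ι n} {L : Subgroup (SUJ σ n)} (hU : U σ n ≤ L)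
    (hlow : ∀ x ∈ R D i, ν (s D i) * x * (ν (s D i))⁻¹ ∈ L) {x x' x'' t : SUJ σ n} (hx : x ∈ R D i) (hx' : x' ∈ R D i)
    (hx'' : x'' ∈ R D i) (he : ν (s D i) * x * ν (s D i) = x' * t * ν (s D i) * x'') :
    t * (ν (s D i))⁻¹ ∈ L := by
  set S := ν (s D i)
  have e : t * S⁻¹ = x'⁻¹ * (S * x * S⁻¹) * (S * S * x''⁻¹ * (S * S)⁻¹) := by
    have e1 : t = x'⁻¹ * (S * x * S) * x''⁻¹ * S⁻¹ := by rw [he]; group
    rw [e1]; group
  rw [e]
  exact mul_mem (mul_mem (inv_mem (hU (root_mem_U D hx'))) (hlow x hx))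
    (hU (B_conj_U _ ((splitData D).sq i) _ (inv_mem (root_mem_U D hx''))))

include D in
/-- A property of diagonal elements holding on the rank-one tori holds on all of them. -/
theorem diag_mem (hn : 4 ≤ n) {C : Subgroup (SUJ σ n)}
    (hshort : ∀ (k : Short n) (c : F) (hc : c ≠ 0), e4 k (A4 D (Matrix.SpecialLinearGroup.diag2 c hc)) ∈ C)
    (hmid2 : ∀ (a : Mid2 n) (t : F) (ht : t ≠ 0) (htσ : σ t = t), e2 a (d2 t ht htσ) ∈ C)
    (hmid3 : ∀ (a : Mid3 n) (b : F) (hb : b ≠ 0), e3 a (d3 D.conj b hb) ∈ C) :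
    ∀ d : SUJ σ n, Monom d.1.1 1 → d ∈ C := by
  suffices key : ∀ r k : ℕ, k + r + 1 = n / 2 → ∀ d : SUJ σ n, Monom d.1.1 1 →
      (∀ j : Fin n, (j : ℕ) < k → d.1.1 j j = 1) → d ∈ C from
    fun d hd => key (n / 2 - 1) 0 (by omega) d hd fun j hj => absurd hj (Nat.not_lt_zero _)
  intro r
  induction r with
  | zero =>
    intro k hk d hd h1
    set a : Fin n := ⟨k, by omega⟩ with ha
    have hav : (a : ℕ) = k := rfl
    have hh : ∀ j : Fin n, (j : ℕ) < k → d.1.1 (Fin.rev j) (Fin.rev j) = 1 := fun j hj => by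
      have h := diag_rel (mem_B_of_monom hd) j
      rwa [h1 j hj, map_one, mul_one] at h
    have hrel := diag_rel (mem_B_of_monom hd) a
    have haR : a ≠ Fin.rev a := rev_ne_of_low (by omega)
    by_cases hev : 2 * (k + 1) = n
    · have hprod : d.1.1 a a * d.1.1 (Fin.rev a) (Fin.rev a) = 1 := by
        refine Eq.trans ?_ (diag_det hd)
        rw [Fintype.prod_eq_mul a (Fin.rev a) haR fun x hx => ?_]
        have e1 := Fin.val_ne_of_ne hx.1
        have e2 := Fin.val_ne_of_ne hx.2
        rw [Fin.val_rev] at e2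
        rcases Nat.lt_or_ge (x : ℕ) k with h | h
        · exact h1 x h
        · have := hh (Fin.rev x) (by rw [Fin.val_rev]; omega)
          rwa [Fin.rev_rev] at this
      set t := d.1.1 a a
      have ht : t ≠ 0 := left_ne_zero_of_mul_eq_one hprod
      have hd' : d.1.1 (Fin.rev a) (Fin.rev a) = t⁻¹ := eq_inv_of_mul_eq_one_right hprod
      have htσ : σ t = t := by
        rw [hd', inv_mul_eq_one₀ ht] at hrel
        exact hrel.symm
      let A : Mid2 n := ⟨a, by omega⟩
      have e := hmid2 A t ht htσ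
      suffices d = e2 A (d2 t ht htσ) by rwa [this]
      have hmon : Monom (e2 A (d2 t ht htσ)).1.1 1 := embU_diag _ _ _ fun i j hij => by
        show (!![t, 0; 0, t⁻¹] : Matrix (Fin 2) (Fin 2) F) i j = 0
        fin_cases i <;> fin_cases j <;> simp at hij ⊢
      refine diag_ext hd hmon fun x => ?_
      by_cases hx : ∀ i, f2 A i ≠ x
      · rw [show (e2 A (d2 t ht htσ)).1.1 x x = 1 from emb_off _ _ _ _ hx]
        have e1 := Fin.val_ne_of_ne (hx 0)
        have e2' := Fin.val_ne_of_ne (hx 1)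
        rw [f2_val] at e1 e2'
        simp [A, hav] at e1 e2'
        rcases Nat.lt_or_ge (x : ℕ) k with h | h
        · exact h1 x h
        · have := hh (Fin.rev x) (by rw [Fin.val_rev]; omega)
          rwa [Fin.rev_rev] at this
      · push Not at hx
        obtain ⟨i, rfl⟩ := hx
        rw [e2, embU_apply_image]
        show d.1.1 _ _ = (!![t, 0; 0, t⁻¹] : Matrix (Fin 2) (Fin 2) F) i i
        fin_cases i <;> simp [f2, A, t, hd']
    · let A : Mid3 n := ⟨a, by omega⟩
      set M := m1 A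
      have hMv : (M : ℕ) = k + 1 := rfl
      have hM : Fin.rev M = M := m1_rev A
      set b := d.1.1 (Fin.rev a) (Fin.rev a)
      have hb : b ≠ 0 := left_ne_zero_of_mul_eq_one hrel
      have hσb : σ b ≠ 0 := (map_ne_zero σ).2 hb
      have hda : d.1.1 a a = (σ b)⁻¹ := by
        have h := congrArg σ hrel
        rw [map_mul, D.conj.invol, map_one] at h
        exact eq_inv_of_mul_eq_one_right h
      have hdM : d.1.1 M M = σ b / b := by
        have h : d.1.1 a a * (d.1.1 M M * b) = 1 := by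
          refine Eq.trans ?_ (diag_det hd)
          rw [← Finset.prod_subset (Finset.subset_univ ({a, M, Fin.rev a} : Finset (Fin n))) ?_]
          · have e1 : a ≠ M := Fin.ne_of_val_ne (by omega)
            have e2 : Fin.rev a ≠ M := fun e => e1 (Fin.rev_injective (e.trans hM.symm))
            rw [Finset.prod_insert (by simp [e1, haR]), Finset.prod_insert (by simp [e2.symm]), Finset.prod_singleton]
          · intro x _ hx
            simp only [Finset.mem_insert, Finset.mem_singleton, not_or] at hx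
            have e1 := Fin.val_ne_of_ne hx.1
            have e2 := Fin.val_ne_of_ne hx.2.1
            have e3 := Fin.val_ne_of_ne hx.2.2
            rw [Fin.val_rev] at e3
            rcases Nat.lt_or_ge (x : ℕ) k with h | h
            · exact h1 x h
            · have := hh (Fin.rev x) (by rw [Fin.val_rev]; omega)
              rwa [Fin.rev_rev] at this
        rw [hda] at h
        field_simp at h ⊢
        linear_combination h
      suffices d = e3 A (d3 D.conj b hb) by rw [this]; exact hmid3 A b hb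
      have hmon : Monom (e3 A (d3 D.conj b hb)).1.1 1 := embU_diag _ _ _ fun i j hij => by
        show (!![(σ b)⁻¹, 0, 0; 0, σ b / b, 0; 0, 0, b] : Matrix (Fin 3) (Fin 3) F) i j = 0
        fin_cases i <;> fin_cases j <;> simp at hij ⊢
      refine diag_ext hd hmon fun x => ?_
      by_cases hx : ∀ i, f3 A i ≠ x
      · rw [show (e3 A (d3 D.conj b hb)).1.1 x x = 1 from emb_off _ _ _ _ hx]
        have e0 := Fin.val_ne_of_ne (hx 0)
        have e1 := Fin.val_ne_of_ne (hx 1)
        have e2' := Fin.val_ne_of_ne (hx 2)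
        rw [f3_val] at e0 e1 e2'
        simp [A, hav] at e0 e1 e2'
        rcases Nat.lt_or_ge (x : ℕ) k with h | h
        · exact h1 x h
        · have := hh (Fin.rev x) (by rw [Fin.val_rev]; omega)
          rwa [Fin.rev_rev] at this
      · push Not at hx
        obtain ⟨i, rfl⟩ := hx
        rw [e3, embU_apply_image]
        show d.1.1 _ _ = (!![(σ b)⁻¹, 0, 0; 0, σ b / b, 0; 0, 0, b] : Matrix (Fin 3) (Fin 3) F) i i
        fin_cases i <;> simp [f3, A, b, hda]
        exact hdM
  | succ r ih =>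
    intro k hk d hd h1
    let K : Short n := ⟨⟨k, by omega⟩, show 2 * (k + 2) ≤ n by omega⟩
    set c := d.1.1 K.1 K.1
    have hc : c ≠ 0 := by
      have := hd.entry_ne_zero (det_ne d) K.1
      simpa using this
    set E := e4 K (A4 D (Matrix.SpecialLinearGroup.diag2 c⁻¹ (inv_ne_zero hc)))
    have hE : Monom E.1.1 1 := embU_diag _ _ _ fun i j hij => by
      rw [A4_coe, Matrix.SpecialLinearGroup.diag2_coe']
      fin_cases i <;> fin_cases j <;> simp [quad] at hij ⊢
    have hm : Monom (E * d).1.1 (1 : Equiv.Perm (Fin n)) := by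
      rw [coe_mul]; exact (mul_one (1 : Equiv.Perm (Fin n))) ▸ hE.mul hd
    have := ih (k + 1) (by omega) (E * d) hm fun j hj => by
      rw [diag_mul (mem_B_of_monom hE) (mem_B_of_monom hd)]
      rcases Nat.lt_or_ge (j : ℕ) k with h | h
      · rw [h1 j h, mul_one]
        refine emb_off _ _ _ _ fun i e => ?_
        have := congrArg Fin.val e
        rw [f4_val] at this
        fin_cases i <;> simp [K] at this <;> omega
      · obtain rfl : j = f4 K 0 := Fin.ext (by rw [f4_val]; simp [K]; omega)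
        have hEK : E.1.1 (f4 K 0) (f4 K 0) = c⁻¹ := by
          simp only [E, e4, embU_apply_image, A4_coe, Matrix.SpecialLinearGroup.diag2_coe']
          simp [quad]
        rw [hEK]
        exact inv_mul_cancel₀ hc
    have h := C.mul_mem (C.inv_mem (hshort K c⁻¹ (inv_ne_zero hc))) this
    rwa [inv_mul_cancel_left] at h

theorem s_sq_monom (i : ι n) : Monom (ν (s D i) * ν (s D i)).1.1 1 := by
  have h := monom_ν (s D i * s D i)
  rw [map_mul, show (s D i * s D i).1.1.1 = (s D i).1.1.1 * (s D i).1.1.1 from rfl, s_perm, sperm_sq] at h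
  exact h

theorem Y_conj_s_inv {i : ι n} {u : SUJ σ n} (hu : u ∈ Y D i) : (ν (s D i))⁻¹ * u * ν (s D i) ∈ Y D i := by
  have hm : Monom (ν (s D i) * ν (s D i))⁻¹.1.1 1 := by
    have := (s_sq_monom D i).of_inv (det_ne _) (A' := (ν (s D i) * ν (s D i))⁻¹.1.1)
      (by rw [← coe_mul, mul_inv_cancel]; rfl)
    rwa [inv_one] at this
  have := Y_conj_diag D hm (Y_conj_s D hu)
  convert this using 1
  group

variable {p : ℕ} [Fact p.Prime] [CharP F p] {G : Type*} [Group G] [Finite G] {π : SUJ σ n →* G}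

include D in
/-- Simplicity. -/
theorem isSimple (hn : 4 ≤ n) (hπ : Function.Surjective π) (hker : π.ker = Subgroup.center (SUJ σ n))
    (S : Sylow p G) (hS : (S : Subgroup G) = (U σ n).map π) :
    (Cfsg.groupFusionSystem (S : Subgroup G)).IsSimple p := by
  classical
  have hz : ∀ z ∈ Subgroup.center (SUJ σ n), ∀ k : ℕ, z ^ p ^ k = 1 → z = 1 := fun z hz k =>
    eq_one_of_central D (by omega) hz
  have hUp : IsPGroup p (U σ n) :=
    (UnitriangularSL.U_isPGroup (F := F) (n := n) p).comap_of_injective (SUJ σ n).subtype (SUJ σ n).subtype_injective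
  have hconjU : ∀ u ∈ U σ n, ∀ g : SUJ σ n, ∃ k : ℕ, (g * u * g⁻¹) ^ p ^ k = 1 := fun u hu g => by
    obtain ⟨b, hb⟩ := hUp ⟨u, hu⟩
    exact ⟨b, by rw [conj_pow, show u ^ p ^ b = 1 from congrArg Subtype.val hb, mul_one, mul_inv_cancel]⟩
  set o : Fin n := ⟨0, by omega⟩
  have hov : (o : ℕ) = 0 := rfl
  have hoR : o < Fin.rev o := by rw [Fin.lt_def, Fin.val_rev]; omega
  have hS1 : (S : Subgroup G) ≠ ⊥ := fun h => by
    have h1 : π (elT hoR.ne D.δ D.δ_skew) ∈ (S : Subgroup G) :=
      hS ▸ Subgroup.mem_map_of_mem π (elT_mem_U hoR D.δ D.δ_skew)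
    rw [h, Subgroup.mem_bot, ← MonoidHom.mem_ker, hker] at h1
    obtain ⟨b, hb⟩ := hUp ⟨_, elT_mem_U hoR D.δ D.δ_skew⟩
    have h2 := congrArg (fun g : SUJ σ n => g.1.1 o (Fin.rev o)) (hz _ h1 _ (congrArg Subtype.val hb :))
    simp only [elT_coe, Matrix.add_apply, Matrix.one_apply_ne hoR.ne, Matrix.single_apply_same, zero_add] at h2
    exact D.δ_ne (h2.trans (Matrix.one_apply_ne hoR.ne))
  haveI : Nonempty (ι n) := ⟨.inl ⟨o, show 2 * (0 + 2) ≤ n by omega⟩⟩
  refine isSimple_of_family S hS1 ?_ (fun i => (Y D i).map π) (fun i => hS ▸ Subgroup.map_mono (Y_le D i)) ?_ ?_ ?_ ?_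
  · intro T hT hT1 hcl
    rw [hS] at hT ⊢
    haveI : Group.IsNilpotent ((U σ n).map π) := (hUp.map π).isNilpotent
    haveI : (T.subgroupOf ((U σ n).map π)).Normal := ⟨fun x hx g => hcl g x hx (by
      rw [hS]; exact mul_mem (mul_mem g.2 x.2) (inv_mem g.2))⟩
    have hne' := CfsgLib.Solvable.FrattiniFitting.inf_center_ne_bot (T.subgroupOf ((U σ n).map π))
      (fun h => hT1 (by
        rw [Subgroup.subgroupOf_eq_bot] at h
        exact disjoint_self.1 (h.mono_right hT)))
    obtain ⟨z, hzm, hz1⟩ := (Subgroup.bot_or_exists_ne_one _).resolve_left hne'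
    obtain ⟨u, hu, huz⟩ := z.2
    refine Subgroup.map_le_iff_le_comap.2 ?_
    have hmain := closed_top D hn (T := (T.comap π) ⊓ U σ n) inf_le_right ?_ (z := u)
      ⟨show π u ∈ T by rw [huz]; exact hzm.1, hu⟩ ?_ ?_
    · exact hmain.trans inf_le_left
    · rintro g x ⟨hx, -⟩ hgx
      refine ⟨?_, hgx⟩
      show π (g * x * g⁻¹) ∈ T
      rw [map_mul, map_mul, map_inv]
      exact hcl _ _ hx (by rw [hS, ← map_inv, ← map_mul, ← map_mul]; exact Subgroup.mem_map_of_mem π hgx)
    · intro h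
      exact hz1 (Subtype.ext (by rw [← huz, h, map_one]; rfl))
    · intro v hv
      refine FusionSp.commute_of_centralizes hker hz hUp hv ?_
      rw [huz]
      exact (congrArg Subtype.val (Subgroup.mem_center_iff.1 hzm.2 ⟨π v, Subgroup.mem_map_of_mem π hv⟩) :)
  · intro i
    rw [hS]
    rintro _ ⟨A, hA, rfl⟩
    exact FusionSp.mem_normalizer_map fun u hu => Y_normal D hA hu
  · intro i g hg
    obtain ⟨c, rfl⟩ := hπ g
    obtain ⟨z, hzc, u, hu, rfl⟩ := commute_Y D hn (i := i) (c := c) fun u hu =>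
      FusionSp.commute_of_centralizes hker hz (hUp.to_le (Y_le D i)) hu
        (Subgroup.mem_centralizer_iff.1 hg (π u) (Subgroup.mem_map_of_mem π hu))
    rw [map_mul, MonoidHom.mem_ker.1 (hker.ge hzc), one_mul]
    exact Subgroup.mem_map_of_mem π hu
  · intro i
    refine ⟨π (ν (s D i)), FusionSp.mem_normalizer_map fun u hu => Y_conj_s D hu, ?_⟩
    rw [hS]
    rintro _ ⟨u, hu, rfl⟩ hconj
    refine Subgroup.mem_map_of_mem π (mem_Y_of_conj D hu ?_)
    rw [← map_inv, ← map_mul, ← map_mul] at hconj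
    refine FusionSp.mem_of_map hker hz hUp ?_ hconj
    have := hconjU u hu (ν (s D i))⁻¹
    rwa [inv_inv] at this
  · intro g hg
    rw [hS] at hg ⊢
    obtain ⟨A, rfl⟩ := hπ g
    have hA : ∀ u ∈ U σ n, A⁻¹ * u * A ∈ U σ n := fun u hu => by
      have h := (Subgroup.mem_normalizer_iff.1 (inv_mem hg) (π u)).1 (Subgroup.mem_map_of_mem π hu)
      rw [inv_inv, ← map_inv, ← map_mul, ← map_mul] at h
      refine FusionSp.mem_of_map hker hz hUp ?_ h
      have := hconjU u hu A⁻¹
      rwa [inv_inv] at this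
    obtain ⟨d, hd, -, u, hu, rfl⟩ := exists_decomp (mem_B_of_normalizes D hA)
    rw [map_mul]
    refine mul_mem ?_ (Subgroup.subset_closure (Or.inl (Subgroup.mem_map_of_mem π hu)))
    set C := Subgroup.closure (((U σ n).map π : Set G) ∪ {g | g ∈ Subgroup.normalizer (((U σ n).map π : Subgroup G) : Set G) ∧
      ∃ i, g ∈ pNormalizer p ((Y D i).map π)})
    let L : ι n → Subgroup (SUJ σ n) := fun i => (pNormalizer p ((Y D i).map π)).comap π
    have hroot : ∀ i, U σ n ≤ L i := fun i x hx => by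
      refine le_pNormalizer (hUp.map π) ?_ (Subgroup.mem_map_of_mem π hx)
      rintro _ ⟨B, hB, rfl⟩
      exact FusionSp.mem_normalizer_map fun v hv => Y_normal D hB hv
    have hlow : ∀ i, ∀ x ∈ R D i, ν (s D i) * x * (ν (s D i))⁻¹ ∈ L i := fun i x hx => by
      refine Subgroup.subset_closure ⟨FusionSp.mem_normalizer_map fun v hv => ?_, ?_⟩
      · have := Y_conj_s D (Y_normal D (root_mem_U D hx) (Y_conj_s_inv D hv))
        convert this using 1
        group
      · obtain ⟨k, hk⟩ := hconjU x (root_mem_U D hx) (ν (s D i))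
        obtain ⟨j, -, hj⟩ := (Nat.dvd_prime_pow Fact.out).1
          (orderOf_dvd_of_pow_eq_one (by rw [← map_pow, hk, map_one] : π (ν (s D i) * x * (ν (s D i))⁻¹) ^ p ^ k = 1))
        exact ⟨j, hj⟩
    have htor : ∀ (i : ι n) (e : SUJ σ n), Monom e.1.1 1 → e ∈ L i → e ∈ C.comap π := fun i e he heL =>
      Subgroup.subset_closure (Or.inr ⟨FusionSp.mem_normalizer_map fun v hv => B_conj_U _ (mem_B_of_monom he) v hv,
        i, heL⟩)
    refine diag_mem D hn (C := C.comap π) (fun k c hc => ?_) (fun a t ht htσ => ?_) (fun a b hb => ?_) d hd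
    · refine htor (.inl k) _ (embU_diag _ _ _ fun i j hij => ?_) ?_
      · rw [A4_coe, Matrix.SpecialLinearGroup.diag2_coe']
        fin_cases i <;> fin_cases j <;> simp [quad] at hij ⊢
      show Matrix.SpecialLinearGroup.diag2 c hc ∈ Subgroup.comap ((e4 k).comp (A4 D)) (L (.inl k))
      rw [show Matrix.SpecialLinearGroup.diag2 c hc = Matrix.SpecialLinearGroup.diag2n zero_ne_one c hc from rfl]
      refine UnitriangularSL.diag2n_mem _ (zero_ne_one : (0 : Fin 2) ≠ 1) (fun t => ?_) (fun t => ?_) _ _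
      · exact hroot _ (root_mem_U D (i := .inl k) ⟨t, rfl⟩)
      · have h := hlow (.inl k) _ ⟨-t, rfl⟩
        have e : SteinbergSL.w2 * Matrix.SpecialLinearGroup.transvection (zero_ne_one : (0 : Fin 2) ≠ 1) (-t) *
            (SteinbergSL.w2 : Matrix.SpecialLinearGroup (Fin 2) F)⁻¹ =
            Matrix.SpecialLinearGroup.transvection (one_ne_zero : (1 : Fin 2) ≠ 0) t := by
          rw [mul_inv_eq_iff_eq_mul]
          refine Subtype.ext ?_
          rw [Matrix.SpecialLinearGroup.coe_mul, Matrix.SpecialLinearGroup.coe_mul,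
            Matrix.SpecialLinearGroup.transvection_coe, Matrix.SpecialLinearGroup.transvection_coe,
            SteinbergSL.w2_coe]
          ext a b
          fin_cases a <;> fin_cases b <;> simp [Matrix.mul_apply, Fin.sum_univ_two]
        show e4 k (A4 D (Matrix.SpecialLinearGroup.transvection (one_ne_zero : (1 : Fin 2) ≠ 0) t)) ∈ L (.inl k)
        rw [← e, map_mul, map_mul, map_inv, map_mul, map_mul, map_inv]
        exact h
    · set i : ι n := .inr (.inl a)
      have hmon : Monom (e2 a (d2 t ht htσ)).1.1 1 := embU_diag _ _ _ fun x y hxy => by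
        show (!![t, 0; 0, t⁻¹] : Matrix (Fin 2) (Fin 2) F) x y = 0
        fin_cases x <;> fin_cases y <;> simp at hxy ⊢
      refine htor i _ hmon ?_
      have hσδ : σ D.δ = -D.δ := by linear_combination D.δ_skew
      have mk : ∀ (b : F) (hb : b + σ b = 0), b ≠ 0 → ∃ (s : F) (hs : s ≠ 0) (hsσ : σ s = s),
          s = -D.δ / b ∧ e2 a (d2 s hs hsσ) * (ν (SURoots.s D i))⁻¹ ∈ L i := by
        intro b hb hb0
        obtain ⟨c, hc, s, hs, hsσ, hse, he⟩ := rank_one2 D hb hb0
        refine ⟨s, hs, hsσ, hse, torus_of_rel D (hroot i) (hlow i) (x := e2 a (x2 b hb))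
          (x' := e2 a (x2 c hc)) (x'' := e2 a (x2 c hc)) ⟨b, hb, rfl⟩ ⟨c, hc, rfl⟩ ⟨c, hc, rfl⟩ ?_⟩
        show e2 a (w2' D) * _ * e2 a (w2' D) = _ * _ * e2 a (w2' D) * _
        rw [← map_mul, ← map_mul, he, map_mul, map_mul, map_mul]
      have hb1 : D.δ / t + σ (D.δ / t) = 0 := by rw [map_div₀, hσδ, htσ, neg_div, add_neg_cancel]
      obtain ⟨s1, hs1, hsσ1, e1, m1'⟩ := mk (D.δ / t) hb1 (div_ne_zero D.δ_ne ht)
      obtain ⟨s2, hs2, hsσ2, e2', m2'⟩ := mk D.δ D.δ_skew D.δ_ne
      have hs1' : s1 = -t := by rw [e1]; field_simp [D.δ_ne]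
      have hs2' : s2 = -1 := by rw [e2', neg_div, div_self D.δ_ne]
      have hmul : d2 t ht htσ * d2 s2 hs2 hsσ2 = d2 s1 hs1 hsσ1 := ext' (by
        rw [coe_mul]
        show !![t, 0; 0, t⁻¹] * !![s2, 0; 0, s2⁻¹] = !![s1, 0; 0, s1⁻¹]
        ext x y
        fin_cases x <;> fin_cases y <;> simp [Matrix.mul_apply, Fin.sum_univ_two, hs1', hs2'])
      have := (L i).mul_mem m1' ((L i).inv_mem m2')
      rw [← hmul, map_mul] at this
      convert this using 1
      group
    · set i : ι n := .inr (.inr a)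
      have hmon : Monom (e3 a (d3 D.conj b hb)).1.1 1 := embU_diag _ _ _ fun x y hxy => by
        show (!![(σ b)⁻¹, 0, 0; 0, σ b / b, 0; 0, 0, b] : Matrix (Fin 3) (Fin 3) F) x y = 0
        fin_cases x <;> fin_cases y <;> simp at hxy ⊢
      refine htor i _ hmon ?_
      have mk : ∀ (c : F) (hc : c ≠ 0), e3 a (d3 D.conj c hc) * (ν (s D i))⁻¹ ∈ L i := by
        intro c hc
        obtain ⟨y, hy⟩ := D.conj.exists_norm_eq (a := -(c + σ c)) (by
          rw [map_neg, map_add, D.conj.invol, add_comm])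
        have hcy : c + σ c + y * σ y = 0 := by rw [hy, add_neg_cancel]
        obtain ⟨a1, b1, h1, a2, b2, h2, he⟩ := rank_one3 D.conj hcy hc
        refine torus_of_rel D (hroot i) (hlow i) (x := e3 a (x3 D.conj y c hcy))
          (x' := e3 a (x3 D.conj a1 b1 h1)) (x'' := e3 a (x3 D.conj a2 b2 h2))
          ⟨y, c, hcy, rfl⟩ ⟨a1, b1, h1, rfl⟩ ⟨a2, b2, h2, rfl⟩ ?_
        show e3 a (w3 σ) * _ * e3 a (w3 σ) = _ * _ * e3 a (w3 σ) * _
        rw [← map_mul, ← map_mul, he, map_mul, map_mul, map_mul]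
      have h1 : d3 D.conj (1 : F) one_ne_zero = 1 := ext' (by
        show !![(σ (1 : F))⁻¹, 0, 0; 0, σ (1 : F) / 1, 0; 0, 0, 1] = (1 : Matrix (Fin 3) (Fin 3) F)
        ext x y
        fin_cases x <;> fin_cases y <;> simp)
      have h2 := mk 1 one_ne_zero
      rw [h1, map_one, one_mul] at h2
      have := (L i).mul_mem (mk b hb) ((L i).inv_mem h2)
      rwa [inv_inv, inv_mul_cancel_right] at this

end CfsgLib.PGroup.FusionSU
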