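import Cfsg.Agent.Lib.Solvable.Hall
import Cfsg.Agent.Lib.Solvable.Basic
import Mathlib.GroupTheory.Perm.Cycle.Type

/-!
P. Hall's theorem on the number of Hall subgroups of a solvable group.
-/

set_option linter.style.haveILetI false

namespace CfsgLib.PGroup.HallCount

open scoped Pointwise
open CfsgLib.Solvable.Basic

/-- The shape of the factors in Hall's count. -/
def IsHallFactor (G : Type*) [Group G] (m : ℕ) (x : ℕ) : Prop :=
  (∃ q e : ℕ, q.Prime ∧ x = q ^ e) ∧
    (∃ K L : Subgroup G, K.Normal ∧ L.Normal ∧ K < L ∧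
      (∀ M : Subgroup G, M.Normal → K ≤ M → M ≤ L → M = K ∨ M = L) ∧ x ∣ K.relIndex L) ∧
    (∃ q : ℕ, q.Prime ∧ q ∣ m ∧ x ≡ 1 [MOD q])

/-- A solvable nontrivial group has a normal subgroup of prime index. -/
theorem exists_normal_prime_index (H : Type*) [Group H] [Finite H] [Nontrivial H]
    [Group.IsSolvable H] : ∃ M : Subgroup H, M.Normal ∧ M.index.Prime := by
  obtain hc | ⟨M, hM, hle⟩ := eq_top_or_exists_le_coatom (commutator H)
  · exact absurd hc (Group.IsSolvable.commutator_lt_top_of_nontrivial H).ne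
  have hn : M.Normal := Subgroup.Normal.of_commutator_le _ hle
  refine ⟨M, hn, ?_⟩
  obtain ⟨r, hr, hrd⟩ := Nat.exists_prime_and_dvd (n := M.index)
    (fun h => hM.1 (Subgroup.index_eq_one.1 h))
  haveI := Fact.mk hr
  obtain ⟨z, hz⟩ := exists_prime_orderOf_dvd_card' (G := H ⧸ M) r hrd
  have hne : z ≠ 1 := fun h => hr.ne_one (by rw [← hz, h, orderOf_one])
  have htop : (Subgroup.zpowers z).comap (QuotientGroup.mk' M) = ⊤ := by
    refine hM.2 _ (lt_of_le_of_ne (QuotientGroup.le_comap_mk' M _) fun h => hne ?_)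
    obtain ⟨w, rfl⟩ := QuotientGroup.mk'_surjective M z
    exact (QuotientGroup.eq_one_iff w).2 (h ▸ Subgroup.mem_zpowers _)
  have h2 : Subgroup.zpowers z = ⊤ := by
    rw [← Subgroup.map_comap_eq_self_of_surjective (QuotientGroup.mk'_surjective M)
      (Subgroup.zpowers z), htop, Subgroup.map_top_of_surjective _ (QuotientGroup.mk'_surjective M)]
  rw [Subgroup.index_eq_card, ← Nat.card_congr Subgroup.topEquiv.toEquiv, ← h2,
    Nat.card_zpowers, hz]
  exact hr

variable {G : Type*} [Group G]

theorem mem_normalizer_iff_smul {H : Subgroup G} {g : G} :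
    g ∈ Subgroup.normalizer (H : Set G) ↔ MulAut.conj g • H = H :=
  Subgroup.mem_normalizer_iff_map_conj_eq

/-- Coprime action on an abelian `q`-group: the index of the fixed points. -/
theorem exists_fixed_factors [Finite G] (N : Subgroup G) [N.Normal] (q a : ℕ) (hq : q.Prime)
    (hN : Nat.card N = q ^ a) :
    ∀ n : ℕ, ∀ H : Subgroup G, Nat.card H = n → Group.IsSolvable H → n.Coprime q →
      ∃ l : List ℕ, l.prod = (N ⊓ Subgroup.centralizer (H : Set G)).relIndex N ∧
        ∀ x ∈ l, (∃ e, x = q ^ e) ∧ ∃ r : ℕ, r.Prime ∧ r ∣ n ∧ x ≡ 1 [MOD r] := by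
  classical
  intro n
  induction n using Nat.strong_induction_on with | _ n ih =>
  intro H hn hsol hcop
  by_cases hH : H = ⊥
  · refine ⟨[], ?_, by simp⟩
    rw [List.prod_nil, eq_comm, Subgroup.relIndex_eq_one]
    refine le_inf le_rfl fun x _ => Subgroup.mem_centralizer_iff.mpr fun h hh => ?_
    rw [hH] at hh
    rw [Subgroup.mem_bot.mp hh, one_mul, mul_one]
  haveI : Nontrivial H := (Subgroup.nontrivial_iff_ne_bot H).mpr hH
  obtain ⟨M, hMn, hMp⟩ := exists_normal_prime_index H
  set r := M.index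
  have hMH : M.map H.subtype ≤ H := Subgroup.map_subtype_le M
  have hMcard : Nat.card (M.map H.subtype) = Nat.card M :=
    Subgroup.card_map_of_injective H.subtype_injective
  have hrn : r ∣ n := hn ▸ M.index_dvd_card
  have hlt : Nat.card M < n := by
    rw [← hn, ← M.card_mul_index]
    exact (lt_mul_iff_one_lt_right Nat.card_pos).mpr hMp.one_lt
  have hdvd : Nat.card M ∣ n := hn ▸ M.card_subgroup_dvd_card
  have hsolM : Group.IsSolvable (M.map H.subtype) := solvable_of_surjective
    (f := (M.equivMapOfInjective H.subtype H.subtype_injective).toMonoidHom)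
    (M.equivMapOfInjective H.subtype H.subtype_injective).surjective
  obtain ⟨l, hl, hfac⟩ := ih _ hlt (M.map H.subtype) hMcard hsolM (hcop.coprime_dvd_left hdvd)
  set C₁ := N ⊓ Subgroup.centralizer (M.map H.subtype : Set G) with hC₁
  set C := N ⊓ Subgroup.centralizer (H : Set G) with hC
  have hCC : C ≤ C₁ := inf_le_inf_left _ (Subgroup.centralizer_le hMH)
  refine ⟨C.relIndex C₁ :: l, ?_, ?_⟩
  · rw [List.prod_cons, hl]
    exact Subgroup.relIndex_mul_relIndex C C₁ N hCC inf_le_left
  intro x hx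
  rcases List.mem_cons.mp hx with rfl | hx
  swap
  · obtain ⟨he, s, hs, hsd, hsm⟩ := hfac x hx
    exact ⟨he, s, hs, hsd.trans hdvd, hsm⟩
  have hpow : ∃ e, C.relIndex C₁ = q ^ e := by
    have hd : C.relIndex C₁ ∣ q ^ a := by
      rw [← hN]
      exact (Subgroup.relIndex_dvd_card C C₁).trans (Subgroup.card_dvd_of_le inf_le_left)
    obtain ⟨e, -, he⟩ := (Nat.dvd_prime_pow hq).mp hd
    exact ⟨e, he⟩
  refine ⟨hpow, r, hMp, hrn, ?_⟩
  -- `H` acts on `C₁` through an element of order `r`
  haveI := Fact.mk hMp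
  obtain ⟨h, hh⟩ : ∃ h : H, h ∉ M := by
    by_contra hc
    push Not at hc
    exact hMp.ne_one (Subgroup.index_eq_one.mpr (eq_top_iff.mpr fun y _ => hc y))
  have hinvC : ∀ (y : H), ∀ c ∈ C₁, ((y : G))⁻¹ * c * y ∈ C₁ := by
    intro y c hc
    refine ⟨by simpa using ‹N.Normal›.conj_mem c hc.1 (y : G)⁻¹,
      Subgroup.mem_centralizer_iff.mpr ?_⟩
    rintro _ ⟨m, hm, rfl⟩
    have hm' : y * m * y⁻¹ ∈ M := hMn.conj_mem m hm y
    have h1 := Subgroup.mem_centralizer_iff.mp hc.2 _ ⟨_, hm', rfl⟩
    simp only [map_mul, map_inv, Subgroup.coe_subtype] at h1 ⊢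
    rw [show (m : G) * ((y : G)⁻¹ * c * y) = (y : G)⁻¹ * ((y : G) * m * (y : G)⁻¹ * c) * y by group,
      h1]
    group
  let σ : Equiv.Perm C₁ :=
    { toFun := fun c => ⟨(h : G) * c * (h : G)⁻¹, by simpa using hinvC h⁻¹ c c.2⟩
      invFun := fun c => ⟨(h : G)⁻¹ * c * h, hinvC h c c.2⟩
      left_inv := fun c => Subtype.ext (by simp [mul_assoc])
      right_inv := fun c => Subtype.ext (by simp [mul_assoc]) }
  have hσk : ∀ (k : ℕ) (c : C₁), (((σ ^ k) c : C₁) : G) = (h : G) ^ k * c * ((h : G) ^ k)⁻¹ := by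
    intro k
    induction k with
    | zero => intro c; simp
    | succ k ihk =>
      intro c
      rw [pow_succ', Equiv.Perm.mul_apply]
      show (h : G) * (((σ ^ k) c : C₁) : G) * (h : G)⁻¹ = _
      rw [ihk, pow_succ']
      group
  have hhr : h ^ r ∈ M := M.pow_index_mem h
  have hσr : σ ^ r ^ 1 = 1 := by
    ext c
    rw [pow_one, hσk, Equiv.Perm.one_apply]
    have h1 := Subgroup.mem_centralizer_iff.mp c.2.2 _ ⟨_, hhr, rfl⟩
    simp only [Subgroup.coe_subtype, SubgroupClass.coe_pow] at h1
    rw [h1, mul_inv_cancel_right]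
  haveI := Fintype.ofFinite C₁
  have hfix : σ.supportᶜ.card = Nat.card C := by
    rw [← Nat.card_eq_finsetCard]
    refine Nat.card_congr
      { toFun := fun c => ⟨(c.1 : G), ⟨c.1.2.1, ?_⟩⟩
        invFun := fun c => ⟨⟨c.1, hCC c.2⟩, ?_⟩
        left_inv := fun _ => rfl
        right_inv := fun _ => rfl }
    · have h0 : σ c.1 = c.1 := by
        have := c.2
        rwa [Finset.mem_compl, Equiv.Perm.mem_support, not_not] at this
      have h1 : (h : G) * (c.1 : G) * (h : G)⁻¹ = (c.1 : G) := congrArg Subtype.val h0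
      -- the stabilizer contains `M` and `h`
      let T : Subgroup H := (Subgroup.centralizer {(c.1 : G)}).comap H.subtype
      have hMT : M ≤ T := fun m hm => Subgroup.mem_centralizer_singleton_iff.mpr
        (Subgroup.mem_centralizer_iff.mp c.1.2.2 _ ⟨m, hm, rfl⟩)
      have hhT : h ∈ T := Subgroup.mem_centralizer_singleton_iff.mpr (mul_inv_eq_iff_eq_mul.mp h1)
      have hT : T = ⊤ := by
        rw [← Subgroup.index_eq_one]
        rcases (Nat.dvd_prime hMp).mp (Subgroup.index_dvd_of_le hMT) with h2 | h2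
        · exact h2
        · exfalso
          have h3 : M.relIndex T = 1 := by
            have h4 := Subgroup.relIndex_mul_index hMT
            rw [h2] at h4
            exact Nat.eq_of_mul_eq_mul_right hMp.pos (by rw [one_mul]; exact h4)
          exact hh (Subgroup.relIndex_eq_one.mp h3 hhT)
      refine Subgroup.mem_centralizer_iff.mpr fun y hy => ?_
      have h5 : (⟨y, hy⟩ : H) ∈ T := hT ▸ Subgroup.mem_top _
      exact Subgroup.mem_centralizer_singleton_iff.mp h5
    · rw [Finset.mem_compl, Equiv.Perm.mem_support, not_not]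
      refine Subtype.ext ?_
      show (h : G) * c.1 * (h : G)⁻¹ = c.1
      rw [Subgroup.mem_centralizer_iff.mp c.2.2 _ h.2, mul_inv_cancel_right]
  have hmod := Equiv.Perm.card_compl_support_modEq hσr
  rw [hfix, ← Nat.card_eq_fintype_card,
    ← (C.subgroupOf C₁).card_mul_index, Nat.card_congr (Subgroup.subgroupOfEquivOfLe hCC).toEquiv]
    at hmod
  have hcr : r.Coprime (Nat.card C) := by
    have h1 : Nat.card C ∣ q ^ a := hN ▸ Subgroup.card_dvd_of_le inf_le_left
    exact (((hcop.coprime_dvd_left hrn).pow_right a).coprime_dvd_right h1)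
  refine Nat.ModEq.cancel_left_of_coprime (c := Nat.card C) ?_ ?_
  · exact hcr
  · rw [mul_one]; exact hmod.symm

theorem relIndex_eq_relIndex_inf_normalizer [Finite G] {N S K : Subgroup G} [N.Normal]
    (hS : S ≤ K) (hN : N ≤ K) (htop : K ≤ N ⊔ S) : S.relIndex K = (S ⊓ N).relIndex N := by
  have h1 : K = S ⊔ N := le_antisymm (htop.trans (sup_comm N S).le) (sup_le hS hN)
  have h2 : (S ⊓ N).relIndex S = N.relIndex K := by
    rw [inf_comm, Subgroup.inf_relIndex_right, h1, Subgroup.relIndex_sup_right]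
  have h3 := Subgroup.relIndex_mul_relIndex (S ⊓ N) S K inf_le_left hS
  have h4 := Subgroup.relIndex_mul_relIndex (S ⊓ N) N K inf_le_right hN
  rw [← h4, h2, mul_comm] at h3
  exact Nat.eq_of_mul_eq_mul_right
    (Nat.pos_of_ne_zero (Subgroup.index_ne_zero_of_finite (H := N.subgroupOf K))) h3

theorem exists_factors : ∀ (N : ℕ) (G : Type*) [Group G] [Finite G] [Group.IsSolvable G],
    Nat.card G = N → ∀ (m n : ℕ), Nat.card G = m * n → m.Coprime n →
      ∀ H : Subgroup G, Nat.card H = m →
        ∃ l : List ℕ, l.prod = (Subgroup.normalizer (H : Set G)).index ∧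
          ∀ x ∈ l, IsHallFactor G m x := by
  intro N
  induction N using Nat.strong_induction_on with | _ N ih =>
  intro G _ _ _ hcardG m n hG hmn H hH
  cases subsingleton_or_nontrivial G
  · refine ⟨[], ?_, by simp⟩
    rw [List.prod_nil, eq_comm, Subgroup.index_eq_one, Subgroup.eq_top_iff']
    exact fun x => Subsingleton.elim x 1 ▸ one_mem _
  obtain ⟨V, q, hq, hVn, hV, -, hVc, hVp, hmin⟩ :=
    exists_minimal_normal_pgroup (G := G) (H := ⊤) top_ne_bot
  haveI := hVn
  haveI := Fact.mk hq
  obtain ⟨a, ha⟩ := IsPGroup.iff_card.mp hVp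
  have ha0 : a ≠ 0 := by
    rintro rfl
    exact hV (Subgroup.eq_bot_of_card_eq V (by simpa using ha))
  let π := QuotientGroup.mk' V
  have hπ := QuotientGroup.mk'_surjective V
  set K := H ⊔ V with hK
  set Hb := H.map π with hHb
  have hcomap : Hb.comap π = K := by
    rw [hHb, Subgroup.comap_map_eq, QuotientGroup.ker_mk']
  have hcardK : Nat.card Hb * Nat.card V = Nat.card K := by
    have h1 := (V.subgroupOf K).card_mul_index
    rw [Nat.card_congr (Subgroup.subgroupOfEquivOfLe (le_sup_right : V ≤ K)).toEquiv] at h1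
    rw [← h1, mul_comm]
    congr 1
    show Nat.card Hb = V.relIndex K
    rw [hK, Subgroup.relIndex_sup_right, hHb]
    show Nat.card (H.map π) = (V.subgroupOf H).index
    rw [Subgroup.index_eq_card]
    exact (Nat.card_congr ((QuotientGroup.quotientMulEquivOfEq
      (M := V.subgroupOf H) (N := (π.comp H.subtype).ker) (by
        ext x; simp [π, Subgroup.mem_subgroupOf, QuotientGroup.eq_one_iff])).trans
      ((QuotientGroup.quotientKerEquivRange _).trans
        (MulEquiv.subgroupCongr (by rw [MonoidHom.range_comp, Subgroup.range_subtype])))).toEquiv).symm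
  -- the index splits along `K`
  have hnorm : (Subgroup.normalizer (Hb : Set (G ⧸ V))).comap π =
      Subgroup.normalizer (K : Set G) := by
    rw [Subgroup.comap_normalizer_eq_of_surjective _ hπ, hcomap]
  have hidx : (Subgroup.normalizer (K : Set G)).index =
      (Subgroup.normalizer (Hb : Set (G ⧸ V))).index := by
    rw [← hnorm, Subgroup.index_comap_of_surjective _ hπ]
  have hNle : Subgroup.normalizer (H : Set G) ≤ Subgroup.normalizer (K : Set G) := by
    refine le_trans (le_inf le_rfl ?_) (Subgroup.normalizer_inf_normalizer_le_normalizer_sup H V)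
    rw [Subgroup.normalizer_eq_top (H := V)]
    exact le_top
  have hsplit : (Subgroup.normalizer (H : Set G)).index =
      (Subgroup.normalizer (H : Set G)).relIndex (Subgroup.normalizer (K : Set G)) *
        (Subgroup.normalizer (K : Set G)).index := (Subgroup.relIndex_mul_index hNle).symm
  -- the quotient
  have hlt : Nat.card (G ⧸ V) < N := hcardG ▸ card_quotient_lt V hV
  have hcV : Nat.card G = Nat.card V * Nat.card (G ⧸ V) := by
    rw [← Subgroup.index_eq_card, V.card_mul_index]
  have hlift : ∀ {m' : ℕ}, m' ∣ m → ∀ x, IsHallFactor (G ⧸ V) m' x → IsHallFactor G m x := by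
    rintro m' hm' x ⟨hx1, ⟨A, B, hA, hB, hAB, hch, hxd⟩, r, hr, hrd, hrm⟩
    refine ⟨hx1, ⟨A.comap π, B.comap π, hA.comap π, hB.comap π,
      (Subgroup.comap_lt_comap_of_surjective hπ).mpr hAB, ?_, ?_⟩, r, hr, hrd.trans hm', hrm⟩
    · intro M hM h1 h2
      have hker : π.ker ≤ M := le_trans (MonoidHom.ker_le_comap π A) h1
      have h3 : (M.map π).comap π = M := by rw [Subgroup.comap_map_eq, sup_eq_left.mpr hker]
      rcases hch (M.map π) (hM.map π hπ)
        (by rw [← Subgroup.map_comap_eq_self_of_surjective hπ A]; exact Subgroup.map_mono h1)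
        (Subgroup.map_le_iff_le_comap.mpr h2) with h | h
      · left; rw [← h3, h]
      · right; rw [← h3, h]
    · rwa [Subgroup.relIndex_comap, Subgroup.map_comap_eq_self_of_surjective hπ]
  by_cases hqm : q ∣ m
  · -- `V ≤ H`
    obtain ⟨g, hg⟩ := CfsgLib.Solvable.Hall.le_conj (K := V) hG hmn hH (by
      rw [ha]
      exact (Nat.Coprime.coprime_dvd_left hqm hmn).pow_left a)
    have hVH : V ≤ H := by
      intro v hv
      have h1 := hg (hVn.conj_mem v hv g)
      rw [Subgroup.mem_pointwise_smul_iff_inv_smul_mem] at h1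
      simpa [mul_assoc] using h1
    have hKH : K = H := sup_eq_left.mpr hVH
    have hm' : m = Nat.card V * Nat.card Hb := by rw [← hH, ← hKH, ← hcardK, mul_comm]
    have hG' : Nat.card (G ⧸ V) = Nat.card Hb * n := by
      have := hcV
      rw [hG, hm', mul_assoc] at this
      exact (Nat.eq_of_mul_eq_mul_left Nat.card_pos this).symm
    obtain ⟨l, hl, hfac⟩ := ih _ hlt (G ⧸ V) rfl (Nat.card Hb) n hG'
      (hmn.coprime_dvd_left (Dvd.intro_left _ hm'.symm)) Hb rfl
    exact ⟨l, by rw [hl, ← hidx, hKH], fun x hx => hlift (Dvd.intro_left _ hm'.symm) x (hfac x hx)⟩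
  · -- `V` meets `H` trivially
    have hcop : m.Coprime q := ((hq.coprime_iff_not_dvd).mpr hqm).symm
    have hHbm : Nat.card Hb = m := by
      have h1 : Nat.card Hb * Nat.card V = m * Nat.card V := by
        rw [hcardK, hK]
        show Nat.card (H ⊔ V : Subgroup G) = _
        have h2 := (H.subgroupOf (H ⊔ V)).card_mul_index
        rw [Nat.card_congr (Subgroup.subgroupOfEquivOfLe (le_sup_left : H ≤ H ⊔ V)).toEquiv] at h2
        have h3 : H.relIndex (H ⊔ V) = (H ⊓ V).relIndex V :=
          relIndex_eq_relIndex_inf_normalizer le_sup_left le_sup_right (sup_comm H V).le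
        have h4 : H ⊓ V = ⊥ := Subgroup.inf_eq_bot_of_coprime (by
          rw [hH, ha]; exact hcop.pow_right a)
        rw [h4, Subgroup.relIndex_bot_left] at h3
        rw [← h2, hH]
        exact congrArg (m * ·) h3
      exact Nat.eq_of_mul_eq_mul_right Nat.card_pos h1
    have hqn : q ^ a ∣ n := by
      refine (Nat.Coprime.dvd_of_dvd_mul_left (hcop.symm.pow_left a) ?_)
      rw [← hG, ← ha]; exact Subgroup.card_subgroup_dvd_card V
    obtain ⟨n', hn'⟩ := hqn
    have hG' : Nat.card (G ⧸ V) = m * n' := by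
      have h := hcV
      rw [hG, hn', ha] at h
      exact Nat.eq_of_mul_eq_mul_left (pow_pos hq.pos a) (by rw [← h]; ring)
    obtain ⟨l, hl, hfac⟩ := ih _ hlt (G ⧸ V) rfl m n' hG'
      (hmn.coprime_dvd_right (Dvd.intro_left _ hn'.symm)) Hb hHbm
    obtain ⟨l', hl', hfac'⟩ := exists_fixed_factors V q a hq ha m H hH inferInstance hcop
    refine ⟨l' ++ l, ?_, ?_⟩
    · rw [List.prod_append, hl, hl', hsplit, hidx]
      congr 1
      have htop : Subgroup.normalizer (K : Set G) ≤ V ⊔ Subgroup.normalizer (H : Set G) := by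
        intro g hg
        set K' := K
        have hgK : ∀ y ∈ H, g * y * g⁻¹ ∈ K' := fun y hy =>
          ((Subgroup.mem_normalizer_iff.mp hg) y).mp (Subgroup.mem_sup_left hy)
        have hHK : H ≤ K' := le_sup_left
        have hgle : MulAut.conj g • H ≤ K' := by
          rintro _ ⟨y, hy, rfl⟩; exact hgK y hy
        haveI : Group.IsSolvable K' := inferInstance
        have hc : ∀ X : Subgroup G, X ≤ K' → Nat.card (X.subgroupOf K') = Nat.card X := fun X hX =>
          Nat.card_congr (Subgroup.subgroupOfEquivOfLe hX).toEquiv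
        have hKc : Nat.card K' = m * q ^ a := by rw [← hcardK, hHbm, ha]
        obtain ⟨x, hx⟩ := CfsgLib.Solvable.Hall.conj_eq (G := K') hKc (hcop.pow_right a)
          (H := H.subgroupOf K') (K := (MulAut.conj g • H).subgroupOf K')
          (by rw [hc _ hHK, hH]) (by
            rw [hc _ hgle, ← hH]
            exact (Nat.card_congr (Subgroup.equivSMul (MulAut.conj g) H).toEquiv).symm)
        have hx' : MulAut.conj (x : G) • H = MulAut.conj g • H := by
          ext y
          constructor
          · rintro ⟨z, hz, rfl⟩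
            have h1 : x * (⟨z, hHK hz⟩ : K') * x⁻¹ ∈
                (MulAut.conj g • H).subgroupOf K' := hx ▸ ⟨⟨z, hHK hz⟩, hz, rfl⟩
            exact h1
          · intro hy
            have h1 : (⟨y, hgle hy⟩ : K') ∈ MulAut.conj x • H.subgroupOf K' := hx ▸ hy
            obtain ⟨z, hz, hze⟩ := h1
            exact ⟨z, hz, congrArg Subtype.val hze⟩
        have hn : (x : G)⁻¹ * g ∈ Subgroup.normalizer (H : Set G) := by
          have h2 : MulAut.conj ((x : G)⁻¹ * g) • H = H := by
            rw [map_mul, mul_smul, ← hx', map_inv, inv_smul_smul]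
          rw [Subgroup.mem_normalizer_iff]
          intro y
          conv_rhs => rw [← h2]
          exact ⟨fun hy => ⟨y, hy, rfl⟩, fun ⟨z, hz, hze⟩ =>
            (MulAut.conj ((x : G)⁻¹ * g)).injective hze ▸ hz⟩
        obtain ⟨y, hy, v, hv, hxe⟩ := Subgroup.mem_sup_of_normal_right.mp x.2
        have h3 : g = (y * v * y⁻¹) * (y * ((x : G)⁻¹ * g)) := by
          rw [← hxe]; group
        rw [h3]
        exact Subgroup.mul_mem_sup (hVn.conj_mem v hv y)
          (Subgroup.mul_mem _ (Subgroup.le_normalizer hy) hn)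
      have hVK : V ≤ Subgroup.normalizer (K : Set G) :=
        le_sup_right.trans Subgroup.le_normalizer
      rw [relIndex_eq_relIndex_inf_normalizer hNle hVK htop]
      congr 1
      refine (le_antisymm (le_inf inf_le_right fun v hv => ?_)
        (le_inf (fun v hv => ?_) inf_le_left)).symm
      · refine Subgroup.mem_centralizer_iff.mpr fun y hy => ?_
        have h1 : v * y * v⁻¹ * y⁻¹ ∈ H :=
          H.mul_mem ((Subgroup.mem_normalizer_iff.mp hv.1 y).mp hy) (H.inv_mem hy)
        have h2 : v * y * v⁻¹ * y⁻¹ ∈ V := by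
          rw [show v * y * v⁻¹ * y⁻¹ = v * (y * v⁻¹ * y⁻¹) by group]
          exact V.mul_mem hv.2 (hVn.conj_mem _ (V.inv_mem hv.2) y)
        have h4 : H ⊓ V = ⊥ := Subgroup.inf_eq_bot_of_coprime (by
          rw [hH, ha]; exact hcop.pow_right a)
        have h5 := Subgroup.mem_bot.mp (h4.le ⟨h1, h2⟩)
        rw [mul_inv_eq_one, mul_inv_eq_iff_eq_mul] at h5
        exact h5.symm
      · exact Subgroup.centralizer_le_normalizer _ hv.2
    · intro x hx
      rcases List.mem_append.mp hx with hx | hx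
      · obtain ⟨⟨e, he⟩, r, hr, hrd, hrm⟩ := hfac' x hx
        refine ⟨⟨q, e, hq, he⟩, ⟨⊥, V, inferInstance, hVn, bot_lt_iff_ne_bot.mpr hV,
          fun M hM _ h2 => hmin M hM h2, ?_⟩, r, hr, hrd, hrm⟩
        have hd := List.dvd_prod hx
        rw [hl'] at hd
        rw [Subgroup.relIndex_bot_left]
        exact hd.trans (Subgroup.relIndex_dvd_card _ _)
      · exact hlift dvd_rfl x (hfac x hx)

theorem count [Finite G] [Group.IsSolvable G] (m n : ℕ) (hG : Nat.card G = m * n)
    (hmn : m.Coprime n) :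
    ∃ (k : ℕ) (f : Fin k → ℕ), Nat.card {H : Subgroup G // Nat.card H = m} = ∏ i, f i ∧
      ∀ i, IsHallFactor G m (f i) := by
  obtain ⟨H, hH, -⟩ := CfsgLib.Solvable.Hall.exists_hall_ge hG hmn (K := ⊥) (by simp)
  obtain ⟨l, hl, hfac⟩ := exists_factors _ G rfl m n hG hmn H hH
  refine ⟨l.length, fun i => l[i], ?_, fun i => hfac _ (List.getElem_mem _)⟩
  show _ = ∏ i : Fin l.length, l[i.1]
  rw [Fin.prod_univ_getElem, hl, Subgroup.index_eq_card]
  refine (Nat.card_congr (Equiv.ofBijective
    (Quotient.lift (fun g => (⟨MulAut.conj g • H,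
      (Nat.card_congr (Subgroup.equivSMul (MulAut.conj g) H).toEquiv).symm.trans hH⟩ :
      {H : Subgroup G // Nat.card H = m})) ?_) ⟨?_, ?_⟩)).symm
  · intro a b hab
    have h1 := QuotientGroup.leftRel_apply.mp hab
    refine Subtype.ext ?_
    show MulAut.conj a • H = MulAut.conj b • H
    conv_rhs => rw [show b = a * (a⁻¹ * b) by group, map_mul, mul_smul]
    congr 1
    exact (mem_normalizer_iff_smul.mp h1).symm
  · intro u v
    induction u using Quotient.inductionOn with | _ a =>
    induction v using Quotient.inductionOn with | _ b =>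
    intro h
    refine Quotient.sound (QuotientGroup.leftRel_apply.mpr ?_)
    have h1 : MulAut.conj a • H = MulAut.conj b • H := congrArg Subtype.val h
    refine mem_normalizer_iff_smul.mpr ?_
    rw [map_mul, mul_smul, ← h1, map_inv, inv_smul_smul]
  · rintro ⟨X, hX⟩
    obtain ⟨g, hg⟩ := CfsgLib.Solvable.Hall.conj_eq hG hmn hH hX
    exact ⟨Quotient.mk _ g, Subtype.ext hg⟩

end CfsgLib.PGroup.HallCount
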