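import Cfsg.Agent.Lib.PGroup.TateRelative
import Cfsg.Agent.Lib.PGroup.Frattini
import Cfsg.Prelude.Def_BaumannBlocks

/-!
The Hall–Wielandt transfer theorem.
-/

set_option autoImplicit false
set_option linter.style.haveILetI false

namespace CfsgLib.PGroup.HallWielandt

open scoped commutatorElement
open CfsgLib.Fusion.Basic

variable {G : Type*} [Group G] {A : Type*} [CommGroup A]

/-- Extension by `1` of a homomorphism on a subgroup. -/
noncomputable def ext1 {R : Subgroup G} (ψ : R →* A) (y : G) : A :=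
  open scoped Classical in if h : y ∈ R then ψ ⟨y, h⟩ else 1

theorem ext1_of_mem {R : Subgroup G} (ψ : R →* A) {y : G} (h : y ∈ R) :
    ext1 ψ y = ψ ⟨y, h⟩ := by
  classical
  exact dif_pos h

theorem ext1_of_not_mem {R : Subgroup G} (ψ : R →* A) {y : G} (h : y ∉ R) : ext1 ψ y = 1 := by
  classical
  exact dif_neg h

theorem ext1_conj {R : Subgroup G} (ψ : R →* A) (y : G) {r : G} (hr : r ∈ R) :
    ext1 ψ (r⁻¹ * y * r) = ext1 ψ y := by
  by_cases h : y ∈ R
  · rw [ext1_of_mem ψ h, ext1_of_mem ψ (R.mul_mem (R.mul_mem (R.inv_mem hr) h) hr)]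
    show ψ ((⟨r, hr⟩ : R)⁻¹ * ⟨y, h⟩ * ⟨r, hr⟩) = _
    rw [map_mul, map_mul, map_inv, mul_comm, mul_inv_cancel_left]
  · rw [ext1_of_not_mem ψ h, ext1_of_not_mem ψ fun hc => h ?_]
    simpa [mul_assoc] using R.mul_mem (R.mul_mem hr hc) (R.inv_mem hr)

/-- The induced function from `R` to `K`. -/
noncomputable def Ind (K R : Subgroup G) (f : G → A) (x : G) : A :=
  ∏ᶠ q : K ⧸ R.subgroupOf K, f (((Quotient.out q : K) : G)⁻¹ * x * ((Quotient.out q : K) : G))

theorem term_congr {R : Subgroup G} {f : G → A} (hf : ∀ y, ∀ r ∈ R, f (r⁻¹ * y * r) = f y)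
    {a b : G} (h : a⁻¹ * b ∈ R) (x : G) : f (b⁻¹ * x * b) = f (a⁻¹ * x * a) := by
  have h1 := hf (a⁻¹ * x * a) _ h
  rwa [show (a⁻¹ * b)⁻¹ * (a⁻¹ * x * a) * (a⁻¹ * b) = b⁻¹ * x * b by group] at h1

theorem ind_trans [Finite G] {K B R : Subgroup G} (hRB : R ≤ B) (hBK : B ≤ K) {f : G → A}
    (hf : ∀ y, ∀ r ∈ R, f (r⁻¹ * y * r) = f y) (x : G) :
    Ind K R f x = Ind K B (Ind B R f) x := by
  classical
  haveI := Fintype.ofFinite (K ⧸ B.subgroupOf K)
  haveI := Fintype.ofFinite (K ⧸ R.subgroupOf K)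
  haveI := Fintype.ofFinite (B ⧸ R.subgroupOf B)
  simp only [Ind, finprod_eq_prod_of_fintype]
  rw [← Fintype.prod_prod_type']
  let Φ : (K ⧸ B.subgroupOf K) × (B ⧸ R.subgroupOf B) → K ⧸ R.subgroupOf K := fun ab =>
    QuotientGroup.mk
      ((Quotient.out ab.1 : K) * ⟨((Quotient.out ab.2 : B) : G), hBK (Quotient.out ab.2 : B).2⟩)
  have hinj : Function.Injective Φ := by
    rintro ⟨a, b⟩ ⟨a', b'⟩ h
    have h1 := Subgroup.mem_subgroupOf.mp (QuotientGroup.eq.mp h)
    simp only [Subgroup.coe_mul, Subgroup.coe_inv, mul_inv_rev] at h1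
    set u : G := ((Quotient.out a : K) : G)
    set u' : G := ((Quotient.out a' : K) : G)
    set w : G := ((Quotient.out b : B) : G)
    set w' : G := ((Quotient.out b' : B) : G)
    have hw : w ∈ B := (Quotient.out b : B).2
    have hw' : w' ∈ B := (Quotient.out b' : B).2
    have h2 : u⁻¹ * u' ∈ B := by
      have h3 := B.mul_mem (B.mul_mem hw (hRB h1)) (B.inv_mem hw')
      rwa [show w * (w⁻¹ * u⁻¹ * (u' * w')) * w'⁻¹ = u⁻¹ * u' by group] at h3
    have haa : a = a' := by
      rw [← QuotientGroup.out_eq' a, ← QuotientGroup.out_eq' a']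
      exact QuotientGroup.eq.mpr (Subgroup.mem_subgroupOf.mpr h2)
    subst haa
    refine Prod.ext rfl ?_
    show b = b'
    rw [← QuotientGroup.out_eq' b, ← QuotientGroup.out_eq' b']
    refine QuotientGroup.eq.mpr (Subgroup.mem_subgroupOf.mpr ?_)
    rwa [show w⁻¹ * u⁻¹ * (u * w') = w⁻¹ * w' by group] at h1
  have hbij : Function.Bijective Φ := by
    refine (Nat.bijective_iff_injective_and_card Φ).mpr ⟨hinj, ?_⟩
    rw [Nat.card_prod]
    show (B.subgroupOf K).index * (R.subgroupOf B).index = (R.subgroupOf K).index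
    rw [mul_comm]
    exact Subgroup.relIndex_mul_relIndex R B K hRB hBK
  refine (Fintype.prod_bijective Φ hbij _ _ fun ab => ?_).symm
  have hmem : (((Quotient.out ab.1 : K) : G) * ((Quotient.out ab.2 : B) : G))⁻¹ *
      ((Quotient.out (Φ ab) : K) : G) ∈ R := by
    have h0 : QuotientGroup.mk (s := R.subgroupOf K)
        ((Quotient.out ab.1 : K) * ⟨((Quotient.out ab.2 : B) : G), hBK (Quotient.out ab.2 : B).2⟩) =
        QuotientGroup.mk (Quotient.out (Φ ab)) := (QuotientGroup.out_eq' _).symm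
    exact Subgroup.mem_subgroupOf.mp (QuotientGroup.eq.mp h0)
  rw [term_congr hf hmem x]
  congr 1
  group

/-- Fixed point form of the transfer, when powers contribute nothing. -/
theorem transfer_eq_prod [Finite G] {p N : ℕ} [Fact p.Prime] (R : Subgroup G) [R.FiniteIndex]
    [Fintype (G ⧸ R)] (ψ : R →* A) (x : G) (hN : x ^ p ^ N = 1)
    (hpow : ∀ (g : G) (m : ℕ), p ∣ m → ext1 ψ (g⁻¹ * x ^ m * g) = 1) :
    MonoidHom.transfer ψ x = ∏ q : G ⧸ R, ext1 ψ ((Quotient.out q)⁻¹ * x * Quotient.out q) := by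
  classical
  haveI : Fintype (Quotient (MulAction.orbitRel (Subgroup.zpowers x) (G ⧸ R))) := Fintype.ofFinite _
  rw [MonoidHom.transfer_eq_prod_quotient_orbitRel_zpowers_quot,
    ← Finset.prod_fiberwise Finset.univ
      (Quotient.mk (MulAction.orbitRel (Subgroup.zpowers x) (G ⧸ R)))
      (fun q : G ⧸ R => ext1 ψ ((Quotient.out q)⁻¹ * x * Quotient.out q))]
  refine Finset.prod_congr rfl fun o _ => ?_
  set q₀ : G ⧸ R := Quotient.out o
  set g₀ : G := Quotient.out q₀
  set d := Function.minimalPeriod (x • ·) q₀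
  have hfix : ∀ q : G ⧸ R, (Quotient.out q)⁻¹ * x * Quotient.out q ∈ R ↔ x • q = q := by
    intro q
    conv_rhs => rw [← QuotientGroup.out_eq' q]
    rw [MulAction.Quotient.smul_mk, eq_comm, QuotientGroup.eq, smul_eq_mul, mul_assoc]
  by_cases hx : x • q₀ = q₀
  · have hd : d = 1 := Function.minimalPeriod_eq_one_iff_isFixedPt.mpr hx
    rw [Finset.prod_eq_single q₀]
    · rw [ext1_of_mem ψ ((hfix q₀).mpr hx)]
      refine congrArg ψ (Subtype.ext ?_)
      show g₀⁻¹ * x ^ d * g₀ = g₀⁻¹ * x * g₀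
      rw [hd, pow_one]
    · intro q hq hne
      exfalso
      rw [Finset.mem_filter] at hq
      obtain ⟨⟨y, k, rfl⟩, hy⟩ := Quotient.exact (hq.2.trans (Quotient.out_eq o).symm)
      apply hne
      rw [← hy]
      exact MulAction.mem_stabilizer_iff.mp
        (zpow_mem (MulAction.mem_stabilizer_iff.mpr hx) k)
    · intro h
      exact absurd (Finset.mem_filter.mpr ⟨Finset.mem_univ q₀, Quotient.out_eq o⟩) h
  · have hd1 : d ≠ 1 := fun h => hx (Function.minimalPeriod_eq_one_iff_isFixedPt.mp h)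
    have hdd : d ∣ p ^ N := by
      refine Function.IsPeriodicPt.minimalPeriod_dvd ?_
      show (x • ·)^[p ^ N] q₀ = q₀
      rw [smul_iterate_apply, hN, one_smul]
    have hpd : p ∣ d := by
      obtain ⟨j, -, hj⟩ := (Nat.dvd_prime_pow Fact.out).mp hdd
      rw [hj]
      exact dvd_pow_self p fun hj0 => hd1 (by rw [hj, hj0, pow_zero])
    rw [Finset.prod_eq_one (f := fun q => ext1 ψ _) fun q hq => ext1_of_not_mem ψ fun hmem => ?_]
    · exact (ext1_of_mem ψ _).symm.trans (hpow g₀ d hpd)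
    · rw [Finset.mem_filter] at hq
      obtain ⟨⟨y, k, rfl⟩, hy⟩ := Quotient.exact (hq.2.trans (Quotient.out_eq o).symm)
      apply hx
      have h1 := (hfix q).mp hmem
      rw [← hy] at h1
      change x • x ^ k • q₀ = x ^ k • q₀ at h1
      rw [smul_smul, (Commute.refl x).zpow_right k, ← smul_smul] at h1
      exact MulAction.injective (x ^ k) h1

/-- Binomial coefficients `C(p-1,k)` are `(-1)^k` modulo `p`. -/
theorem choose_pred (p : ℕ) [hp : Fact p.Prime] : ∀ k, k ≤ p - 1 →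
    ((p - 1).choose k : ZMod p) = (-1) ^ k
  | 0, _ => by simp
  | k + 1, hk => by
    have h1 : (p.choose (k + 1) : ZMod p) = 0 := (ZMod.natCast_eq_zero_iff _ _).mpr
      (hp.out.dvd_choose_self (Nat.succ_ne_zero k) (by have := hp.out.one_lt; omega))
    obtain ⟨m, hm⟩ : ∃ m, p = m + 1 := ⟨p - 1, by have := hp.out.one_lt; omega⟩
    have h2 := choose_pred p k (by omega)
    have hm' : p - 1 = m := by omega
    rw [hm'] at h2 ⊢
    rw [show p.choose (k + 1) = (m + 1).choose (k + 1) by rw [hm], Nat.choose_succ_succ',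
      Nat.cast_add, h2] at h1
    rw [pow_succ]
    linear_combination h1

/-- The `(p-1)`-st difference is the sum over a period. -/
theorem fwdDiff_pred (p : ℕ) [hp : Fact p.Prime] (L : ℕ → ZMod p) :
    (fwdDiff 1)^[p - 1] L 0 = ∑ k ∈ Finset.range p, L k := by
  rw [fwdDiff_iter_eq_sum_shift]
  rw [show p - 1 + 1 = p by have := hp.out.one_lt; omega]
  refine Finset.sum_congr rfl fun k hk => ?_
  rw [Finset.mem_range] at hk
  rw [zsmul_eq_mul, Int.cast_mul, Int.cast_pow, Int.cast_neg, Int.cast_one, Int.cast_natCast,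
    choose_pred p k (by omega), ← pow_add, Nat.sub_add_cancel (by omega),
    ZMod.pow_card_sub_one_eq_one (neg_ne_zero.mpr one_ne_zero), one_mul]
  congr 1
  simp

variable {p : ℕ} [Fact p.Prime]

/-- A proper double coset contributes nothing. -/
theorem ind_eq_one [Finite G] {P R Q : Subgroup G} (hP : IsPGroup p P) (hRP : R ≤ P) (hQP : Q ≤ P)
    (hQR : ¬ Q ≤ R)
    (hcomm : ∀ u ∈ P, ∀ z ∈ Q, (fun y : G => y⁻¹ * z⁻¹ * y * z)^[p - 1] u = 1)
    (ψ : R →* Multiplicative (ZMod p)) (x : G) (hx : x ∈ P)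
    (hpow : ∀ (y : G) (m : ℕ), p ∣ m → ext1 ψ (y⁻¹ * x ^ m * y) = 1) :
    Ind P R (ext1 ψ) x = 1 := by
  classical
  haveI : Finite (Subgroup G) := inferInstance
  obtain ⟨B, hB⟩ := ({B : Subgroup G | B ≤ P ∧ R ≤ B ∧ Q ≤ B}).toFinite.exists_minimal
    ⟨P, le_rfl, hRP, hQP⟩
  obtain ⟨hBP, hRB, hQB⟩ := hB.1
  have hRB' : R.subgroupOf B ≠ ⊤ := fun h => hQR (hQB.trans (Subgroup.subgroupOf_eq_top.mp h))
  obtain hc | ⟨M, hM, hRM⟩ := eq_top_or_exists_le_coatom (R.subgroupOf B)
  · exact absurd hc hRB'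
  have hBp : IsPGroup p B := hP.to_le hBP
  haveI hMn : M.Normal := CfsgLib.PGroup.Frattini.normal_of_isCoatom hBp hM
  have hMidx : M.index = p := CfsgLib.PGroup.Frattini.index_of_isCoatom hBp hM
  set A := M.map B.subtype with hA
  have hAB : A ≤ B := Subgroup.map_subtype_le M
  have hmemA : ∀ (y : G) (hy : y ∈ B), y ∈ A ↔ (⟨y, hy⟩ : B) ∈ M := fun y hy =>
    ⟨fun ⟨m, hm, e⟩ => by
      have e' : m = ⟨y, hy⟩ := Subtype.ext e
      rwa [← e'], fun h => ⟨_, h, rfl⟩⟩
  have hRA : R ≤ A := fun r hr =>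
    (hmemA r (hRB hr)).mpr (hRM (Subgroup.mem_subgroupOf.mpr hr))
  have hconjA : ∀ y ∈ B, ∀ c ∈ A, y⁻¹ * c * y ∈ A := fun y hy c hc => by
    refine (hmemA _ (B.mul_mem (B.mul_mem (B.inv_mem hy) (hAB hc)) hy)).mpr ?_
    have h := hMn.conj_mem _ ((hmemA c (hAB hc)).mp hc) (⟨y, hy⟩ : B)⁻¹
    rw [inv_inv] at h
    exact h
  obtain ⟨z, hzQ, hzA⟩ : ∃ z ∈ Q, z ∉ A := by
    refine SetLike.not_le_iff_exists.mp fun hQA => hM.1 ?_
    have h1 : B ≤ A := hB.2 ⟨hAB.trans hBP, hRA, hQA⟩ hAB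
    exact eq_top_iff.mpr fun b _ => (hmemA b b.2).mp (h1 b.2)
  have hzB : z ∈ B := hQB hzQ
  have hinv : ∀ y, ∀ r ∈ R, ext1 ψ (r⁻¹ * y * r) = ext1 ψ y := fun y r hr => ext1_conj ψ y hr
  rw [ind_trans hRB hBP hinv]
  refine finprod_eq_one_of_forall_eq_one fun q => ?_
  set w : G := ((Quotient.out q : P) : G)
  set c : G := w⁻¹ * x * w with hc
  have hcP : c ∈ P := P.mul_mem (P.mul_mem (P.inv_mem (Quotient.out q : P).2) hx) (Quotient.out q : P).2
  rw [ind_trans hRA hAB hinv]
  by_cases hcA : c ∈ A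
  swap
  · refine finprod_eq_one_of_forall_eq_one fun b => finprod_eq_one_of_forall_eq_one fun a => ?_
    refine ext1_of_not_mem ψ fun h => hcA ?_
    set s : G := ((Quotient.out b : B) : G)
    set t : G := ((Quotient.out a : A) : G)
    have ht : t ∈ A := (Quotient.out a : A).2
    have h1 : s⁻¹ * c * s ∈ A := by
      have h2 := A.mul_mem (A.mul_mem ht (hRA h)) (A.inv_mem ht)
      rwa [show t * (t⁻¹ * (s⁻¹ * c * s) * t) * t⁻¹ = s⁻¹ * c * s by group] at h2
    have h3 := hconjA s⁻¹ (B.inv_mem (Quotient.out b : B).2) _ h1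
    rwa [show s⁻¹⁻¹ * (s⁻¹ * c * s) * s⁻¹ = c by group] at h3
  · -- the transfer to `R` from `A`
    haveI := Fintype.ofFinite (A ⧸ R.subgroupOf A)
    let ψA : R.subgroupOf A →* Multiplicative (ZMod p) :=
      ψ.comp (Subgroup.subgroupOfEquivOfLe hRA).toMonoidHom
    have hψA : ∀ y : A, ext1 ψA y = ext1 ψ (y : G) := fun y => by
      by_cases h : (y : G) ∈ R
      · rw [ext1_of_mem ψ h, ext1_of_mem ψA (Subgroup.mem_subgroupOf.mpr h)]; rfl
      · rw [ext1_of_not_mem ψ h, ext1_of_not_mem ψA fun h' => h (Subgroup.mem_subgroupOf.mp h')]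
    let θ : A →* Multiplicative (ZMod p) := MonoidHom.transfer ψA
    have hθ : ∀ (s : G) (hs : s⁻¹ * c * s ∈ A), θ ⟨_, hs⟩ = Ind A R (ext1 ψ) (s⁻¹ * c * s) := by
      intro s hs
      obtain ⟨N, hN⟩ := (hP.to_le (hAB.trans hBP)) ⟨_, hs⟩
      simp only [Ind, finprod_eq_prod_of_fintype]
      show MonoidHom.transfer ψA _ = _
      rw [transfer_eq_prod _ ψA _ hN (fun g m hm => ?_)]
      · refine Finset.prod_congr rfl fun a _ => ?_
        rw [hψA]; rfl
      · rw [hψA]
        have h1 := hpow (w * s * (g : G)) m hm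
        rw [show (w * s * (g : G))⁻¹ * x ^ m * (w * s * (g : G)) =
          (g : G)⁻¹ * ((w * s)⁻¹ * x * ((w * s)⁻¹)⁻¹) ^ m * (g : G) by
            rw [conj_pow]; group] at h1
        simp only [Subgroup.coe_mul, Subgroup.coe_inv, SubgroupClass.coe_pow]
        rwa [show s⁻¹ * c * s = (w * s)⁻¹ * x * ((w * s)⁻¹)⁻¹ by rw [hc]; group]
    -- coset representatives `z ^ i`
    let zb : B := ⟨z, hzB⟩
    have hord : orderOf (QuotientGroup.mk' M zb) = p := by
      refine orderOf_eq_prime ?_ ?_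
      · rw [← hMidx]; exact pow_card_eq_one'
      · rw [Ne, QuotientGroup.mk'_apply, QuotientGroup.eq_one_iff]
        exact fun h => hzA ((hmemA z hzB).mpr h)
    have hAM : A.subgroupOf B = M := by
      ext b; rw [Subgroup.mem_subgroupOf]; exact hmemA b b.2
    haveI := Fintype.ofFinite (B ⧸ A.subgroupOf B)
    let e : Fin p → B ⧸ A.subgroupOf B := fun i => QuotientGroup.mk (zb ^ (i : ℕ))
    have hinj : Function.Injective e := fun i j hij => by
      have h1 : (zb ^ (i : ℕ))⁻¹ * zb ^ (j : ℕ) ∈ M := hAM ▸ QuotientGroup.eq.mp hij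
      have h2 : QuotientGroup.mk' M zb ^ (i : ℕ) = QuotientGroup.mk' M zb ^ (j : ℕ) := by
        rw [← map_pow, ← map_pow]; exact QuotientGroup.eq.mpr h1
      exact Fin.ext (pow_injOn_Iio_orderOf (by rw [Set.mem_Iio, hord]; exact i.2)
        (by rw [Set.mem_Iio, hord]; exact j.2) h2)
    have hbij : Function.Bijective e := by
      refine (Nat.bijective_iff_injective_and_card e).mpr ⟨hinj, ?_⟩
      rw [Nat.card_fin]; exact (hAM ▸ hMidx : (A.subgroupOf B).index = p).symm
    let D : G → G := fun y => y⁻¹ * z⁻¹ * y * z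
    have hDA : ∀ k, D^[k] c ∈ A := fun k => by
      induction k with
      | zero => exact hcA
      | succ k ih =>
        rw [Function.iterate_succ_apply']
        have h1 := A.mul_mem (A.inv_mem ih) (hconjA z hzB _ ih)
        rwa [← mul_assoc, ← mul_assoc] at h1
    have hzc : ∀ (k i : ℕ), (z ^ i)⁻¹ * D^[k] c * z ^ i ∈ A := fun k i =>
      hconjA _ (B.pow_mem hzB i) _ (hDA k)
    let L : ℕ → ℕ → ZMod p := fun k i => Multiplicative.toAdd (θ ⟨_, hzc k i⟩)
    have hstep : ∀ k, (fwdDiff 1)^[k] (L 0) = L k := fun k => by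
      induction k with
      | zero => rfl
      | succ k ih =>
        rw [Function.iterate_succ_apply', ih]
        funext i
        simp only [fwdDiff, L]
        rw [sub_eq_iff_eq_add', ← toAdd_mul, ← map_mul]
        refine congrArg (fun a : A => Multiplicative.toAdd (θ a)) ?_
        apply Subtype.ext
        show (z ^ (i + 1))⁻¹ * D^[k] c * z ^ (i + 1) =
          (z ^ i)⁻¹ * D^[k] c * z ^ i * ((z ^ i)⁻¹ * D^[k + 1] c * z ^ i)
        rw [Function.iterate_succ_apply']
        generalize D^[k] c = y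
        simp only [D]
        rw [pow_succ']
        group
    have hsum : ∑ i ∈ Finset.range p, L 0 i = 0 := by
      rw [← fwdDiff_pred, hstep]
      simp only [L]
      have h1 : (⟨_, hzc (p - 1) 0⟩ : A) = 1 := Subtype.ext (by
        show (z ^ 0)⁻¹ * D^[p - 1] c * z ^ 0 = 1
        rw [show D^[p - 1] c = 1 from hcomm c hcP z hzQ]; simp)
      rw [h1, map_one, toAdd_one]
    show ∏ᶠ b : B ⧸ A.subgroupOf B, Ind A R (ext1 ψ)
      (((Quotient.out b : B) : G)⁻¹ * c * ((Quotient.out b : B) : G)) = 1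
    rw [finprod_eq_prod_of_fintype]
    have hterm : ∀ i : Fin p, Multiplicative.ofAdd (L 0 i) = Ind A R (ext1 ψ)
        (((Quotient.out (e i) : B) : G)⁻¹ * c * ((Quotient.out (e i) : B) : G)) := by
      intro i
      set o : B := Quotient.out (e i)
      have ho : (zb ^ (i : ℕ))⁻¹ * o ∈ A.subgroupOf B :=
        QuotientGroup.eq.mp (QuotientGroup.out_eq' (e i)).symm
      have ha : (z ^ (i : ℕ))⁻¹ * (o : G) ∈ A := Subgroup.mem_subgroupOf.mp ho
      have hmem : (o : G)⁻¹ * c * (o : G) ∈ A := hconjA _ o.2 _ hcA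
      rw [← hθ _ hmem]
      simp only [L, ofAdd_toAdd]
      have h1 : (⟨_, hmem⟩ : A) = (⟨_, ha⟩ : A)⁻¹ * ⟨_, hzc 0 i⟩ * ⟨_, ha⟩ := by
        apply Subtype.ext
        simp only [Function.iterate_zero_apply, Subgroup.coe_mul, Subgroup.coe_inv]
        group
      rw [h1, map_mul, map_mul, map_inv, mul_comm, mul_inv_cancel_left]
    rw [← Fintype.prod_bijective e hbij (fun i : Fin p => Multiplicative.ofAdd (L 0 i)) _ hterm,
      ← ofAdd_sum, Fin.sum_univ_eq_sum_range (L 0), hsum, ofAdd_zero]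

theorem pow_eq_one_of_dvd (a : Multiplicative (ZMod p)) {m : ℕ} (hm : p ∣ m) : a ^ m = 1 := by
  apply Multiplicative.toAdd.injective
  rw [toAdd_pow, toAdd_one, nsmul_eq_mul, (ZMod.natCast_eq_zero_iff m p).mpr hm, zero_mul]

theorem isPGroup_mult : IsPGroup p (Multiplicative (ZMod p)) := fun a =>
  ⟨1, by rw [pow_one]; exact pow_eq_one_of_dvd a dvd_rfl⟩

/-- Hypotheses of the Hall–Wielandt theorem: the normalizer of `Q` contains `P`. -/
theorem sylow_le_normalizer {P : Sylow p G} {Q : Subgroup G}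
    (hQ : Cfsg.IsWeaklyClosed Q (P : Subgroup G)) :
    (P : Subgroup G) ≤ Subgroup.normalizer (Q : Set G) := by
  intro u hu
  have h1 : Q.map (MulAut.conj u).toMonoidHom ≤ P := by
    rintro _ ⟨y, hy, rfl⟩
    exact P.mul_mem (P.mul_mem hu (hQ.1 hy)) (P.inv_mem hu)
  rw [Subgroup.mem_normalizer_iff]
  intro y
  constructor
  · intro hy
    rw [← hQ.2 u h1]
    exact ⟨y, hy, rfl⟩
  · intro hy
    have hy' : u * y * u⁻¹ ∈ Q.map (MulAut.conj u).toMonoidHom := by rw [hQ.2 u h1]; exact hy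
    obtain ⟨w, hw, hwe⟩ := hy'
    have hwy : w = y := (MulAut.conj u).injective hwe
    rwa [← hwy]

/-- Every `p`-element of `H ⊇ P` is `H`-conjugate into `P`. -/
theorem exists_conj_mem [Finite G] (P : Sylow p G) {H : Subgroup G} (hPH : (P : Subgroup G) ≤ H)
    {S : Subgroup G} (hS : S ≤ H) (hSp : IsPGroup p S) :
    ∃ h ∈ H, ∀ y ∈ S, h⁻¹ * y * h ∈ (P : Subgroup G) := by
  obtain ⟨T, hT⟩ := (hSp.comap_subtype (K := H)).exists_le_sylow
  obtain ⟨h, hh⟩ := MulAction.exists_smul_eq H (P.subtype hPH) T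
  refine ⟨(h : G), h.2, fun y hy => ?_⟩
  have hyT : (⟨y, hS hy⟩ : H) ∈ T := hT hy
  rw [← hh] at hyT
  change _ ∈ ((h • P.subtype hPH : Sylow p H) : Subgroup H) at hyT
  rw [Sylow.coe_subgroup_smul, Subgroup.mem_pointwise_smul_iff_inv_smul_mem] at hyT
  have h2 : (h⁻¹ * (⟨y, hS hy⟩ : H) * h⁻¹⁻¹) ∈ (P.subtype hPH : Subgroup H) := by
    rw [← map_inv] at hyT
    exact hyT
  rw [inv_inv] at h2
  exact h2

theorem transfer_eq [Finite G] (P : Sylow p G) {Q : Subgroup G}
    (hQ : Cfsg.IsWeaklyClosed Q (P : Subgroup G))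
    (hcomm : ∀ u ∈ (P : Subgroup G), ∀ z ∈ Q, (fun y : G => y⁻¹ * z⁻¹ * y * z)^[p - 1] u = 1)
    {H : Subgroup G} (hH : H = Subgroup.normalizer (Q : Set G))
    (φ : H →* Multiplicative (ZMod p)) :
    ∀ x ∈ (P : Subgroup G), MonoidHom.transfer φ x = ext1 φ x := by
  classical
  have hPH : (P : Subgroup G) ≤ H := hH ▸ sylow_le_normalizer hQ
  suffices key : ∀ n, ∀ x ∈ (P : Subgroup G), orderOf x = n → MonoidHom.transfer φ x = ext1 φ x by
    exact fun x hx => key _ x hx rfl
  intro n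
  induction n using Nat.strong_induction_on with | _ n ih =>
  intro x hx hn
  have hinv : ∀ y, ∀ r ∈ H, ext1 φ (r⁻¹ * y * r) = ext1 φ y := fun y r hr => ext1_conj φ y hr
  have hpow : ∀ (g : G) (m : ℕ), p ∣ m → ext1 φ (g⁻¹ * x ^ m * g) = 1 := by
    intro g m hm
    by_cases hx1 : x = 1
    · rw [hx1, one_pow, mul_one, inv_mul_cancel, ext1_of_mem φ H.one_mem]
      exact map_one φ
    by_cases hmem : g⁻¹ * x ^ m * g ∈ H
    swap
    · exact ext1_of_not_mem φ hmem
    obtain ⟨k, hk⟩ := P.isPGroup' ⟨x, hx⟩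
    have hk' : x ^ p ^ k = 1 := by simpa using congrArg Subtype.val hk
    set y := g⁻¹ * x ^ m * g
    have hyp : IsPGroup p (Subgroup.zpowers y) := IsPGroup.of_card_dvd_pow (n := k) (by
      rw [Nat.card_zpowers]
      refine orderOf_dvd_of_pow_eq_one ?_
      have e : y = g⁻¹ * x ^ m * g⁻¹⁻¹ := by simp [y]
      rw [e, conj_pow, ← pow_mul, mul_comm m, pow_mul, hk', one_pow]
      simp)
    obtain ⟨h, hh, hhP⟩ := exists_conj_mem P hPH (Subgroup.zpowers_le.mpr hmem) hyp
    have hu := hhP y (Subgroup.mem_zpowers y)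
    have hord : orderOf (h⁻¹ * y * h) = orderOf (x ^ m) := by
      have e : h⁻¹ * y * h = MulAut.conj (g * h)⁻¹ (x ^ m) := by simp [y, mul_assoc]
      rw [e, MulEquiv.orderOf_eq]
    have hlt : orderOf (x ^ m) < n := by
      obtain ⟨j, -, hj⟩ := (Nat.dvd_prime_pow Fact.out).mp (orderOf_dvd_of_pow_eq_one hk')
      have hj0 : j ≠ 0 := fun hj0 => hx1 (orderOf_eq_one_iff.mp (by rw [hj, hj0, pow_zero]))
      rw [← hn, orderOf_pow]
      refine Nat.div_lt_self (orderOf_pos x) (lt_of_lt_of_le (Fact.out : p.Prime).one_lt ?_)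
      exact Nat.le_of_dvd (Nat.gcd_pos_of_pos_left _ (orderOf_pos x))
        (Nat.dvd_gcd (by rw [hj]; exact dvd_pow_self p hj0) hm)
    rw [← hinv y h hh, ← ih _ hlt _ hu hord, map_mul, map_mul, map_inv, mul_comm,
      mul_inv_cancel_left]
    show MonoidHom.transfer φ (g⁻¹ * x ^ m * g) = 1
    rw [map_mul, map_mul, map_inv, mul_comm, mul_inv_cancel_left, map_pow]
    exact pow_eq_one_of_dvd _ hm
  haveI := Fintype.ofFinite (G ⧸ H)
  obtain ⟨k, hk⟩ := P.isPGroup' ⟨x, hx⟩
  rw [transfer_eq_prod H φ x (by simpa using congrArg Subtype.val hk : x ^ p ^ k = 1) hpow]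
  haveI : Fintype (Quotient (MulAction.orbitRel (P : Subgroup G) (G ⧸ H))) := Fintype.ofFinite _
  rw [← Finset.prod_fiberwise Finset.univ
      (Quotient.mk (MulAction.orbitRel (P : Subgroup G) (G ⧸ H)))
      (fun q : G ⧸ H => ext1 φ ((Quotient.out q)⁻¹ * x * Quotient.out q))]
  have hbase : ∀ u : (P : Subgroup G), u • (QuotientGroup.mk 1 : G ⧸ H) = QuotientGroup.mk 1 :=
    fun u => by
      show QuotientGroup.mk ((u : G) * 1) = _
      rw [QuotientGroup.eq]; simpa using H.inv_mem (hPH u.2)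
  rw [Finset.prod_eq_single (Quotient.mk _ (QuotientGroup.mk 1 : G ⧸ H))]
  · rw [Finset.prod_eq_single (QuotientGroup.mk 1 : G ⧸ H)]
    · have h1 : (1 : G)⁻¹ * Quotient.out (QuotientGroup.mk 1 : G ⧸ H) ∈ H :=
        QuotientGroup.eq.mp (QuotientGroup.out_eq' _).symm
      rw [term_congr hinv h1 x]; simp
    · intro q hq hne
      rw [Finset.mem_filter] at hq
      obtain ⟨u, rfl⟩ := Quotient.exact hq.2
      exact absurd (hbase u) hne
    · intro h
      exfalso
      exact h (Finset.mem_filter.mpr ⟨Finset.mem_univ _, rfl⟩)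
  · intro o _ ho
    set q₀ : G ⧸ H := Quotient.out o
    set g : G := Quotient.out q₀
    have hgH : g ∉ H := fun hg => ho (by
      rw [← Quotient.out_eq o]
      refine congrArg (Quotient.mk _) ?_
      show q₀ = _
      rw [← QuotientGroup.out_eq' q₀, QuotientGroup.eq]
      simpa using H.inv_mem hg)
    let R : Subgroup G := (P : Subgroup G) ⊓ H.comap (MulAut.conj g⁻¹).toMonoidHom
    let ψ : R →* Multiplicative (ZMod p) := φ.comp
      { toFun := fun r => (⟨MulAut.conj g⁻¹ (r : G), r.2.2⟩ : H)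
        map_one' := Subtype.ext (by simp)
        map_mul' := fun a b => Subtype.ext (map_mul (MulAut.conj g⁻¹) (a : G) (b : G)) }
    have hψ : ∀ y ∈ (P : Subgroup G), ext1 ψ y = ext1 φ (g⁻¹ * y * g) := by
      intro y hy
      have e : MulAut.conj g⁻¹ y = g⁻¹ * y * g := by simp
      by_cases h : g⁻¹ * y * g ∈ H
      · rw [ext1_of_mem φ h, ext1_of_mem ψ (show y ∈ R from ⟨hy, by
          show MulAut.conj g⁻¹ y ∈ H
          rw [e]; exact h⟩)]
        exact congrArg φ (Subtype.ext e)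
      · rw [ext1_of_not_mem φ h, ext1_of_not_mem ψ (fun hr => h (e ▸ hr.2))]
    have hψpow : ∀ (y : G) (m : ℕ), p ∣ m → ext1 ψ (y⁻¹ * x ^ m * y) = 1 := by
      intro y m hm
      by_cases h : y⁻¹ * x ^ m * y ∈ R
      · rw [hψ _ h.1]
        have h1 := hpow (y * g) m hm
        rwa [mul_inv_rev, show g⁻¹ * y⁻¹ * x ^ m * (y * g) = g⁻¹ * (y⁻¹ * x ^ m * y) * g by group]
          at h1
      · exact ext1_of_not_mem ψ h
    have hQR : ¬ Q ≤ R := by
      intro hle
      apply hgH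
      have hS : Q.map (MulAut.conj g⁻¹).toMonoidHom ≤ H := by
        rintro _ ⟨z, hz, rfl⟩; exact (hle hz).2
      obtain ⟨h, hh, hhP⟩ := exists_conj_mem P hPH hS ((P.isPGroup'.to_le hQ.1).map _)
      have h1 : Q.map (MulAut.conj (g * h)⁻¹).toMonoidHom ≤ P := by
        rintro _ ⟨z, hz, rfl⟩
        have h2 := hhP _ ⟨z, hz, rfl⟩
        have e : (MulAut.conj (g * h)⁻¹).toMonoidHom z =
            h⁻¹ * (MulAut.conj g⁻¹).toMonoidHom z * h := by simp [mul_assoc]
        rw [e]; exact h2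
      have h3 : (g * h)⁻¹ ∈ H := by
        rw [hH, Subgroup.mem_normalizer_iff]
        intro z
        constructor
        · intro hz
          rw [← hQ.2 _ h1]
          exact ⟨z, hz, rfl⟩
        · intro hz
          have hz' : (g * h)⁻¹ * z * (g * h)⁻¹⁻¹ ∈ Q.map (MulAut.conj (g * h)⁻¹).toMonoidHom := by
            rw [hQ.2 _ h1]; exact hz
          obtain ⟨w, hw, hwe⟩ := hz'
          rwa [← (MulAut.conj (g * h)⁻¹).injective hwe]
      have h4 : g * h ∈ H := by simpa using H.inv_mem h3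
      simpa using H.mul_mem h4 (H.inv_mem hh)
    have hone := ind_eq_one P.isPGroup' (inf_le_left : R ≤ P) hQ.1 hQR hcomm ψ x hx hψpow
    haveI := Fintype.ofFinite ((P : Subgroup G) ⧸ R.subgroupOf (P : Subgroup G))
    rw [Ind, finprod_eq_prod_of_fintype] at hone
    rw [← hone]
    refine (Finset.prod_bij (fun a _ => (Quotient.out a : (P : Subgroup G)) • q₀) ?_ ?_ ?_ ?_).symm
    · intro a _
      rw [Finset.mem_filter]
      refine ⟨Finset.mem_univ _, ?_⟩
      conv_rhs => rw [← Quotient.out_eq o]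
      exact Quotient.sound ⟨Quotient.out a, rfl⟩
    · intro a _ b _ hab
      rw [← QuotientGroup.out_eq' a, ← QuotientGroup.out_eq' b, QuotientGroup.eq,
        Subgroup.mem_subgroupOf]
      refine ⟨((Quotient.out a)⁻¹ * Quotient.out b : (P : Subgroup G)).2, ?_⟩
      set u : G := ((Quotient.out a : (P : Subgroup G)) : G)
      set w : G := ((Quotient.out b : (P : Subgroup G)) : G)
      have h1 : QuotientGroup.mk (s := H) (u * g) = QuotientGroup.mk (w * g) := by
        have hl : u • q₀ = w • q₀ := hab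
        rw [← QuotientGroup.out_eq' q₀] at hl
        exact hl
      have h2 := QuotientGroup.eq.mp h1
      show MulAut.conj g⁻¹ (u⁻¹ * w) ∈ H
      simpa [mul_assoc] using h2
    · intro q hq
      rw [Finset.mem_filter] at hq
      obtain ⟨u, hu⟩ := Quotient.exact (hq.2.trans (Quotient.out_eq o).symm)
      refine ⟨QuotientGroup.mk u, Finset.mem_univ _, ?_⟩
      rw [← hu]
      have h1 : u⁻¹ * (Quotient.out (QuotientGroup.mk (s := R.subgroupOf _) u)) ∈
          R.subgroupOf (P : Subgroup G) := QuotientGroup.eq.mp (QuotientGroup.out_eq' _).symm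
      set o' := (Quotient.out (QuotientGroup.mk (s := R.subgroupOf (P : Subgroup G)) u))
      show (o' : G) • q₀ = (u : G) • q₀
      rw [← QuotientGroup.out_eq' q₀, MulAction.Quotient.smul_mk, MulAction.Quotient.smul_mk,
        QuotientGroup.eq]
      have h2 : MulAut.conj g⁻¹ ((u : G)⁻¹ * (o' : G)) ∈ H := (Subgroup.mem_subgroupOf.mp h1).2
      have h3 := H.inv_mem h2
      simpa [mul_assoc] using h3
    · intro a _
      set w : G := ((Quotient.out a : (P : Subgroup G)) : G)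
      have hwP : w ∈ (P : Subgroup G) := (Quotient.out a : (P : Subgroup G)).2
      rw [hψ _ (P.mul_mem (P.mul_mem (P.inv_mem hwP) hx) hwP)]
      have h1 : (w * g)⁻¹ * Quotient.out ((Quotient.out a : (P : Subgroup G)) • q₀) ∈ H := by
        refine QuotientGroup.eq.mp ?_
        rw [QuotientGroup.out_eq']
        conv_rhs => rw [← QuotientGroup.out_eq' q₀]
        rfl
      rw [term_congr hinv h1 x]
      congr 1
      group
  · intro h; exact absurd (Finset.mem_univ _) h

theorem pResidualOf_normalizer [Finite G] (P : Sylow p G) {Q : Subgroup G}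
    (hQ : Cfsg.IsWeaklyClosed Q (P : Subgroup G))
    (hcomm : ∀ u ∈ (P : Subgroup G), ∀ z ∈ Q, (fun y : G => y⁻¹ * z⁻¹ * y * z)^[p - 1] u = 1) :
    Cfsg.pResidualOf p (Subgroup.normalizer (Q : Set G)) =
      Cfsg.pResidual p G ⊓ Subgroup.normalizer (Q : Set G) := by
  set H := Subgroup.normalizer (Q : Set G) with hH
  have hPH : (P : Subgroup G) ≤ H := sylow_le_normalizer hQ
  set O := Cfsg.pResidual p G
  set OH := Cfsg.pResidual p H
  refine le_antisymm (le_inf (pResidual_map_subtype_le H) (Subgroup.map_subtype_le _)) ?_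
  -- the Sylow subgroup maps onto `H / O^p(H)`
  let f : (P : Subgroup G) →* H ⧸ OH := (QuotientGroup.mk' OH).comp (Subgroup.inclusion hPH)
  have hsplit : ∀ g : H, ∃ w ∈ OH, ∃ u : (P : Subgroup G), g = w * Subgroup.inclusion hPH u := by
    intro g
    obtain ⟨w, hw, u, hu, e⟩ := exists_eq_pResidual_mul (P.subtype hPH) g
    exact ⟨w, hw, ⟨(u : G), hu⟩, e⟩
  have hfsurj : Function.Surjective f := fun q => by
    induction q using QuotientGroup.induction_on with | _ g =>
    obtain ⟨w, hw, u, rfl⟩ := hsplit g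
    refine ⟨u, ?_⟩
    show QuotientGroup.mk' OH (Subgroup.inclusion hPH u) = QuotientGroup.mk' OH (w * _)
    rw [map_mul, show QuotientGroup.mk' OH w = 1 from (QuotientGroup.eq_one_iff w).mpr hw, one_mul]
  have hfker : ∀ u, f u = 1 ↔ Subgroup.inclusion hPH u ∈ OH := fun u => QuotientGroup.eq_one_iff _
  haveI : f.ker.Normal := MonoidHom.normal_ker f
  have hTate : O.subgroupOf (P : Subgroup G) ≤ f.ker := by
    refine TateRelative.le_of_maximal P f.ker ?_ ?_
    · intro u hu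
      exact pResidual_map_subtype_le H (Subgroup.mem_map_of_mem _ ((hfker u).mp hu))
    intro M hM hDM u hu
    by_contra huM
    haveI := CfsgLib.PGroup.Frattini.normal_of_isCoatom P.isPGroup' hM
    have hidx := CfsgLib.PGroup.Frattini.index_of_isCoatom P.isPGroup' hM
    haveI hcyc : IsCyclic ((P : Subgroup G) ⧸ M) := isCyclic_of_prime_card (p := p) hidx
    let e : ((P : Subgroup G) ⧸ M) ≃* Multiplicative (ZMod p) :=
      mulEquivOfPrimeCardEq (p := p) hidx ((Nat.card_congr Multiplicative.toAdd).trans (Nat.card_zmod p))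
    let φ0 : (P : Subgroup G) →* Multiplicative (ZMod p) :=
      e.toMonoidHom.comp (QuotientGroup.mk' M)
    have hle : f.ker ≤ φ0.ker := fun v hv => by
      show e (QuotientGroup.mk' M v) = 1
      rw [show QuotientGroup.mk' M v = 1 from (QuotientGroup.eq_one_iff v).mpr (hDM hv), map_one]
    let φ : H →* Multiplicative (ZMod p) :=
      (MonoidHom.liftOfSurjective f hfsurj ⟨φ0, hle⟩).comp (QuotientGroup.mk' OH)
    have h1 := transfer_eq P hQ hcomm hH φ (u : G) u.2
    have h2 : MonoidHom.transfer φ (u : G) = 1 :=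
      MonoidHom.mem_ker.mp (pResidual_le_ker (MonoidHom.transfer φ) isPGroup_mult hu)
    rw [h2, ext1_of_mem φ (hPH u.2)] at h1
    have h3 : φ0 u = 1 := by
      have h4 : (MonoidHom.liftOfSurjective f hfsurj ⟨φ0, hle⟩) (f u) = φ0 u :=
        MonoidHom.liftOfRightInverse_comp_apply _ _ _ _ _
      rw [← h4]; exact h1.symm
    apply huM
    rw [← QuotientGroup.eq_one_iff]
    exact e.injective (h3.trans (map_one e).symm)
  rintro g ⟨hgO, hgH⟩
  obtain ⟨w, hw, u, e⟩ := hsplit ⟨g, hgH⟩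
  have e' : g = (w : G) * (u : G) := congrArg Subtype.val e
  have hwO : (w : G) ∈ O := pResidual_map_subtype_le H (Subgroup.mem_map_of_mem _ hw)
  have hu : (u : G) ∈ O := by
    have h := O.mul_mem (O.inv_mem hwO) hgO
    rwa [e', inv_mul_cancel_left] at h
  have huD : Subgroup.inclusion hPH u ∈ OH := (hfker u).mp (hTate hu)
  exact ⟨⟨g, hgH⟩, e ▸ OH.mul_mem hw huD, rfl⟩

end CfsgLib.PGroup.HallWielandt
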