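import Mathlib
import Cfsg.Agent.Lib.Solvable.FPFNilpotent
import Cfsg.Agent.Lib.PGroup.Basic

/-!
The theorem of Hughes and Thompson: if every element outside a normal subgroup of index `p` has
order `p`, the subgroup is nilpotent; a proper Hughes subgroup of a group that is not a `p`-group
has index `p`.
-/

set_option autoImplicit false

namespace CfsgLib.PGroup.Hughes

open Subgroup
open scoped Pointwise IsMulCommutative
open CfsgLib.Solvable

universe u v

/-- The product of the images under the powers of `z`. -/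
def nrm {V : Type v} [CommGroup V] (p : ℕ) (z : MulAut V) (x : V) : V :=
  ∏ k ∈ Finset.range p, (z ^ k) x

/-- Two commuting automorphisms of order `p` cannot both be split on all lines but one. -/
theorem two_gen {V : Type v} [CommGroup V] {p : ℕ} (hp : p.Prime) (hV : ∀ x : V, x ^ p = 1 → x = 1)
    {z y : MulAut V} (hc : Commute z y) (hy : y ^ p = 1)
    (hsplit : ∀ j, ∀ x, nrm p (z * y ^ j) x = 1) : y = 1 := by
  have h0 : (0 : ℕ) ∈ Finset.range p := Finset.mem_range.mpr hp.pos
  ext x
  have h1 : ∏ j ∈ Finset.range p, nrm p (z * y ^ j) x = 1 :=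
    Finset.prod_eq_one fun j _ => hsplit j x
  simp only [nrm] at h1
  rw [Finset.prod_comm, ← Finset.mul_prod_erase _ _ h0] at h1
  simp only [pow_zero, MulAut.one_apply, Finset.prod_const, Finset.card_range] at h1
  have hsum : ∀ k ∈ (Finset.range p).erase 0,
      ∏ j ∈ Finset.range p, ((z * y ^ j) ^ k) x = (z ^ k) (nrm p y x) := by
    intro k hk
    rw [Finset.mem_erase, Finset.mem_range] at hk
    have hcop : k.Coprime p := (hp.coprime_iff_not_dvd.mpr fun h => by
      have := Nat.le_of_dvd (Nat.pos_of_ne_zero hk.1) h; omega).symm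
    haveI : NeZero p := ⟨hp.ne_zero⟩
    rw [nrm, map_prod]
    refine Finset.prod_bij (fun j _ => j * k % p) (fun j _ => Finset.mem_range.mpr (Nat.mod_lt _ hp.pos))
      ?_ ?_ ?_
    · intro a ha b hb h
      have h' : a ≡ b [MOD p] := Nat.ModEq.cancel_right_of_coprime hcop.symm h
      exact h'.eq_of_lt_of_lt (Finset.mem_range.mp ha) (Finset.mem_range.mp hb)
    · intro b hb
      obtain ⟨m, hm⟩ := Nat.exists_mul_mod_eq_one_of_coprime hcop hp.one_lt
      refine ⟨m * b % p, Finset.mem_range.mpr (Nat.mod_lt _ hp.pos), ?_⟩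
      rw [Nat.mod_mul_mod, mul_assoc, mul_comm b k, ← mul_assoc, Nat.mul_mod, mul_comm m k, hm.2, one_mul,
        Nat.mod_mod, Nat.mod_eq_of_lt (Finset.mem_range.mp hb)]
    · intro j _
      rw [Commute.mul_pow (hc.pow_right j), MulAut.mul_apply, ← pow_mul]
      congr 2
      exact pow_eq_pow_mod _ hy
  rw [Finset.prod_congr rfl hsum] at h1
  have h2 := hsplit 0 (nrm p y x)
  rw [pow_zero, mul_one, nrm, ← Finset.mul_prod_erase _ _ h0, pow_zero, MulAut.one_apply] at h2
  rw [eq_inv_of_mul_eq_one_right h2, ← div_eq_mul_inv, div_eq_one] at h1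
  have h3 : y (nrm p y x) = nrm p y x := by
    rw [nrm, map_prod]
    refine Finset.prod_bij (fun j _ => (j + 1) % p) (fun j _ => Finset.mem_range.mpr (Nat.mod_lt _ hp.pos))
      ?_ ?_ ?_
    · intro a ha b hb h
      have h' : a ≡ b [MOD p] := Nat.ModEq.add_right_cancel' 1 h
      exact h'.eq_of_lt_of_lt (Finset.mem_range.mp ha) (Finset.mem_range.mp hb)
    · intro b hb
      refine ⟨(b + (p - 1)) % p, Finset.mem_range.mpr (Nat.mod_lt _ hp.pos), ?_⟩
      rw [Nat.mod_add_mod, show b + (p - 1) + 1 = b + p by have := hp.pos; omega, Nat.add_mod_right,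
        Nat.mod_eq_of_lt (Finset.mem_range.mp hb)]
    · intro j _
      rw [← MulAut.mul_apply, ← pow_succ', ← pow_eq_pow_mod _ hy]
  rw [← h1, map_pow] at h3
  rw [MulAut.one_apply]
  have h4 : (y x * x⁻¹) ^ p = 1 := by rw [mul_pow, inv_pow, h3, mul_inv_cancel]
  exact mul_inv_eq_one.mp (hV _ h4)

/-- A `p`-group of automorphisms split outside a normal subgroup has order `p`. -/
theorem split_pgroup {V : Type v} [CommGroup V] [Finite V] [Nontrivial V] {p : ℕ} (hp : p.Prime)
    (hV : ∀ x : V, x ^ p = 1 → x = 1) {Γ : Subgroup (MulAut V)} (hΓ : IsPGroup p Γ)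
    {K : Subgroup (MulAut V)} (hKΓ : K < Γ) (hKn : Γ ≤ normalizer (K : Set (MulAut V)))
    (hout : ∀ z ∈ Γ, z ∉ K → ∀ x, nrm p z x = 1) : K = ⊥ ∧ Nat.card Γ = p := by
  haveI := Fact.mk hp
  haveI : Finite (MulAut V) := Finite.of_injective (fun e : MulAut V => (e : V → V)) DFunLike.coe_injective
  haveI : Nontrivial Γ := (nontrivial_iff_ne_bot _).mpr (ne_bot_of_gt hKΓ)
  haveI := hΓ.center_nontrivial
  obtain ⟨n, hn, hcard⟩ := (hΓ.to_subgroup (center Γ)).nontrivial_iff_card.mp inferInstance
  obtain ⟨⟨⟨z, hzΓ⟩, hzc⟩, hz⟩ := exists_prime_orderOf_dvd_card' (G := center Γ) p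
    (by rw [hcard]; exact dvd_pow_self p hn.ne')
  rw [← Subgroup.orderOf_coe, Subgroup.orderOf_mk] at hz
  have hcomm : ∀ g ∈ Γ, Commute z g := fun g hg =>
    (congrArg Subtype.val (mem_center_iff.mp hzc ⟨g, hg⟩)).symm
  have hzp : z ^ p = 1 := hz ▸ pow_orderOf_eq_one z
  have hzK : z ∉ K := by
    intro hzK
    obtain ⟨y, hy, hyK⟩ := SetLike.exists_of_lt hKΓ
    have h1 := two_gen hp hV (hcomm y hy).symm hzp fun j x =>
      hout _ (mul_mem hy (pow_mem hzΓ j))
        (fun h => hyK (by simpa using mul_mem h (inv_mem (pow_mem hzK j)))) x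
    rw [h1, orderOf_one] at hz
    exact hp.ne_one hz.symm
  have hkey : ∀ y ∈ Γ, y ^ p = 1 → (∀ j, z * y ^ j ∉ K) → y = 1 := fun y hy hyp hj =>
    two_gen hp hV (hcomm y hy) hyp fun j x => hout _ (mul_mem hzΓ (pow_mem hy j)) (hj j) x
  have hKbot : K = ⊥ := by
    by_contra hne
    haveI : Nontrivial K := (nontrivial_iff_ne_bot _).mpr hne
    obtain ⟨m, hm, hcardK⟩ := (hΓ.to_le hKΓ.le).nontrivial_iff_card.mp inferInstance
    obtain ⟨⟨y, hyK⟩, hy⟩ := exists_prime_orderOf_dvd_card' (G := K) p
      (by rw [hcardK]; exact dvd_pow_self p hm.ne')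
    rw [Subgroup.orderOf_mk] at hy
    have h1 := hkey y (hKΓ.le hyK) (hy ▸ pow_orderOf_eq_one y) fun j h =>
      hzK (by simpa using mul_mem h (inv_mem (pow_mem hyK j)))
    rw [h1, orderOf_one] at hy
    exact hp.ne_one hy.symm
  refine ⟨hKbot, ?_⟩
  have hpow : ∀ y ∈ Γ, y ^ p = 1 := by
    intro y hy
    by_cases hy1 : y = 1
    · rw [hy1, one_pow]
    ext x
    have h1 := hout y hy (hKbot ▸ fun h => hy1 (mem_bot.mp h))
    have h2 := h1 (y x)
    rw [← h1 x] at h2
    have e : ∀ k, (y ^ k) (y x) = (y ^ (k + 1)) x := fun k => by rw [pow_succ, MulAut.mul_apply]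
    simp only [nrm, e] at h2
    have h3 := Finset.prod_range_succ (fun k => (y ^ k) x) p
    rw [Finset.prod_range_succ'] at h3
    rw [h2, pow_zero, MulAut.one_apply] at h3
    exact (mul_left_cancel h3).symm
  have hle : Γ ≤ zpowers z := by
    intro y hy
    by_contra hyz
    refine hyz ?_
    rw [hkey y hy (hpow y hy) fun j h => hyz ?_]
    · exact one_mem _
    · rw [hKbot, mem_bot] at h
      by_cases hj : p ∣ j
      · exfalso
        obtain ⟨i, rfl⟩ := hj
        rw [pow_mul, hpow y hy, one_pow, mul_one] at h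
        rw [h, orderOf_one] at hz
        exact hp.ne_one hz.symm
      · have hyj : y ^ j ∈ zpowers z := by
          rw [eq_inv_of_mul_eq_one_right h]; exact inv_mem (mem_zpowers z)
        obtain ⟨m, hm⟩ := Nat.exists_mul_mod_eq_one_of_coprime
          (hp.coprime_iff_not_dvd.mpr hj).symm hp.one_lt
        have : y = (y ^ j) ^ m := by
          rw [← pow_mul, pow_eq_pow_mod _ (hpow y hy), hm.2, pow_one]
        rw [this]; exact pow_mem hyj m
  rw [le_antisymm hle (zpowers_le.mpr hzΓ), Nat.card_zpowers, hz]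

section Kegel

variable {G : Type u} [Group G]

/-- The splitting identity. -/
theorem mul_pow_conj {V : Subgroup G} [V.Normal] [IsMulCommutative V] (g : G) (v : V) (n : ℕ) :
    ((v : G) * g) ^ n = ((∏ k ∈ Finset.range n, (MulAut.conjNormal g ^ k) v : V) : G) * g ^ n := by
  induction n with
  | zero => simp
  | succ n ih =>
    rw [pow_succ, ih, Finset.prod_range_succ, Subgroup.coe_mul, ← map_pow,
      MulAut.conjNormal_apply, pow_succ]
    group

theorem nrm_eq_one {p : ℕ} {H V : Subgroup G} [V.Normal] [IsMulCommutative V]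
    (hout : ∀ g ∉ H, g ^ p = 1) (hVH : V ≤ H) {g : G} (hg : g ∉ H) (v : V) :
    nrm p (MulAut.conjNormal g) v = 1 := by
  have h1 := mul_pow_conj g v p
  rw [hout g hg, mul_one, hout _ (fun h => hg (by simpa using mul_mem (inv_mem (hVH v.2)) h))] at h1
  exact Subtype.ext h1.symm

/-- Kegel's theorem for the splitting automorphisms of prime order coming from such an extension. -/
theorem nilpotent_aux {p : ℕ} (hp : p.Prime) : ∀ (n : ℕ) (G : Type u) [Group G] [Finite G],
    Nat.card G = n → ∀ H : Subgroup G, H.Normal → H.index = p → (∀ g ∉ H, g ^ p = 1) →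
      Group.IsNilpotent H := by
  intro n
  induction n using Nat.strong_induction_on with
  | _ n ih =>
  intro G _ _ hn H hHn hidx hout
  classical
  haveI := hHn
  haveI := Fact.mk hp
  have hHne : H ≠ ⊤ := fun h => hp.ne_one (by rw [← hidx, h, index_top])
  obtain ⟨x₀, hx₀⟩ : ∃ x : G, x ∉ H := by
    by_contra! h; exact hHne (eq_top_iff.mpr fun x _ => h x)
  by_cases hp2 : p = 2
  · subst hp2
    have hinv : ∀ h ∈ H, x₀ * h * x₀⁻¹ = h⁻¹ := by
      intro h hh
      have h1 := hout (h * x₀) fun hm => hx₀ (by simpa using mul_mem (inv_mem hh) hm)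
      have h2 := hout x₀ hx₀
      rw [_root_.pow_two] at h1 h2
      calc x₀ * h * x₀⁻¹ = h⁻¹ * (h * x₀ * (h * x₀)) * (x₀ * x₀)⁻¹ := by group
        _ = h⁻¹ := by rw [h1, h2]; group
    haveI hc : IsMulCommutative H := ⟨⟨fun a b => Subtype.ext (by
      have h1 := hinv ((a : G) * b) (mul_mem a.2 b.2)
      rw [show x₀ * ((a : G) * b) * x₀⁻¹ = (x₀ * a * x₀⁻¹) * (x₀ * b * x₀⁻¹) by group,
        hinv a a.2, hinv b b.2, mul_inv_rev] at h1
      calc (a : G) * b = ((b : G)⁻¹ * (a : G)⁻¹)⁻¹ := by group
        _ = ((a : G)⁻¹ * (b : G)⁻¹)⁻¹ := by rw [h1]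
        _ = b * a := by group)⟩⟩
    exact Subgroup.isNilpotent_of_ker_le_center (1 : H →* Unit)
      (fun z _ => mem_center_iff.mpr fun g => hc.is_comm.comm g z)
  -- proper invariant subgroups are nilpotent
  have hsub : ∀ K : Subgroup G, K < H → ∀ x, x ∉ H → x ∈ normalizer (K : Set G) → Group.IsNilpotent K := by
    intro K hK x hx hxK
    set L := K ⊔ zpowers x with hL
    have hmem : ∀ l ∈ L, l ∈ H → l ∈ K := by
      intro l hl hlH
      have hl' : l ∈ ((K ⊔ zpowers x : Subgroup G) : Set G) := hl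
      rw [coe_mul_of_right_le_normalizer_left K _ (zpowers_le.mpr hxK)] at hl'
      obtain ⟨k, hk, c, hc, rfl⟩ := Set.mem_mul.mp hl'
      obtain ⟨i, rfl⟩ := mem_zpowers_iff.mp hc
      have hiH : x ^ i ∈ H := by simpa using mul_mem (inv_mem (hK.le hk)) hlH
      by_cases hpi : (p : ℤ) ∣ i
      · obtain ⟨j, rfl⟩ := hpi
        rw [zpow_mul, zpow_natCast, hout x hx, one_zpow, mul_one]
        exact hk
      · exfalso
        obtain ⟨a, b, hab⟩ := ((Int.isCoprime_iff_gcd_eq_one).mpr (by
          rw [Int.gcd_def, Int.natAbs_natCast]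
          exact hp.coprime_iff_not_dvd.mpr fun h' => hpi (Int.natCast_dvd.mpr h')) :
            IsCoprime (p : ℤ) i)
        refine hx ?_
        have : x = (x ^ i) ^ b := by
          rw [← zpow_mul]
          conv_lhs => rw [← zpow_one x, ← hab, zpow_add, mul_comm a, zpow_mul, zpow_natCast, hout x hx,
            one_zpow, one_mul, mul_comm b]
        rw [this]; exact zpow_mem hiH b
    have hLne : L ≠ ⊤ := fun h => hK.not_ge fun y hy => hmem y (h ▸ mem_top y) hy
    have hidxL : (H.subgroupOf L).index = p := by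
      have hd : (H.subgroupOf L).index ∣ p := hidx ▸ relIndex_dvd_index_of_normal H L
      exact (hp.eq_one_or_self_of_dvd _ hd).resolve_left fun h1 => hx (by
        have h2 := index_eq_one.mp h1 ▸ mem_top (⟨x, mem_sup_right (mem_zpowers x)⟩ : L)
        exact h2)
    have hcard : Nat.card L < n :=
      lt_of_le_of_ne (hn ▸ card_le_card_group L) fun h => hLne (eq_top_of_card_eq _ (h.trans hn.symm))
    haveI := ih _ hcard L rfl (H.subgroupOf L) inferInstance hidxL
      fun g hg => Subtype.ext (by rw [Subgroup.coe_pow, hout g hg, Subgroup.coe_one])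
    let f : K →* H.subgroupOf L :=
      (Subgroup.inclusion (le_sup_left : K ≤ L)).codRestrict _ fun k => hK.le k.2
    refine Subgroup.isNilpotent_of_ker_le_center f (fun k hk => ?_)
    have h1 : (k : G) = 1 := congrArg (fun z : H.subgroupOf L => ((z : L) : G)) hk
    rw [mem_center_iff]
    intro g
    simp [show k = 1 from Subtype.ext h1]
  have hquot : ∀ (N : Subgroup G) [N.Normal], N ≠ ⊥ → N ≤ H → Group.IsNilpotent (H ⧸ N.subgroupOf H) := by
    intro N hN hN1 hNH
    let π := QuotientGroup.mk' N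
    have hcard : Nat.card (G ⧸ N) < n := by
      have h1 := N.card_mul_index
      rw [index_eq_card, hn] at h1
      have h2 := (one_lt_card_iff_ne_bot N).mpr hN1
      have h3 : 0 < Nat.card (G ⧸ N) := Nat.card_pos
      nlinarith
    haveI := ih _ hcard (G ⧸ N) rfl (H.map π) (hHn.map π (QuotientGroup.mk'_surjective N))
      ((index_map_eq H (QuotientGroup.mk'_surjective N) (by rwa [QuotientGroup.ker_mk'])).trans hidx)
      fun q hq => by
        obtain ⟨g, rfl⟩ := QuotientGroup.mk'_surjective N q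
        rw [← map_pow, hout g (fun h => hq ⟨g, h, rfl⟩), map_one]
    let f : (H ⧸ N.subgroupOf H) →* H.map π :=
      QuotientGroup.lift _ ((π.comp H.subtype).codRestrict _ fun h => ⟨h, h.2, rfl⟩) fun h hh =>
        Subtype.ext ((QuotientGroup.eq_one_iff _).mpr hh)
    refine Subgroup.isNilpotent_of_ker_le_center f (fun q hq => ?_)
    induction q using QuotientGroup.induction_on with
    | H h =>
      have h1 : (π (h : G)) = 1 := congrArg Subtype.val hq
      rw [show (h : H ⧸ N.subgroupOf H) = 1 from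
        (QuotientGroup.eq_one_iff _).mpr (mem_subgroupOf.mpr ((QuotientGroup.eq_one_iff _).mp h1))]
      exact one_mem _
  have hfrat : ∀ (r : ℕ) [Fact r.Prime] (R : Sylow r H),
      ∃ x, x ∉ H ∧ x ∈ normalizer ((R : Subgroup H).map H.subtype : Set G) := by
    intro r _ R
    by_contra! hcon
    refine hHne ?_
    rw [← Sylow.normalizer_sup_eq_top R, sup_eq_right.mpr]
    intro x hx
    by_contra hxH
    exact hcon x hxH hx
  -- H is solvable
  have hsolv : Group.IsSolvable H := by
    by_cases hN : ∃ N : Subgroup G, N.Normal ∧ N ≠ ⊥ ∧ N ≤ H ∧ Group.IsNilpotent N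
    · obtain ⟨N, hNn, hN1, hNH, hNnil⟩ := hN
      haveI := hNn
      haveI := hquot N hN1 hNH
      haveI := hNnil
      let ι : N →* H := Subgroup.inclusion hNH
      exact Group.isSolvable_of_ker_le_range ι (QuotientGroup.mk' (N.subgroupOf H))
        (by rw [QuotientGroup.ker_mk']; intro z hz; exact ⟨⟨z, hz⟩, rfl⟩)
    push Not at hN
    by_contra hnot1
    have hH1 : Nat.card H ≠ 1 := by
      intro h1
      haveI : Subsingleton H := (Nat.card_eq_one_iff_unique.mp h1).1
      have hn0 : (H : Subgroup G) = ⊥ := Subgroup.card_eq_one.mp h1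
      refine hnot1 ?_
      infer_instance
    by_cases hodd : ∃ r : ℕ, r.Prime ∧ r ≠ 2 ∧ r ∣ Nat.card H
    swap
    · -- H is a 2-group
      push Not at hodd
      have hHp : IsPGroup 2 H := IsPGroup.of_card (n := (Nat.card H).primeFactorsList.length)
        (Nat.eq_prime_pow_of_unique_prime_dvd Nat.card_pos.ne' fun {d} hd hdvd => by
          by_contra hne; exact hodd d hd hne hdvd)
      haveI := Fact.mk Nat.prime_two
      exact hN H hHn (fun h => hH1 (by rw [h, card_bot])) le_rfl hHp.isNilpotent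
    obtain ⟨r, hr, hr2, hrd⟩ := hodd
    haveI := Fact.mk hr
    obtain ⟨R⟩ : Nonempty (Sylow r H) := inferInstance
    obtain ⟨x, hx, hxR⟩ := hfrat r R
    let α : H →* H := (MulAut.conjNormal x : MulAut H).toMonoidHom
    have hαinj : Function.Injective α := (MulAut.conjNormal x : MulAut H).injective
    have hxpow : FPFNilpotent.Invariant α (R : Subgroup H) := by
      intro a ha
      obtain ⟨b, hb, hbe⟩ := (mem_normalizer_iff.mp hxR (a : G)).mp ⟨a, ha, rfl⟩
      have : α a = b := Subtype.ext hbe.symm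
      rw [this]; exact hb
    have hnorm : ∀ V : Subgroup H, FPFNilpotent.Invariant α V → V.Normal → (V.map H.subtype).Normal := by
      intro V hV hVn
      rw [← normalizer_eq_top_iff]
      refine eq_top_iff.mpr ?_
      have hVe := hV.map_eq hαinj
      have hle : H ⊔ zpowers x ≤ normalizer (V.map H.subtype : Set G) := by
        refine sup_le (fun h hh => ?_) (zpowers_le.mpr (mem_normalizer_iff.mpr fun y => ?_))
        · exact le_normalizer_map H.subtype ⟨⟨h, hh⟩, by rw [normalizer_eq_top]; trivial, rfl⟩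
        · constructor
          · rintro ⟨v, hv, rfl⟩; exact ⟨α v, hV v hv, rfl⟩
          · rintro ⟨v, hv, hvy⟩
            rw [← hVe] at hv
            obtain ⟨w, hw, rfl⟩ := hv
            refine ⟨w, hw, ?_⟩
            have : x * (w : G) * x⁻¹ = x * y * x⁻¹ := hvy
            simpa using this
      refine le_trans ?_ hle
      intro g _
      by_contra hg
      have h1 : (H ⊔ zpowers x).index ∣ p := hidx ▸ index_dvd_of_le le_sup_left
      rcases hp.eq_one_or_self_of_dvd _ h1 with h2 | h2
      · exact hg (index_eq_one.mp h2 ▸ mem_top g)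
      · have h3 := eq_of_le_of_card_ge (le_sup_left : H ≤ H ⊔ zpowers x) (by
          have a1 := card_mul_index H
          have a2 := card_mul_index (H ⊔ zpowers x)
          rw [hidx] at a1; rw [h2] at a2
          exact (Nat.eq_of_mul_eq_mul_right hp.pos (a2.trans a1.symm)).le)
        exact hx (h3.symm ▸ mem_sup_right (mem_zpowers x))
    have hnpcN : ∀ V : Subgroup H, FPFNilpotent.Invariant α V → V ≠ ⊥ → IsPGroup r V →
        Cfsg.HasNormalPComplement r (normalizer (V : Set H)) := by
      intro V hV hV1 hVp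
      have hne : normalizer (V : Set H) ≠ ⊤ := fun e => hN (V.map H.subtype)
        (hnorm V hV (normalizer_eq_top_iff.mp e))
        (by rwa [Ne, map_eq_bot_iff_of_injective _ H.subtype_injective]) (map_subtype_le _)
        (hVp.map H.subtype).isNilpotent
      set K := (normalizer (V : Set H)).map H.subtype with hK
      have hKlt : K < H := lt_of_le_of_ne (map_subtype_le _) fun h => hne (by
        refine map_injective H.subtype_injective ?_
        rw [← hK, h, ← MonoidHom.range_eq_map, range_subtype])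
      have hNi := FPFNilpotent.invariant_normalizer hαinj hV
      haveI := hsub K hKlt x hx (mem_normalizer_iff.mpr fun y => by
        constructor
        · rintro ⟨v, hv, rfl⟩; exact ⟨α v, hNi v hv, rfl⟩
        · rintro ⟨v, hv, hvy⟩
          rw [← hNi.map_eq hαinj] at hv
          obtain ⟨w, hw, rfl⟩ := hv
          refine ⟨w, hw, ?_⟩
          have : x * (w : G) * x⁻¹ = x * y * x⁻¹ := hvy
          simpa using this)
      exact (CfsgLib.Fusion.Basic.npc_congr
        ((normalizer (V : Set H)).equivMapOfInjective H.subtype H.subtype_injective)).mpr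
        (FPFNilpotent.npc_of_nilpotent r)
    have hRne : (R : Subgroup H) ≠ ⊥ := fun e => by
      have := R.not_dvd_index
      rw [e, index_bot] at this
      exact this hrd
    have hJi : FPFNilpotent.Invariant α (Cfsg.thompsonSubgroupOf r (R : Subgroup H)) := by
      intro a ha
      have := ThompsonComplement.thompsonSubgroupOf_map (p := r) α hαinj (R : Subgroup H)
      rw [hxpow.map_eq hαinj] at this
      rw [this]
      exact mem_map_of_mem α ha
    have hZi : FPFNilpotent.Invariant α ((R : Subgroup H) ⊓ centralizer (R : Set H)) := fun a ha =>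
      ⟨hxpow a ha.1, FPFNilpotent.invariant_centralizer hαinj hxpow a ha.2⟩
    have hnpc : Cfsg.HasNormalPComplement r H :=
      ThompsonComplement.npc_of_thompson hr2 R
        (hnpcN _ hJi (ThompsonComplement.thompsonSubgroupOf_ne_bot R.isPGroup' hRne)
          (R.isPGroup'.to_le (Fusion.Thompson.thompsonSubgroupOf_le _)))
        (by
          simpa using Fusion.Basic.npc_of_le (centralizer_le_normalizer _)
            (hnpcN _ hZi (ThompsonComplement.centerOf_ne_bot R.isPGroup' hRne)
              (R.isPGroup'.to_le inf_le_left)))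
    by_cases hO : Cfsg.pResidual r H = ⊥
    · refine hN H hHn (fun h => hH1 (by rw [h, card_bot])) le_rfl ?_
      have hHp : IsPGroup r H := (Fusion.Basic.isPGroup_quotient_pResidual (G := H) (p := r)).of_equiv
        ((QuotientGroup.quotientMulEquivOfEq hO).trans QuotientGroup.quotientBot)
      exact hHp.isNilpotent
    · have hOi := FPFNilpotent.invariant_characteristic hαinj (Cfsg.pResidual r H)
      have hOn := hnorm _ hOi inferInstance
      have hOlt : (Cfsg.pResidual r H).map H.subtype < H := lt_of_le_of_ne (map_subtype_le _) fun h => by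
        have h' := Fusion.Basic.npc_iff_coprime.mp hnpc
        rw [← card_map_of_injective H.subtype_injective (K := Cfsg.pResidual r H), h] at h'
        exact hr.ne_one (Nat.eq_one_of_dvd_coprimes h' hrd dvd_rfl)
      exact hN _ hOn (by rwa [Ne, map_eq_bot_iff_of_injective _ H.subtype_injective])
        (map_subtype_le _) (hsub _ hOlt x hx (by rw [normalizer_eq_top]; trivial))
  -- the minimal normal subgroup
  by_cases hH1 : H = ⊥
  · haveI : Subsingleton H := by rw [hH1]; infer_instance
    infer_instance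
  obtain ⟨V, ⟨hVn, hV1, hVH⟩, hVmin⟩ := ({V : Subgroup G | V.Normal ∧ V ≠ ⊥ ∧ V ≤ H}).toFinite.exists_minimalFor
    (fun V : Subgroup G => Nat.card V) _ ⟨H, hHn, hH1, le_rfl⟩
  haveI := hVn
  haveI := hsolv
  have hmin : ∀ W : Subgroup G, W.Normal → W ≠ ⊥ → W ≤ V → W = V := fun W hW hW1 hWV =>
    eq_of_le_of_card_ge hWV (hVmin (j := W) ⟨hW, hW1, hWV.trans hVH⟩ (card_le_of_le hWV))
  haveI : Group.IsSolvable V :=
    Group.isSolvable_of_isSolvable_injective (Subgroup.inclusion_injective hVH)
  haveI : Nontrivial V := (nontrivial_iff_ne_bot V).mpr hV1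
  haveI hVc : IsMulCommutative V := by
    have hlt : commutator V < ⊤ := Group.IsSolvable.commutator_lt_top_of_nontrivial V
    have hmap : ((commutator V).map V.subtype).Normal := ConjAct.normal_of_characteristic_of_normal
    have hbot : commutator V = ⊥ := by
      by_contra hne
      have := hmin _ hmap (by rwa [Ne, map_eq_bot_iff_of_injective _ V.subtype_injective]) (map_subtype_le _)
      refine hlt.ne (map_injective V.subtype_injective ?_)
      rw [this, ← MonoidHom.range_eq_map, range_subtype]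
    exact ⟨⟨fun a b => commutatorElement_eq_one_iff_mul_comm.mp
      (mem_bot.mp (hbot ▸ commutator_mem_commutator (mem_top a) (mem_top b)))⟩⟩
  obtain ⟨r, hr, hrd⟩ := Nat.exists_prime_and_dvd
    ((one_lt_card_iff_ne_bot V).mpr hV1).ne'
  haveI := Fact.mk hr
  have hVr : ∀ v : V, v ^ r = 1 := by
    let T : Subgroup G := ((powMonoidHom r : V →* V).ker).map V.subtype
    have hTn : T.Normal := ⟨by
      rintro _ ⟨v, hv, rfl⟩ g
      refine ⟨MulAut.conjNormal g v, ?_, rfl⟩
      rw [SetLike.mem_coe, MonoidHom.mem_ker, powMonoidHom_apply] at hv ⊢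
      rw [← map_pow, hv, map_one]⟩
    have hT1 : T ≠ ⊥ := by
      obtain ⟨v, hv⟩ := exists_prime_orderOf_dvd_card' (G := V) r hrd
      intro h
      have : (v : G) ∈ T := ⟨v, by
        rw [SetLike.mem_coe, MonoidHom.mem_ker, powMonoidHom_apply, ← hv, pow_orderOf_eq_one], rfl⟩
      rw [h, mem_bot, OneMemClass.coe_eq_one] at this
      rw [this, orderOf_one] at hv
      exact hr.ne_one hv.symm
    intro v
    obtain ⟨w, hw, hwv⟩ : (v : G) ∈ T := (hmin T hTn hT1 (map_subtype_le _)).symm ▸ v.2
    rw [← Subtype.ext hwv]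
    exact hw
  have hVp : IsPGroup r V := fun v => ⟨1, by rw [pow_one]; exact hVr v⟩
  haveI hqn := hquot V hV1 hVH
  -- is V central?
  by_cases hcen : ∀ (s : ℕ) [Fact s.Prime] (S : Sylow s H), ((S : Subgroup H).map H.subtype) ≤ centralizer (V : Set G)
  · refine Subgroup.isNilpotent_of_ker_le_center (QuotientGroup.mk' (V.subgroupOf H)) ?_
    rw [QuotientGroup.ker_mk']
    have htop : (centralizer (V : Set G)).subgroupOf H = ⊤ := by
      refine eq_top_of_card_eq _ (Nat.dvd_antisymm (card_subgroup_dvd_card _)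
        ((Nat.dvd_iff_prime_pow_dvd_dvd _ _).mpr fun s k hs hsk => ?_))
      haveI := Fact.mk hs
      obtain ⟨S⟩ : Nonempty (Sylow s H) := inferInstance
      refine ((hs.pow_dvd_iff_dvd_ordProj Nat.card_pos.ne').mp hsk).trans ?_
      rw [← S.card_eq_multiplicity]
      exact card_dvd_of_le fun y hy => hcen s S ⟨y, hy, rfl⟩
    intro v hv
    rw [mem_center_iff]
    intro y
    exact Subtype.ext (((htop ▸ mem_top y : y ∈ (centralizer (V : Set G)).subgroupOf H) : (y : G) ∈ centralizer (V : Set G)) v hv).symm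
  push Not at hcen
  obtain ⟨s, hs, S, hSV⟩ := hcen
  exfalso
  haveI := hs
  set S' := (S : Subgroup H).map H.subtype with hS'
  have hS'p : IsPGroup s S' := S.isPGroup'.map _
  set T := S' ⊔ V with hT
  have hTH : T ≤ H := sup_le (map_subtype_le _) hVH
  have hTn : T.Normal := by
    set π := QuotientGroup.mk' (V.subgroupOf H)
    haveI := hqn
    haveI hn1 : ((S.mapSurjective (QuotientGroup.mk'_surjective (V.subgroupOf H))) : Subgroup (H ⧸ V.subgroupOf H)).Normal :=
      (Group.isNilpotent_of_finite_tfae (G := H ⧸ V.subgroupOf H)).out 0 3 rfl rfl |>.mp hqn s inferInstance _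
    rw [Sylow.coe_mapSurjective] at hn1
    have hW : ((S : Subgroup H) ⊔ V.subgroupOf H).Normal := by
      have := hn1.comap π
      rwa [comap_map_eq, QuotientGroup.ker_mk'] at this
    have hTe : T = ((S : Subgroup H) ⊔ V.subgroupOf H).map H.subtype := by
      rw [Subgroup.map_sup, map_subgroupOf_eq_of_le hVH]
    obtain ⟨x, hx, hxS⟩ := hfrat s S
    rw [← normalizer_eq_top_iff, eq_top_iff]
    have hle : H ⊔ zpowers x ≤ normalizer (T : Set G) := by
      refine sup_le (fun h hh => ?_) (zpowers_le.mpr ?_)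
      · rw [hTe]
        exact le_normalizer_map H.subtype ⟨⟨h, hh⟩, by rw [normalizer_eq_top]; trivial, rfl⟩
      · refine mem_normalizer_iff.mpr fun y => ?_
        have hconj : ∀ z ∈ normalizer (S' : Set G), ∀ y ∈ T, z * y * z⁻¹ ∈ T := by
          intro z hz y hy
          have hy' : T ≤ T.comap (MulAut.conj z).toMonoidHom := sup_le
            (fun w hw => mem_sup_left ((mem_normalizer_iff.mp hz w).mp hw))
            (fun w hw => mem_sup_right (hVn.conj_mem w hw z))
          exact hy' hy
        refine ⟨hconj x hxS y, fun hy => ?_⟩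
        have := hconj x⁻¹ (inv_mem hxS) _ hy
        rwa [inv_inv, show x⁻¹ * (x * y * x⁻¹) * x = y by group] at this
    refine le_trans ?_ hle
    have h1 : (H ⊔ zpowers x).index ∣ p := hidx ▸ index_dvd_of_le le_sup_left
    rcases hp.eq_one_or_self_of_dvd _ h1 with h2 | h2
    · rw [index_eq_one.mp h2]
    · exfalso
      have h3 := eq_of_le_of_card_ge (le_sup_left : H ≤ H ⊔ zpowers x) (by
        have a1 := card_mul_index H
        have a2 := card_mul_index (H ⊔ zpowers x)
        rw [hidx] at a1; rw [h2] at a2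
        exact (Nat.eq_of_mul_eq_mul_right hp.pos (a2.trans a1.symm)).le)
      exact hx (h3.symm ▸ mem_sup_right (mem_zpowers x))
  have hsr : s ≠ r := by
    rintro rfl
    refine hSV ?_
    have hSle : V.subgroupOf H ≤ (S : Subgroup H) :=
      (hVp.of_equiv (subgroupOfEquivOfLe hVH).symm).le_sylow_of_normal S
    have hVS : V ≤ S' := fun v hv => ⟨⟨v, hVH hv⟩, hSle (mem_subgroupOf.mpr hv), rfl⟩
    rw [hT, sup_eq_left.mpr hVS] at hTn
    haveI := hTn
    haveI := hS'p.isNilpotent
    haveI : ((center S').map S'.subtype).Normal := ConjAct.normal_of_characteristic_of_normal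
    have hne : V.subgroupOf S' ⊓ center S' ≠ ⊥ := by
      refine CfsgLib.Solvable.FrattiniFitting.inf_center_ne_bot _ fun h => hV1 ?_
      rw [subgroupOf_eq_bot, disjoint_iff, inf_eq_left.mpr hVS] at h
      exact h
    have hWV := hmin ((V.subgroupOf S' ⊓ center S').map S'.subtype) ?_
      (by rwa [Ne, map_eq_bot_iff_of_injective _ S'.subtype_injective])
      (by rintro _ ⟨w, hw, rfl⟩; exact hw.1)
    · intro y hy
      rw [mem_centralizer_iff]
      intro v hv
      obtain ⟨w, hw, rfl⟩ := (hWV.symm ▸ hv : v ∈ (V.subgroupOf S' ⊓ center S').map S'.subtype)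
      exact congrArg Subtype.val (mem_center_iff.mp hw.2 ⟨y, hy⟩).symm
    · rw [map_inf _ _ _ S'.subtype_injective, map_subgroupOf_eq_of_le hVS]
      exact normal_inf_normal _ _
  have hTtop : T = H := by
    refine le_antisymm hTH (by_contra fun hlt' => ?_)
    have hlt : T < H := lt_of_le_not_ge hTH hlt'
    haveI := hsub T hlt x₀ hx₀ (by rw [normalizer_eq_top]; trivial)
    refine hSV fun y hy => ?_
    have hyT : y ∈ T := mem_sup_left hy
    have hQ : IsPGroup r (V.subgroupOf T) := hVp.of_equiv (subgroupOfEquivOfLe le_sup_right).symm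
    have h1 := Fusion.Alperin.centralizes_of_npc (FPFNilpotent.npc_of_nilpotent r) hQ
      (g := (⟨y, hyT⟩ : T)) (by rw [normalizer_eq_top]; trivial) (by
        rw [Subgroup.orderOf_mk]
        obtain ⟨k, hk⟩ := Basic.exists_orderOf_eq_pow_of_mem hS'p hy
        rw [hk]; exact ((Nat.coprime_primes hs.out hr).mpr hsr).pow_left k)
    rw [mem_centralizer_iff]
    intro v hv
    exact congrArg Subtype.val (h1 (⟨v, mem_sup_right hv⟩ : T) hv)
  obtain ⟨x, hx, hxS⟩ := hfrat s S
  have hxS' : x ∈ normalizer (S' : Set G) := hxS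
  let C₀ : Subgroup G := V ⊓ centralizer (S' : Set G)
  have hC₀ : C₀ = ⊥ := by
    by_contra hne
    have hC₀n : C₀.Normal := by
      have hx' : x ∈ normalizer (C₀ : Set G) := by
        have hconj : ∀ z ∈ normalizer (S' : Set G), ∀ c ∈ C₀, z * c * z⁻¹ ∈ C₀ := by
          intro z hz c hc
          refine ⟨hVn.conj_mem c hc.1 z, ?_⟩
          show z * c * z⁻¹ ∈ centralizer (S' : Set G)
          rw [mem_centralizer_iff]
          intro y hy
          have h1 := hc.2 (z⁻¹ * y * z) ((mem_normalizer_iff''.mp hz y).mp hy)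
          calc y * (z * c * z⁻¹) = z * (z⁻¹ * y * z * c) * z⁻¹ := by group
            _ = z * (c * (z⁻¹ * y * z)) * z⁻¹ := by rw [h1]
            _ = _ := by group
        refine mem_normalizer_iff.mpr fun y => ⟨hconj x hxS' y, fun hy => ?_⟩
        have := hconj x⁻¹ (inv_mem hxS') _ hy
        rwa [inv_inv, show x⁻¹ * (x * y * x⁻¹) * x = y by group] at this
      have hS'C : S' ≤ centralizer (C₀ : Set G) := le_centralizer_iff.mp inf_le_right
      have hVC : V ≤ centralizer (C₀ : Set G) :=
        le_centralizer_iff.mp (inf_le_left.trans (le_centralizer V))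
      have hH' : H ≤ normalizer (C₀ : Set G) :=
        hTtop ▸ (sup_le hS'C hVC).trans (centralizer_le_normalizer _)
      rw [← normalizer_eq_top_iff, ← index_eq_one]
      rcases hp.eq_one_or_self_of_dvd _ (hidx ▸ index_dvd_of_le hH') with h2 | h2
      · exact h2
      · exfalso
        have h3 := eq_of_le_of_card_ge hH' (by
          have a1 := card_mul_index H
          have a2 := card_mul_index (normalizer (C₀ : Set G))
          rw [hidx] at a1; rw [h2] at a2
          exact (Nat.eq_of_mul_eq_mul_right hp.pos (a2.trans a1.symm)).le)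
        exact hx (h3.symm ▸ hx')
    have := hmin C₀ hC₀n hne inf_le_left
    exact hSV (le_centralizer_iff.mp (this.symm.le.trans inf_le_right))
  have hnotin : ∀ y ∈ S', ∀ k, 0 < k → k < p → y * x ^ k ∉ H := by
    intro y hy k hk0 hkp h
    have hxk : x ^ k ∈ H := by simpa using mul_mem (inv_mem (map_subtype_le _ hy)) h
    obtain ⟨m, hm⟩ := Nat.exists_mul_mod_eq_one_of_coprime
      (hp.coprime_iff_not_dvd.mpr fun hd => by
        have := Nat.le_of_dvd hk0 hd; omega).symm hp.one_lt
    refine hx ?_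
    have : x = (x ^ k) ^ m := by rw [← pow_mul, pow_eq_pow_mod _ (hout x hx), hm.2, pow_one]
    rw [this]; exact pow_mem hxk m
  let ρ : G →* MulAut V := MulAut.conjNormal
  have hsplit : ∀ g, g ∉ H → ∀ v : V, nrm p (ρ g) v = 1 := fun g hg v => nrm_eq_one hout hVH hg v
  by_cases hsp : s = p
  · subst hsp
    have hpV : ∀ v : V, v ^ s = 1 → v = 1 := fun v hv => orderOf_eq_one_iff.mp
      (Nat.eq_one_of_dvd_coprimes ((Nat.coprime_primes hs.out hr).mpr hsr)
        (orderOf_dvd_of_pow_eq_one hv) (orderOf_dvd_of_pow_eq_one (hVr v)))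
    have hPx : IsPGroup s (S' ⊔ zpowers x : Subgroup G) := by
      rw [sup_comm]
      refine IsPGroup.to_sup_of_normal_right' ?_ hS'p (zpowers_le.mpr hxS')
      exact Basic.isPGroup_zpowers (k := 1) (by simpa using orderOf_dvd_of_pow_eq_one (hout x hx))
    have hlt : S'.map ρ < (S' ⊔ zpowers x).map ρ := by
      refine lt_of_le_of_ne (map_mono le_sup_left) fun h => ?_
      obtain ⟨y, hy, hyx⟩ : ρ x ∈ S'.map ρ := h ▸ mem_map_of_mem ρ (mem_sup_right (mem_zpowers x))
      have hout' : y⁻¹ * x ∉ H := fun h' => hx (by simpa using mul_mem (map_subtype_le _ hy) h')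
      obtain ⟨v, hv⟩ := exists_ne (1 : V)
      have h1 := hsplit _ hout' v
      rw [map_mul, map_inv, hyx, inv_mul_cancel] at h1
      simp only [nrm, one_pow, MulAut.one_apply, Finset.prod_const, Finset.card_range] at h1
      exact hv (hpV v h1)
    have hKn : (S' ⊔ zpowers x : Subgroup G).map ρ ≤ normalizer (S'.map ρ : Set (MulAut V)) :=
      (map_mono (sup_le le_normalizer (zpowers_le.mpr hxS'))).trans (le_normalizer_map ρ)
    have hKout : ∀ z ∈ (S' ⊔ zpowers x : Subgroup G).map ρ, z ∉ S'.map ρ → ∀ v : V, nrm s z v = 1 := by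
      rintro z ⟨g, hg, rfl⟩ hz v
      refine hsplit g (fun hgH => hz ?_) v
      have hg' : g ∈ ((S' ⊔ zpowers x : Subgroup G) : Set G) := hg
      rw [coe_mul_of_right_le_normalizer_left S' _ (zpowers_le.mpr hxS')] at hg'
      obtain ⟨y, hy, c, hc, rfl⟩ := Set.mem_mul.mp hg'
      obtain ⟨k, hk, rfl⟩ : ∃ k, k < s ∧ x ^ k = c := by
        obtain ⟨i, rfl⟩ := mem_powers_iff_mem_zpowers.mpr hc
        exact ⟨i % s, Nat.mod_lt _ hs.out.pos, (pow_eq_pow_mod i (hout x hx)).symm⟩
      rcases Nat.eq_zero_or_pos k with rfl | hk0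
      · rw [pow_zero, mul_one]; exact mem_map_of_mem ρ hy
      · exact absurd hgH (hnotin y hy k hk0 hk)
    obtain ⟨hK, -⟩ := split_pgroup hs.out hpV (hPx.map ρ) hlt hKn hKout
    refine hSV fun y hy => ?_
    have h1 : ρ y = 1 := mem_bot.mp (hK ▸ mem_map_of_mem ρ hy)
    rw [mem_centralizer_iff]
    intro v hv
    have h2 : y * v * y⁻¹ = v := congrArg Subtype.val (DFunLike.congr_fun h1 (⟨v, hv⟩ : V))
    exact (mul_inv_eq_iff_eq_mul.mp h2).symm
  · -- s ≠ p
    have hfpf : ∀ c ∈ S', Commute x c → c = 1 := by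
      intro c hc hxc
      have h1 := hout (c * x) fun h => hx (by simpa using mul_mem (inv_mem (map_subtype_le _ hc)) h)
      rw [Commute.mul_pow hxc.symm, hout x hx, mul_one] at h1
      obtain ⟨k, hk⟩ := Basic.exists_orderOf_eq_pow_of_mem hS'p hc
      exact orderOf_eq_one_iff.mp (Nat.eq_one_of_dvd_coprimes
        (((Nat.coprime_primes hs.out hp).mpr hsp).pow_left k) hk.dvd (orderOf_dvd_of_pow_eq_one h1))
    haveI : Fintype S' := Fintype.ofFinite _
    have hzero : ∀ w : V, ∏ y : S', ρ y w = 1 := by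
      intro w
      have hmem : ((∏ y : S', ρ y w : V) : G) ∈ C₀ := by
        refine ⟨Subtype.coe_prop _, ?_⟩
        show _ ∈ centralizer (S' : Set G)
        rw [mem_centralizer_iff]
        intro a ha
        have h1 : ρ a (∏ y : S', ρ y w) = ∏ y : S', ρ y w := by
          rw [map_prod]
          exact Fintype.prod_equiv (Equiv.mulLeft (⟨a, ha⟩ : S')) _ _ fun y => by
            rw [← MulAut.mul_apply, ← map_mul]; rfl
        exact mul_inv_eq_iff_eq_mul.mp (congrArg Subtype.val h1)
      rw [hC₀, mem_bot, OneMemClass.coe_eq_one] at hmem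
      exact hmem
    refine hV1 (eq_bot_iff.mpr fun v hv => ?_)
    have h1 : ∏ y : S', nrm p (ρ ((y : G) * x * (y : G)⁻¹)) ⟨v, hv⟩ = 1 :=
      Finset.prod_eq_one fun y _ => hsplit _ (fun h => hx (by
        have := hHn.conj_mem _ h (y : G)⁻¹
        simpa [mul_assoc] using this)) _
    simp only [nrm] at h1
    rw [Finset.prod_comm, ← Finset.mul_prod_erase _ _ (Finset.mem_range.mpr hp.pos)] at h1
    simp only [pow_zero, MulAut.one_apply, Finset.prod_const, Finset.card_univ] at h1
    rw [Finset.prod_eq_one (s := (Finset.range p).erase 0) fun k hk => ?_, mul_one] at h1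
    · rw [← Nat.card_eq_fintype_card] at h1
      obtain ⟨j, hj⟩ := hS'p.exists_card_eq
      rw [hj] at h1
      have := orderOf_eq_one_iff.mp (Nat.eq_one_of_dvd_coprimes
        (((Nat.coprime_primes hs.out hr).mpr hsr).pow_left j) (orderOf_dvd_of_pow_eq_one h1)
        (orderOf_dvd_of_pow_eq_one (hVr ⟨v, hv⟩)))
      exact mem_bot.mpr (congrArg Subtype.val this)
    · rw [Finset.mem_erase, Finset.mem_range] at hk
      have hxk : x ^ k ∈ normalizer (S' : Set G) := pow_mem hxS' k
      let f : S' → S' := fun y => ⟨(y : G) * (x ^ k * (y : G)⁻¹ * (x ^ k)⁻¹),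
        mul_mem y.2 ((mem_normalizer_iff.mp hxk _).mp (inv_mem y.2))⟩
      have hf : Function.Injective f := by
        intro a b hab
        have h' : (a : G) * (x ^ k * (a : G)⁻¹ * (x ^ k)⁻¹) = (b : G) * (x ^ k * (b : G)⁻¹ * (x ^ k)⁻¹) :=
          congrArg Subtype.val hab
        have hcom : Commute (x ^ k) ((b : G)⁻¹ * a) := by
          calc x ^ k * ((b : G)⁻¹ * a) =
              (b : G)⁻¹ * ((b : G) * (x ^ k * (b : G)⁻¹ * (x ^ k)⁻¹)) * (x ^ k) * a := by group
            _ = (b : G)⁻¹ * ((a : G) * (x ^ k * (a : G)⁻¹ * (x ^ k)⁻¹)) * (x ^ k) * a := by rw [h']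
            _ = (b : G)⁻¹ * a * x ^ k := by group
        obtain ⟨m, hm⟩ := Nat.exists_mul_mod_eq_one_of_coprime
          (hp.coprime_iff_not_dvd.mpr fun hd => by
            have := Nat.le_of_dvd (Nat.pos_of_ne_zero hk.1) hd; omega).symm hp.one_lt
        have hx' : x = (x ^ k) ^ m := by
          rw [← pow_mul, pow_eq_pow_mod _ (hout x hx), hm.2, pow_one]
        have hcx : Commute x ((b : G)⁻¹ * a) := hx' ▸ hcom.pow_left m
        exact Subtype.ext (inv_mul_eq_one.mp (hfpf _ (mul_mem (inv_mem b.2) a.2) hcx)).symm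
      have hbij : Function.Bijective f := ⟨hf, Finite.injective_iff_surjective.mp hf⟩
      have he : ∀ y : S', (ρ ((y : G) * x * (y : G)⁻¹) ^ k) ⟨v, hv⟩ = ρ (f y) (ρ (x ^ k) ⟨v, hv⟩) := by
        intro y
        rw [← map_pow, conj_pow, ← MulAut.mul_apply, ← map_mul]
        congr 2
        show (y : G) * x ^ k * (y : G)⁻¹ = (y : G) * (x ^ k * (y : G)⁻¹ * (x ^ k)⁻¹) * x ^ k
        group
      rw [Finset.prod_congr rfl fun y _ => he y]
      exact (Fintype.prod_bijective f hbij _ (fun y => ρ y (ρ (x ^ k) ⟨v, hv⟩)) fun _ => rfl).trans (hzero _)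

end Kegel

end CfsgLib.PGroup.Hughes
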