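import Mathlib.Analysis.SpecialFunctions.Gaussian.PoissonSummation
import Mathlib.NumberTheory.ModularForms.JacobiTheta.TwoVariable
import Mathlib.LinearAlgebra.Matrix.PosDef
import Mathlib.LinearAlgebra.Matrix.NonsingularInverse
import Mathlib.Analysis.Matrix.Order

set_option autoImplicit false

/-!
Poisson summation for Gaussian sums over `ℤ^n` with a positive definite quadratic form.
-/

namespace CfsgLib.PGroup.LatticePoisson

open Matrix Complex
open scoped Real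

/-- The integer vector as a real vector. -/
def toReal {n : ℕ} (x : Fin n → ℤ) : Fin n → ℝ := fun i => (x i : ℝ)

/-- The quadratic form of a matrix. -/
def qf {n : ℕ} (A : Matrix (Fin n) (Fin n) ℝ) (v : Fin n → ℝ) : ℝ := v ⬝ᵥ (A *ᵥ v)

lemma qf_pos {n : ℕ} {A : Matrix (Fin n) (Fin n) ℝ} (hA : A.PosDef) {v : Fin n → ℝ} (hv : v ≠ 0) :
    0 < qf A v := by simpa [qf] using hA.dotProduct_mulVec_pos hv

lemma qf_smul {n : ℕ} (A : Matrix (Fin n) (Fin n) ℝ) (c : ℝ) (v : Fin n → ℝ) :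
    qf A (c • v) = c ^ 2 * qf A v := by
  simp [qf, mulVec_smul, smul_dotProduct, dotProduct_smul]
  ring

lemma continuous_qf {n : ℕ} (A : Matrix (Fin n) (Fin n) ℝ) : Continuous (qf A) := by
  unfold qf
  simp only [dotProduct, mulVec]
  fun_prop

lemma exists_coercive {n : ℕ} {A : Matrix (Fin n) (Fin n) ℝ} (hA : A.PosDef) :
    ∃ ε > 0, ∀ v, ε * ∑ i, v i ^ 2 ≤ qf A v := by
  suffices h : ∃ δ > 0, ∀ v, δ * ‖v‖ ^ 2 ≤ qf A v by
    obtain ⟨δ, hδ, h⟩ := h
    refine ⟨δ / (n + 1), by positivity, fun v => le_trans ?_ (h v)⟩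
    rw [div_mul_eq_mul_div, div_le_iff₀ (by positivity), mul_assoc]
    refine mul_le_mul_of_nonneg_left ?_ hδ.le
    refine le_trans (Finset.sum_le_sum fun i _ => ?_) (le_of_eq_of_le
      (Finset.sum_const (‖v‖ ^ 2)) ?_)
    · rw [← sq_abs]
      exact pow_le_pow_left₀ (abs_nonneg _) ((Real.norm_eq_abs _).symm.trans_le (norm_le_pi_norm v i)) 2
    · rw [Finset.card_univ, Fintype.card_fin, nsmul_eq_mul]
      nlinarith [sq_nonneg ‖v‖]
  by_cases hne : (Metric.sphere (0 : Fin n → ℝ) 1).Nonempty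
  · obtain ⟨u, hu, hmin⟩ := (isCompact_sphere (0 : Fin n → ℝ) 1).exists_isMinOn hne
      (continuous_qf A).continuousOn
    have hu1 : ‖u‖ = 1 := mem_sphere_zero_iff_norm.1 hu
    refine ⟨qf A u, qf_pos hA (fun h => by simp [h] at hu1), fun v => ?_⟩
    by_cases hv : v = 0
    · simp [hv, qf]
    have hn : ‖v‖ ≠ 0 := norm_ne_zero_iff.2 hv
    have h1 : qf A u ≤ qf A (‖v‖⁻¹ • v) :=
      hmin (mem_sphere_zero_iff_norm.2 (by simp [norm_smul, hn]))
    rw [qf_smul] at h1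
    calc qf A u * ‖v‖ ^ 2 ≤ (‖v‖⁻¹ ^ 2 * qf A v) * ‖v‖ ^ 2 :=
          mul_le_mul_of_nonneg_right h1 (sq_nonneg _)
      _ = qf A v := by field_simp
  · refine ⟨1, one_pos, fun v => ?_⟩
    by_cases hv : v = 0
    · simp [hv, qf]
    exact absurd ⟨‖v‖⁻¹ • v, mem_sphere_zero_iff_norm.2
      (by simp [norm_smul, norm_ne_zero_iff.2 hv])⟩ hne

lemma summable_exp_sq_int {c : ℝ} (hc : 0 < c) :
    Summable fun k : ℤ => Real.exp (-c * (k : ℝ) ^ 2) := by
  have h := summable_pow_mul_jacobiTheta₂_term_bound 0 (T := c / π) (div_pos hc Real.pi_pos) 0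
  refine h.congr fun k => ?_
  simp only [pow_zero, one_mul, mul_zero, zero_mul, sub_zero]
  congr 1
  field_simp

lemma summable_exp_sq {c : ℝ} (hc : 0 < c) : ∀ n : ℕ,
    Summable fun x : Fin n → ℤ => Real.exp (-c * ∑ i, toReal x i ^ 2)
  | 0 => Summable.of_finite
  | n + 1 => by
    rw [← (Fin.consEquiv (fun _ : Fin (n + 1) => ℤ)).summable_iff]
    refine ((summable_exp_sq_int hc).mul_of_nonneg (summable_exp_sq hc n)
      (fun _ => (Real.exp_pos _).le) fun _ => (Real.exp_pos _).le).congr fun p => ?_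
    simp [← Real.exp_add, Fin.sum_univ_succ, toReal, mul_add]

lemma summable_exp_qf {n : ℕ} {A : Matrix (Fin n) (Fin n) ℝ} (hA : A.PosDef) {c : ℝ} (hc : 0 < c)
    (b : Fin n → ℝ) : Summable fun x : Fin n → ℤ => Real.exp (-c * qf A (toReal x + b)) := by
  obtain ⟨ε, hε, h⟩ := exists_coercive hA
  refine Summable.of_nonneg_of_le (fun _ => (Real.exp_pos _).le) (fun x => ?_)
    ((summable_exp_sq (show 0 < c * ε / 2 by positivity) n).mul_left
      (Real.exp (c * ε * ∑ i, b i ^ 2)))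
  rw [← Real.exp_add, Real.exp_le_exp]
  have h2 : ∀ i ∈ Finset.univ, toReal x i ^ 2 / 2 - b i ^ 2 ≤ (toReal x + b) i ^ 2 := fun i _ => by
    simp only [Pi.add_apply]
    nlinarith [sq_nonneg (toReal x i + 2 * b i)]
  have h3 := Finset.sum_le_sum h2
  rw [Finset.sum_sub_distrib, ← Finset.sum_div] at h3
  nlinarith [h (toReal x + b), mul_le_mul_of_nonneg_left h3 hε.le]

/-- The twisted Gaussian term. -/
noncomputable def term {n : ℕ} (A : Matrix (Fin n) (Fin n) ℝ) (t : ℝ) (b : Fin n → ℝ)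
    (x : Fin n → ℤ) : ℂ :=
  cexp (((-π * t * qf A (toReal x) : ℝ) : ℂ) + ((2 * π * (b ⬝ᵥ toReal x) : ℝ) : ℂ) * I)

/-- The dual Gaussian term. -/
noncomputable def dualTerm {n : ℕ} (A : Matrix (Fin n) (Fin n) ℝ) (t : ℝ) (b : Fin n → ℝ)
    (x : Fin n → ℤ) : ℂ :=
  ((Real.exp (-π / t * qf A⁻¹ (toReal x + b)) : ℝ) : ℂ)

lemma norm_term {n : ℕ} (A : Matrix (Fin n) (Fin n) ℝ) (t : ℝ) (b : Fin n → ℝ) (x : Fin n → ℤ) :
    ‖term A t b x‖ = Real.exp (-(π * t) * qf A (toReal x)) := by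
  simp [term, Complex.norm_exp]

lemma summable_term {n : ℕ} {A : Matrix (Fin n) (Fin n) ℝ} (hA : A.PosDef) {t : ℝ} (ht : 0 < t)
    (b : Fin n → ℝ) : Summable (term A t b) := by
  refine Summable.of_norm (((summable_exp_qf hA (show 0 < π * t by positivity) 0)).congr fun x => ?_)
  rw [norm_term, add_zero]

lemma summable_dualTerm {n : ℕ} {A : Matrix (Fin n) (Fin n) ℝ} (hA : A.PosDef) {t : ℝ}
    (ht : 0 < t) (b : Fin n → ℝ) : Summable (dualTerm A t b) := by
  refine Complex.summable_ofReal.2 ((summable_exp_qf hA.inv (show 0 < π / t by positivity) b).congr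
    fun x => ?_)
  rw [neg_div]

section Block

variable {n : ℕ} (A : Matrix (Fin (n + 1)) (Fin (n + 1)) ℝ)

/-- The first column below the diagonal. -/
def colVec : Fin n → ℝ := fun i => A i.succ 0

/-- The lower block. -/
def lowBlock : Matrix (Fin n) (Fin n) ℝ := A.submatrix Fin.succ Fin.succ

/-- The Schur complement. -/
noncomputable def schur : Matrix (Fin n) (Fin n) ℝ :=
  lowBlock A - (A 0 0)⁻¹ • vecMulVec (colVec A) (colVec A)

lemma schur_mulVec (y : Fin n → ℝ) :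
    schur A *ᵥ y = lowBlock A *ᵥ y - ((A 0 0)⁻¹ * (colVec A ⬝ᵥ y)) • colVec A := by
  rw [schur, sub_mulVec, smul_mulVec]
  congr 1
  ext i
  simp [mulVec, vecMulVec, dotProduct, Finset.mul_sum, Finset.sum_mul]
  exact Finset.sum_congr rfl fun j _ => by ring

variable {A}

lemma symm_apply (hA : A.PosDef) (i j : Fin (n + 1)) : A i j = A j i := by
  simpa using (congrFun (congrFun hA.isHermitian j) i)

lemma mulVec_cons_zero (hA : A.PosDef) (v₀ : ℝ) (y : Fin n → ℝ) :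
    (A *ᵥ Fin.cons v₀ y) 0 = A 0 0 * v₀ + colVec A ⬝ᵥ y := by
  simp only [mulVec, dotProduct, Fin.sum_univ_succ, Fin.cons_zero, Fin.cons_succ, colVec]
  simp only [symm_apply hA 0 (Fin.succ _)]

lemma mulVec_cons_succ (v₀ : ℝ) (y : Fin n → ℝ) (i : Fin n) :
    (A *ᵥ Fin.cons v₀ y) i.succ = colVec A i * v₀ + (lowBlock A *ᵥ y) i := by
  simp [mulVec, dotProduct, Fin.sum_univ_succ, colVec, lowBlock]

lemma qf_cons (hA : A.PosDef) (v₀ : ℝ) (y : Fin n → ℝ) :
    qf A (Fin.cons v₀ y) =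
      A 0 0 * v₀ ^ 2 + 2 * v₀ * (colVec A ⬝ᵥ y) + qf (lowBlock A) y := by
  simp only [qf, dotProduct, Fin.sum_univ_succ, Fin.cons_zero, Fin.cons_succ]
  rw [mulVec_cons_zero hA]
  simp only [mulVec_cons_succ, mul_add, Finset.sum_add_distrib, dotProduct]
  have : ∑ i, y i * (colVec A i * v₀) = v₀ * ∑ i, colVec A i * y i := by
    rw [Finset.mul_sum]
    exact Finset.sum_congr rfl fun i _ => by ring
  rw [this]
  ring

lemma qf_schur (y : Fin n → ℝ) :
    qf (schur A) y = qf (lowBlock A) y - (A 0 0)⁻¹ * (colVec A ⬝ᵥ y) ^ 2 := by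
  rw [qf, schur_mulVec, dotProduct_sub, dotProduct_smul, qf, smul_eq_mul,
    dotProduct_comm y (colVec A)]
  ring

lemma diag_pos (hA : A.PosDef) : 0 < A 0 0 := by
  have h := qf_pos hA (v := Fin.cons 1 0) fun h => by simpa using congrFun h 0
  rw [qf_cons hA] at h
  simpa [qf] using h

lemma schur_posDef (hA : A.PosDef) : (schur A).PosDef := by
  refine PosDef.of_dotProduct_mulVec_pos ?_ fun y hy => ?_
  · ext i j
    simp [schur, lowBlock, colVec, vecMulVec, symm_apply hA i.succ j.succ, mul_comm]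
  · simp only [star_trivial]
    show 0 < qf (schur A) y
    have ha := diag_pos hA
    have h := qf_pos hA (v := Fin.cons (-(A 0 0)⁻¹ * (colVec A ⬝ᵥ y)) y) fun h => hy (funext fun i => by
      simpa using congrFun h i.succ)
    rw [qf_cons hA] at h
    rw [qf_schur]
    convert h using 1
    field_simp
    ring

lemma qf_inv_cons (hA : A.PosDef) (u : ℝ) (w : Fin n → ℝ) :
    qf A⁻¹ (Fin.cons u w) =
      u ^ 2 / A 0 0 + qf (schur A)⁻¹ (w - (u / A 0 0) • colVec A) := by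
  have ha := diag_pos hA
  set S := schur A
  set r := w - (u / A 0 0) • colVec A
  set v' := S⁻¹ *ᵥ r
  set v₀ := (u - colVec A ⬝ᵥ v') / A 0 0
  have hS : IsUnit S.det := (Matrix.isUnit_iff_isUnit_det _).1 (schur_posDef hA).isUnit
  have hSv : S *ᵥ v' = r := by rw [mulVec_mulVec, mul_nonsing_inv _ hS, one_mulVec]
  have hAv : A *ᵥ Fin.cons v₀ v' = Fin.cons u w := by
    funext i
    refine Fin.cases ?_ (fun i => ?_) i
    · rw [mulVec_cons_zero hA, Fin.cons_zero, mul_div_cancel₀ _ ha.ne', sub_add_cancel]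
    · rw [mulVec_cons_succ, Fin.cons_succ]
      have h1 := congrFun hSv i
      simp only [S, schur_mulVec, Pi.sub_apply, Pi.smul_apply, smul_eq_mul, r] at h1
      rw [show colVec A i * v₀ = (u / A 0 0) * colVec A i -
        (A 0 0)⁻¹ * (colVec A ⬝ᵥ v') * colVec A i by simp only [v₀]; field_simp]
      linarith
  have hAdet : IsUnit A.det := (Matrix.isUnit_iff_isUnit_det _).1 hA.isUnit
  rw [qf, show A⁻¹ *ᵥ Fin.cons u w = Fin.cons v₀ v' by
    rw [← hAv, mulVec_mulVec, nonsing_inv_mul _ hAdet, one_mulVec]]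
  simp only [dotProduct, Fin.sum_univ_succ, Fin.cons_zero, Fin.cons_succ]
  show u * v₀ + w ⬝ᵥ v' = u ^ 2 / A 0 0 + qf S⁻¹ r
  rw [show qf S⁻¹ r = r ⬝ᵥ v' from rfl]
  simp only [v₀, r, sub_dotProduct, smul_dotProduct, smul_eq_mul]
  field_simp
  ring

end Block

/-- The one-dimensional step. -/
lemma poisson_step {n : ℕ} {A : Matrix (Fin (n + 1)) (Fin (n + 1)) ℝ} (hA : A.PosDef) {t : ℝ}
    (ht : 0 < t) (b₀ : ℝ) (b : Fin n → ℝ) (y : Fin n → ℤ) :
    ∑' m : ℤ, term A t (Fin.cons b₀ b) (Fin.cons m y) =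
      (((√(t * A 0 0))⁻¹ : ℝ) : ℂ) * ∑' k : ℤ,
        ((Real.exp (-π / (t * A 0 0) * ((k : ℝ) + b₀) ^ 2) : ℝ) : ℂ) *
          term (schur A) t (b - (((k : ℝ) + b₀) / A 0 0) • colVec A) y := by
  have ha := diag_pos hA
  have hta : 0 < t * A 0 0 := mul_pos ht ha
  set s := colVec A ⬝ᵥ toReal y with hs
  set β : ℂ := (b₀ : ℂ) * I - (t : ℂ) * (s : ℂ)
  set R : ℂ := cexp (((-π * t * qf (lowBlock A) (toReal y) : ℝ) : ℂ) +
    ((2 * π * (b ⬝ᵥ toReal y) : ℝ) : ℂ) * I)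
  have hL : ∀ m : ℤ, term A t (Fin.cons b₀ b) (Fin.cons m y) =
      R * cexp (-π * ((t * (A 0 0) : ℝ) : ℂ) * (m : ℂ) ^ 2 + 2 * π * β * (m : ℂ)) := by
    intro m
    have h1 : toReal (Fin.cons m y : Fin (n + 1) → ℤ) = Fin.cons (m : ℝ) (toReal y) := by
      funext i
      refine Fin.cases ?_ (fun i => ?_) i <;> simp [toReal]
    have h2 : (Fin.cons b₀ b : Fin (n + 1) → ℝ) ⬝ᵥ Fin.cons (m : ℝ) (toReal y) =
        b₀ * (m : ℝ) + b ⬝ᵥ toReal y := by
      simp [dotProduct, Fin.sum_univ_succ]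
    rw [term, h1, h2, qf_cons hA, ← hs, ← Complex.exp_add]
    congr 1
    push_cast
    ring
  have h12 : (1 / ((t * (A 0 0) : ℝ) : ℂ) ^ (1 / 2 : ℂ)) = (((√(t * (A 0 0)))⁻¹ : ℝ) : ℂ) := by
    rw [Real.sqrt_eq_rpow, Complex.ofReal_inv, Complex.ofReal_cpow hta.le]
    norm_num
  simp only [hL]
  rw [tsum_mul_left, Complex.tsum_exp_neg_quadratic (by simpa using hta), h12, mul_left_comm,
    ← tsum_mul_left, ← (Equiv.neg ℤ).tsum_eq]
  congr 1
  refine tsum_congr fun k => ?_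
  rw [term, Complex.ofReal_exp, ← Complex.exp_add, ← Complex.exp_add]
  congr 1
  rw [qf_schur, ← hs]
  simp only [sub_dotProduct, smul_dotProduct, smul_eq_mul, ← hs, β, Equiv.neg_apply]
  have hI : (I : ℂ) ^ 2 = -1 := Complex.I_sq
  have htC : (t : ℂ) ≠ 0 := Complex.ofReal_ne_zero.2 ht.ne'
  have haC : ((A 0 0 : ℝ) : ℂ) ≠ 0 := Complex.ofReal_ne_zero.2 ha.ne'
  push_cast
  field_simp
  ring_nf
  simp only [Complex.I_pow_three, Complex.I_pow_four, Complex.I_sq]
  ring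

/-- Poisson summation, with an unspecified constant. -/
theorem poisson : ∀ {n : ℕ} (A : Matrix (Fin n) (Fin n) ℝ), A.PosDef →
    ∃ K : ℂ, ∀ t : ℝ, 0 < t → ∀ b : Fin n → ℝ,
      ∑' x, term A t b x = K * (((√t)⁻¹ : ℝ) : ℂ) ^ n * ∑' x, dualTerm A t b x
  | 0, A, _ => by
    refine ⟨1, fun t _ b => ?_⟩
    rw [tsum_eq_single (0 : Fin 0 → ℤ) (fun x hx => absurd (Subsingleton.elim x 0) hx),
      tsum_eq_single (0 : Fin 0 → ℤ) (fun x hx => absurd (Subsingleton.elim x 0) hx)]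
    simp [term, dualTerm, qf, dotProduct]
  | n + 1, A, hA => by
    obtain ⟨K, hK⟩ := poisson (schur A) (schur_posDef hA)
    have ha := diag_pos hA
    refine ⟨K * (((√(A 0 0))⁻¹ : ℝ) : ℂ), fun t ht bb => ?_⟩
    obtain ⟨b₀, b, rfl⟩ : ∃ b₀ b, bb = Fin.cons b₀ b :=
      ⟨bb 0, Fin.tail bb, (Fin.cons_self_tail bb).symm⟩
    have hta : 0 < t * (A 0 0) := mul_pos ht ha
    set eq := (Equiv.prodComm (Fin n → ℤ) ℤ).trans (Fin.consEquiv fun _ : Fin (n + 1) => ℤ)
    have hS1 : Summable fun p : (Fin n → ℤ) × ℤ => term A t (Fin.cons b₀ b) (Fin.cons p.2 p.1) :=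
      eq.summable_iff.2 (summable_term hA ht _)
    have hS2 : Summable fun p : (Fin n → ℤ) × ℤ =>
        ((Real.exp (-π / (t * (A 0 0)) * ((p.2 : ℝ) + b₀) ^ 2) : ℝ) : ℂ) *
          term (schur A) t (b - (((p.2 : ℝ) + b₀) / (A 0 0)) • colVec A) p.1 := by
      refine Summable.of_norm ?_
      have hk : Summable fun k : ℤ => Real.exp (-π / (t * (A 0 0)) * ((k : ℝ) + b₀) ^ 2) := by
        refine Summable.of_nonneg_of_le (fun _ => (Real.exp_pos _).le) (fun k => ?_)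
          ((summable_exp_sq_int (show 0 < π / (t * (A 0 0)) / 2 by positivity)).mul_left
            (Real.exp (π / (t * (A 0 0)) * b₀ ^ 2)))
        rw [← Real.exp_add, Real.exp_le_exp, neg_div]
        have : 0 < π / (t * (A 0 0)) := by positivity
        nlinarith [sq_nonneg ((k : ℝ) + 2 * b₀)]
      refine (((summable_exp_qf (schur_posDef hA) (show 0 < π * t by positivity) 0).mul_of_nonneg hk
        (fun _ => (Real.exp_pos _).le) fun _ => (Real.exp_pos _).le)).congr fun p => ?_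
      rw [norm_mul, norm_term, Complex.norm_real, Real.norm_eq_abs, Real.abs_exp, mul_comm,
        add_zero]
    have hL : ∑' x, term A t (Fin.cons b₀ b) x =
        ∑' p : (Fin n → ℤ) × ℤ, term A t (Fin.cons b₀ b) (Fin.cons p.2 p.1) :=
      (eq.tsum_eq _).symm
    have hR : ∑' x, dualTerm A t (Fin.cons b₀ b) x =
        ∑' p : ℤ × (Fin n → ℤ), dualTerm A t (Fin.cons b₀ b) (Fin.cons p.1 p.2) :=
      ((Fin.consEquiv fun _ : Fin (n + 1) => ℤ).tsum_eq _).symm
    have hR2 : ∀ (k : ℤ) (z : Fin n → ℤ), dualTerm A t (Fin.cons b₀ b) (Fin.cons k z) =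
        ((Real.exp (-π / (t * (A 0 0)) * ((k : ℝ) + b₀) ^ 2) : ℝ) : ℂ) *
          dualTerm (schur A) t (b - (((k : ℝ) + b₀) / (A 0 0)) • colVec A) z := by
      intro k z
      have h1 : toReal (Fin.cons k z : Fin (n + 1) → ℤ) + Fin.cons b₀ b =
          Fin.cons ((k : ℝ) + b₀) (toReal z + b) := by
        funext i
        refine Fin.cases ?_ (fun i => ?_) i <;> simp [toReal]
      rw [dualTerm, dualTerm, h1, qf_inv_cons hA, add_sub_assoc, ← Complex.ofReal_mul,
        ← Real.exp_add]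
      congr 2
      field_simp
      ring
    rw [hL, hS1.tsum_prod]
    simp only [poisson_step hA ht]
    have hsw : ∑' (x : Fin n → ℤ) (k : ℤ),
        ((Real.exp (-π / (t * A 0 0) * ((k : ℝ) + b₀) ^ 2) : ℝ) : ℂ) *
          term (schur A) t (b - (((k : ℝ) + b₀) / A 0 0) • colVec A) x =
        ∑' (k : ℤ) (x : Fin n → ℤ),
        ((Real.exp (-π / (t * A 0 0) * ((k : ℝ) + b₀) ^ 2) : ℝ) : ℂ) *
          term (schur A) t (b - (((k : ℝ) + b₀) / A 0 0) • colVec A) x :=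
      (Summable.tsum_comm (f := fun (x : Fin n → ℤ) (k : ℤ) =>
        ((Real.exp (-π / (t * A 0 0) * ((k : ℝ) + b₀) ^ 2) : ℝ) : ℂ) *
          term (schur A) t (b - (((k : ℝ) + b₀) / A 0 0) • colVec A) x) hS2).symm
    have hS3 : Summable fun p : ℤ × (Fin n → ℤ) =>
        dualTerm A t (Fin.cons b₀ b) (Fin.cons p.1 p.2) :=
      (Fin.consEquiv fun _ : Fin (n + 1) => ℤ).summable_iff.2 (summable_dualTerm hA ht _)
    rw [tsum_mul_left, hsw, hR, hS3.tsum_prod]
    simp only [hR2, tsum_mul_left, hK t ht]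
    rw [← tsum_mul_left, ← tsum_mul_left]
    refine tsum_congr fun k => ?_
    rw [Real.sqrt_mul ht.le, mul_inv]
    push_cast
    ring

end CfsgLib.PGroup.LatticePoisson
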