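import Cfsg.Agent.Lib.PGroup.LatticePoisson
import Mathlib.NumberTheory.ModularForms.LevelOne.GradedRing
import Mathlib.NumberTheory.ModularForms.LevelOne.DimensionFormula
import Mathlib.Analysis.Complex.LocallyUniformLimit

set_option autoImplicit false

/-!
The theta series of an even unimodular lattice of rank 24 as a modular form of weight 12.
-/

namespace CfsgLib.PGroup.LatticeTheta

open Matrix Complex Filter CfsgLib.PGroup.LatticePoisson ModularForm MatrixGroups
open UpperHalfPlane hiding I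
open scoped Real Topology

/-- The integral quadratic form. -/
def Q {n : ℕ} (B : Matrix (Fin n) (Fin n) ℤ) (x : Fin n → ℤ) : ℤ := x ⬝ᵥ (B *ᵥ x)

/-- The real Gram matrix. -/
def realB {n : ℕ} (B : Matrix (Fin n) (Fin n) ℤ) : Matrix (Fin n) (Fin n) ℝ :=
  B.map fun z => (z : ℝ)

lemma toReal_mulVec {n : ℕ} (B : Matrix (Fin n) (Fin n) ℤ) (x : Fin n → ℤ) :
    toReal (B *ᵥ x) = realB B *ᵥ toReal x := by
  funext i
  simp [toReal, realB, mulVec, dotProduct]

lemma qf_realB {n : ℕ} (B : Matrix (Fin n) (Fin n) ℤ) (x : Fin n → ℤ) :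
    qf (realB B) (toReal x) = (Q B x : ℝ) := by
  simp [qf, Q, ← toReal_mulVec, dotProduct, toReal]

/-- Even positive unimodular. -/
structure Good {n : ℕ} (B : Matrix (Fin n) (Fin n) ℤ) : Prop where
  symm : B.IsSymm
  pos : ∀ x : Fin n → ℤ, x ≠ 0 → 0 < Q B x
  even : ∀ x : Fin n → ℤ, (2 : ℤ) ∣ Q B x
  det : B.det = 1

variable {n : ℕ} {B : Matrix (Fin n) (Fin n) ℤ}

lemma Good.nonneg (h : Good B) (x : Fin n → ℤ) : 0 ≤ Q B x := by
  by_cases hx : x = 0
  · simp [hx, Q]
  · exact (h.pos x hx).le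

lemma Good.qf_nonneg (h : Good B) (y : Fin n → ℝ) : 0 ≤ qf (realB B) y := by
  have hd : DenseRange (fun q : Fin n → ℚ => fun i => (q i : ℝ)) :=
    DenseRange.piMap (fun _ : Fin n => Rat.denseRange_cast)
  refine hd.induction_on y (isClosed_le continuous_const (continuous_qf _)) fun q => ?_
  set N : ℕ := ∏ i, (q i).den
  set x : Fin n → ℤ := fun i => (q i).num * (∏ j ∈ Finset.univ.erase i, ((q j).den : ℤ))
  have hN : (0 : ℝ) < (N : ℝ) := by
    exact_mod_cast Finset.prod_pos fun i _ => (q i).den_pos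
  have hx : toReal x = (N : ℝ) • fun i => (q i : ℝ) := by
    funext i
    have h1 : (N : ℝ) = ((q i).den : ℝ) * ∏ j ∈ Finset.univ.erase i, ((q j).den : ℝ) := by
      simp only [N, Nat.cast_prod]
      exact (Finset.mul_prod_erase Finset.univ _ (Finset.mem_univ i)).symm
    simp only [toReal, x, Pi.smul_apply, smul_eq_mul, Int.cast_mul, Int.cast_prod, Int.cast_natCast]
    rw [h1, Rat.cast_def]
    field_simp
  have h2 : (0 : ℝ) ≤ qf (realB B) (toReal x) := by
    rw [qf_realB]; exact_mod_cast h.nonneg x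
  rw [hx, qf_smul] at h2
  exact nonneg_of_mul_nonneg_right h2 (by positivity)

lemma Good.posDef (h : Good B) : (realB B).PosDef := by
  have hs : (realB B).PosSemidef := by
    refine PosSemidef.of_dotProduct_mulVec_nonneg ?_ fun y => ?_
    · ext i j
      simp [realB, h.symm.apply i j]
    · simpa [qf] using h.qf_nonneg y
  refine hs.posDef_iff_det_ne_zero.2 ?_
  have : (realB B).det = ((B.det : ℤ) : ℝ) := by
    simp [realB, Int.cast_det]
  simp [this, h.det]

/-- Half norm. -/
def half (B : Matrix (Fin n) (Fin n) ℤ) (x : Fin n → ℤ) : ℕ := (Q B x / 2).toNat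

lemma Good.two_half (h : Good B) (x : Fin n → ℤ) : (2 * half B x : ℤ) = Q B x := by
  obtain ⟨k, hk⟩ := h.even x
  have := h.nonneg x
  unfold half
  omega

lemma Good.half_eq_iff (h : Good B) (x : Fin n → ℤ) (m : ℕ) : half B x = m ↔ Q B x = 2 * (m : ℤ) := by
  have := h.two_half x
  omega

lemma Good.summable (h : Good B) {c : ℝ} (hc : 0 < c) :
    Summable fun x : Fin n → ℤ => Real.exp (-c * (Q B x : ℝ)) :=
  (summable_exp_qf h.posDef hc 0).congr fun x => by rw [add_zero, qf_realB]

lemma Good.finite_shell (h : Good B) (m : ℕ) : {x | Q B x = 2 * (m : ℤ)}.Finite := by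
  have h1 := (h.summable one_pos).tendsto_cofinite_zero.eventually
    (gt_mem_nhds (Real.exp_pos (-1 * ((2 * m : ℕ) : ℝ))))
  refine h1.subset fun x hx hlt => ?_
  simp only [Set.mem_setOf_eq] at hx hlt
  rw [hx] at hlt
  push_cast at hlt
  exact lt_irrefl _ hlt

/-- Theta term. -/
noncomputable def thetaTerm (B : Matrix (Fin n) (Fin n) ℤ) (x : Fin n → ℤ) (z : ℂ) : ℂ :=
  cexp (π * I * z * (Q B x : ℂ))

/-- Theta function on `ℂ`. -/
noncomputable def Theta (B : Matrix (Fin n) (Fin n) ℤ) (z : ℂ) : ℂ := ∑' x, thetaTerm B x z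

lemma norm_thetaTerm (x : Fin n → ℤ) (z : ℂ) :
    ‖thetaTerm B x z‖ = Real.exp (-(π * z.im) * (Q B x : ℝ)) := by
  simp [thetaTerm, Complex.norm_exp]

lemma Good.summable_term (h : Good B) {z : ℂ} (hz : 0 < z.im) :
    Summable fun x => thetaTerm B x z := by
  refine Summable.of_norm ((h.summable (show 0 < π * z.im by positivity)).congr fun x => ?_)
  rw [norm_thetaTerm]

lemma Good.differentiableOn (h : Good B) : DifferentiableOn ℂ (Theta B) upperHalfPlaneSet := by
  intro z hz
  have hz' : 0 < z.im := hz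
  have hU : IsOpen {w : ℂ | z.im / 2 < w.im} := isOpen_lt continuous_const Complex.continuous_im
  have hd : DifferentiableOn ℂ (Theta B) {w : ℂ | z.im / 2 < w.im} := by
    refine Complex.differentiableOn_tsum_of_summable_norm (h.summable (show 0 < π * (z.im / 2) by
      positivity)) (fun x => ?_) hU fun x w hw => ?_
    · exact (by unfold thetaTerm; fun_prop : Differentiable ℂ (thetaTerm B x)).differentiableOn
    · rw [norm_thetaTerm, Real.exp_le_exp]
      have h1 : (0 : ℝ) ≤ (Q B x : ℝ) := by exact_mod_cast h.nonneg x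
      have h2 : z.im / 2 ≤ w.im := le_of_lt hw
      have h3 : 0 ≤ π * (w.im - z.im / 2) * (Q B x : ℝ) :=
        mul_nonneg (mul_nonneg Real.pi_pos.le (by linarith)) h1
      linarith
  exact (hd.differentiableAt (hU.mem_nhds (by show z.im / 2 < z.im; linarith))).differentiableWithinAt

lemma Good.theta_add_one (h : Good B) (z : ℂ) : Theta B (z + 1) = Theta B z := by
  refine tsum_congr fun x => ?_
  obtain ⟨k, hk⟩ := h.even x
  rw [thetaTerm, thetaTerm, hk, Complex.exp_eq_exp_iff_exists_int]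
  exact ⟨k, by push_cast; ring⟩

/-- Multiplication by a unimodular matrix. -/
noncomputable def mulEquiv (h : Good B) : (Fin n → ℤ) ≃ (Fin n → ℤ) where
  toFun x := B *ᵥ x
  invFun x := B⁻¹ *ᵥ x
  left_inv x := by simp [mulVec_mulVec, nonsing_inv_mul B (by simp [h.det])]
  right_inv x := by simp [mulVec_mulVec, mul_nonsing_inv B (by simp [h.det])]

lemma Good.theta_I_mul (h : Good B) {t : ℝ} (ht : 0 < t) :
    Theta B (I * t) = (((√t)⁻¹ : ℝ) : ℂ) ^ n * Theta B (I * ((t⁻¹ : ℝ) : ℂ)) := by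
  have hA := h.posDef
  obtain ⟨K, hK⟩ := poisson (realB B) hA
  have hT : ∀ s : ℝ, Theta B (I * s) = ∑' x, term (realB B) s 0 x := by
    intro s
    refine tsum_congr fun x => ?_
    rw [thetaTerm, term, qf_realB]
    congr 1
    simp only [zero_dotProduct, mul_zero, Complex.ofReal_zero, zero_mul, add_zero]
    push_cast
    linear_combination (π * s * (Q B x : ℂ)) * Complex.I_sq
  have hD : ∀ s : ℝ, ∑' x, dualTerm (realB B) s 0 x = Theta B (I * ((s⁻¹ : ℝ) : ℂ)) := by
    intro s
    rw [← (mulEquiv h).tsum_eq]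
    refine tsum_congr fun x => ?_
    show dualTerm (realB B) s 0 (B *ᵥ x) = thetaTerm B x _
    rw [dualTerm, thetaTerm, add_zero, qf, toReal_mulVec, mulVec_mulVec, nonsing_inv_mul _
      ((Matrix.isUnit_iff_isUnit_det _).1 hA.isUnit), one_mulVec, dotProduct_comm, ← toReal_mulVec,
      Complex.ofReal_exp]
    congr 1
    rw [show toReal x ⬝ᵥ toReal (B *ᵥ x) = (Q B x : ℝ) by simp [Q, dotProduct, toReal]]
    push_cast
    linear_combination (-π * (s : ℂ)⁻¹ * (Q B x : ℂ)) * Complex.I_sq
  have hone : Theta B (I * ((1 : ℝ) : ℂ)) ≠ 0 := by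
    have hsum := h.summable Real.pi_pos
    have h1 : Theta B (I * ((1 : ℝ) : ℂ)) = ((∑' x, Real.exp (-π * (Q B x : ℝ)) : ℝ) : ℂ) := by
      rw [Complex.ofReal_tsum]
      refine tsum_congr fun x => ?_
      rw [thetaTerm, Complex.ofReal_exp]
      congr 1
      push_cast
      linear_combination (π * (Q B x : ℂ)) * Complex.I_sq
    rw [h1, Complex.ofReal_ne_zero]
    exact (hsum.tsum_pos (fun x => (Real.exp_pos _).le) 0 (Real.exp_pos _)).ne'
  have hK1 : K = 1 := by
    have h1 := hK 1 one_pos 0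
    rw [← hT, hD, Real.sqrt_one, inv_one, Complex.ofReal_one, one_pow, mul_one] at h1
    simp only [Complex.ofReal_one, mul_one] at h1 hone
    exact mul_right_cancel₀ hone (by rw [one_mul]; exact h1.symm)
  rw [hT, hK t ht 0, hD, hK1, one_mul]

section Rank24

variable {B : Matrix (Fin 24) (Fin 24) ℤ}

lemma Good.theta_inv (h : Good B) {z : ℂ} (hz : 0 < z.im) :
    Theta B (-z⁻¹) = z ^ 12 * Theta B z := by
  have hmaps : Set.MapsTo (fun w : ℂ => -w⁻¹) upperHalfPlaneSet upperHalfPlaneSet := by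
    intro w hw
    have hw' : 0 < w.im := hw
    show 0 < (-w⁻¹).im
    rw [Complex.neg_im, Complex.inv_im, neg_div, neg_neg]
    exact div_pos hw' (Complex.normSq_pos.2 fun h0 => by simp [h0] at hw')
  have hne : ∀ w ∈ upperHalfPlaneSet, w ≠ 0 := fun w hw h0 => by
    have hw' : 0 < w.im := hw
    simp [h0] at hw'
  have hopen : IsOpen upperHalfPlaneSet := isOpen_upperHalfPlaneSet
  have hf : AnalyticOnNhd ℂ (fun w => Theta B (-w⁻¹)) upperHalfPlaneSet :=
    (h.differentiableOn.comp ((differentiableOn_id.inv hne).neg) hmaps).analyticOnNhd hopen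
  have hg : AnalyticOnNhd ℂ (fun w => w ^ 12 * Theta B w) upperHalfPlaneSet :=
    ((differentiableOn_id.pow 12).mul h.differentiableOn).analyticOnNhd hopen
  have hax : ∀ t : ℝ, 0 < t → Theta B (-(I * t)⁻¹) = (I * t) ^ 12 * Theta B (I * t) := by
    intro t ht
    have h1 : (-(I * (t : ℂ))⁻¹) = I * ((t⁻¹ : ℝ) : ℂ) := by
      rw [mul_inv, Complex.inv_I]; push_cast; ring
    have h2 : ((√t)⁻¹ : ℝ) ^ 24 = (t ^ 12)⁻¹ := by
      rw [inv_pow, show (24 : ℕ) = 2 * 12 from rfl, pow_mul, Real.sq_sqrt ht.le]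
    rw [h1, h.theta_I_mul ht, ← Complex.ofReal_pow, h2, mul_pow,
      show (I : ℂ) ^ 12 = (I ^ 4) ^ 3 by rw [← pow_mul], Complex.I_pow_four, one_pow, one_mul,
      ← Complex.ofReal_pow, ← mul_assoc, ← Complex.ofReal_mul,
      mul_inv_cancel₀ (by positivity), Complex.ofReal_one, one_mul]
  refine hf.eqOn_of_preconnected_of_frequently_eq hg
    (convex_halfSpace_im_gt 0).isPreconnected (z₀ := I) (by show (0 : ℝ) < I.im; simp) ?_ hz
  have ht : Tendsto (fun t : ℝ => I * (t : ℂ)) (𝓝[≠] 1) (𝓝[≠] I) := by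
    refine tendsto_nhdsWithin_iff.2 ⟨?_, ?_⟩
    · have hc : Continuous fun t : ℝ => I * (t : ℂ) := by fun_prop
      simpa using (hc.tendsto 1).mono_left nhdsWithin_le_nhds
    · filter_upwards [self_mem_nhdsWithin] with t ht'
      simpa [Complex.ofReal_eq_one] using ht'
  have hev : ∀ᶠ t : ℝ in 𝓝[≠] 1, 0 < t :=
    mem_nhdsWithin_of_mem_nhds (lt_mem_nhds one_pos)
  exact ht.frequently ((hev.mono fun t ht' => hax t ht').frequently)

/-- Theta as a function on the upper half plane. -/
noncomputable def theta (B : Matrix (Fin 24) (Fin 24) ℤ) (τ : ℍ) : ℂ := Theta B τ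

/-- Shell sizes. -/
noncomputable def count (B : Matrix (Fin 24) (Fin 24) ℤ) (m : ℕ) : ℕ :=
  {x | Q B x = 2 * (m : ℤ)}.ncard

lemma Good.hasSum (h : Good B) (τ : ℍ) :
    HasSum (fun m => (count B m : ℂ) • Function.Periodic.qParam 1 τ ^ m) (theta B τ) := by
  have h0 : HasSum (fun x => thetaTerm B x τ) (theta B τ) := (h.summable_term τ.im_pos).hasSum
  have h1 := ((Equiv.sigmaFiberEquiv (half B)).hasSum_iff
    (f := fun x => thetaTerm B x τ)).2 h0
  refine h1.sigma fun m => ?_
  have hfin : Finite {x // half B x = m} := by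
    simp only [h.half_eq_iff]
    exact (h.finite_shell m).to_subtype
  have := Fintype.ofFinite {x // half B x = m}
  have hc : count B m = Fintype.card {x // half B x = m} := by
    rw [← Nat.card_eq_fintype_card, count, ← Nat.card_coe_set_eq]
    exact Nat.card_congr (Equiv.subtypeEquivRight fun x => (h.half_eq_iff x m).symm)
  convert hasSum_fintype (fun x : {x // half B x = m} => thetaTerm B x.1 τ) using 1
  swap
  rw [Finset.sum_congr rfl (g := fun _ => Function.Periodic.qParam (1 : ℝ) (τ : ℂ) ^ m) ?_,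
    Finset.sum_const, Finset.card_univ, ← hc, nsmul_eq_mul, smul_eq_mul]
  · intro x _
    rw [thetaTerm, Function.Periodic.qParam, ← Complex.exp_nat_mul, (h.half_eq_iff x.1 m).1 x.2]
    congr 1
    push_cast
    ring
  · rfl

lemma Good.slash_T (h : Good B) : (theta B ∣[(12 : ℤ)] ModularGroup.T) = theta B := by
  ext τ
  have hd : denom ((ModularGroup.T : SL(2, ℤ)) : GL (Fin 2) ℝ) τ = 1 := by
    rw [ModularGroup.denom_apply]
    simp [ModularGroup.coe_T]
  rw [SL_slash_apply, modular_T_smul, hd]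
  simp [theta, UpperHalfPlane.coe_vadd, add_comm (1 : ℂ), h.theta_add_one]

lemma Good.slash_S (h : Good B) : (theta B ∣[(12 : ℤ)] ModularGroup.S) = theta B := by
  ext τ
  rw [SL_slash_apply, modular_S_smul]
  have h1 := h.theta_inv τ.im_pos
  have h2 : (τ : ℂ) ≠ 0 := UpperHalfPlane.ne_zero τ
  simp only [theta, ModularGroup.denom_S]
  rw [show ((-(τ : ℂ))⁻¹) = -((τ : ℂ)⁻¹) from inv_neg, h1, _root_.zpow_neg,
    show (12 : ℤ) = ((12 : ℕ) : ℤ) from rfl, zpow_natCast]
  field_simp

/-- The theta series as a modular form. -/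
noncomputable def thetaForm (h : Good B) : ModularForm 𝒮ℒ 12 where
  toFun := theta B
  slash_action_eq' A hA := by
    obtain ⟨A, rfl⟩ := hA
    exact SlashInvariantForm.slash_action_generators_SL2Z h.slash_S h.slash_T A
  holo' := by
    rw [UpperHalfPlane.mdifferentiable_iff]
    refine h.differentiableOn.congr fun z hz => ?_
    simp [theta, ofComplex_apply_of_im_pos hz]
  bdd_at_cusps' hc := by
    rw [Subgroup.IsArithmetic.isCusp_iff_isCusp_SL2Z] at hc
    rw [OnePoint.isBoundedAt_iff_forall_SL2Z hc]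
    intro γ _
    rw [SlashInvariantForm.slash_action_generators_SL2Z h.slash_S h.slash_T]
    exact isBoundedAtImInfty_of_hasSum_qExpansion one_pos h.hasSum

lemma thetaForm_coeff (h : Good B) (m : ℕ) :
    (qExpansion 1 (thetaForm h)).coeff m = (count B m : ℂ) :=
  (ModularFormClass.qExpansion_coeff_unique (f := thetaForm h) one_pos one_mem_strictPeriods_SL
    (fun τ => h.hasSum τ) m).symm

end Rank24

end CfsgLib.PGroup.LatticeTheta
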