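import Cfsg.Agent.Lib.PGroup.MaxClassDegree

/-! Self-centralizing elementary abelian subgroups of order `p ^ 3` in groups of maximal class. -/

set_option autoImplicit false

namespace CfsgLib.PGroup.MaxDeg

open Subgroup
open scoped commutatorElement

variable {G : Type*} [Group G] {p : ℕ} [hpf : Fact p.Prime] [Finite G] {n : ℕ}

omit [Finite G] in
theorem card_sup_zpowers {u : G} {N : Subgroup G} [N.Normal] (hu : u ^ p = 1) (huN : u ∉ N) :
    Nat.card (zpowers u ⊔ N : Subgroup G) = p * Nat.card N := by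
  let π := QuotientGroup.mk' N
  have hord : orderOf (π u) = p := orderOf_eq_prime (by rw [← map_pow, hu, map_one])
    fun e => huN ((QuotientGroup.eq_one_iff u).1 e)
  have h1 : N.relIndex (zpowers u ⊔ N) = p := by
    rw [← hord, ← Nat.card_zpowers, ← MonoidHom.map_zpowers]
    have : N.relIndex (zpowers u ⊔ N) = Nat.card ((zpowers u ⊔ N).map π) := by
      rw [← Subgroup.relIndex_ker, QuotientGroup.ker_mk']
    rw [this, Subgroup.map_sup, (Subgroup.map_eq_bot_iff N).2 (QuotientGroup.ker_mk' N).ge, sup_bot_eq]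
  have h2 := Subgroup.relIndex_mul_relIndex ⊥ N (zpowers u ⊔ N) bot_le le_sup_right
  rw [h1, Subgroup.relIndex_bot_left, Subgroup.relIndex_bot_left, mul_comm] at h2
  exact h2.symm

theorem mem_normalizer_of_le {E : Subgroup G} {c : G} (h : ∀ e ∈ E, c * e * c⁻¹ ∈ E) :
    c ∈ normalizer (E : Set G) := by
  have hle : E.map (MulAut.conj c).toMonoidHom ≤ E := by
    rintro _ ⟨e, he, rfl⟩
    exact h e he
  have heq := Subgroup.eq_of_le_of_card_ge hle (Subgroup.card_map_of_injective (MulEquiv.injective _)).ge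
  refine Subgroup.mem_normalizer_iff.2 fun x => ⟨h x, fun hx => ?_⟩
  rw [← heq] at hx
  obtain ⟨e, he, hee⟩ := hx
  exact mul_left_cancel (mul_right_cancel hee) ▸ he

omit hpf in
theorem eq_top_of_normalizer_le {N : Subgroup G} [Group.IsNilpotent G] (h : normalizer (N : Set G) ≤ N) :
    N = ⊤ := by
  by_contra hne
  exact (normalizerCondition_of_isNilpotent N (lt_top_iff_ne_top.2 hne)).not_ge h

namespace IsMC

theorem mem_C_top (h : IsMC G p n) {g : G} : g ∈ C G (n - 2) ↔ ∀ x ∈ L G (n - 2), g * x = x * g := by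
  have := h.hn
  show (∀ x ∈ L G (n - 2), ⁅g, x⁆ ∈ L G (n - 2 + 2)) ↔ _
  rw [h.L_bot (by omega : n ≤ n - 2 + 2)]
  simp only [Subgroup.mem_bot, commutatorElement_eq_one_iff_mul_comm]

theorem comm_eq_one (h : IsMC G p n) {a b : ℕ} (ha : 1 ≤ a) (hb : 1 ≤ b) (hab : n ≤ a + b) {x y : G}
    (hx : x ∈ L G a) (hy : y ∈ L G b) : x * y = y * x := by
  rw [← commutatorElement_eq_one_iff_mul_comm, ← Subgroup.mem_bot, ← h.L_bot hab]
  exact MaxDeg.comm_le ha hb (commutator_mem_commutator hx hy)

theorem inf_C_top (h : IsMC G p n) (hne : C G (n - 2) ≠ L G 1) : L G 1 ⊓ C G (n - 2) = L G 2 := by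
  have := h.hn
  have hi := h.index_C (i := n - 2) (by omega) le_rfl
  have hC : Nat.card (C G (n - 2)) = Nat.card (L G 1) := by
    have h1 := Subgroup.card_mul_index (C G (n - 2))
    have h2 := Subgroup.card_mul_index (L G 1)
    rw [hi] at h1
    rw [h.index_one] at h2
    exact Nat.eq_of_mul_eq_mul_right hpf.out.pos (h1.trans h2.symm)
  refine (Subgroup.eq_of_le_of_card_ge (le_inf (L_le_one (by omega)) (L_two_le_C (by omega))) ?_).symm
  have hlt : L G 1 ⊓ C G (n - 2) < L G 1 := inf_lt_left.2 fun hle =>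
    hne (Subgroup.eq_of_le_of_card_ge hle hC.le).symm
  have h3 := Fusion.MaxClass.card_mul_le_of_lt h.isPGroup hlt
  rw [h.card_one, show n - 1 = n - 2 + 1 by omega, pow_succ'] at h3
  rw [h.card_L le_rfl (by omega)]
  exact Nat.le_of_mul_le_mul_left h3 hpf.out.pos

variable {E : Subgroup G} (h : IsMC G p n) (hcard : Nat.card E = p ^ 3)
  (hEc : ∀ a ∈ E, ∀ b ∈ E, a * b = b * a) (hC : centralizer (E : Set G) ≤ E)
include h hcard hEc hC

omit hEc in
theorem center_le : L G (n - 1) ≤ E := fun x hx => hC (mem_centralizer_iff.2 fun e _ => by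
  have := h.hn
  rw [← commutatorElement_eq_one_iff_mul_comm, ← Subgroup.mem_bot, ← h.L_bot (by omega : n ≤ n - 1 + 1)]
  exact step (by omega) hx e)

omit hEc in
theorem mem_normalizer_of_comm {g : G} {k : ℕ} (hk : L G k ≤ E) (hg : ∀ e ∈ E, ⁅g, e⁆ ∈ L G k) :
    g ∈ normalizer (E : Set G) := mem_normalizer_of_le fun e he => by
  have := mul_mem (hk (hg e he)) he
  rwa [show ⁅g, e⁆ * e = g * e * g⁻¹ by simp [commutatorElement_def]] at this

omit hEc in
theorem second_le_normalizer : L G (n - 2) ≤ normalizer (E : Set G) := fun z hz =>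
  h.mem_normalizer_of_comm hcard hC (h.center_le hcard hC) fun e _ => by
    have := h.hn
    have h1 := step (by omega : 1 ≤ n - 2) hz e
    rw [show n - 2 + 1 = n - 1 by omega] at h1
    rw [← commutatorElement_inv]
    exact inv_mem h1

theorem card_inf_of_not_le {K : Subgroup G} [K.Normal] (hK : K.index = p) (hEK : ¬ E ≤ K) :
    Nat.card (E ⊓ K : Subgroup G) = p ^ 2 := by
  have h1 : K.relIndex E = p := by
    refine ((Nat.dvd_prime hpf.out).1 (hK ▸ Subgroup.relIndex_dvd_index_of_normal K E)).resolve_left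
      fun e => hEK (Subgroup.relIndex_eq_one.1 e)
  have h2 := Subgroup.relIndex_mul_relIndex ⊥ (E ⊓ K) E bot_le inf_le_left
  rw [Subgroup.inf_relIndex_left, h1, Subgroup.relIndex_bot_left, Subgroup.relIndex_bot_left, hcard,
    pow_succ _ 2] at h2
  exact Nat.eq_of_mul_eq_mul_right hpf.out.pos h2

theorem not_le_C_of_not_le (hZ2 : ¬ L G (n - 2) ≤ E) : ¬ E ≤ C G (n - 2) := fun hle =>
  hZ2 fun z hz => hC (mem_centralizer_iff.2 fun e he => (h.mem_C_top.1 (hle he)) z hz)

/-- An element of the normalizer fixing exactly a normalized hyperplane of `E`. -/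
theorem exists_kernel (hbig : ¬ L G (n - 2) ≤ E ∨ ¬ normalizer (E : Set G) ⊓ C G (n - 2) ≤ E) :
    ∃ g ∈ normalizer (E : Set G), g ∉ E ∧ ∃ K ≤ E, Nat.card K = p ^ 2 ∧
      (∀ y ∈ normalizer (E : Set G), ∀ k ∈ K, y * k * y⁻¹ ∈ K) ∧ ∀ e ∈ E, (g * e = e * g ↔ e ∈ K) := by
  have := h.hn
  by_cases hZ2 : L G (n - 2) ≤ E
  · obtain ⟨g, ⟨hgN, hgC⟩, hgE⟩ := SetLike.not_le_iff_exists.1 (hbig.resolve_left (not_not_intro hZ2))
    have hc2 : Nat.card (L G (n - 2)) = p ^ 2 := by
      rw [h.card_L (by omega) (by omega), show n - (n - 2) = 2 by omega]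
    refine ⟨g, hgN, hgE, L G (n - 2), hZ2, hc2, fun y _ k hk => (L_normal _).conj_mem k hk y, fun e he => ?_⟩
    refine ⟨fun hge => ?_, fun hk => h.mem_C_top.1 hgC e hk⟩
    by_contra hek
    refine hgE (hC ?_)
    have hgen : E ≤ zpowers e ⊔ L G (n - 2) := by
      refine (Subgroup.eq_of_le_of_card_ge (sup_le (zpowers_le.2 he) hZ2) ?_).ge
      refine le_trans ?_ (Fusion.MaxClass.card_mul_le_of_lt h.isPGroup (lt_of_le_not_ge le_sup_right
        fun e' => hek (e' (mem_sup_left (mem_zpowers e)))))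
      rw [hcard, hc2, ← pow_succ']
    rw [mem_centralizer_iff]
    intro a ha
    have hle : zpowers e ⊔ L G (n - 2) ≤ centralizer ({g} : Set G) := sup_le
      (zpowers_le.2 (mem_centralizer_singleton_iff.2 hge.symm))
      fun x hx => mem_centralizer_singleton_iff.2 (h.mem_C_top.1 hgC x hx).symm
    exact mem_centralizer_singleton_iff.1 (hle (hgen ha))
  · obtain ⟨z, hz, hzE⟩ := SetLike.not_le_iff_exists.1 hZ2
    refine ⟨z, h.second_le_normalizer hcard hC hz, hzE, E ⊓ C G (n - 2), inf_le_left,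
      h.card_inf_of_not_le hcard hEc hC (h.index_C (by omega) le_rfl) (h.not_le_C_of_not_le hcard hEc hC hZ2),
      fun y hy k hk => ⟨(Subgroup.mem_normalizer_iff.1 hy k).1 hk.1, (C_normal _).conj_mem k hk.2 y⟩,
      fun e he => ⟨fun hze => ⟨he, h.mem_C_top.2 fun x hx => ?_⟩, fun hk => (h.mem_C_top.1 hk.2 z hz).symm⟩⟩
    have hz1 : z ∉ L G (n - 2 + 1) := fun hh => hzE (h.center_le hcard hC (by
      rwa [show n - 2 + 1 = n - 1 by omega] at hh))
    obtain ⟨k, w, hw, rfl⟩ := h.exists_rep (by omega : 1 ≤ n - 2) hz hz1 hx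
    refine ((show Commute e z from hze.symm).zpow_right k).mul_right ?_
    show e * w = w * e
    rw [← commutatorElement_eq_one_iff_mul_comm, ← Subgroup.mem_bot, ← h.L_bot (by omega : n ≤ n - 2 + 1 + 1)]
    exact step (by omega) hw e

variable (hN : Nat.card (normalizer (E : Set G)) = p ^ 4)
include hN

theorem normalizer_ne_top : normalizer (E : Set G) ≠ ⊤ := fun e => by
  rw [e, Subgroup.card_top, h.card] at hN
  have := Nat.pow_right_injective hpf.out.two_le hN
  have := h.hn
  omega

theorem normalizer_eq_sup {X : Subgroup G} (hX : X ≤ normalizer (E : Set G)) (hXE : ¬ X ≤ E) :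
    normalizer (E : Set G) = E ⊔ X := by
  refine (Subgroup.eq_of_le_of_card_ge (sup_le Subgroup.le_normalizer hX) ?_).symm
  refine le_trans ?_ (Fusion.MaxClass.card_mul_le_of_lt h.isPGroup
    (lt_of_le_not_ge (le_sup_left : E ≤ E ⊔ X) fun e => hXE (le_sup_right.trans e)))
  rw [hN, hcard, ← pow_succ']

theorem second_case (hZ2 : L G (n - 2) ≤ E) :
    normalizer (E : Set G) ≤ C G (n - 2) ∧ ¬ L G (n - 3) ≤ E ∧ L G (n - 3) ≤ normalizer (E : Set G) := by
  have := h.hn
  haveI := h.isPGroup.isNilpotent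
  have hEC : E ≤ C G (n - 2) := fun e he => h.mem_C_top.2 fun x hx => hEc e he x (hZ2 hx)
  have hZ3 : L G (n - 3) ≤ normalizer (E : Set G) := fun g hg => h.mem_normalizer_of_comm hcard hC hZ2 fun e _ => by
    have h1 := step (by omega : 1 ≤ n - 3) hg e
    rw [show n - 3 + 1 = n - 2 by omega] at h1
    rw [← commutatorElement_inv]
    exact inv_mem h1
  refine ⟨?_, fun hle => h.normalizer_ne_top hcard hEc hC hN ?_, hZ3⟩
  · by_contra hNC
    refine h.normalizer_ne_top hcard hEc hC hN (eq_top_of_normalizer_le fun y hy => ?_)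
    have heq : normalizer (E : Set G) ⊓ C G (n - 2) = E := by
      refine (Subgroup.eq_of_le_of_card_ge (le_inf Subgroup.le_normalizer hEC) ?_).symm
      have h1 := Fusion.MaxClass.card_mul_le_of_lt h.isPGroup (inf_lt_left.2 hNC)
      rw [hN, pow_succ' p 3] at h1
      rw [hcard]
      exact Nat.le_of_mul_le_mul_left h1 hpf.out.pos
    refine mem_normalizer_of_le fun e he => ?_
    exact heq.le ⟨(Subgroup.mem_normalizer_iff.1 hy e).1 (Subgroup.le_normalizer he),
      (C_normal _).conj_mem e (hEC he) y⟩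
  · have heq : L G (n - 3) = E := Subgroup.eq_of_le_of_card_ge hle (by
      rw [hcard, h.card_L (by omega) (by omega), show n - (n - 3) = 3 by omega])
    rw [← heq, Subgroup.normalizer_eq_top]

/-- The three possible shapes. -/
theorem shape (hexp : ∀ a ∈ E, a ^ p = 1) :
    (n = 5 ∧ L G (n - 2) ≤ E ∧ E ≤ L G 1 ∧ normalizer (E : Set G) = L G 1) ∨
    (Even n ∧ 6 ≤ n ∧ L G (n - 2) ≤ E ∧ E ≤ C G (n - 2) ∧ ¬ E ≤ L G 1 ∧ C G (n - 2) ≠ L G 1) ∨
    (n = 6 ∧ E ≤ L G 1 ∧ ¬ L G (n - 2) ≤ E ∧ E ⊓ C G (n - 2) ≤ L G (n - 3) ∧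
      normalizer (E : Set G) = E ⊔ L G (n - 3) ∧ normalizer (E : Set G) ≤ L G 1 ∧ C G (n - 2) ≠ L G 1) := by
  have := h.hn
  by_cases hZ2 : L G (n - 2) ≤ E
  · obtain ⟨hNC, hZ3E, hZ3⟩ := h.second_case hcard hEc hC hN hZ2
    have hEC : E ≤ C G (n - 2) := Subgroup.le_normalizer.trans hNC
    have hNeq := h.normalizer_eq_sup hcard hEc hC hN hZ3 hZ3E
    by_cases hE1 : E ≤ L G 1
    · rcases Nat.lt_or_ge n 6 with h6 | h6
      · refine Or.inl ⟨by omega, hZ2, hE1, Subgroup.eq_of_le_of_card_ge (hNeq.le.trans (sup_le hE1 (L_le_one (by omega)))) ?_⟩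
        rw [hN, h.card_one, show n - 1 = 4 by omega]
      · exfalso
        have hZ4 : L G (n - 4) ≤ normalizer (E : Set G) := fun g hg => h.mem_normalizer_of_comm hcard hC hZ2 fun e he => by
          rw [← commutatorElement_inv, show n - 2 = n - 4 + 2 by omega]
          exact inv_mem (h.mem_C (by omega) (by omega) (hE1 he) hg)
        have heq : L G (n - 4) = normalizer (E : Set G) := Subgroup.eq_of_le_of_card_ge hZ4 (by
          rw [hN, h.card_L (by omega) (by omega), show n - (n - 4) = 4 by omega])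
        have hle : L G 1 ≤ normalizer (E : Set G) := fun g hg => h.mem_normalizer_of_comm hcard hC hZ2 fun e he => by
          rw [show n - 2 = n - 4 + 2 by omega]
          exact h.mem_C (by omega) (by omega) hg (heq.ge (Subgroup.le_normalizer he))
        have := Subgroup.card_le_of_le hle
        rw [h.card_one, hN] at this
        have := (Nat.pow_le_pow_iff_right hpf.out.one_lt).1 this
        omega
    · have hne : C G (n - 2) ≠ L G 1 := fun e => hE1 (e ▸ hEC)
      have heven := (h.exceptional hne).1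
      obtain ⟨r, hr⟩ := heven
      exact Or.inr (Or.inl ⟨⟨r, hr⟩, by omega, hZ2, hEC, hE1, hne⟩)
  · have hEnC := h.not_le_C_of_not_le hcard hEc hC hZ2
    have hcap := h.card_inf_of_not_le hcard hEc hC (h.index_C (i := n - 2) (by omega) le_rfl) hEnC
    have hNeq := h.normalizer_eq_sup hcard hEc hC hN (h.second_le_normalizer hcard hC) hZ2
    have hout : ∀ e ∈ E, e ∉ C G (n - 2) → e ∈ L G 1 := by
      intro e he heC
      by_contra he1
      have hsub : E ⊓ L G 1 ≤ L G (n - 1) := by
        intro y hy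
        have hgo : ∀ k, 1 ≤ k → k ≤ n - 1 → y ∈ L G k := by
          intro k hk
          induction k, hk using Nat.le_induction with
          | base => intro _; exact hy.2
          | succ k hk ih =>
            intro hkn
            by_contra hno
            rcases Nat.lt_or_ge k (n - 2) with hlt | hge
            · refine h.strict' hk (by omega) he1 (ih (by omega)) hno ?_
              rw [commutatorElement_eq_one_iff_mul_comm.2 (hEc e he y hy.1)]
              exact one_mem _
            · obtain rfl : k = n - 2 := by omega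
              refine heC ((h.mem_C_iff (by omega) (ih (by omega)) hno).2 ?_)
              rw [commutatorElement_eq_one_iff_mul_comm.2 (hEc e he y hy.1)]
              exact one_mem _
        exact hgo (n - 1) (by omega) le_rfl
      have h1 := Subgroup.card_le_of_le hsub
      rw [h.card_inf_of_not_le hcard hEc hC h.index_one fun hle => he1 (hle he), h.card_L (by omega) (by omega),
        show n - (n - 1) = 1 by omega] at h1
      have := (Nat.pow_le_pow_iff_right hpf.out.one_lt).1 h1
      omega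
    have hE1 : E ≤ L G 1 := by
      obtain ⟨u, hu, huC⟩ := SetLike.not_le_iff_exists.1 hEnC
      intro e he
      by_cases heC : e ∈ C G (n - 2)
      · have h1 := hout (u * e) (mul_mem hu he) fun hh => huC (by simpa using mul_mem hh (inv_mem heC))
        simpa using mul_mem (inv_mem (hout u hu huC)) h1
      · exact hout e he heC
    have hne : C G (n - 2) ≠ L G 1 := fun e => hEnC (e ▸ hE1)
    obtain ⟨⟨r, hr⟩, -⟩ := h.exceptional hne
    have hN1 : normalizer (E : Set G) ≤ L G 1 := hNeq.le.trans (sup_le hE1 (L_le_one (by omega)))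
    have hZ3 : L G (n - 3) ≤ normalizer (E : Set G) := fun g hg =>
      h.mem_normalizer_of_comm hcard hC (h.center_le hcard hC) fun e he => by
        rw [← commutatorElement_inv, show n - 1 = n - 3 + 2 by omega]
        exact inv_mem (h.mem_C (by omega) le_rfl (hE1 he) hg)
    have hNL2 : normalizer (E : Set G) ⊓ L G 2 = L G (n - 3) := by
      refine (Subgroup.eq_of_le_of_card_ge (le_inf hZ3 (L_anti (by omega))) ?_).symm
      have hlt : normalizer (E : Set G) ⊓ L G 2 < normalizer (E : Set G) := inf_lt_left.2 fun hle =>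
        hEnC ((Subgroup.le_normalizer.trans hle).trans (L_two_le_C (by omega)))
      have h1 := Fusion.MaxClass.card_mul_le_of_lt h.isPGroup hlt
      rw [hN, pow_succ' p 3] at h1
      rw [h.card_L (by omega) (by omega), show n - (n - 3) = 3 by omega]
      exact Nat.le_of_mul_le_mul_left h1 hpf.out.pos
    have hwle : E ⊓ C G (n - 2) ≤ L G (n - 3) := fun y hy =>
      hNL2.le ⟨Subgroup.le_normalizer hy.1, (h.inf_C_top hne).le ⟨hE1 hy.1, hy.2⟩⟩
    have hN3 : normalizer (E : Set G) = E ⊔ L G (n - 3) := h.normalizer_eq_sup hcard hEc hC hN hZ3 fun hle =>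
      hZ2 ((L_anti (by omega)).trans hle)
    rcases Nat.lt_or_ge n 7 with h7 | h7
    · exact Or.inr (Or.inr ⟨by omega, hE1, hZ2, hwle, hN3, hN1, hne⟩)
    exfalso
    have h8 : 8 ≤ n := by omega
    obtain ⟨u, hu, huC⟩ := SetLike.not_le_iff_exists.1 hEnC
    obtain ⟨w, hw, hw'⟩ : ∃ w ∈ E ⊓ C G (n - 2), w ∉ L G (n - 2) := SetLike.not_le_iff_exists.1 fun hle =>
      hZ2 ((Subgroup.eq_of_le_of_card_ge hle (by
        rw [hcap, h.card_L (by omega) (by omega), show n - (n - 2) = 2 by omega])).ge.trans inf_le_left)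
    obtain ⟨z, hz, hzE⟩ := SetLike.not_le_iff_exists.1 hZ2
    have hwL := hwle hw
    let W := zpowers w
    let R : Set G := {c | c ∈ L G 3 ∧ ⁅u⁻¹, c⁆ ∈ W}
    have hRN : R ⊆ ((normalizer (E : Set G) ⊓ L G 2 : Subgroup G) : Set G) := by
      rintro c ⟨hc3, hcu⟩
      refine ⟨mem_normalizer_of_le fun e he => ?_, L_anti (by omega) hc3⟩
      have hEgen : E ≤ zpowers u ⊔ (E ⊓ C G (n - 2)) := by
        refine (Subgroup.eq_of_le_of_card_ge (sup_le (zpowers_le.2 hu) inf_le_left) ?_).ge
        refine le_trans ?_ (Fusion.MaxClass.card_mul_le_of_lt h.isPGroup (lt_of_le_not_ge le_sup_right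
          fun e' => huC (e' (mem_sup_left (mem_zpowers u))).2))
        rw [hcard, hcap, ← pow_succ']
      have hle : zpowers u ⊔ (E ⊓ C G (n - 2)) ≤ E.comap (MulAut.conj c).toMonoidHom := by
        refine sup_le (zpowers_le.2 ?_) fun y hy => ?_
        · show c * u * c⁻¹ ∈ E
          rw [show c * u * c⁻¹ = u * ⁅u⁻¹, c⁆ by simp [commutatorElement_def, mul_assoc]]
          exact mul_mem hu (zpowers_le.2 hw.1 hcu)
        · show c * y * c⁻¹ ∈ E
          rw [h.comm_eq_one (by omega) (by omega) (by omega : n ≤ 3 + (n - 3)) hc3 (hwle hy), mul_inv_cancel_right]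
          exact hy.1
      exact hle (hEgen he)
    have hzR : z ∉ R := by
      rintro ⟨-, hzu⟩
      have h1 : ⁅u⁻¹, z⁆ ∈ L G (n - 1) := by
        have := step (by omega : 1 ≤ n - 2) hz u⁻¹
        rwa [show n - 2 + 1 = n - 1 by omega] at this
      obtain ⟨k, hk⟩ := mem_zpowers_iff.1 hzu
      have hwp : orderOf w = p := orderOf_eq_prime (hexp w hw.1) fun e => hw' (e ▸ one_mem _)
      have hdvd : (p : ℤ) ∣ k := by
        by_contra hnd
        refine hw' (L_anti (by omega : n - 2 ≤ n - 1) ?_)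
        obtain ⟨a, b, hab⟩ := (Int.isCoprime_iff_gcd_eq_one.2 (by
          rw [Int.gcd_comm]
          exact (hpf.out.coprime_iff_not_dvd.2 fun hd => hnd (Int.natCast_dvd.2 hd)) :
          Int.gcd k (p : ℤ) = 1))
        have : w = (w ^ k) ^ a := by
          rw [← zpow_mul]
          conv_lhs => rw [← zpow_one w, ← hab, zpow_add, mul_comm b, zpow_mul w (p : ℤ) b, zpow_natCast,
            hexp w hw.1, one_zpow, mul_one, mul_comm a]
        rw [this, hk]
        exact zpow_mem h1 a
      have h0 : ⁅u⁻¹, z⁆ = 1 := by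
        rw [← hk, ← orderOf_dvd_iff_zpow_eq_one, hwp]
        exact hdvd
      refine huC (h.mem_C_top.2 fun x hx => ?_)
      have hz1 : z ∉ L G (n - 2 + 1) := fun hh => hzE (h.center_le hcard hC (by
        rwa [show n - 2 + 1 = n - 1 by omega] at hh))
      obtain ⟨l, y, hy, rfl⟩ := h.exists_rep (by omega : 1 ≤ n - 2) hz hz1 hx
      refine ((show Commute u z from by simpa using Commute.inv_left (commutatorElement_eq_one_iff_mul_comm.1 h0 : Commute u⁻¹ z)).zpow_right l).mul_right ?_
      show u * y = y * u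
      rw [← commutatorElement_eq_one_iff_mul_comm, ← Subgroup.mem_bot, ← h.L_bot (by omega : n ≤ n - 2 + 1 + 1)]
      exact step (by omega) hy u
    have hR : R.ncard < p ^ 3 := by
      have hc3 : ((normalizer (E : Set G) ⊓ L G 2 : Subgroup G) : Set G).ncard = p ^ 3 := by
        rw [← Nat.card_coe_set_eq, SetLike.coe_sort_coe, hNL2, h.card_L (by omega) (by omega),
          show n - (n - 3) = 3 by omega]
      rw [← hc3]
      exact Set.ncard_lt_ncard ⟨hRN, fun hsup => hzR (hsup ⟨h.second_le_normalizer hcard hC hz,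
        L_anti (by omega) hz⟩)⟩ (Set.toFinite _)
    -- fibres of `c ↦ [c, u] W` on `L 3`
    classical
    haveI : Fintype G := Fintype.ofFinite G
    let f : G → G ⧸ W := fun c => QuotientGroup.mk (s := W) ⁅u⁻¹, c⁆
    let s3 : Finset G := Finset.univ.filter (· ∈ L G 3)
    have hfib : ∀ b ∈ s3.image f, (s3.filter fun c => f c = b).card ≤ R.ncard := by
      intro b hb
      obtain ⟨c, hc, rfl⟩ := Finset.mem_image.1 hb
      rw [← Set.ncard_coe_finset]
      refine Set.ncard_le_ncard_of_injOn (fun d => c⁻¹ * d) ?_ (fun a _ b _ hab => mul_left_cancel hab)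
        (Set.toFinite _)
      intro d hd
      simp only [Finset.mem_coe, s3, Finset.mem_filter, Finset.mem_univ, true_and] at hd hc
      obtain ⟨hd3, hdeq⟩ := hd
      refine ⟨mul_mem (inv_mem hc) hd3, ?_⟩
      show ⁅u⁻¹, c⁻¹ * d⁆ ∈ W
      have hdw : ⁅u⁻¹, c⁆⁻¹ * ⁅u⁻¹, d⁆ ∈ W := QuotientGroup.eq.1 hdeq.symm
      obtain ⟨m, hm⟩ := mem_zpowers_iff.1 hdw
      have hwc : Commute (w ^ m) c := (show Commute w c from
        h.comm_eq_one (by omega) (by omega) (by omega : n ≤ n - 3 + 3) hwL hc).zpow_left m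
      rw [show ⁅u⁻¹, c⁻¹ * d⁆ = c⁻¹ * (⁅u⁻¹, c⁆⁻¹ * ⁅u⁻¹, d⁆) * c by simp [commutatorElement_def, mul_assoc],
        ← hm, mul_assoc, hwc.eq, inv_mul_cancel_left]
      exact zpow_mem (mem_zpowers w) m
    have h3 := Finset.card_le_mul_card_image s3 R.ncard hfib
    have hs3 : s3.card = p ^ (n - 3) := by
      rw [← h.card_L (by omega : 2 ≤ 3) (by omega), Nat.card_eq_fintype_card, Fintype.card_subtype]
    have him : (s3.image f).card * Nat.card W ≤ Nat.card (L G 5) := by
      have hsub : ((s3.image f : Finset (G ⧸ W)) : Set (G ⧸ W)) ⊆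
          (fun y : G => (y : G ⧸ W)) '' (L G 5 : Set G) := by
        intro b hb
        obtain ⟨c, hc, rfl⟩ := Finset.mem_image.1 (Finset.mem_coe.1 hb)
        simp only [s3, Finset.mem_filter, Finset.mem_univ, true_and] at hc
        exact ⟨⁅u⁻¹, c⁆, h.mem_C (i := 3) (by omega) (by omega) (inv_mem (hE1 hu)) hc, rfl⟩
      have hcard5 : ((fun y : G => (y : G ⧸ W)) '' (L G 5 : Set G)).ncard * Nat.card W ≤ Nat.card (L G 5) := by
        have hWle : W ≤ L G 5 := zpowers_le.2 (L_anti (by omega) hwL)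
        have e1 : ((fun y : G => (y : G ⧸ W)) '' (L G 5 : Set G)).ncard ≤ Nat.card ((L G 5) ⧸ W.subgroupOf (L G 5)) := by
          rw [← Nat.card_coe_set_eq]
          refine Nat.card_le_card_of_surjective
            (Quotient.lift (fun y : L G 5 => (⟨((y : G) : G ⧸ W), y, y.2, rfl⟩ : ((fun y : G => (y : G ⧸ W)) '' (L G 5 : Set G))))
              fun a b hab => Subtype.ext (QuotientGroup.eq.2 (show (a : G)⁻¹ * b ∈ W from (QuotientGroup.leftRel_apply (s := W.subgroupOf (L G 5))).1 hab))) ?_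
          rintro ⟨_, y, hy, rfl⟩
          exact ⟨QuotientGroup.mk ⟨y, hy⟩, rfl⟩
        calc _ ≤ Nat.card ((L G 5) ⧸ W.subgroupOf (L G 5)) * Nat.card W := Nat.mul_le_mul_right _ e1
          _ = _ := by
            rw [Subgroup.card_eq_card_quotient_mul_card_subgroup (W.subgroupOf (L G 5)),
              Nat.card_congr (Subgroup.subgroupOfEquivOfLe hWle).toEquiv]
      refine le_trans (Nat.mul_le_mul_right _ ?_) hcard5
      rw [← Set.ncard_coe_finset]
      exact Set.ncard_le_ncard hsub (Set.toFinite _)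
    have hWc : Nat.card W = p := by
      rw [Nat.card_zpowers, orderOf_eq_prime (hexp w hw.1) fun e => hw' (e ▸ one_mem _)]
    rw [hWc, h.card_L (by omega) (by omega)] at him
    rw [hs3] at h3
    have h4 : p ^ (n - 3) * p < p ^ 3 * p ^ (n - 5) := by
      calc p ^ (n - 3) * p ≤ R.ncard * (s3.image f).card * p := Nat.mul_le_mul_right _ (by linarith)
        _ ≤ R.ncard * p ^ (n - 5) := by rw [mul_assoc]; exact Nat.mul_le_mul_left _ him
        _ < _ := Nat.mul_lt_mul_of_pos_right hR (pow_pos hpf.out.pos _)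
    rw [← pow_succ, ← pow_add] at h4
    have := (Nat.pow_lt_pow_iff_right hpf.out.one_lt).1 h4
    omega

end IsMC

end CfsgLib.PGroup.MaxDeg
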