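import Mathlib

/-! Commutator relations between consecutive layers of a filtration, at the first exceptional degree. -/

set_option autoImplicit false

namespace CfsgLib.PGroup.MaxDeg

open Subgroup
open scoped commutatorElement

variable {Q : Type*} [Group Q]

/-- A filtration with a distinguished element `s` and a chain `e (i + 1) = [s, e i]`, cut below degree `j + 2`,
in which commutators gain a degree up to total degree `j`. -/
structure Rel (T : ℕ → Subgroup Q) (j : ℕ) (s : Q) (e : ℕ → Q) : Prop where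
  hj : 2 ≤ j
  anti : ∀ {a b : ℕ}, a ≤ b → T b ≤ T a
  comm : ∀ {a b : ℕ}, 1 ≤ a → 1 ≤ b → ⁅T a, T b⁆ ≤ T (a + b)
  gain : ∀ a b : ℕ, 1 ≤ a → 1 ≤ b → a + b ≤ j → ⁅T a, T b⁆ ≤ T (a + b + 1)
  bot : T (j + 3) = ⊥
  top_step : ∀ {i : ℕ}, 1 ≤ i → ∀ x ∈ T i, ∀ g : Q, ⁅g, x⁆ ∈ T (i + 1)
  mem : ∀ i, 1 ≤ i → i ≤ j + 2 → e i ∈ T i
  chain : ∀ i, 1 ≤ i → i ≤ j + 1 → e (i + 1) = ⁅s, e i⁆
  first : ⁅e 1, e j⁆ ∉ T (j + 2)

namespace Rel

variable {T : ℕ → Subgroup Q} {j : ℕ} {s : Q} {e : ℕ → Q} (h : Rel T j s e)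
include h

theorem top_central {x : Q} (hx : x ∈ T (j + 2)) (g : Q) : g * x = x * g := by
  rw [← commutatorElement_eq_one_iff_mul_comm, ← Subgroup.mem_bot, ← h.bot]
  exact h.top_step (by omega) x hx g

theorem deep_comm {x y : Q} {a b : ℕ} (ha : 1 ≤ a) (hb : 1 ≤ b) (hab : j + 3 ≤ a + b) (hx : x ∈ T a)
    (hy : y ∈ T b) : x * y = y * x := by
  rw [← commutatorElement_eq_one_iff_mul_comm, ← Subgroup.mem_bot, ← h.bot]
  exact h.anti hab (h.comm ha hb (commutator_mem_commutator hx hy))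

theorem psi_mul {x y : Q} (hy : y ∈ T (j + 1)) : ⁅s, x * y⁆ = ⁅s, x⁆ * ⁅s, y⁆ := by
  rw [show ⁅s, x * y⁆ = ⁅s, x⁆ * (x * ⁅s, y⁆ * x⁻¹) by simp [commutatorElement_def, mul_assoc],
    h.top_central (h.top_step (by omega) y hy s) x, mul_inv_cancel_right]

theorem psi_top {x : Q} (hx : x ∈ T (j + 2)) : ⁅s, x⁆ = 1 := by
  rw [← Subgroup.mem_bot, ← h.bot]
  exact h.top_step (by omega) x hx s

/-- The basic expansion: conjugate `[e a, e b]` by `s`. -/
theorem expand {a b : ℕ} (ha : 1 ≤ a) (hb : 1 ≤ b) (hab : j ≤ a + b) (hab' : a + b ≤ j + 1)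
    (hg : ⁅e a, e b⁆ ∈ T (j + 1)) :
    ⁅e a, e (b + 1)⁆ * ⁅e a, e b⁆ * (⁅e (a + 1), e (b + 1)⁆ * ⁅e (a + 1), e b⁆) = ⁅s, ⁅e a, e b⁆⁆ * ⁅e a, e b⁆ := by
  have hca : s * e a * s⁻¹ = e (a + 1) * e a := by
    rw [h.chain a ha (by omega)]; simp [commutatorElement_def, mul_assoc]
  have hcb : s * e b * s⁻¹ = e (b + 1) * e b := by
    rw [h.chain b hb (by omega)]; simp [commutatorElement_def, mul_assoc]
  have hrhs : ⁅s, ⁅e a, e b⁆⁆ * ⁅e a, e b⁆ = ⁅e (a + 1) * e a, e (b + 1) * e b⁆ := by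
    rw [← hca, ← hcb]; simp [commutatorElement_def, mul_assoc]
  have hea := h.mem (a + 1) (by omega) (by omega)
  have heb := h.mem (b + 1) (by omega) (by omega)
  have hf : ⁅e a, e (b + 1)⁆ ∈ T (j + 1) :=
    h.anti (by omega) (h.comm ha (by omega) (commutator_mem_commutator (h.mem a ha (by omega)) heb))
  have hf' : ⁅e (a + 1), e b⁆ ∈ T (j + 1) :=
    h.anti (by omega) (h.comm (by omega) hb (commutator_mem_commutator hea (h.mem b hb (by omega))))
  rw [hrhs, show ⁅e (a + 1) * e a, e (b + 1) * e b⁆ = e (a + 1) * (⁅e a, e (b + 1)⁆ *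
    (e (b + 1) * ⁅e a, e b⁆ * (e (b + 1))⁻¹)) * (e (a + 1))⁻¹ *
    (⁅e (a + 1), e (b + 1)⁆ * (e (b + 1) * ⁅e (a + 1), e b⁆ * (e (b + 1))⁻¹)) by
      simp [commutatorElement_def, mul_assoc]]
  rw [h.deep_comm (by omega) (by omega) (by omega) heb hg, mul_inv_cancel_right,
    h.deep_comm (by omega) (by omega) (by omega) hea (mul_mem hf hg), mul_inv_cancel_right,
    h.deep_comm (by omega) (by omega) (by omega) heb hf', mul_inv_cancel_right]

theorem pair_mem {a : ℕ} (ha : 1 ≤ a) (haj : a ≤ j) : ⁅e a, e (j + 1 - a)⁆ ∈ T (j + 1) := by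
  have := h.comm ha (by omega : 1 ≤ j + 1 - a)
    (commutator_mem_commutator (h.mem a ha (by omega)) (h.mem _ (by omega) (by omega)))
  rwa [show a + (j + 1 - a) = j + 1 by omega] at this

/-- Consecutive pairs in degree `j + 1` are inverse to each other. -/
theorem alt {a : ℕ} (ha : 1 ≤ a) (haj : a < j) :
    ⁅e a, e (j + 1 - a)⁆ * ⁅e (a + 1), e (j - a)⁆ ∈ T (j + 2) := by
  have hg : ⁅e a, e (j - a)⁆ ∈ T (j + 1) := by
    have := h.gain a (j - a) ha (by omega) (by omega)
      (commutator_mem_commutator (h.mem a ha (by omega)) (h.mem _ (by omega) (by omega)))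
    rwa [show a + (j - a) + 1 = j + 1 by omega] at this
  have he := h.expand ha (by omega : 1 ≤ j - a) (by omega) (by omega) hg
  rw [show j - a + 1 = j + 1 - a by omega] at he
  set f := ⁅e a, e (j + 1 - a)⁆
  set g := ⁅e a, e (j - a)⁆
  set m := ⁅e (a + 1), e (j + 1 - a)⁆
  set f' := ⁅e (a + 1), e (j - a)⁆
  have hm : m ∈ T (j + 2) := by
    have := h.comm (by omega : 1 ≤ a + 1) (by omega : 1 ≤ j + 1 - a)
      (commutator_mem_commutator (h.mem _ (by omega) (by omega)) (h.mem _ (by omega) (by omega)))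
    rwa [show a + 1 + (j + 1 - a) = j + 2 by omega] at this
  have hf' : f' ∈ T (j + 1) := by
    have := h.comm (by omega : 1 ≤ a + 1) (by omega : 1 ≤ j - a)
      (commutator_mem_commutator (h.mem _ (by omega) (by omega)) (h.mem _ (by omega) (by omega)))
    rwa [show a + 1 + (j - a) = j + 1 by omega] at this
  have hgf' : g * f' = f' * g := h.deep_comm (by omega) (by omega) (by omega) hg hf'
  have : f * f' = ⁅s, g⁆ * m⁻¹ := by
    have h1 : f * f' * m * g = ⁅s, g⁆ * g := by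
      calc f * f' * m * g = f * f' * g * m := by
            rw [mul_assoc (f * f') m g, ← h.top_central hm g, ← mul_assoc]
        _ = f * g * f' * m := by rw [mul_assoc f f' g, ← hgf', ← mul_assoc]
        _ = f * g * (m * f') := by rw [mul_assoc (f * g) f' m, h.top_central hm f']
        _ = _ := he
    rw [eq_mul_inv_iff_mul_eq]
    exact mul_right_cancel h1
  rw [this]
  exact mul_mem (h.top_step (by omega) g hg s) (inv_mem hm)

/-- The degree of the first exceptional layer is even. -/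
theorem even : Even j := by
  rcases Nat.even_or_odd j with he | ho
  · exact he
  exfalso
  obtain ⟨k, hk⟩ := ho
  have hall : ∀ a, 1 ≤ a → a ≤ j → ⁅e a, e (j + 1 - a)⁆ ∉ T (j + 2) := by
    intro a ha
    induction a, ha using Nat.le_induction with
    | base => intro _; rw [show j + 1 - 1 = j by omega]; exact h.first
    | succ a ha ih =>
      intro haj hmem
      refine ih (by omega) ?_
      have := mul_mem (h.alt ha (by omega)) (inv_mem hmem)
      rwa [show j + 1 - (a + 1) = j - a by omega, mul_inv_cancel_right] at this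
  refine hall (k + 1) (by omega) (by omega) ?_
  rw [show j + 1 - (k + 1) = k + 1 by omega, commutatorElement_self]
  exact one_mem _

theorem second (hj3 : 3 ≤ j) : ⁅e 2, e (j - 1)⁆ ∉ T (j + 2) := by
  intro hmem
  refine h.first ?_
  have := mul_mem (h.alt le_rfl (by omega)) (inv_mem hmem)
  rwa [show j + 1 - 1 = j by omega, show (1 + 1 : ℕ) = 2 from rfl, mul_inv_cancel_right] at this

/-- Below `2p` the exceptional layer must be the last but one. -/
theorem not_small {p : ℕ} (hp : p.Prime) (hj2 : j < 2 * p) (hj4 : 4 ≤ j)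
    (hpow : ∀ x ∈ T (j + 2), x ^ p = 1)
    (hgen : ∀ x ∈ T (j + 1), x ∉ T (j + 2) → T (j + 1) ≤ zpowers x ⊔ T (j + 2))
    (hstrict : ∀ x ∈ T (j + 1), x ∉ T (j + 2) → ⁅s, x⁆ ≠ 1) : False := by
  obtain ⟨k, hk⟩ := h.even
  set c := ⁅s, ⁅e 1, e j⁆⁆ with hc
  have hf1 : ⁅e 1, e j⁆ ∈ T (j + 1) := by
    have := h.pair_mem le_rfl (by omega : 1 ≤ j)
    rwa [show j + 1 - 1 = j by omega] at this
  have hcT : c ∈ T (j + 2) := h.top_step (by omega) _ hf1 s
  have hc1 : c ≠ 1 := hstrict _ hf1 h.first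
  have hord : orderOf c = p := haveI := Fact.mk hp; orderOf_eq_prime (hpow c hcT) hc1
  have hfa : ∀ a, 1 ≤ a → a ≤ j → ⁅s, ⁅e a, e (j + 1 - a)⁆⁆ = c ^ ((-1 : ℤ) ^ (a - 1)) := by
    intro a ha
    induction a, ha using Nat.le_induction with
    | base => intro _; rw [show j + 1 - 1 = j by omega, pow_zero, zpow_one]
    | succ a ha ih =>
      intro haj
      have h2 := h.alt ha (by omega : a < j)
      have h3 := h.psi_top h2
      have hp2 := h.pair_mem (by omega : 1 ≤ a + 1) haj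
      rw [show j + 1 - (a + 1) = j - a by omega] at hp2 ⊢
      rw [h.psi_mul hp2, ih (by omega)] at h3
      rw [eq_inv_of_mul_eq_one_right h3, ← zpow_neg, show a + 1 - 1 = a - 1 + 1 by omega, pow_succ, mul_neg_one]
  have hmu1 : ⁅e 1, e (j + 1)⁆ = 1 := by
    have hf2 := h.pair_mem (a := 2) (by omega) (by omega)
    rw [show j + 1 - 2 = j - 1 by omega] at hf2
    have hf2' := h.second (by omega)
    have hfix : e 1 * ⁅e 2, e (j - 1)⁆ * (e 1)⁻¹ = ⁅e 2, e (j - 1)⁆ := by
      have hc2 : ⁅e 1, e 2⁆ ∈ T 4 :=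
        h.gain 1 2 le_rfl (by omega) (by omega) (commutator_mem_commutator (h.mem 1 le_rfl (by omega)) (h.mem 2 (by omega) (by omega)))
      have hcb : ⁅e 1, e (j - 1)⁆ ∈ T (j + 1) := by
        have := h.gain 1 (j - 1) le_rfl (by omega) (by omega)
          (commutator_mem_commutator (h.mem 1 le_rfl (by omega)) (h.mem _ (by omega) (by omega)))
        rwa [show 1 + (j - 1) + 1 = j + 1 by omega] at this
      have he2 := h.mem 2 (by omega) (by omega)
      have heb := h.mem (j - 1) (by omega) (by omega)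
      have e1 : e 1 * ⁅e 2, e (j - 1)⁆ * (e 1)⁻¹ = ⁅⁅e 1, e 2⁆ * e 2, ⁅e 1, e (j - 1)⁆ * e (j - 1)⁆ := by
        simp [commutatorElement_def, mul_assoc]
      rw [e1]
      set c2 := ⁅e 1, e 2⁆
      set cb := ⁅e 1, e (j - 1)⁆
      have hcc : cb * ⁅e 2, e (j - 1)⁆ = ⁅e 2, e (j - 1)⁆ * cb :=
        h.deep_comm (by omega) (by omega) (by omega) hcb hf2
      have hce : c2 * ⁅e 2, e (j - 1)⁆ = ⁅e 2, e (j - 1)⁆ * c2 :=
        h.deep_comm (by omega) (by omega) (by omega) hc2 hf2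
      rw [show ⁅c2 * e 2, cb * e (j - 1)⁆ = c2 * (⁅e 2, cb⁆ * (cb * ⁅e 2, e (j - 1)⁆ * cb⁻¹)) * c2⁻¹ *
        ⁅c2, cb * e (j - 1)⁆ by simp [commutatorElement_def, mul_assoc]]
      rw [commutatorElement_eq_one_iff_mul_comm.2 (h.deep_comm (by omega) (by omega) (by omega) he2 hcb), one_mul,
        hcc, mul_inv_cancel_right, hce, mul_inv_cancel_right,
        commutatorElement_eq_one_iff_mul_comm.2 (h.deep_comm (by omega) (by omega : 1 ≤ j - 1) (by omega) hc2
          (mul_mem (h.anti (by omega : j - 1 ≤ j + 1) hcb) heb)), mul_one]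
    have hle : T (j + 1) ≤ centralizer ({e 1} : Set Q) := (hgen _ hf2 hf2').trans (sup_le
      (zpowers_le.2 (mem_centralizer_singleton_iff.2 (mul_inv_eq_iff_eq_mul.1 hfix).symm))
      fun x hx => mem_centralizer_singleton_iff.2 (h.top_central hx (e 1)).symm)
    rw [commutatorElement_eq_one_iff_mul_comm]
    exact (mem_centralizer_singleton_iff.1 (hle (h.mem _ (by omega) (by omega)))).symm
  have hmu : ∀ a, 1 ≤ a → a ≤ j + 1 → ⁅e a, e (j + 2 - a)⁆ = c ^ ((-1 : ℤ) ^ a * (a - 1 : ℤ)) := by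
    intro a ha
    induction a, ha using Nat.le_induction with
    | base => intro _; rw [show j + 2 - 1 = j + 1 by omega, hmu1]; simp
    | succ a ha ih =>
      intro haj
      have hg := h.pair_mem ha (by omega : a ≤ j)
      have he := h.expand ha (by omega : 1 ≤ j + 1 - a) (by omega) (by omega) hg
      rw [show j + 1 - a + 1 = j + 2 - a by omega] at he
      have hz : ⁅e (a + 1), e (j + 2 - a)⁆ = 1 := commutatorElement_eq_one_iff_mul_comm.2
        (h.deep_comm (by omega) (by omega) (by omega) (h.mem _ (by omega) (by omega)) (h.mem _ (by omega) (by omega)))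
      set m := ⁅e (a + 1), e (j + 1 - a)⁆ with hm
      set g := ⁅e a, e (j + 1 - a)⁆
      have hmT : m ∈ T (j + 2) := by
        have := h.comm (by omega : 1 ≤ a + 1) (by omega : 1 ≤ j + 1 - a)
          (commutator_mem_commutator (h.mem _ (by omega) (by omega)) (h.mem _ (by omega) (by omega)))
        rwa [show a + 1 + (j + 1 - a) = j + 2 by omega] at this
      rw [hz, one_mul, mul_assoc, h.top_central hmT g, ← mul_assoc] at he
      have := mul_right_cancel he
      rw [ih (by omega), hfa a ha (by omega)] at this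
      have hm' : m = (c ^ ((-1 : ℤ) ^ a * (a - 1 : ℤ)))⁻¹ * c ^ ((-1 : ℤ) ^ (a - 1)) := eq_inv_mul_iff_mul_eq.2 this
      rw [show j + 2 - (a + 1) = j + 1 - a by omega, ← hm, hm', ← zpow_neg, ← zpow_add]
      congr 1
      obtain ⟨b, rfl⟩ : ∃ b, a = b + 1 := ⟨a - 1, by omega⟩
      simp only [Nat.add_sub_cancel, pow_succ]
      push_cast
      ring
  have := hmu (k + 1) (by omega) (by omega)
  rw [show j + 2 - (k + 1) = k + 1 by omega, commutatorElement_self, eq_comm, ← orderOf_dvd_iff_zpow_eq_one,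
    hord] at this
  have hp' : Prime (p : ℤ) := Nat.prime_iff_prime_int.1 hp
  rcases hp'.dvd_or_dvd this with h1 | h1
  · exact hp'.not_unit (isUnit_of_dvd_unit h1 (IsUnit.pow _ (by norm_num : IsUnit (-1 : ℤ))))
  · push_cast at h1
    rw [add_sub_cancel_right, Int.natCast_dvd_natCast] at h1
    have := Nat.le_of_dvd (by omega) h1
    omega

end Rel

end CfsgLib.PGroup.MaxDeg
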