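import Cfsg.Agent.Lib.PGroup.MaxClassSeries
import Cfsg.Agent.Lib.PGroup.MaxClassRelation

/-! Blackburn's theorem: in maximal class the two-step centralizers below the top all coincide. -/

set_option autoImplicit false

namespace CfsgLib.PGroup.MaxDeg

open Subgroup
open scoped commutatorElement

section Power

variable {Q : Type*} [Group Q]

/-- In an abelian stretch of length `p` the `p`-th power of a generator meets the `p`-th commutator. -/
theorem power_layer {p : ℕ} (hp : p.Prime) (T : ℕ → Subgroup Q) (i : ℕ) (s : Q)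
    (anti : ∀ {a b : ℕ}, a ≤ b → T b ≤ T a) (hab : ∀ x ∈ T i, ∀ y ∈ T i, x * y = y * x)
    (bot : T (i + p + 1) = ⊥) (step : ∀ k, i ≤ k → ∀ x ∈ T k, ⁅s, x⁆ ∈ T (k + 1))
    (strict : ∀ k, i ≤ k → k < i + p → ∀ x ∈ T k, x ∉ T (k + 1) → ⁅s, x⁆ ∉ T (k + 2))
    (gen : ∀ k, i ≤ k → ∀ x ∈ T k, x ∉ T (k + 1) → T k ≤ zpowers x ⊔ T (k + 1))
    (hsp : ∀ x ∈ T i, s ^ p * x = x * s ^ p) {x : Q} (hx : x ∈ T i) (hx' : x ∉ T (i + 1)) :
    (∀ c ∈ T (i + 2), c ^ p = 1) ∧ x ^ p ∈ T (i + p - 1) ∧ x ^ p ∉ T (i + p) := by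
  letI : CommGroup (T i) :=
    { (inferInstance : Group (T i)) with mul_comm := fun a b => Subtype.ext (hab a a.2 b b.2) }
  have hs : ∀ a : T i, ⁅s, (a : Q)⁆ ∈ T i := fun a => anti (Nat.le_succ i) (step i le_rfl a a.2)
  let D : Monoid.End (T i) := MonoidHom.mk' (fun a => ⟨⁅s, (a : Q)⁆, hs a⟩) fun a b => Subtype.ext (by
    show ⁅s, (a : Q) * b⁆ = ⁅s, (a : Q)⁆ * ⁅s, (b : Q)⁆
    rw [show ⁅s, (a : Q) * b⁆ = ⁅s, (a : Q)⁆ * ((a : Q) * ⁅s, (b : Q)⁆ * (a : Q)⁻¹) by
      simp [commutatorElement_def, mul_assoc], hab a a.2 _ (hs b), mul_inv_cancel_right])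
  let D' : AddMonoid.End (Additive (T i)) := MonoidHom.toAdditive D
  have hcoe : ∀ (k : ℕ) (a : T i), Additive.toMul ((D' ^ k) (Additive.ofMul a)) = (D ^ k) a := by
    intro k
    induction k with
    | zero => intro a; rfl
    | succ k ih => intro a; rw [pow_succ, pow_succ]; exact ih (D a)
  have hconj : ∀ (k : ℕ) (a : T i),
      ((Additive.toMul (((D' + 1) ^ k) (Additive.ofMul a)) : T i) : Q) = s ^ k * a * (s ^ k)⁻¹ := by
    intro k
    induction k with
    | zero => intro a; simp
    | succ k ih =>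
      intro a
      rw [pow_succ, pow_succ]
      refine (ih (D a * a)).trans ?_
      show s ^ k * (⁅s, (a : Q)⁆ * a) * (s ^ k)⁻¹ = _
      simp [commutatorElement_def, mul_assoc]
  have hmem : ∀ k l (a : T i), i ≤ l → (a : Q) ∈ T l → (((D ^ k) a : T i) : Q) ∈ T (l + k) := by
    intro k
    induction k with
    | zero => intro l a _ ha; exact ha
    | succ k ih =>
      intro l a hl ha
      rw [pow_succ, show l + (k + 1) = l + 1 + k by omega]
      exact ih (l + 1) (D a) (by omega) (step l hl a ha)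
  -- the binomial identity
  let W : T i → T i := fun a => ∏ k ∈ Finset.Ioo 0 p, ((D ^ k) a) ^ (Nat.choose p k / p)
  have hid : ∀ a : T i, W a ^ p * (D ^ p) a = 1 := by
    intro a
    have h1 : ((D' + 1) ^ p) (Additive.ofMul a) = Additive.ofMul a :=
      Additive.toMul.injective (Subtype.ext ((hconj p a).trans (by rw [hsp a a.2, mul_inv_cancel_right]; rfl)))
    let ev : AddMonoid.End (Additive (T i)) →+ Additive (T i) :=
      AddMonoidHom.mk' (fun f => f (Additive.ofMul a)) fun _ _ => rfl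
    rw [(Commute.one_right D').add_pow] at h1
    change ev _ = _ at h1
    rw [map_sum] at h1
    have hterm : ∀ k, (D' ^ k * 1 ^ (p - k) * (Nat.choose p k : AddMonoid.End (Additive (T i)))) (Additive.ofMul a) =
        Additive.ofMul (((D ^ k) a) ^ Nat.choose p k) := fun k => by
      rw [one_pow, mul_one]
      show (D' ^ k) ((Nat.choose p k : AddMonoid.End (Additive (T i))) (Additive.ofMul a)) = _
      rw [AddMonoid.End.natCast_apply, map_nsmul]
      exact Additive.toMul.injective (by rw [toMul_nsmul, hcoe]; rfl)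
    rw [Finset.sum_congr rfl fun k _ => (hterm k : ev _ = _), ← ofMul_prod, Additive.ofMul.injective.eq_iff,
      Finset.prod_range_succ, Finset.range_eq_Ico, Finset.prod_eq_prod_Ico_succ_bot hp.pos, Nat.choose_zero_right,
      Nat.choose_self, pow_one, pow_one, show (D ^ 0) a = a from rfl, mul_assoc] at h1
    rw [mul_eq_left] at h1
    rw [← h1]
    congr 1
    simp only [W, ← Finset.prod_pow]
    have hset : Finset.Ioo 0 p = Finset.Ico (0 + 1) p := by
      ext k; simp only [Finset.mem_Ioo, Finset.mem_Ico]; omega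
    rw [hset]
    refine Finset.prod_congr rfl fun k hk => ?_
    rw [← pow_mul, Nat.div_mul_cancel]
    have := Finset.mem_Ico.1 hk
    exact hp.dvd_choose_self (by omega) (by omega)
  have hW : ∀ (l : ℕ) (a : T i), i ≤ l → (a : Q) ∈ T l → ∃ c : T i, (c : Q) ∈ T (l + 2) ∧ W a = D a * c := by
    intro l a hl ha
    refine ⟨∏ k ∈ Finset.Ioo 1 p, ((D ^ k) a) ^ (Nat.choose p k / p), ?_, ?_⟩
    · refine show _ ∈ (T (l + 2)).subgroupOf (T i) from Subgroup.prod_mem _ fun k hk => Subgroup.pow_mem _ ?_ _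
      have := Finset.mem_Ioo.1 hk
      exact anti (by omega) (hmem k l a hl ha)
    · show W a = _
      have hins : Finset.Ioo 0 p = insert 1 (Finset.Ioo 1 p) := by
        ext k; simp only [Finset.mem_Ioo, Finset.mem_insert]; have := hp.one_lt; omega
      simp only [W]
      rw [hins, Finset.prod_insert (by simp), Nat.choose_one_right, Nat.div_self hp.pos, pow_one, pow_one]
  have hdp : ∀ k, k ≤ p → (((D ^ k) ⟨x, hx⟩ : T i) : Q) ∉ T (i + k + 1) := by
    intro k
    induction k with
    | zero => intro _; exact hx'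
    | succ k ih =>
      intro hk
      rw [pow_succ']
      exact strict (i + k) (by omega) (by omega) _ (hmem k i _ le_rfl hx) (ih (by omega))
  have hexp : ∀ d l, i + p + 1 ≤ l + d → i + 2 ≤ l → ∀ c ∈ T l, c ^ p = 1 := by
    intro d
    induction d with
    | zero =>
      intro l hl _ c hc
      have := anti (by omega : i + p + 1 ≤ l) hc
      rw [bot, Subgroup.mem_bot] at this
      rw [this, one_pow]
    | succ d ih =>
      intro l hl hl2 c hc
      by_cases hle : T l ≤ T (l + 1)
      · exact ih (l + 1) (by omega) (by omega) c (hle hc)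
      obtain ⟨b, hb, hb'⟩ := SetLike.not_le_iff_exists.1 hle
      have hlp : l < i + p + 1 := by
        by_contra hlp
        have := anti (Nat.not_lt.1 hlp) hb
        rw [bot, Subgroup.mem_bot] at this
        exact hb' (this ▸ one_mem _)
      have ha0 := hmem (l - 1 - i) i ⟨x, hx⟩ le_rfl hx
      have ha1 := hdp (l - 1 - i) (by omega)
      rw [show i + (l - 1 - i) = l - 1 by omega] at ha0 ha1
      obtain ⟨a, hadef⟩ : ∃ a : Q, a = (((D ^ (l - 1 - i)) ⟨x, hx⟩ : T i) : Q) := ⟨_, rfl⟩
      rw [← hadef] at ha0 ha1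
      have ha : a ∈ T (l - 1) := ha0
      have ha2 : a ∉ T (l - 1 + 1) := ha1
      have hDa : ⁅s, a⁆ ∈ T l := by
        have := step (l - 1) (by omega) a ha
        rwa [show l - 1 + 1 = l by omega] at this
      have hDa' : ⁅s, a⁆ ∉ T (l + 1) := by
        have := strict (l - 1) (by omega) (by omega) a ha ha2
        rwa [show l - 1 + 2 = l + 1 by omega] at this
      have hai : a ∈ T i := anti (by omega) ha
      obtain ⟨w, hw, hWa⟩ := hW (l - 1) ⟨a, hai⟩ (by omega) ha
      have h0 : (D ^ p) ⟨a, hai⟩ = 1 := Subtype.ext (by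
        have := anti (by omega : i + p + 1 ≤ l - 1 + p) (hmem p (l - 1) ⟨a, hai⟩ (by omega) ha)
        rwa [bot, Subgroup.mem_bot] at this)
      have h1 := hid ⟨a, hai⟩
      rw [h0, mul_one, hWa, mul_pow] at h1
      have hwp : w ^ p = 1 := Subtype.ext (ih (l + 1) (by omega) (by omega) _ (by
        rwa [show l - 1 + 2 = l + 1 by omega] at hw))
      rw [hwp, mul_one] at h1
      have hDap : ⁅s, a⁆ ^ p = 1 := congrArg Subtype.val h1
      have hsub : ∀ z ∈ T l, z ^ p = 1 := by
        intro z hz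
        obtain ⟨_, hm, v, hv, rfl⟩ : ∃ y, y ∈ zpowers ⁅s, a⁆ ∧ ∃ v ∈ T (l + 1), y * v = z := by
          have h2 := gen l (by omega) _ hDa hDa' hz
          let K : Subgroup Q :=
            { carrier := {z | ∃ y ∈ zpowers ⁅s, a⁆, ∃ v ∈ T (l + 1), y * v = z}
              one_mem' := ⟨1, one_mem _, 1, one_mem _, mul_one 1⟩
              mul_mem' := by
                rintro _ _ ⟨y, hy, v, hv, rfl⟩ ⟨y', hy', v', hv', rfl⟩
                refine ⟨y * y', mul_mem hy hy', v * v', mul_mem hv hv', ?_⟩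
                rw [mul_assoc, mul_assoc, ← mul_assoc y' v v', hab y' (zpowers_le.2 (anti (by omega) hDa) hy') v
                  (anti (by omega) hv), mul_assoc]
              inv_mem' := by
                rintro _ ⟨y, hy, v, hv, rfl⟩
                refine ⟨y⁻¹, inv_mem hy, v⁻¹, inv_mem hv, ?_⟩
                rw [mul_inv_rev, hab v⁻¹ (inv_mem (anti (by omega) hv)) y⁻¹
                  (inv_mem (zpowers_le.2 (anti (by omega) hDa) hy))] }
          exact (sup_le (fun y hy => ⟨y, hy, 1, one_mem _, mul_one y⟩)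
            (fun v hv => ⟨1, one_mem _, v, hv, one_mul v⟩) : zpowers ⁅s, a⁆ ⊔ T (l + 1) ≤ K) h2
        obtain ⟨m, rfl⟩ := mem_zpowers_iff.1 hm
        rw [(show Commute (⁅s, a⁆ ^ m) v from hab _ (zpow_mem (anti (by omega) hDa) m) v
          (anti (by omega) hv)).mul_pow, ih (l + 1) (by omega) (by omega) v hv, mul_one, ← zpow_natCast,
          ← zpow_mul, mul_comm, zpow_mul, zpow_natCast, hDap, one_zpow]
      exact hsub c hc
  have hexp' : ∀ c ∈ T (i + 2), c ^ p = 1 := hexp p (i + 2) (by omega) le_rfl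
  refine ⟨hexp', ?_⟩
  obtain ⟨w, hw, hWx⟩ := hW i ⟨x, hx⟩ le_rfl hx
  have h1 := hid ⟨x, hx⟩
  rw [hWx, mul_pow, show w ^ p = 1 from Subtype.ext (hexp' _ hw), mul_one, ← map_pow] at h1
  have hne : ⁅s, x ^ p⁆ ≠ 1 := by
    intro h0
    refine hdp p le_rfl ?_
    have : D (⟨x, hx⟩ ^ p) = 1 := Subtype.ext h0
    rw [this, one_mul] at h1
    rw [h1]
    exact one_mem _
  have htop : ∀ y ∈ T (i + p), ⁅s, y⁆ = 1 := fun y hy => by
    rw [← Subgroup.mem_bot, ← bot]
    exact step (i + p) (by omega) y hy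
  have hnot : x ^ p ∉ T (i + p) := fun h => hne (htop _ h)
  refine ⟨?_, hnot⟩
  have hDxp : ⁅s, x ^ p⁆ ∈ T (i + p) := by
    have e : D (⟨x, hx⟩ ^ p) = ((D ^ p) ⟨x, hx⟩)⁻¹ := eq_inv_of_mul_eq_one_left h1
    have := (T (i + p)).inv_mem (hmem p i ⟨x, hx⟩ le_rfl hx)
    have e' : ⁅s, x ^ p⁆ = (((D ^ p) ⟨x, hx⟩ : T i) : Q)⁻¹ := congrArg Subtype.val e
    rwa [← e'] at this
  have hgo : ∀ d, d ≤ p - 1 → x ^ p ∈ T (i + d) := by
    intro d
    induction d with
    | zero => intro _; exact pow_mem hx p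
    | succ d ih =>
      intro hd
      by_contra hno
      exact strict (i + d) (by omega) (by omega) _ (ih (by omega)) hno (anti (by omega) hDxp)
  have := hgo (p - 1) le_rfl
  rwa [show i + (p - 1) = i + p - 1 by have := hp.one_lt; omega] at this

end Power

variable {G : Type*} [Group G] {p : ℕ} [hpf : Fact p.Prime] [Finite G] {n : ℕ}

namespace IsMC

/-- Some element avoids three subgroups of index `p`. -/
theorem exists_avoid (h : IsMC G p n) {A B D : Subgroup G} (hA : A.index = p) (hB : B.index = p)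
    (hD : D.index = p) : ∃ s, s ∉ A ∧ s ∉ B ∧ s ∉ D := by
  by_contra hno
  push Not at hno
  have hsub : (Set.univ : Set G) ⊆ (A : Set G) ∪ B ∪ D := fun s _ => by
    by_cases h1 : s ∈ A
    · exact Or.inl (Or.inl h1)
    by_cases h2 : s ∈ B
    · exact Or.inl (Or.inr h2)
    exact Or.inr (hno s h1 h2)
  have hc : ∀ K : Subgroup G, K.index = p → (K : Set G).ncard * p = p ^ n := fun K hK => by
    have h0 := Subgroup.card_mul_index K
    rw [hK, h.card] at h0
    rwa [← Nat.card_coe_set_eq, SetLike.coe_sort_coe]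
  have h1 := (Set.ncard_le_ncard hsub).trans
    ((Set.ncard_union_le _ _).trans (Nat.add_le_add_right (Set.ncard_union_le _ _) _))
  rw [Set.ncard_univ, h.card] at h1
  have h2 := Nat.mul_le_mul_right p h1
  rw [add_mul, add_mul, hc A hA, hc B hB, hc D hD] at h2
  have h3 : p ^ n * p ≤ p ^ n * 3 := by omega
  have := Nat.le_of_mul_le_mul_left h3 (pow_pos hpf.out.pos n)
  have := h.hp
  omega

theorem strict (h : IsMC G p n) {k : ℕ} (hk : 1 ≤ k) {s : G} (hs1 : s ∉ L G 1) (hs : 2 ≤ k → s ∉ C G k)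
    {x : G} (hx : x ∈ L G k) (hx' : x ∉ L G (k + 1)) : ⁅s, x⁆ ∉ L G (k + 2) := by
  rcases Nat.lt_or_ge k 2 with hk2 | hk2
  · obtain rfl : k = 1 := by omega
    exact h.comm_notMem_three h.index_one (L_le_one (by omega)) hs1 hx hx'
  · exact fun hm => hs hk2 ((h.mem_C_iff hk2 hx hx').2 hm)

/-- The chain of iterated commutators with `s`. -/
def chain (s a : G) : ℕ → G
  | 0 => a
  | 1 => a
  | i + 2 => ⁅s, chain s a (i + 1)⁆

theorem chain_mem (h : IsMC G p n) {m : ℕ} {s a : G} (hs1 : s ∉ L G 1)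
    (hs : ∀ k, 2 ≤ k → k < m → s ∉ C G k) (ha : a ∈ L G 1) (ha' : a ∉ L G 2) :
    ∀ i, 1 ≤ i → chain s a i ∈ L G i ∧ (i ≤ m → chain s a i ∉ L G (i + 1)) := by
  intro i hi
  induction i, hi using Nat.le_induction with
  | base => exact ⟨ha, fun _ => ha'⟩
  | succ i hi ih =>
    obtain ⟨k, rfl⟩ : ∃ k, i = k + 1 := ⟨i - 1, by omega⟩
    exact ⟨step hi ih.1 s, fun him => h.strict hi hs1 (fun h2 => hs _ h2 (by omega)) ih.1 (ih.2 (by omega))⟩

theorem mk_mem_iff {N K : Subgroup G} [N.Normal] (hNK : N ≤ K) {x : G} :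
    QuotientGroup.mk' N x ∈ K.map (QuotientGroup.mk' N) ↔ x ∈ K := by
  refine ⟨?_, mem_map_of_mem _⟩
  rintro ⟨y, hy, hxy⟩
  rw [QuotientGroup.mk'_apply, QuotientGroup.mk'_apply, QuotientGroup.eq] at hxy
  simpa using mul_mem hy (hNK hxy)

/-- The relations at a degree below which all two-step centralizers agree. -/
theorem toRel (h : IsMC G p n) {j : ℕ} (hj : 2 ≤ j) (hjn : j < n) (hC : ∀ i, 2 ≤ i → i < j → C G i = L G 1)
    {s a : G} (hs1 : s ∉ L G 1) (hs : ∀ k, 2 ≤ k → k < j → s ∉ C G k) (ha : a ∈ L G 1) (ha' : a ∉ L G 2)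
    (haj : a ∉ C G j) :
    Rel (fun i => (L G i).map (QuotientGroup.mk' (L G (j + 3)))) j (QuotientGroup.mk' (L G (j + 3)) s)
      (fun i => QuotientGroup.mk' (L G (j + 3)) (chain s a i)) where
  hj := hj
  anti hab := Subgroup.map_mono (L_anti hab)
  comm ha hb := by rw [← map_commutator]; exact Subgroup.map_mono (MaxDeg.comm_le ha hb)
  gain a b ha hb hab := by
    rw [← map_commutator]
    exact Subgroup.map_mono (h.comm_gain hjn hC a b ha hb hab)
  bot := by rw [Subgroup.map_eq_bot_iff, QuotientGroup.ker_mk']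
  top_step {i} hi x hx g := by
    obtain ⟨x, hx', rfl⟩ := hx
    obtain ⟨g, rfl⟩ := QuotientGroup.mk'_surjective (L G (j + 3)) g
    rw [← map_commutatorElement]
    exact mem_map_of_mem _ (step hi hx' g)
  mem i hi _ := mem_map_of_mem _ (h.chain_mem hs1 hs ha ha' i hi).1
  chain i hi _ := by
    obtain ⟨k, rfl⟩ : ∃ k, i = k + 1 := ⟨i - 1, by omega⟩
    rw [← map_commutatorElement]
    rfl
  first := by
    rw [← map_commutatorElement, mk_mem_iff (L_anti (by omega))]
    have hm := h.chain_mem (m := j) hs1 hs ha ha' j (by omega)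
    exact fun hmem => haj ((h.mem_C_iff hj hm.1 (hm.2 le_rfl)).2 hmem)

/-- Blackburn: the two-step centralizers below the top coincide with `S₁`. -/
theorem C_eq (h : IsMC G p n) : ∀ j, 2 ≤ j → j ≤ n - 3 → C G j = L G 1 := by
  intro j
  induction j using Nat.strong_induction_on with
  | _ j ih =>
    intro hj hjn
    have := h.hn
    rcases Nat.eq_or_lt_of_le hj with e | hj3
    · rw [← e]; exact C_two
    by_contra hne
    have hC : ∀ i, 2 ≤ i → i < j → C G i = L G 1 := fun i hi hij => ih i hij hi (by omega)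
    have hij : (C G j).index = p := h.index_C hj (by omega)
    obtain ⟨a, ha, haj⟩ : ∃ a ∈ L G 1, a ∉ C G j := SetLike.not_le_iff_exists.1 fun hle => hne
      (Subgroup.eq_of_le_of_card_ge hle (by
        have h1 := Subgroup.card_mul_index (C G j)
        have h2 := Subgroup.card_mul_index (L G 1)
        rw [hij] at h1
        rw [h.index_one] at h2
        exact (Nat.eq_of_mul_eq_mul_right hpf.out.pos (h1.trans h2.symm)).le)).symm
    have ha' : a ∉ L G 2 := fun hh => haj (L_two_le_C hj hh)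
    obtain ⟨s, hs1, hsj, hsj1⟩ := h.exists_avoid h.index_one hij (h.index_C (i := j + 1) (by omega) (by omega))
    have hs : ∀ k, 2 ≤ k → k ≤ j + 1 → s ∉ C G k := fun k hk hkj => by
      rcases Nat.lt_or_ge k j with hlt | hge
      · rw [hC k hk hlt]; exact hs1
      · rcases Nat.eq_or_lt_of_le hge with rfl | hgt
        · exact hsj
        · obtain rfl : k = j + 1 := by omega
          exact hsj1
    have hR := h.toRel hj (by omega) hC hs1 (fun k hk hkj => hs k hk (by omega)) ha ha' haj
    obtain ⟨r, hr⟩ := hR.even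
    by_cases hjp : j < 2 * p
    · refine hR.not_small hpf.out hjp (by omega) ?_ ?_ ?_
      · rintro _ ⟨x, hx, rfl⟩
        rw [← map_pow, QuotientGroup.mk'_apply, QuotientGroup.eq_one_iff]
        have hc : Nat.card (L G (j + 2)) = p * Nat.card (L G (j + 3)) := by
          rw [h.card_L (by omega) (by omega), h.card_L (by omega) (by omega), ← pow_succ']
          congr 1
          omega
        have hrel : (L G (j + 3)).relIndex (L G (j + 2)) = p := by
          have e := Subgroup.relIndex_mul_relIndex ⊥ (L G (j + 3)) (L G (j + 2)) bot_le (L_anti (by omega))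
          rw [Subgroup.relIndex_bot_left, Subgroup.relIndex_bot_left, hc, mul_comm] at e
          exact Nat.eq_of_mul_eq_mul_right Nat.card_pos e
        haveI : ((L G (j + 3)).subgroupOf (L G (j + 2))).Normal := inferInstance
        have := Subgroup.pow_index_mem ((L G (j + 3)).subgroupOf (L G (j + 2))) ⟨x, hx⟩
        rw [show ((L G (j + 3)).subgroupOf (L G (j + 2))).index = p from hrel] at this
        exact this
      · rintro _ ⟨x, hx, rfl⟩ hx'
        have hx2 : x ∉ L G (j + 2) := fun hh => hx' (mem_map_of_mem _ hh)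
        rw [← MonoidHom.map_zpowers, ← Subgroup.map_sup]
        exact Subgroup.map_mono (h.gen (by omega) hx hx2)
      · rintro _ ⟨x, hx, rfl⟩ hx' hh
        rw [← map_commutatorElement, QuotientGroup.mk'_apply, QuotientGroup.eq_one_iff] at hh
        exact h.strict (by omega) hs1 (fun h2 => hs _ h2 le_rfl) hx (fun h' => hx' (mem_map_of_mem _ h')) hh
    · set i := j + 1 - p with hi
      have hp := h.hp
      let π := QuotientGroup.mk' (L G (j + 2))
      have hge : ∀ k, 1 ≤ k → k ≤ j + 2 → ∀ x : G, (π x ∈ (L G k).map π ↔ x ∈ L G k) := fun k _ hk x =>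
        mk_mem_iff (L_anti hk)
      have hspow : s ^ p ∈ L G (j + 1) := by
        have hgo : ∀ k, 1 ≤ k → k ≤ j + 1 → s ^ p ∈ L G k := by
          intro k hk
          induction k, hk using Nat.le_induction with
          | base =>
            intro _
            have := Subgroup.pow_index_mem (L G 1) s
            rwa [h.index_one] at this
          | succ k hk ih' =>
            intro hkj
            by_contra hno
            refine h.strict hk hs1 (fun h2 => hs _ h2 (by omega)) (ih' (by omega)) hno ?_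
            rw [commutatorElement_eq_one_iff_mul_comm.2 (Commute.self_pow s p).eq]
            exact one_mem _
        exact hgo (j + 1) (by omega) le_rfl
      obtain ⟨x, hx, hx'⟩ := SetLike.exists_of_lt (h.L_lt' (by omega : 1 ≤ i) (by omega))
      have hpl := power_layer hpf.out (fun k => (L G k).map π) i (π s) (fun hab => Subgroup.map_mono (L_anti hab))
        ?_ ?_ ?_ ?_ ?_ ?_ (mem_map_of_mem π hx) (fun hh => hx' ((hge _ (by omega) (by omega) x).1 hh))
      · obtain ⟨hexp, hxj, hxj'⟩ := hpl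
        rw [← map_pow, show i + p - 1 = j by omega, hge _ (by omega) (by omega)] at hxj
        rw [← map_pow, show i + p = j + 1 by omega, hge _ (by omega) (by omega)] at hxj'
        refine haj ((h.mem_C_iff hj hxj hxj').2 ?_)
        refine (QuotientGroup.eq_one_iff _).1 ?_
        show π ⁅a, x ^ p⁆ = 1
        rw [map_commutatorElement, commutatorElement_eq_one_iff_mul_comm]
        have hc : ⁅a, x⁆ ∈ L G (i + 2) :=
          ((hC i (by omega) (by omega)).ge ha : a ∈ C G i) x hx
        have hcp : π ⁅a, x⁆ ^ p = 1 := hexp _ (mem_map_of_mem π hc)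
        have hcx : Commute (π ⁅a, x⁆) (π x) := by
          rw [Commute, SemiconjBy, ← commutatorElement_eq_one_iff_mul_comm, ← map_commutatorElement,
            QuotientGroup.mk'_apply, QuotientGroup.eq_one_iff]
          exact L_anti (by omega) (MaxDeg.comm_le (by omega) (by omega) (commutator_mem_commutator hc hx))
        have hconj : π a * π x * (π a)⁻¹ = π ⁅a, x⁆ * π x := by
          rw [← map_mul π ⁅a, x⁆ x]; simp [commutatorElement_def]
        have : π a * π (x ^ p) * (π a)⁻¹ = π (x ^ p) := by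
          rw [map_pow, ← conj_pow, hconj, hcx.mul_pow, hcp, one_mul]
        calc π a * π (x ^ p) = π a * π (x ^ p) * (π a)⁻¹ * π a := by group
          _ = π (x ^ p) * π a := by rw [this]
      · rintro _ ⟨y, hy, rfl⟩ _ ⟨z, hz, rfl⟩
        rw [← commutatorElement_eq_one_iff_mul_comm, ← map_commutatorElement, QuotientGroup.mk'_apply,
          QuotientGroup.eq_one_iff]
        exact L_anti (by omega) (MaxDeg.comm_le (by omega) (by omega) (commutator_mem_commutator hy hz))
      · rw [Subgroup.map_eq_bot_iff, QuotientGroup.ker_mk', show i + p + 1 = j + 2 by omega]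
      · rintro k hk _ ⟨y, hy, rfl⟩
        rw [← map_commutatorElement]
        exact mem_map_of_mem _ (step (by omega) hy s)
      · rintro k hk hk' _ ⟨y, hy, rfl⟩ hy' hh
        rw [← map_commutatorElement, hge _ (by omega) (by omega)] at hh
        exact h.strict (by omega) hs1 (fun h2 => hs _ h2 (by omega)) hy (fun h' => hy' (mem_map_of_mem _ h')) hh
      · rintro k hk _ ⟨y, hy, rfl⟩ hy'
        rw [← MonoidHom.map_zpowers, ← Subgroup.map_sup]
        exact Subgroup.map_mono (h.gen (by omega) hy fun h' => hy' (mem_map_of_mem _ h'))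
      · rintro _ ⟨y, hy, rfl⟩
        rw [← map_pow, ← commutatorElement_eq_one_iff_mul_comm, ← map_commutatorElement, QuotientGroup.mk'_apply,
          QuotientGroup.eq_one_iff]
        exact L_anti (by omega) (MaxDeg.comm_le (by omega) (by omega) (commutator_mem_commutator hspow hy))

theorem mem_C (h : IsMC G p n) {i : ℕ} (hi : 2 ≤ i) (hin : i ≤ n - 3) {g x : G} (hg : g ∈ L G 1)
    (hx : x ∈ L G i) : ⁅g, x⁆ ∈ L G (i + 2) :=
  ((h.C_eq i hi hin).ge hg : g ∈ C G i) x hx

/-- Elements outside `S₁` shift every layer below the top one strictly. -/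
theorem strict' (h : IsMC G p n) {k : ℕ} (hk : 1 ≤ k) (hkn : k ≤ n - 3) {s : G} (hs1 : s ∉ L G 1)
    {x : G} (hx : x ∈ L G k) (hx' : x ∉ L G (k + 1)) : ⁅s, x⁆ ∉ L G (k + 2) :=
  h.strict hk hs1 (fun h2 => by rw [h.C_eq k h2 hkn]; exact hs1) hx hx'

/-- If the top two-step centralizer differs from `S₁`, then `n` is even and `γ₂` does not centralize `γ_{n-3}`. -/
theorem exceptional (h : IsMC G p n) (hne : C G (n - 2) ≠ L G 1) :
    Even n ∧ ∀ e₂ ∈ L G 2, e₂ ∉ L G 3 → ∀ x ∈ L G (n - 3), x ∉ L G (n - 2) → ⁅e₂, x⁆ ≠ 1 := by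
  have := h.hn
  have hij : (C G (n - 2)).index = p := h.index_C (by omega) le_rfl
  obtain ⟨a, ha, haj⟩ : ∃ a ∈ L G 1, a ∉ C G (n - 2) := SetLike.not_le_iff_exists.1 fun hle => hne
    (Subgroup.eq_of_le_of_card_ge hle (by
      have h1 := Subgroup.card_mul_index (C G (n - 2))
      have h2 := Subgroup.card_mul_index (L G 1)
      rw [hij] at h1
      rw [h.index_one] at h2
      exact (Nat.eq_of_mul_eq_mul_right hpf.out.pos (h1.trans h2.symm)).le)).symm
  have ha' : a ∉ L G 2 := fun hh => haj (L_two_le_C (by omega) hh)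
  obtain ⟨s, hs1, hsj, -⟩ := h.exists_avoid h.index_one hij h.index_one
  have hC : ∀ i, 2 ≤ i → i < n - 2 → C G i = L G 1 := fun i hi hin => h.C_eq i hi (by omega)
  have hs : ∀ k, 2 ≤ k → k < n - 1 → s ∉ C G k := fun k hk hkn => by
    rcases Nat.lt_or_ge k (n - 2) with hlt | hge
    · rw [hC k hk hlt]; exact hs1
    · obtain rfl : k = n - 2 := by omega
      exact hsj
  have hR := h.toRel (j := n - 2) (by omega) (by omega) hC hs1 (fun k hk hkn => hs k hk (by omega)) ha ha' haj
  refine ⟨?_, fun e₂ he he' x hx hx' hcomm => hR.second (by omega) ?_⟩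
  · obtain ⟨r, hr⟩ := hR.even
    exact ⟨r + 1, by omega⟩
  · have hbot : ∀ {u v : ℕ}, 1 ≤ u → 1 ≤ v → n ≤ u + v → ∀ {y z : G}, y ∈ L G u → z ∈ L G v → y * z = z * y := by
      intro u v hu hv huv y z hy hz
      rw [← commutatorElement_eq_one_iff_mul_comm, ← Subgroup.mem_bot, ← h.L_bot huv]
      exact MaxDeg.comm_le hu hv (commutator_mem_commutator hy hz)
    have hall : ∀ y ∈ L G 2, ∀ z ∈ L G (n - 3), y * z = z * y := by
      intro y hy z hz
      obtain ⟨k, w, hw, rfl⟩ := h.exists_rep (by omega) he he' hy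
      obtain ⟨l, w', hw', rfl⟩ := h.exists_rep (by omega : 1 ≤ n - 3) hx
        (by rwa [show n - 3 + 1 = n - 2 by omega]) hz
      rw [show n - 3 + 1 = n - 2 by omega] at hw'
      have c1 : Commute e₂ x := commutatorElement_eq_one_iff_mul_comm.1 hcomm
      have c2 : Commute e₂ w' := hbot (by omega) (by omega) (by omega : n ≤ 2 + (n - 2)) he hw'
      have c3 : Commute w x := hbot (by omega) (by omega) (by omega : n ≤ 3 + (n - 3)) hw hx
      have c4 : Commute w w' := hbot (by omega) (by omega) (by omega : n ≤ 3 + (n - 2)) hw hw'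
      exact (((c1.zpow_zpow k l).mul_right (c2.zpow_left k)).mul_left ((c3.zpow_right l).mul_right c4)).eq
    rw [← map_commutatorElement, commutatorElement_eq_one_iff_mul_comm.2 (hall _
      (h.chain_mem hs1 hs ha ha' 2 (by omega)).1 _ (by
        rw [show n - 2 - 1 = n - 3 by omega]; exact (h.chain_mem hs1 hs ha ha' (n - 3) (by omega)).1)), map_one]
    exact one_mem _

end IsMC

end CfsgLib.PGroup.MaxDeg
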