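import Cfsg.Agent.Lib.Fusion.MaxClass
import Cfsg.Agent.Lib.PGroup.PolySeq

/-! The series `⊤, S₁, γ₂, γ₃, …` of a group of maximal class and its two-step centralizers. -/

set_option autoImplicit false

namespace CfsgLib.PGroup.MaxDeg

open Subgroup
open scoped commutatorElement

variable {G : Type*} [Group G]

/-- Elements commuting with `A` modulo the normal subgroup `B`. -/
def two (A B : Subgroup G) [B.Normal] : Subgroup G where
  carrier := {g | ∀ x ∈ A, ⁅g, x⁆ ∈ B}
  one_mem' := fun x _ => by simp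
  mul_mem' := fun {g h} hg hh x hx => by
    show ⁅g * h, x⁆ ∈ B
    rw [show ⁅g * h, x⁆ = g * ⁅h, x⁆ * g⁻¹ * ⁅g, x⁆ by simp [commutatorElement_def, mul_assoc]]
    exact mul_mem (‹B.Normal›.conj_mem _ (hh x hx) g) (hg x hx)
  inv_mem' := fun {g} hg x hx => by
    show ⁅g⁻¹, x⁆ ∈ B
    rw [show ⁅g⁻¹, x⁆ = g⁻¹ * ⁅g, x⁆⁻¹ * g⁻¹⁻¹ by simp [commutatorElement_def, mul_assoc]]
    exact ‹B.Normal›.conj_mem _ (inv_mem (hg x hx)) _

theorem two_normal (A B : Subgroup G) [A.Normal] [B.Normal] : (two A B).Normal := ⟨fun g hg y x hx => by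
  show ⁅y * g * y⁻¹, x⁆ ∈ B
  rw [show ⁅y * g * y⁻¹, x⁆ = y * ⁅g, y⁻¹ * x * y⁆ * y⁻¹ by simp [commutatorElement_def, mul_assoc]]
  exact ‹B.Normal›.conj_mem _ (hg _ (by simpa using ‹A.Normal›.conj_mem _ hx y⁻¹)) y⟩

theorem lcs_normal' (k : ℕ) : ((⊤ : Subgroup G).lowerCentralSeries k).Normal := by
  induction k with
  | zero => rw [Subgroup.lowerCentralSeries_zero]; infer_instance
  | succ k ih => rw [Subgroup.lowerCentralSeries_succ]; exact Subgroup.commutator_normal _ _

/-- The series `⊤, S₁, γ₂, γ₃, …` in the classical numbering. -/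
def L (G : Type*) [Group G] : ℕ → Subgroup G
  | 0 => ⊤
  | 1 => haveI := lcs_normal' (G := G) 3
    two ((⊤ : Subgroup G).lowerCentralSeries 1) ((⊤ : Subgroup G).lowerCentralSeries 3)
  | i + 2 => (⊤ : Subgroup G).lowerCentralSeries (i + 1)

theorem L_eq {i : ℕ} (hi : 2 ≤ i) : L G i = (⊤ : Subgroup G).lowerCentralSeries (i - 1) := by
  obtain ⟨k, rfl⟩ := Nat.exists_eq_add_of_le' hi
  rw [show k + 2 - 1 = k + 1 by omega]
  rfl

instance L_normal : ∀ i : ℕ, (L G i).Normal
  | 0 => by rw [L]; infer_instance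
  | 1 => by
    haveI := lcs_normal' (G := G) 1
    haveI := lcs_normal' (G := G) 3
    exact two_normal _ _
  | i + 2 => lcs_normal' (i + 1)

/-- The two-step centralizer of the `i`-th layer. -/
def C (G : Type*) [Group G] (i : ℕ) : Subgroup G := two (L G i) (L G (i + 2))

instance C_normal (i : ℕ) : (C G i).Normal := two_normal _ _

theorem C_two : C G 2 = L G 1 := rfl

theorem L_two : L G 2 = commutator G := by rw [L_eq le_rfl]; exact Subgroup.top_lowerCentralSeries_one

theorem L_succ {i : ℕ} (hi : 2 ≤ i) : L G (i + 1) = ⁅L G i, (⊤ : Subgroup G)⁆ := by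
  rw [L_eq hi, L_eq (by omega), show i + 1 - 1 = i - 1 + 1 by omega, Subgroup.lowerCentralSeries_succ]

theorem comm_L_L {a b : ℕ} (ha : 2 ≤ a) (hb : 2 ≤ b) : ⁅L G a, L G b⁆ ≤ L G (a + b) := by
  rw [L_eq ha, L_eq hb, L_eq (by omega), show a + b - 1 = a - 1 + (b - 1) + 1 by omega]
  exact PolySeq.commutator_lcs_le _ _

theorem comm_top {i : ℕ} (hi : 1 ≤ i) : ⁅L G i, (⊤ : Subgroup G)⁆ ≤ L G (i + 1) := by
  rcases Nat.lt_or_ge i 2 with h | h
  · obtain rfl : i = 1 := by omega
    rw [L_two, commutator_def]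
    exact commutator_mono le_top le_rfl
  · rw [L_succ h]

theorem comm_le {a b : ℕ} (ha : 1 ≤ a) (hb : 1 ≤ b) : ⁅L G a, L G b⁆ ≤ L G (a + b) := by
  rcases Nat.lt_or_ge a 2 with h | h
  · obtain rfl : a = 1 := by omega
    rw [commutator_comm, add_comm]
    exact (commutator_mono le_rfl le_top).trans (comm_top hb)
  rcases Nat.lt_or_ge b 2 with h' | h'
  · obtain rfl : b = 1 := by omega
    exact (commutator_mono le_rfl le_top).trans (comm_top ha)
  exact comm_L_L h h'

theorem L_two_le_C {i : ℕ} (hi : 2 ≤ i) : L G 2 ≤ C G i := fun g hg x hx => by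
  rw [show i + 2 = 2 + i by omega]
  exact comm_L_L le_rfl hi (commutator_mem_commutator hg hx)

theorem L_le_one {i : ℕ} (hi : 1 ≤ i) : L G i ≤ L G 1 := by
  rcases Nat.lt_or_ge i 2 with h | h
  · obtain rfl : i = 1 := by omega
    exact le_rfl
  refine le_trans ?_ (C_two (G := G) ▸ L_two_le_C le_rfl)
  rw [L_eq h, L_eq le_rfl]
  exact Subgroup.lowerCentralSeries_antitone _ (by omega)

theorem L_anti {a b : ℕ} (h : a ≤ b) : L G b ≤ L G a := by
  rcases Nat.eq_zero_or_pos a with rfl | ha
  · exact le_top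
  rcases Nat.lt_or_ge a 2 with h2 | h2
  · obtain rfl : a = 1 := by omega
    exact L_le_one h
  rw [L_eq h2, L_eq (h2.trans h)]
  exact Subgroup.lowerCentralSeries_antitone _ (by omega)

theorem step {i : ℕ} (hi : 1 ≤ i) {x : G} (hx : x ∈ L G i) (g : G) : ⁅g, x⁆ ∈ L G (i + 1) := by
  rw [← commutatorElement_inv]
  exact inv_mem (comm_top hi (commutator_mem_commutator hx (mem_top g)))

/-- An automorphism maps each term of the series to itself. -/
theorem map_mem_L (T : MulAut G) : ∀ {i : ℕ} {x : G}, x ∈ L G i → T x ∈ L G i := by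
  have hlcs : ∀ k, ∀ x ∈ (⊤ : Subgroup G).lowerCentralSeries k,
      T x ∈ (⊤ : Subgroup G).lowerCentralSeries k := fun k x hx => by
    have h := Subgroup.map_lowerCentralSeries (⊤ : Subgroup G) T.toMonoidHom k
    rw [Subgroup.map_top_of_surjective _ T.surjective] at h
    exact h.le ⟨x, hx, rfl⟩
  rintro (_ | _ | i) x hx
  · trivial
  · intro y hy
    obtain ⟨z, rfl⟩ := T.surjective y
    have hz : z ∈ (⊤ : Subgroup G).lowerCentralSeries 1 := by
      have h := Subgroup.map_lowerCentralSeries (⊤ : Subgroup G) T.symm.toMonoidHom 1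
      rw [Subgroup.map_top_of_surjective _ T.symm.surjective] at h
      simpa using h.le ⟨T z, hy, rfl⟩
    rw [← map_commutatorElement]
    exact hlcs 3 _ (hx z hz)
  · exact hlcs _ _ hx

variable (G) in
/-- `G` is a `p`-group of maximal class of order `p ^ n`. -/
structure IsMC (p n : ℕ) : Prop where
  hp : 5 ≤ p
  hn : 5 ≤ n
  card : Nat.card G = p ^ n
  ne : (⊤ : Subgroup G).lowerCentralSeries (n - 2) ≠ ⊥

variable {p : ℕ} [hpf : Fact p.Prime] [Finite G] {n : ℕ}

namespace IsMC

theorem isPGroup (h : IsMC G p n) : IsPGroup p G := IsPGroup.of_card h.card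

theorem card_lcs (h : IsMC G p n) : ∀ k, 1 ≤ k → k ≤ n - 1 →
    Nat.card ((⊤ : Subgroup G).lowerCentralSeries k) = p ^ (n - k - 1) := by
  have hne : ∀ k ≤ n - 2, (⊤ : Subgroup G).lowerCentralSeries k ≠ ⊥ := fun k hk e =>
    h.ne (le_bot_iff.1 (e ▸ Subgroup.lowerCentralSeries_antitone _ hk))
  have hlow : ∀ d k, k + d = n - 1 → p ^ d ≤ Nat.card ((⊤ : Subgroup G).lowerCentralSeries k) := by
    intro d
    induction d with
    | zero => intro k _; rw [pow_zero]; exact Nat.card_pos
    | succ d ih =>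
      intro k hk
      calc p ^ (d + 1) = p * p ^ d := pow_succ' p d
        _ ≤ p * Nat.card ((⊤ : Subgroup G).lowerCentralSeries (k + 1)) := Nat.mul_le_mul_left _ (ih _ (by omega))
        _ ≤ _ := Fusion.MaxClass.card_mul_le_of_lt h.isPGroup
          (Fusion.MaxClass.lcs_strict h.isPGroup (hne k (by omega)))
  intro k hk1 hk
  refine le_antisymm ?_ (hlow _ _ (by omega))
  obtain ⟨i, rfl⟩ : ∃ i, k = i + 1 := ⟨k - 1, by omega⟩
  rcases Fusion.MaxClass.card_lcs_le h.isPGroup (by linarith [h.hn]) h.card i with e | e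
  · rw [e, Subgroup.card_bot]
    exact Nat.one_le_pow _ _ hpf.out.pos
  · refine Nat.le_of_mul_le_mul_left (le_trans e ?_) (pow_pos hpf.out.pos (i + 2))
    rw [← pow_add]
    exact Nat.pow_le_pow_right hpf.out.pos (by omega)

theorem card_L (h : IsMC G p n) {i : ℕ} (hi : 2 ≤ i) (hin : i ≤ n) : Nat.card (L G i) = p ^ (n - i) := by
  rw [L_eq hi, h.card_lcs _ (by omega) (by omega)]
  congr 1
  omega

theorem L_bot (h : IsMC G p n) {i : ℕ} (hi : n ≤ i) : L G i = ⊥ := by
  refine le_bot_iff.1 ((L_anti hi).trans_eq ?_)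
  exact (Subgroup.card_eq_one.1 (by rw [h.card_L (by linarith [h.hn]) le_rfl, Nat.sub_self, pow_zero]))

theorem L_lt (h : IsMC G p n) {i : ℕ} (hi : 2 ≤ i) (hin : i < n) : L G (i + 1) < L G i := by
  refine lt_of_le_of_ne (L_anti (by omega)) fun e => ?_
  have := congrArg (fun K : Subgroup G => Nat.card K) e
  simp only [h.card_L (by omega : 2 ≤ i + 1) (by omega), h.card_L hi hin.le] at this
  have := Nat.pow_right_injective hpf.out.two_le this
  omega

theorem index_C (h : IsMC G p n) {i : ℕ} (hi : 2 ≤ i) (hin : i ≤ n - 2) : (C G i).index = p := by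
  classical
  have := h.hn
  obtain ⟨a, ha, ha'⟩ := SetLike.exists_of_lt (h.L_lt hi (by omega))
  have hgen : L G i ≤ zpowers a ⊔ L G (i + 1) := by
    refine (Subgroup.eq_of_le_of_card_ge (sup_le (zpowers_le.2 ha) (L_anti (by omega))) ?_).ge
    refine le_trans ?_ (Fusion.MaxClass.card_mul_le_of_lt h.isPGroup (lt_of_le_not_ge le_sup_right
      fun e => ha' (e (mem_sup_left (mem_zpowers a)))))
    rw [h.card_L hi (by omega), h.card_L (by omega) (by omega), ← pow_succ']
    exact Nat.pow_le_pow_right hpf.out.pos (by omega)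
  let π := QuotientGroup.mk' (L G (i + 2))
  have hc : ∀ x ∈ L G (i + 1), ∀ g : G, Commute (π x) (π g) := fun x hx g => by
    rw [Commute, SemiconjBy, ← commutatorElement_eq_one_iff_mul_comm, ← map_commutatorElement,
      QuotientGroup.mk'_apply, QuotientGroup.eq_one_iff]
    exact comm_top (by omega) (commutator_mem_commutator hx (mem_top g))
  let φ : G →* G ⧸ L G (i + 2) := MonoidHom.mk' (fun g => π ⁅g, a⁆) fun g k => by
    rw [show ⁅g * k, a⁆ = g * ⁅k, a⁆ * g⁻¹ * ⁅g, a⁆ by simp [commutatorElement_def, mul_assoc], map_mul,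
      map_mul, map_mul, ← (hc _ (step (by omega) ha k) g).eq, map_inv, mul_inv_cancel_right]
    exact hc _ (step (by omega) ha k) _
  have hker : φ.ker = C G i := by
    ext g
    refine ⟨fun hg x hx => ?_, fun hg => (QuotientGroup.eq_one_iff _).2 (hg a ha)⟩
    obtain ⟨_, hz, w, hw, rfl⟩ := Subgroup.mem_sup_of_normal_right.1 (hgen hx)
    obtain ⟨m, rfl⟩ := mem_zpowers_iff.1 hz
    have h1 : Commute (π g) (π a) := by
      rw [Commute, SemiconjBy, ← commutatorElement_eq_one_iff_mul_comm, ← map_commutatorElement]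
      exact hg
    refine (QuotientGroup.eq_one_iff _).1 ?_
    show π ⁅g, a ^ m * w⁆ = 1
    rw [map_commutatorElement, commutatorElement_eq_one_iff_mul_comm, map_mul, map_zpow]
    exact ((h1.zpow_right m).mul_right (hc w hw g).symm).eq
  have hne : C G i ≠ ⊤ := fun e => by
    refine (h.L_lt (show 2 ≤ i + 1 by omega) (by omega)).not_ge ?_
    rw [L_succ hi, Subgroup.commutator_comm, commutator_le]
    exact fun g _ x hx => (e.ge (mem_top g) : g ∈ C G i) x hx
  have hle : φ.range ≤ (L G (i + 1)).map π := by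
    rintro _ ⟨g, rfl⟩
    exact mem_map_of_mem _ (step (by omega) ha g)
  have hcard : Nat.card ((L G (i + 1)).map π) = p := by
    have h1 : Nat.card ((L G (i + 1)).map π) * Nat.card (L G (i + 2)) = Nat.card (L G (i + 1)) := by
      rw [← Subgroup.relIndex_bot_left, ← Subgroup.relIndex_bot_left, ← Subgroup.relIndex_bot_left,
        ← Subgroup.relIndex_comap, MonoidHom.comap_bot, QuotientGroup.ker_mk', mul_comm,
        Subgroup.relIndex_mul_relIndex _ _ _ bot_le (L_anti (by omega))]
    rw [h.card_L (by omega) (by omega), h.card_L (by omega) (by omega),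
      show n - (i + 1) = n - (i + 2) + 1 by omega, pow_succ'] at h1
    exact Nat.eq_of_mul_eq_mul_right (pow_pos hpf.out.pos _) h1
  rw [← hker, Subgroup.index_ker]
  have hdvd : Nat.card φ.range ∣ p := hcard ▸ Subgroup.card_dvd_of_le hle
  exact ((Nat.dvd_prime hpf.out).1 hdvd).resolve_left fun e =>
    hne (by rw [← hker, ← Subgroup.index_eq_one, Subgroup.index_ker, e])

theorem index_one (h : IsMC G p n) : (L G 1).index = p := C_two (G := G) ▸ h.index_C le_rfl (by linarith [h.hn, Nat.sub_add_cancel (show 2 ≤ n by linarith [h.hn])])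

theorem card_one (h : IsMC G p n) : Nat.card (L G 1) = p ^ (n - 1) := by
  have h1 := Subgroup.card_mul_index (L G 1)
  rw [h.index_one, h.card, show n = n - 1 + 1 by have := h.hn; omega, pow_succ] at h1
  exact Nat.eq_of_mul_eq_mul_right hpf.out.pos h1

theorem card_L' (h : IsMC G p n) {i : ℕ} (hi : 1 ≤ i) (hin : i ≤ n) : Nat.card (L G i) = p ^ (n - i) := by
  rcases Nat.lt_or_ge i 2 with h' | h'
  · obtain rfl : i = 1 := by omega
    exact h.card_one
  · exact h.card_L h' hin

theorem L_lt' (h : IsMC G p n) {i : ℕ} (hi : 1 ≤ i) (hin : i < n) : L G (i + 1) < L G i := by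
  refine lt_of_le_of_ne (L_anti (by omega)) fun e => ?_
  have := congrArg (fun K : Subgroup G => Nat.card K) e
  simp only [h.card_L' (by omega : 1 ≤ i + 1) (by omega), h.card_L' hi hin.le] at this
  have := Nat.pow_right_injective hpf.out.two_le this
  omega

/-- An element of a layer generates it over the next one. -/
theorem gen (h : IsMC G p n) {i : ℕ} (hi : 1 ≤ i) {x : G} (hx : x ∈ L G i) (hx' : x ∉ L G (i + 1)) :
    L G i ≤ zpowers x ⊔ L G (i + 1) := by
  by_cases hin : n ≤ i
  · rw [h.L_bot hin]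
    exact bot_le
  refine (Subgroup.eq_of_le_of_card_ge (sup_le (zpowers_le.2 hx) (L_anti (by omega))) ?_).ge
  refine le_trans ?_ (Fusion.MaxClass.card_mul_le_of_lt h.isPGroup (lt_of_le_not_ge le_sup_right
    fun e => hx' (e (mem_sup_left (mem_zpowers x)))))
  rw [h.card_L' hi (by omega), h.card_L' (by omega) (by omega), ← pow_succ']
  exact Nat.pow_le_pow_right hpf.out.pos (by omega)

theorem exists_rep (h : IsMC G p n) {i : ℕ} (hi : 1 ≤ i) {x y : G} (hx : x ∈ L G i) (hx' : x ∉ L G (i + 1))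
    (hy : y ∈ L G i) : ∃ (k : ℤ) (w : G), w ∈ L G (i + 1) ∧ y = x ^ k * w := by
  obtain ⟨_, hz, w, hw, rfl⟩ := Subgroup.mem_sup_of_normal_right.1 (h.gen hi hx hx' hy)
  obtain ⟨k, rfl⟩ := mem_zpowers_iff.1 hz
  exact ⟨k, w, hw, rfl⟩

theorem mem_C_iff (h : IsMC G p n) {i : ℕ} (hi : 2 ≤ i) {g x : G} (hx : x ∈ L G i) (hx' : x ∉ L G (i + 1)) :
    g ∈ C G i ↔ ⁅g, x⁆ ∈ L G (i + 2) := by
  refine ⟨fun hg => hg x hx, fun hg y hy => ?_⟩
  obtain ⟨k, w, hw, rfl⟩ := h.exists_rep (by omega) hx hx' hy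
  let π := QuotientGroup.mk' (L G (i + 2))
  have h1 : Commute (π g) (π x) := by
    rw [Commute, SemiconjBy, ← commutatorElement_eq_one_iff_mul_comm, ← map_commutatorElement,
      QuotientGroup.mk'_apply, QuotientGroup.eq_one_iff]
    exact hg
  have h2 : Commute (π g) (π w) := by
    rw [Commute, SemiconjBy, ← commutatorElement_eq_one_iff_mul_comm, ← map_commutatorElement,
      QuotientGroup.mk'_apply, QuotientGroup.eq_one_iff]
    exact step (by omega) hw g
  refine (QuotientGroup.eq_one_iff _).1 ?_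
  show π ⁅g, x ^ k * w⁆ = 1
  rw [map_commutatorElement, commutatorElement_eq_one_iff_mul_comm, map_mul, map_zpow]
  exact ((h1.zpow_right k).mul_right h2).eq

/-- A subgroup of index `p` above `γ₂` is generated over `γ₂` by any element outside it. -/
theorem gen_maximal (h : IsMC G p n) {K : Subgroup G} (hK : K.index = p) (hK2 : L G 2 ≤ K) {k : G}
    (hk : k ∈ K) (hk2 : k ∉ L G 2) : K ≤ zpowers k ⊔ L G 2 := by
  have hKc : Nat.card K = p ^ (n - 1) := by
    have h1 := Subgroup.card_mul_index K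
    rw [hK, h.card, show n = n - 1 + 1 by have := h.hn; omega, pow_succ] at h1
    exact Nat.eq_of_mul_eq_mul_right hpf.out.pos h1
  refine (Subgroup.eq_of_le_of_card_ge (sup_le (zpowers_le.2 hk) hK2) ?_).ge
  refine le_trans ?_ (Fusion.MaxClass.card_mul_le_of_lt h.isPGroup (lt_of_le_not_ge le_sup_right
    fun e => hk2 (e (mem_sup_left (mem_zpowers k)))))
  rw [hKc, h.card_L le_rfl (by linarith [h.hn]), ← pow_succ']
  exact Nat.pow_le_pow_right hpf.out.pos (by have := h.hn; omega)

/-- Two elements generating the group modulo `γ₂` have commutator outside `γ₃`. -/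
theorem comm_notMem_three (h : IsMC G p n) {K : Subgroup G} [K.Normal] (hK : K.index = p) (hK2 : L G 2 ≤ K)
    {g k : G} (hg : g ∉ K) (hk : k ∈ K) (hk2 : k ∉ L G 2) : ⁅g, k⁆ ∉ L G 3 := by
  intro hgk
  have := h.hn
  have htop : zpowers g ⊔ K = ⊤ := by
    refine Subgroup.index_eq_one.1 (((Nat.dvd_prime hpf.out).1 (hK ▸ Subgroup.index_dvd_of_le le_sup_right)).resolve_right
      fun e => hg ?_)
    have he : K = zpowers g ⊔ K := Subgroup.eq_of_le_of_card_ge le_sup_right (by
      have h1 := Subgroup.card_mul_index (zpowers g ⊔ K)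
      have h2 := Subgroup.card_mul_index K
      rw [e] at h1
      rw [hK] at h2
      exact (Nat.eq_of_mul_eq_mul_right hpf.out.pos (h1.trans h2.symm)).le)
    exact he ▸ mem_sup_left (mem_zpowers g)
  let π := QuotientGroup.mk' (L G 3)
  let Z := ((Subgroup.center (G ⧸ L G 3)).comap π)
  have hgk' : Commute (π g) (π k) := by
    rw [Commute, SemiconjBy, ← commutatorElement_eq_one_iff_mul_comm, ← map_commutatorElement,
      QuotientGroup.mk'_apply, QuotientGroup.eq_one_iff]
    exact hgk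
  have h2Z : L G 2 ≤ Z := fun x hx => by
    refine Subgroup.mem_center_iff.2 fun q => ?_
    obtain ⟨y, rfl⟩ := QuotientGroup.mk'_surjective (L G 3) q
    rw [← commutatorElement_eq_one_iff_mul_comm, ← map_commutatorElement, QuotientGroup.mk'_apply,
      QuotientGroup.eq_one_iff]
    exact step (by omega) hx y
  let cen := fun a : G => (Subgroup.centralizer ({π a} : Set (G ⧸ L G 3))).comap π
  have h2c : ∀ a, L G 2 ≤ cen a := fun a x hx =>
    Subgroup.mem_centralizer_singleton_iff.2 (Subgroup.mem_center_iff.1 (h2Z hx) (π a)).symm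
  have hKk : K ≤ cen k := (h.gen_maximal hK hK2 hk hk2).trans
    (sup_le (zpowers_le.2 (Subgroup.mem_centralizer_singleton_iff.2 rfl)) (h2c k))
  have hk' : k ∈ Z := by
    have hall : ⊤ ≤ cen k := htop.ge.trans (sup_le (zpowers_le.2 (Subgroup.mem_centralizer_singleton_iff.2 hgk'.eq)) hKk)
    refine Subgroup.mem_center_iff.2 fun q => ?_
    obtain ⟨y, rfl⟩ := QuotientGroup.mk'_surjective (L G 3) q
    exact Subgroup.mem_centralizer_singleton_iff.1 (hall (mem_top y))
  have hg' : g ∈ Z := by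
    have hall : ⊤ ≤ cen g := htop.ge.trans (sup_le (zpowers_le.2 (Subgroup.mem_centralizer_singleton_iff.2 rfl))
      ((h.gen_maximal hK hK2 hk hk2).trans (sup_le (zpowers_le.2
        (Subgroup.mem_centralizer_singleton_iff.2 hgk'.symm.eq)) (h2c g))))
    refine Subgroup.mem_center_iff.2 fun q => ?_
    obtain ⟨y, rfl⟩ := QuotientGroup.mk'_surjective (L G 3) q
    exact Subgroup.mem_centralizer_singleton_iff.1 (hall (mem_top y))
  have hZ : ⊤ ≤ Z := htop.ge.trans (sup_le (zpowers_le.2 hg')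
    ((h.gen_maximal hK hK2 hk hk2).trans (sup_le (zpowers_le.2 hk') h2Z)))
  refine (h.L_lt le_rfl (by omega : 2 < n)).not_ge ?_
  rw [L_two, commutator_def, commutator_le]
  intro x _ y _
  refine (QuotientGroup.eq_one_iff _).1 ?_
  show π ⁅x, y⁆ = 1
  rw [map_commutatorElement, commutatorElement_eq_one_iff_mul_comm]
  exact (Subgroup.mem_center_iff.1 (hZ (mem_top x)) (π y)).symm

/-- `γ₂ = [S₁, G]`. -/
theorem two_le_comm (h : IsMC G p n) : L G 2 ≤ ⁅L G 1, (⊤ : Subgroup G)⁆ := by
  have := h.hn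
  set M := ⁅L G 1, (⊤ : Subgroup G)⁆ with hM
  haveI : M.Normal := Subgroup.commutator_normal _ _
  obtain ⟨a, ha, ha'⟩ := SetLike.exists_of_lt (h.L_lt' le_rfl (by omega : 1 < n))
  obtain ⟨s, -, hs⟩ := SetLike.exists_of_lt (lt_top_iff_ne_top.2 fun e : L G 1 = ⊤ => by
    have := h.index_one
    rw [e, Subgroup.index_top] at this
    exact hpf.out.one_lt.ne this)
  have hsa := h.comm_notMem_three h.index_one (L_le_one (by omega)) hs ha ha'
  have hbase : L G 2 ≤ M ⊔ L G 3 := (h.gen one_le_two (step le_rfl ha s) hsa).trans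
    (sup_le (le_sup_of_le_left (zpowers_le.2 (by
      rw [← commutatorElement_inv]
      exact inv_mem (commutator_mem_commutator ha (mem_top s))))) le_sup_right)
  have hind : ∀ k, 3 ≤ k → L G 2 ≤ M ⊔ L G k := by
    intro k hk
    induction k, hk using Nat.le_induction with
    | base => exact hbase
    | succ k hk ih =>
      refine hbase.trans (sup_le le_sup_left ?_)
      rw [L_succ le_rfl, commutator_le]
      intro x hx g _
      obtain ⟨m, hm, l, hl, rfl⟩ := Subgroup.mem_sup_of_normal_right.1 (ih hx)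
      rw [show ⁅m * l, g⁆ = m * ⁅l, g⁆ * m⁻¹ * ⁅m, g⁆ by simp [commutatorElement_def, mul_assoc]]
      refine mul_mem (mem_sup_right ((L_normal (k + 1)).conj_mem _ ?_ m)) (mem_sup_left ?_)
      · exact comm_top (by omega) (commutator_mem_commutator hl (mem_top g))
      · rw [show ⁅m, g⁆ = m * (g * m⁻¹ * g⁻¹) by simp [commutatorElement_def, mul_assoc]]
        exact mul_mem hm (‹M.Normal›.conj_mem _ (inv_mem hm) g)
  have := hind n (by omega)
  rwa [h.L_bot le_rfl, sup_bot_eq] at this

theorem L_succ_le (h : IsMC G p n) {a : ℕ} (ha : 1 ≤ a) : L G (a + 1) ≤ ⁅L G a, (⊤ : Subgroup G)⁆ := by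
  rcases Nat.lt_or_ge a 2 with h' | h'
  · obtain rfl : a = 1 := by omega
    exact h.two_le_comm
  · exact (L_succ h').le

/-- Commutators gain a degree below the first exceptional layer. -/
theorem comm_gain (h : IsMC G p n) {j : ℕ} (hj : j < n) (hC : ∀ i, 2 ≤ i → i < j → C G i = L G 1) :
    ∀ a b, 1 ≤ a → 1 ≤ b → a + b ≤ j → ⁅L G a, L G b⁆ ≤ L G (a + b + 1) := by
  intro a
  induction a with
  | zero => intro b h0; omega
  | succ a ih =>
    intro b _ hb hab
    rcases Nat.eq_zero_or_pos a with rfl | ha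
    · rw [commutator_le]
      intro x hx y hy
      rcases Nat.lt_or_ge b 2 with hb2 | hb2
      · obtain rfl : b = 1 := by omega
        obtain ⟨a₁, ha₁, ha₁'⟩ := SetLike.exists_of_lt (h.L_lt' le_rfl (by have := h.hn; omega : 1 < n))
        obtain ⟨k, w, hw, rfl⟩ := h.exists_rep le_rfl ha₁ ha₁' hx
        obtain ⟨l, w', hw', rfl⟩ := h.exists_rep le_rfl ha₁ ha₁' hy
        let π := QuotientGroup.mk' (L G 3)
        have hc : ∀ v ∈ L G 2, ∀ g : G, Commute (π g) (π v) := fun v hv g => by
          rw [Commute, SemiconjBy, ← commutatorElement_eq_one_iff_mul_comm, ← map_commutatorElement,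
            QuotientGroup.mk'_apply, QuotientGroup.eq_one_iff]
          exact step (by omega) hv g
        refine (QuotientGroup.eq_one_iff _).1 ?_
        show π ⁅a₁ ^ k * w, a₁ ^ l * w'⁆ = 1
        rw [map_commutatorElement, commutatorElement_eq_one_iff_mul_comm, map_mul, map_mul]
        exact ((((Commute.refl a₁).zpow_zpow k l).map π).mul_right (hc w' hw' _)).mul_left
          ((hc w hw _).symm.mul_right (hc w' hw' _)) |>.eq
      · rw [show 0 + 1 + b + 1 = b + 2 by omega]
        exact ((hC b hb2 (by omega)).ge hx : x ∈ C G b) y hy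
    · refine (commutator_mono (h.L_succ_le ha) le_rfl).trans (PolySeq.three_subgroups _ _ _ _ ?_ ?_)
      · refine le_trans (commutator_mono ((commutator_comm _ _).le.trans (comm_top hb)) le_rfl) ?_
        rw [commutator_comm, show a + 1 + b + 1 = a + (b + 1) + 1 by omega]
        exact ih (b + 1) ha (by omega) (by omega)
      · refine le_trans (commutator_mono ((commutator_comm _ _).le.trans (ih b ha hb (by omega))) le_rfl) ?_
        rw [show a + 1 + b + 1 = a + b + 1 + 1 by omega]
        exact comm_top (by omega)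

end IsMC

end CfsgLib.PGroup.MaxDeg
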