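import Cfsg.Agent.Lib.PGroup.MaxClassPower.Uniform
import Cfsg.Agent.Lib.Fusion.Alperin

/-!
# Uniform elements of a Sylow subgroup of maximal class, under fusion

A uniform element outside a normal subgroup `M` with `|P ∩ M| ≥ p²` is only fused to uniform elements, so
the Sylow subgroups of its centraliser have order `p²`.
-/

set_option autoImplicit false
set_option linter.style.haveILetI false

open Subgroup
open scoped commutatorElement

namespace CfsgLib.PGroup.MaxClassPower

open CfsgLib.Fusion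

variable {p : ℕ} [hp : Fact p.Prime]

section PGroup

variable {X : Type*} [Group X] [Finite X] {m : ℕ} (h : IsMax X p m)
include h

local notation "L" => Subgroup.lowerCentralSeries (⊤ : Subgroup X)

theorem IsMax.sup_L1_ne_top {A : Subgroup X} (hA : A ≠ ⊤) : A ⊔ L 1 ≠ ⊤ := by
  have hfr : L 1 ≤ frattini X := by
    rw [Subgroup.top_lowerCentralSeries_one, commutator_def, Subgroup.commutator_le]
    exact fun x _ y _ => CfsgLib.PGroup.Frattini.commutatorElement_mem_frattini h.isPGroup x y
  exact fun he => hA (frattini_nongenerating (top_le_iff.1 (he.ge.trans (sup_le_sup_left hfr A))))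

theorem IsMax.L1_ne_top : L 1 ≠ ⊤ := by
  intro he
  have hm := h.three_le
  have h1 := h.card_L le_rfl (by omega)
  rw [he, Subgroup.card_top, h.card] at h1
  exact absurd (Nat.pow_right_injective hp.out.two_le h1) (by omega)

theorem IsMax.card_le_of_ne_top {A : Subgroup X} (hA : A ≠ ⊤) : Nat.card A ≤ p ^ (m - 1) := by
  have h1 := MaxClass.card_mul_le_of_lt h.isPGroup (lt_top_iff_ne_top.2 hA)
  rw [Subgroup.card_top, h.card, show p ^ m = p * p ^ (m - 1) by
    rw [← pow_succ', Nat.sub_add_cancel (by have := h.three_le; omega)]] at h1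
  exact Nat.le_of_mul_le_mul_left h1 hp.out.pos

/-- A uniform element outside any given proper subgroup containing the derived group. -/
theorem IsMax.exists_uniform_avoiding {A : Subgroup X} (hA : A ≠ ⊤) (hA1 : L 1 ≤ A) :
    ∃ s : X, Good s (m - 3) ∧ s ∉ A := by
  have hp1 := hp.out.two_le
  have hm := h.three_le
  obtain ⟨s, hs⟩ := not_union_proper h.isPGroup (show min (m - 3) (p - 1) + 1 ≤ p by omega)
    (fun i : Fin (min (m - 3) (p - 1) + 1) => if (i : ℕ) = 0 then A else twoStep X i) (fun i => by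
      split_ifs with hi
      · exact hA
      · exact h.twoStep_ne_top (by have := i.2; omega))
  have hsA : s ∉ A := by simpa using hs ⟨0, by omega⟩
  refine ⟨s, ⟨fun e => hsA (hA1 e), fun i hi hik => ?_⟩, hsA⟩
  induction i using Nat.strong_induction_on with
  | _ i ih =>
    rcases Nat.lt_or_ge i p with hlt | hge
    · have h2 := hs ⟨i, by omega⟩
      simpa [show i ≠ 0 by omega] using h2
    · rw [show i = i - (p - 1) + (p - 1) by omega,
        ← periodic m X h (i - (p - 1)) (by omega) (by omega)]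
      exact ih _ (by omega) (by omega) (by omega)

/-- The subgroups of the derived group normalised by a uniform element are the terms of the series. -/
theorem IsMax.eq_L_of_invariant {s : X} (hs : Good s (m - 3)) {Y : Subgroup X} (hY : Y ≤ L 1)
    (hinv : ∀ y ∈ Y, ⁅y, s⁆ ∈ Y) : ∃ k, 1 ≤ k ∧ k ≤ m - 1 ∧ Y = L k := by
  classical
  have hm := h.three_le
  by_cases hb : Y = ⊥
  · exact ⟨m - 1, by omega, le_rfl, by rw [hb, h.L_bot le_rfl]⟩
  have hex : ∃ j, ¬ Y ≤ L j := ⟨m - 1, fun e => hb (le_bot_iff.1 (e.trans (h.L_bot le_rfl).le))⟩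
  have hjm : Nat.find hex ≤ m - 1 := Nat.find_le fun e => hb (le_bot_iff.1 (e.trans (h.L_bot le_rfl).le))
  have hj2 : 2 ≤ Nat.find hex := by
    rcases Nat.lt_or_ge (Nat.find hex) 2 with hlt | hge
    · refine absurd ?_ (Nat.find_spec hex)
      interval_cases hj : Nat.find hex
      · rw [Subgroup.lowerCentralSeries_zero]; exact le_top
      · exact hY
    · exact hge
  obtain ⟨k, hk⟩ : ∃ k, Nat.find hex = k + 1 := ⟨Nat.find hex - 1, by omega⟩
  have hYk : Y ≤ L k := not_not.1 (Nat.find_min hex (by omega))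
  have hYk1 : ¬ Y ≤ L (k + 1) := hk ▸ Nat.find_spec hex
  obtain ⟨c, hc, hc'⟩ := SetLike.not_le_iff_exists.1 hYk1
  have hrep : ∀ d, k + d ≤ m - 2 → ∃ e ∈ Y, e ∈ L (k + d) ∧ e ∉ L (k + d + 1) := by
    intro d
    induction d with
    | zero => exact fun _ => ⟨c, hc, hYk hc, hc'⟩
    | succ d ih =>
      intro hd
      obtain ⟨e, he, he1, he2⟩ := ih (by omega)
      exact ⟨⁅e, s⁆, hinv e he, comm_mem_succ he1 s,
        h.comm_notMem (i := k + d) (by omega) (by omega) (hs.2 (k + d) (by omega) (by omega)) he1 he2⟩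
  have hdown : ∀ j i, k ≤ i → m - 1 ≤ i + j → L i ≤ Y := by
    intro j
    induction j with
    | zero => exact fun i _ hi => (h.L_bot hi).le.trans bot_le
    | succ j ih =>
      intro i hki hij
      rcases Nat.lt_or_ge i (m - 1) with hi | hi
      · obtain ⟨e, he, he1, he2⟩ := hrep (i - k) (by omega)
        rw [Nat.add_sub_cancel' hki] at he1 he2
        exact (h.layer (by omega) (by omega) he1 he2).trans
          (sup_le (zpowers_le.2 he) (ih (i + 1) (by omega) (by omega)))
      · exact (h.L_bot hi).le.trans bot_le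
  exact ⟨k, by omega, by omega, le_antisymm hYk (hdown (m - 1) k le_rfl (by omega))⟩

/-- A normal proper subgroup lies in the derived group or contains it. -/
theorem IsMax.normal_le_or (Y : Subgroup X) [Y.Normal] : Y ≤ L 1 ∨ L 1 ≤ Y := by
  by_cases hle : Y ≤ L 1
  · exact Or.inl hle
  right
  obtain ⟨w, hw, hw1⟩ := SetLike.not_le_iff_exists.1 hle
  obtain ⟨g, hg⟩ := h.exists_comm_notMem hw1
  have hgY : ⁅g, w⁆ ∈ Y ⊓ L 1 := by
    refine ⟨?_, comm_mem_succ (Subgroup.mem_top g : g ∈ L 0) w⟩
    rw [commutatorElement_def]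
    exact Y.mul_mem (‹Y.Normal›.conj_mem _ hw g) (Y.inv_mem hw)
  obtain ⟨s, hs⟩ := h.exists_uniform
  obtain ⟨k, hk1, -, hk⟩ := h.eq_L_of_invariant hs (inf_le_right : Y ⊓ L 1 ≤ L 1) fun y hy =>
    ⟨by
      rw [commutatorElement_def, mul_assoc, mul_assoc]
      refine mul_mem hy.1 ?_
      rw [← mul_assoc]
      exact ‹Y.Normal›.conj_mem _ (inv_mem hy.1) s,
    Subgroup.lowerCentralSeries_antitone _ (by omega) (comm_mem_succ hy.2 s)⟩
  rcases Nat.lt_or_ge k 2 with h2 | h2
  · obtain rfl : k = 1 := by omega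
    exact hk.ge.trans inf_le_left
  · exact absurd (Subgroup.lowerCentralSeries_antitone _ h2 (hk ▸ hgY)) hg

/-- The centraliser of a uniform element meets the derived group in at most `p` elements. -/
theorem IsMax.card_centralizer_inf_le {s : X} (hs : Good s (m - 3)) :
    Nat.card ↥(centralizer ({s} : Set X) ⊓ L 1) ≤ p := by
  have hm := h.three_le
  obtain ⟨k, hk1, hkm, hk⟩ := h.eq_L_of_invariant hs (inf_le_right : centralizer ({s} : Set X) ⊓ L 1 ≤ L 1)
    fun y hy => by
      rw [commutatorElement_eq_one_iff_mul_comm.2 (mem_centralizer_singleton_iff.1 hy.1)]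
      exact one_mem _
  have hk2 : m - 2 ≤ k := by
    by_contra hlt
    obtain ⟨w, hw, hw'⟩ := SetLike.exists_of_lt (h.L_lt (show k ≤ m - 2 by omega))
    have hws := h.comm_notMem hk1 (by omega) (hs.2 k hk1 (by omega)) hw hw'
    rw [← hk] at hw
    rw [commutatorElement_eq_one_iff_mul_comm.2 (mem_centralizer_singleton_iff.1 hw.1)] at hws
    exact hws (one_mem _)
  rw [hk]
  refine (Subgroup.card_le_of_le (Subgroup.lowerCentralSeries_antitone _ hk2)).trans (le_of_eq ?_)
  rw [h.card_L (by omega) (by omega), show m - 1 - (m - 2) = 1 by omega, pow_one]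

theorem IsMax.card_centralizer_le {s : X} (hs : Good s (m - 3)) :
    Nat.card ↥(centralizer ({s} : Set X)) ≤ p ^ 2 := by
  have hm := h.three_le
  set C := centralizer ({s} : Set X) with hC
  have hne : C ≠ ⊤ := fun e => by
    obtain ⟨w, hw⟩ := h.exists_comm_notMem hs.1
    rw [commutatorElement_eq_one_iff_mul_comm.2 (mem_centralizer_singleton_iff.1 (e.ge (mem_top w)))] at hw
    exact hw (one_mem _)
  have h1 := h.card_le_of_ne_top (h.sup_L1_ne_top hne)
  have h2 : Nat.card ↥(C ⊔ L 1) = (L 1).relIndex C * Nat.card (L 1) := by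
    rw [← Subgroup.relIndex_sup_right, ← relIndex_bot_left (L 1), mul_comm,
      relIndex_mul_relIndex _ _ _ bot_le le_sup_right, relIndex_bot_left]
  rw [h2, h.card_L le_rfl (by omega), show p ^ (m - 1) = p * p ^ (m - 1 - 1) by
    rw [← pow_succ', Nat.sub_add_cancel (by omega)]] at h1
  have h3 := Nat.le_of_mul_le_mul_right h1 (pow_pos hp.out.pos _)
  have h4 : (C ⊓ L 1).relIndex C * Nat.card ↥(C ⊓ L 1) = Nat.card C := by
    rw [← relIndex_bot_left (C ⊓ L 1), mul_comm, relIndex_mul_relIndex _ _ _ bot_le inf_le_left, relIndex_bot_left]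
  rw [← h4, inf_relIndex_left, pow_two]
  exact Nat.mul_le_mul h3 (h.card_centralizer_inf_le hs)

theorem IsMax.sq_le_card_centralizer {s : X} (hs : Good s (m - 3)) :
    p ^ 2 ≤ Nat.card ↥(centralizer ({s} : Set X)) := by
  have hm := h.three_le
  have hcard : Nat.card (L (m - 2)) = p := by
    rw [h.card_L (by omega) (by omega), show m - 1 - (m - 2) = 1 by omega, pow_one]
  have hle : L (m - 2) ≤ centralizer ({s} : Set X) := fun z hz =>
    mem_centralizer_singleton_iff.2 ((h.central_top hz).2 s).eq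
  have hlt : L (m - 2) < centralizer ({s} : Set X) := lt_of_le_not_ge hle fun e =>
    hs.1 (Subgroup.lowerCentralSeries_antitone _ (show 1 ≤ m - 2 by omega)
      (e (mem_centralizer_singleton_iff.2 rfl)))
  have := MaxClass.card_mul_le_of_lt h.isPGroup hlt
  rwa [hcard, ← pow_two] at this

/-- Being uniform depends only on the maximal subgroup over the derived group. -/
theorem IsMax.good_of_mem {E : Subgroup X} (hE : E ≠ ⊤) (hE1 : L 1 ≤ E) {s u : X} (hs : Good s (m - 3))
    (hsE : s ∈ E) (huE : u ∈ E) (hu : u ∉ L 1) : Good u (m - 3) := by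
  refine ⟨hu, fun i hi hik hui => hs.2 i hi hik ?_⟩
  have hlt : L 1 < twoStep X i ⊓ E :=
    lt_of_le_not_ge (le_inf (L1_le_twoStep i) hE1) fun e => hu (e ⟨hui, huE⟩)
  have hm := h.three_le
  have h1 := MaxClass.card_mul_le_of_lt h.isPGroup hlt
  rw [h.card_L le_rfl (by omega), show p * p ^ (m - 1 - 1) = p ^ (m - 1) by
    rw [← pow_succ', Nat.sub_add_cancel (by omega)]] at h1
  have he := Subgroup.eq_of_le_of_card_ge (inf_le_right : twoStep X i ⊓ E ≤ E)
    ((h.card_le_of_ne_top hE).trans h1)
  exact (he.ge hsE).1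

theorem IsMax.good_map (T : X ≃* X) {s : X} (hs : Good s (m - 3)) : Good (T s) (m - 3) := by
  have hL : ∀ (U : X ≃* X) k, ∀ x ∈ L k, U x ∈ L k := fun U k x hx => by
    have h' := Subgroup.map_lowerCentralSeries (⊤ : Subgroup X) U.toMonoidHom k
    rw [Subgroup.map_top_of_surjective _ U.surjective] at h'
    exact h'.le ⟨x, hx, rfl⟩
  refine ⟨fun e => hs.1 (by simpa using hL T.symm 1 _ e), fun i hi hik e => hs.2 i hi hik fun b hb => ?_⟩
  have h2 := hL T.symm (i + 2) _ (e (T b) (hL T i b hb))
  rwa [map_commutatorElement, MulEquiv.symm_apply_apply, MulEquiv.symm_apply_apply] at h2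

end PGroup

section Fusion

variable {G : Type*} [Group G]

/-- Conjugation by an element of the normaliser, as an automorphism of the subgroup. -/
def conjAutOn (T : Subgroup G) {x : G} (hx : x ∈ normalizer (T : Set G)) : T ≃* T where
  toFun t := ⟨x⁻¹ * t * x, by simpa using (mem_normalizer_iff.1 (inv_mem hx) _).1 t.2⟩
  invFun t := ⟨x * t * x⁻¹, (mem_normalizer_iff.1 hx _).1 t.2⟩
  left_inv t := Subtype.ext (by simp [mul_assoc])
  right_inv t := Subtype.ext (by simp [mul_assoc])
  map_mul' a b := Subtype.ext (by simp [mul_assoc])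

variable [Finite G] {n : ℕ} (P : Sylow p G) (h : IsMax P p n) (M : Subgroup G) [M.Normal]
include h

local notation "L" => Subgroup.lowerCentralSeries (⊤ : Subgroup P)

/-- One step of fusion keeps uniform elements outside `M` uniform. -/
theorem good_step (hQ2 : p ^ 2 ≤ Nat.card (M.subgroupOf (P : Subgroup G))) (R : Sylow p G) {x : G}
    (hx : x ∈ normalizer ((((P : Subgroup G) ⊓ (R : Subgroup G)) : Subgroup G) : Set G))
    {u : P} (hu : Good u (n - 3)) (huM : (u : G) ∉ M) (huR : (u : G) ∈ (R : Subgroup G)) :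
    ∃ u' : P, (u' : G) = x⁻¹ * u * x ∧ Good u' (n - 3) ∧ (u' : G) ∉ M := by
  have hm := h.three_le
  have hmem : ∀ a : G, a ∈ (P : Subgroup G) ⊓ (R : Subgroup G) →
      x⁻¹ * a * x ∈ (P : Subgroup G) ⊓ (R : Subgroup G) ∧ x * a * x⁻¹ ∈ (P : Subgroup G) ⊓ (R : Subgroup G) :=
    fun a ha => ⟨by simpa using (mem_normalizer_iff.1 (inv_mem hx) a).1 ha, (mem_normalizer_iff.1 hx a).1 ha⟩
  set u' : P := ⟨x⁻¹ * u * x, (hmem _ ⟨u.2, huR⟩).1.1⟩ with hu'
  have hu'M : (u' : G) ∉ M := fun e => huM (by
    simpa [hu', mul_assoc] using ‹M.Normal›.conj_mem _ e x)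
  refine ⟨u', rfl, ?_, hu'M⟩
  set D : Subgroup P := (R : Subgroup G).subgroupOf (P : Subgroup G) with hD
  by_cases htop : D = ⊤
  · have hPR : (P : Subgroup G) ≤ R := fun a ha => (htop.ge (mem_top (⟨a, ha⟩ : P)) :)
    have hPD : (P : Subgroup G) ⊓ (R : Subgroup G) = P := inf_eq_left.2 hPR
    rw [hPD] at hx
    exact h.good_map (conjAutOn (P : Subgroup G) hx) hu
  have hu'D : u' ∈ D := (hmem _ ⟨u.2, huR⟩).1.2
  by_cases hu'1 : u' ∈ L 1
  · exfalso
    obtain ⟨k, hk1, hkm, hk⟩ := h.eq_L_of_invariant hu (inf_le_right : D ⊓ L 1 ≤ L 1) fun y hy => by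
      refine ⟨?_, Subgroup.lowerCentralSeries_antitone _ (by omega) (comm_mem_succ hy.2 u)⟩
      rw [commutatorElement_def]
      exact D.mul_mem (D.mul_mem (D.mul_mem hy.1 huR) (D.inv_mem hy.1)) (D.inv_mem huR)
    have hu'k : u' ∈ L k := hk ▸ ⟨hu'D, hu'1⟩
    set Q := M.subgroupOf (P : Subgroup G) with hQdef
    haveI : Q.Normal := inferInstance
    rcases h.normal_le_or Q with hle | hle
    · obtain ⟨i, hi1, him, hi⟩ := h.eq_L_of_invariant hu hle fun y hy => by
        rw [commutatorElement_def, mul_assoc, mul_assoc]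
        refine mul_mem hy ?_
        rw [← mul_assoc]
        exact (inferInstance : Q.Normal).conj_mem _ (inv_mem hy) u
      have hi3 : i ≤ n - 3 := by
        by_contra hgt
        rw [hi, h.card_L hi1 him] at hQ2
        exact absurd ((Nat.pow_le_pow_iff_right hp.out.one_lt).1 hQ2) (by omega)
      have hki : k < i := by
        by_contra hge
        exact hu'M (hi.ge (Subgroup.lowerCentralSeries_antitone _ (by omega) hu'k) :)
      have hsub : L (n - 3) ≤ D := ((Subgroup.lowerCentralSeries_antitone _ (by omega)).trans hk.ge).trans inf_le_left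
      let f : L (n - 3) → ↥(centralizer ({u} : Set P) ⊓ L 1) := fun q =>
        ⟨⟨x * (q.1 : G) * x⁻¹, (hmem _ ⟨q.1.2, hsub q.2⟩).2.1⟩, by
          refine ⟨mem_centralizer_singleton_iff.2 (Subtype.ext ?_), hle ?_⟩
          · have hc : (q.1 : P) * u' = u' * q.1 := commutatorElement_eq_one_iff_mul_comm.1 (by
              rw [← Subgroup.mem_bot, ← h.L_bot (show n - 1 ≤ n - 3 + k + 1 by omega)]
              exact comm_mem_add q.2 hu'k)
            have hc' : (q.1 : G) * (x⁻¹ * u * x) = (x⁻¹ * u * x) * (q.1 : G) := congrArg (fun z : P => (z : G)) hc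
            show x * (q.1 : G) * x⁻¹ * u = u * (x * (q.1 : G) * x⁻¹)
            calc x * (q.1 : G) * x⁻¹ * u = x * ((q.1 : G) * (x⁻¹ * u * x)) * x⁻¹ := by group
              _ = x * ((x⁻¹ * u * x) * (q.1 : G)) * x⁻¹ := by rw [hc']
              _ = u * (x * (q.1 : G) * x⁻¹) := by group
          · exact ‹M.Normal›.conj_mem _ (hi.ge (Subgroup.lowerCentralSeries_antitone _ hi3 q.2) :) x⟩
      have hf : Function.Injective f := fun a b e => by
        have := congrArg (fun z : ↥(centralizer ({u} : Set P) ⊓ L 1) => ((z : P) : G)) e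
        simpa [f] using this
      have := (Nat.card_le_card_of_injective f hf).trans (h.card_centralizer_inf_le hu)
      rw [h.card_L (by omega) (by omega), show n - 1 - (n - 3) = 2 by omega] at this
      have h2 := hp.out.two_le
      nlinarith
    · exact hu'M (hle hu'1)
  · exact h.good_of_mem (h.sup_L1_ne_top htop) le_sup_right hu (mem_sup_left huR) (mem_sup_left hu'D) hu'1

end Fusion

end CfsgLib.PGroup.MaxClassPower
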