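import Mathlib

/-!
Elements of minimal class size and a self-centralizing abelian normal subgroup.
-/

set_option autoImplicit false

namespace CfsgLib.PGroup.MinimalClasses

open Subgroup
open scoped commutatorElement

variable {G : Type*} [Group G] [Finite G]

/-- The commutators of `x` with an abelian normal subgroup are central when `x` has class at
most the smallest non-trivial size. -/
theorem commutator_mem_center (A : Subgroup G) [A.Normal] (hA : IsMulCommutative A) {x a : G}
    (ha : a ∈ A)
    (hmin : ∀ y : G, (centralizer ({y} : Set G)).index < (centralizer ({x} : Set G)).index →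
      (centralizer ({y} : Set G)).index = 1) :
    a⁻¹ * (x⁻¹ * a * x) ∈ center G := by
  classical
  set c := a⁻¹ * (x⁻¹ * a * x) with hcdef
  by_cases hc1 : c = 1
  · rw [hc1]; exact one_mem _
  have hcomm : ∀ u ∈ A, ∀ v ∈ A, u * v = v * u := fun u hu v hv =>
    congrArg Subtype.val (hA.is_comm.comm ⟨u, hu⟩ ⟨v, hv⟩)
  have hxA : ∀ u ∈ A, x⁻¹ * u * x ∈ A := fun u hu => by
    simpa using ‹A.Normal›.conj_mem u hu x⁻¹
  let φ : A →* G :=
    { toFun := fun u => (u : G)⁻¹ * (x⁻¹ * u * x)
      map_one' := by simp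
      map_mul' := fun u v => by
        simp only [Subgroup.coe_mul]
        rw [show ((u : G) * v)⁻¹ * (x⁻¹ * (u * v) * x) =
          (v : G)⁻¹ * ((u : G)⁻¹ * (x⁻¹ * u * x)) * (x⁻¹ * v * x) by group,
          hcomm _ (A.inv_mem v.2) _ (mul_mem (A.inv_mem u.2) (hxA _ u.2)), mul_assoc] }
  set C := centralizer ({x} : Set G) with hC
  set H := A ⊔ C
  have hker : φ.ker = C.subgroupOf A := by
    ext u
    show (u : G)⁻¹ * (x⁻¹ * u * x) = 1 ↔ (u : G) ∈ C
    rw [hC, mem_centralizer_singleton_iff, inv_mul_eq_one, mul_assoc, eq_comm, inv_mul_eq_iff_eq_mul]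
  have hR : (φ.range : Set G).ncard = C.relIndex A := by
    rw [← Nat.card_coe_set_eq]
    exact (index_ker φ).symm.trans (by rw [hker]; rfl)
  -- the orbit of `c` under `H` stays among the non-trivial commutators
  have hrange : ∀ g ∈ H, ∀ r ∈ φ.range, g * r * g⁻¹ ∈ φ.range := by
    intro g hg
    refine (show H ≤
      { carrier := {g | (∀ r ∈ φ.range, g * r * g⁻¹ ∈ φ.range)}
        one_mem' := fun r hr => by simpa using hr
        mul_mem' := fun {g k} hg hk r hr => by
          have := hg _ (hk r hr)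
          rwa [show g * k * r * (g * k)⁻¹ = g * (k * r * k⁻¹) * g⁻¹ by group]
        inv_mem' := fun {g} hg r hr => by
          -- an injective self map of a finite set is onto
          have hbij : Function.Surjective
              (fun r : φ.range => (⟨g * r * g⁻¹, hg r r.2⟩ : φ.range)) :=
            Finite.injective_iff_surjective.mp fun u v h => Subtype.ext (by
              have := congrArg Subtype.val h
              simpa using this)
          obtain ⟨u, hu⟩ := hbij ⟨r, hr⟩
          have : g * (u : G) * g⁻¹ = r := congrArg Subtype.val hu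
          rw [← this, show g⁻¹ * (g * (u : G) * g⁻¹) * g⁻¹⁻¹ = u by group]
          exact u.2 } from sup_le ?_ ?_) hg
    · intro g hg
      rintro _ ⟨u, rfl⟩
      refine ⟨u, ?_⟩
      show (u : G)⁻¹ * (x⁻¹ * u * x) = g * ((u : G)⁻¹ * (x⁻¹ * u * x)) * g⁻¹
      rw [hcomm g hg _ (mul_mem (A.inv_mem u.2) (hxA _ u.2)), mul_inv_cancel_right]
    · intro g hg
      rintro _ ⟨u, rfl⟩
      refine ⟨⟨g * u * g⁻¹, ‹A.Normal›.conj_mem _ u.2 g⟩, ?_⟩
      show (g * (u : G) * g⁻¹)⁻¹ * (x⁻¹ * (g * u * g⁻¹) * x) = g * ((u : G)⁻¹ * (x⁻¹ * u * x)) * g⁻¹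
      have h1 : Commute g x := (mem_centralizer_singleton_iff.mp hg)
      have h2 : g⁻¹ * x = x * g⁻¹ := (h1.inv_left).eq
      have h3 : x⁻¹ * g = g * x⁻¹ := (h1.symm.inv_left).eq
      rw [show x⁻¹ * (g * (u : G) * g⁻¹) * x = (x⁻¹ * g) * u * (g⁻¹ * x) by group, h2, h3]
      group
  set Cc := centralizer ({c} : Set G) with hCc
  have hlt : Cc.relIndex H < C.relIndex A := by
    rw [← hR]
    let f : H ⧸ Cc.subgroupOf H → G := Quotient.lift (fun g : H => (g : G) * c * (g : G)⁻¹) (by
      intro g k h
      have h0 := (QuotientGroup.leftRel_apply (s := Cc.subgroupOf H)).mp h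
      have h' : (g : G)⁻¹ * k ∈ Cc := h0
      rw [hCc, mem_centralizer_singleton_iff] at h'
      calc (g : G) * c * (g : G)⁻¹ = (g : G) * (c * ((g : G)⁻¹ * k)) * (k : G)⁻¹ := by group
        _ = (g : G) * ((g : G)⁻¹ * k * c) * (k : G)⁻¹ := by rw [h']
        _ = _ := by group)
    have hf : Function.Injective f := by
      intro q r h
      induction q using Quotient.inductionOn with | _ g => ?_
      induction r using Quotient.inductionOn with | _ k => ?_
      refine Quotient.sound (QuotientGroup.leftRel_apply.mpr ?_)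
      show (g : G)⁻¹ * k ∈ Cc
      rw [hCc, mem_centralizer_singleton_iff]
      have h' : (g : G) * c * (g : G)⁻¹ = (k : G) * c * (k : G)⁻¹ := h
      calc (g : G)⁻¹ * k * c = (g : G)⁻¹ * ((k : G) * c * (k : G)⁻¹) * k := by group
        _ = (g : G)⁻¹ * ((g : G) * c * (g : G)⁻¹) * k := by rw [h']
        _ = _ := by group
    have hsub : Set.range f ⊆ (φ.range : Set G) \ {1} := by
      rintro _ ⟨q, rfl⟩
      induction q using Quotient.inductionOn with | _ g => ?_
      refine ⟨hrange g g.2 c ⟨⟨a, ha⟩, rfl⟩, fun h => hc1 ?_⟩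
      have h' : (g : G) * c * (g : G)⁻¹ = 1 := h
      calc c = (g : G)⁻¹ * ((g : G) * c * (g : G)⁻¹) * g := by group
        _ = 1 := by rw [h']; group
    have h1 : Cc.relIndex H = (Set.range f).ncard := by
      rw [← Nat.card_coe_set_eq, Nat.card_range_of_injective hf]
      rfl
    rw [h1]
    refine lt_of_le_of_lt (Set.ncard_le_ncard hsub (Set.toFinite _)) ?_
    exact Set.ncard_diff_singleton_lt_of_mem ⟨1, map_one φ⟩ (Set.toFinite _)
  have hle : C.relIndex A ≤ C.relIndex H :=
    relIndex_le_of_le_right (show A ≤ H from le_sup_left) index_ne_zero_of_finite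
  have hpos : 0 < H.index := Nat.pos_of_ne_zero index_ne_zero_of_finite
  have hlt' : Cc.index < C.index := by
    calc Cc.index ≤ (Cc ⊓ H).index := Nat.le_of_dvd
          (Nat.pos_of_ne_zero index_ne_zero_of_finite) (index_dvd_of_le inf_le_left)
      _ = Cc.relIndex H * H.index := by
          rw [← relIndex_mul_index (inf_le_right : Cc ⊓ H ≤ H), inf_relIndex_right]
      _ < C.relIndex H * H.index := Nat.mul_lt_mul_of_lt_of_le (lt_of_lt_of_le hlt hle) le_rfl hpos
      _ = C.index := relIndex_mul_index le_sup_right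
  have h1 := index_eq_one.mp (hmin c hlt')
  rw [mem_center_iff]
  intro g
  exact mem_centralizer_singleton_iff.mp (h1 ▸ mem_top g)

/-- The subgroup generated by the smallest classes has class at most three. -/
theorem lcs_three_eq_bot (A : Subgroup G) [A.Normal] (hA : IsMulCommutative A)
    (hCA : centralizer (A : Set G) = A) (S : Set G)
    (hS : ∀ x ∈ S, ∀ y : G, (centralizer ({y} : Set G)).index < (centralizer ({x} : Set G)).index →
      (centralizer ({y} : Set G)).index = 1) :
    (closure S).lowerCentralSeries 3 = ⊥ := by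
  set M := closure S
  have hAM : ⁅A, M⁆ ≤ center G := by
    rw [commutator_le]
    intro a ha m hm
    revert a
    induction hm using closure_induction'' with
    | one => intro a _; simp [commutatorElement_def]
    | mem x hx =>
      intro a ha
      have hc := commutator_mem_center A hA (A.inv_mem ha) (hS x hx)
      rw [show (a⁻¹)⁻¹ * (x⁻¹ * a⁻¹ * x) = a * x⁻¹ * a⁻¹ * x by group] at hc
      have h2 := (center G).inv_mem ((inferInstance : (center G).Normal).conj_mem _ hc x)
      rwa [show (x * (a * x⁻¹ * a⁻¹ * x) * x⁻¹)⁻¹ = ⁅a, x⁆ by rw [commutatorElement_def]; group] at h2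
    | inv_mem x hx =>
      intro a ha
      have hc := commutator_mem_center A hA (A.inv_mem ha) (hS x hx)
      rwa [show (a⁻¹)⁻¹ * (x⁻¹ * a⁻¹ * x) = ⁅a, x⁻¹⁆ by rw [commutatorElement_def]; group] at hc
    | mul x y _ _ hx hy =>
      intro a ha
      rw [show ⁅a, x * y⁆ = ⁅a, x⁆ * (x * ⁅a, y⁆ * x⁻¹) by
        simp [commutatorElement_def, mul_assoc]]
      exact mul_mem (hx a ha) ((inferInstance : (center G).Normal).conj_mem _ (hy a ha) x)
  have hZ : ⁅center G, M⁆ = ⊥ := by
    rw [eq_bot_iff, commutator_le]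
    intro z hz m _
    rw [mem_bot, commutatorElement_eq_one_iff_mul_comm]
    exact (mem_center_iff.mp hz m).symm
  have h1 : ⁅M, M⁆ ≤ A := by
    rw [← hCA, ← commutator_eq_bot_iff_le_centralizer]
    refine commutator_commutator_eq_bot_of_rotate ?_ ?_
    · rw [commutator_comm M A, eq_bot_iff, ← hZ]
      exact commutator_mono hAM le_rfl
    · rw [eq_bot_iff, ← hZ]
      exact commutator_mono hAM le_rfl
  rw [eq_bot_iff]
  show ⁅⁅⁅M, M⁆, M⁆, M⁆ ≤ ⊥
  rw [← hZ]
  exact commutator_mono ((commutator_mono h1 le_rfl).trans hAM) le_rfl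

end CfsgLib.PGroup.MinimalClasses
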