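import Cfsg.Agent.Lib.Solvable.FrattiniFitting
import Mathlib

/-!
`2`-groups whose derived subgroup has index four have a cyclic subgroup of index two; a normal
subgroup `R` of a `2`-group `P` with `P / R` extraspecial of order more than `8` and the coset
of the central involution a single class is trivial.
-/

set_option autoImplicit false
set_option linter.unusedSectionVars false

namespace CfsgLib.PGroup.TwoClassCoset

open scoped commutatorElement

universe u

theorem exists_index_two_aux : ∀ (n : ℕ) (P : Type u) [Group P] [Finite P], Nat.card P = n →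
    IsPGroup 2 P → (commutator P).index = 4 → commutator P ≠ ⊥ →
    ∃ a : P, (Subgroup.zpowers a).index = 2 := by
  intro n
  induction n using Nat.strong_induction_on with
  | _ n ih =>
    intro P _ _ hn hP hidx hne
    classical
    haveI : Fact (Nat.Prime 2) := ⟨Nat.prime_two⟩
    haveI : Group.IsNilpotent P := hP.isNilpotent
    -- a central involution in the derived subgroup
    obtain ⟨z, hzD, hzc, hz2⟩ : ∃ z : P, z ∈ commutator P ∧ z ∈ Subgroup.center P ∧ orderOf z = 2 := by
      set S := commutator P ⊓ Subgroup.center P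
      have hS : S ≠ ⊥ := CfsgLib.Solvable.FrattiniFitting.inf_center_ne_bot _ hne
      obtain ⟨k, hk⟩ := IsPGroup.iff_card.mp (hP.to_subgroup S)
      have hk0 : k ≠ 0 := fun h0 => hS (Subgroup.card_eq_one.mp (by rw [hk, h0, pow_zero]))
      obtain ⟨z, hz⟩ := exists_prime_orderOf_dvd_card' (G := S) 2 (hk ▸ dvd_pow_self 2 hk0)
      exact ⟨z, z.2.1, z.2.2, by rw [← hz, Subgroup.orderOf_coe]⟩
    have hz1 : z ≠ 1 := fun h => by rw [h, orderOf_one] at hz2; omega
    have hzz : z * z = 1 := by rw [← pow_two, ← hz2, pow_orderOf_eq_one]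
    have hzcomm : ∀ v : P, v * z = z * v := Subgroup.mem_center_iff.mp hzc
    set Z := Subgroup.zpowers z
    haveI hZn : Z.Normal := ⟨fun w hw v => by
      obtain ⟨i, rfl⟩ := Subgroup.mem_zpowers_iff.mp hw
      rw [((Commute.zpow_right (show Commute v z from hzcomm v) i)).eq, mul_inv_cancel_right]
      exact zpow_mem (Subgroup.mem_zpowers z) i⟩
    have hZmem : ∀ w, w ∈ Z → 1 = w ∨ z = w := by
      intro w hw
      obtain ⟨i, rfl⟩ := Subgroup.mem_zpowers_iff.mp hw
      rw [← zpow_mod_orderOf z i, hz2]
      rcases Int.emod_two_eq_zero_or_one i with h | h <;> simp [h]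
    have hZc : Nat.card Z = 2 := by rw [Nat.card_zpowers, hz2]
    set π := QuotientGroup.mk' Z
    have hπs : Function.Surjective π := QuotientGroup.mk'_surjective _
    have hcq : commutator (P ⧸ Z) = (commutator P).map π := by
      rw [commutator_def, commutator_def, Subgroup.map_commutator,
        Subgroup.map_top_of_surjective π hπs]
    have hPcard : Nat.card P = Nat.card (P ⧸ Z) * 2 := by
      rw [← hZc]; exact Subgroup.card_eq_card_quotient_mul_card_subgroup Z
    by_cases hb : (commutator P).map π = ⊥
    · -- order eight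
      have hDZ : commutator P = Z := by
        refine le_antisymm ?_ (by rw [Subgroup.zpowers_le]; exact hzD)
        rw [Subgroup.map_eq_bot_iff, QuotientGroup.ker_mk'] at hb
        exact hb
      have h8 : Nat.card P = 8 := by
        rw [← (commutator P).card_mul_index, hidx, hDZ, hZc]
      obtain ⟨a, ha⟩ : ∃ a : P, orderOf a = 4 := by
        by_contra hcon
        push Not at hcon
        have hexp : ∀ v : P, v * v = 1 := by
          intro v
          have hd : orderOf v ∣ 2 ^ 3 := by
            have := orderOf_dvd_natCard v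
            rwa [h8] at this
          obtain ⟨i, hi, hv⟩ := (Nat.dvd_prime_pow Nat.prime_two).mp hd
          have hi2 : i ≠ 2 := fun h => hcon v (by rw [hv, h]; rfl)
          have hi3 : i ≠ 3 := fun h => hcon (v ^ 2) (by
            rw [orderOf_pow, hv, h]; rfl)
          rw [← pow_two, ← orderOf_dvd_iff_pow_eq_one, hv]
          interval_cases i <;> simp at hi2 hi3 ⊢
        refine hne ((_root_.commutator_eq_bot_iff_center_eq_top (G := P)).mpr (eq_top_iff.mpr fun v _ =>
          Subgroup.mem_center_iff.mpr fun w => ?_))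
        calc w * v = (v * w * (v * w)) * (w * v) := by rw [hexp, one_mul]
          _ = v * w * (v * (w * w) * v) := by group
          _ = v * w := by rw [hexp, mul_one, hexp, mul_one]
      refine ⟨a, ?_⟩
      have := (Subgroup.zpowers a).card_mul_index
      rw [Nat.card_zpowers, ha, h8] at this
      omega
    · have hlt : Nat.card (P ⧸ Z) < n := by
        have : 0 < Nat.card (P ⧸ Z) := Nat.card_pos
        omega
      obtain ⟨q, hq⟩ := ih _ hlt (P ⧸ Z) rfl (hP.to_quotient Z)
        (by rw [hcq, Subgroup.index_map_eq _ hπs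
          (by rw [QuotientGroup.ker_mk', Subgroup.zpowers_le]; exact hzD), hidx])
        (by rw [hcq]; exact hb)
      obtain ⟨a, rfl⟩ := hπs q
      set A := (Subgroup.zpowers (π a)).comap π
      have hAi : A.index = 2 := by rw [Subgroup.index_comap_of_surjective _ hπs, hq]
      haveI hAn : A.Normal := Subgroup.normal_of_index_eq_two hAi
      by_cases hza : z ∈ Subgroup.zpowers a
      · refine ⟨a, ?_⟩
        have hAeq : A = Subgroup.zpowers a := by
          refine le_antisymm (fun v hv => ?_) ?_
          · obtain ⟨i, hi⟩ := Subgroup.mem_zpowers_iff.mp hv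
            rw [← map_zpow] at hi
            have h2 : (a ^ i)⁻¹ * v ∈ Z := QuotientGroup.eq.mp hi
            have h3 : Z ≤ Subgroup.zpowers a := by rw [Subgroup.zpowers_le]; exact hza
            simpa using (Subgroup.zpowers a).mul_mem (zpow_mem (Subgroup.mem_zpowers a) i) (h3 h2)
          · rw [Subgroup.zpowers_le]
            exact Subgroup.mem_zpowers (π a)
        rw [← hAeq, hAi]
      -- otherwise the derived subgroup is generated by a single commutator
      exfalso
      have hAmem : ∀ v ∈ A, ∃ (i : ℤ) (w : P), w ∈ Z ∧ v = a ^ i * w := by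
        intro v hv
        obtain ⟨i, hi⟩ := Subgroup.mem_zpowers_iff.mp hv
        rw [← map_zpow] at hi
        exact ⟨i, (a ^ i)⁻¹ * v, QuotientGroup.eq.mp hi, by rw [mul_inv_cancel_left]⟩
      have haA : a ∈ A := Subgroup.mem_zpowers (π a)
      have hAsq : ∀ v ∈ A, v * v ∈ Subgroup.zpowers a := by
        intro v hv
        obtain ⟨i, w, hw, rfl⟩ := hAmem v hv
        rcases hZmem w hw with rfl | rfl
        · simpa using mul_mem (zpow_mem (Subgroup.mem_zpowers a) i) (zpow_mem (Subgroup.mem_zpowers a) i)
        · rw [show a ^ i * z * (a ^ i * z) = a ^ i * (z * a ^ i) * z by group, ← hzcomm (a ^ i),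
            show a ^ i * (a ^ i * z) * z = a ^ i * a ^ i * (z * z) by group, hzz, mul_one]
          exact mul_mem (zpow_mem (Subgroup.mem_zpowers a) i) (zpow_mem (Subgroup.mem_zpowers a) i)
      obtain ⟨b, hb'⟩ : ∃ b, b ∉ A := by
        by_contra h
        push Not at h
        rw [show A = ⊤ from eq_top_iff.mpr fun v _ => h v, Subgroup.index_top] at hAi
        omega
      have hAcomm : ∀ v ∈ A, v * a = a * v := by
        intro v hv
        obtain ⟨i, w, hw, rfl⟩ := hAmem v hv
        rcases hZmem w hw with rfl | rfl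
        · simp [(Commute.self_zpow a i).eq]
        · rw [mul_assoc, ← hzcomm a, ← mul_assoc, ← mul_assoc, (Commute.self_zpow a i).eq]
      set c := a * b * a⁻¹ * b⁻¹ with hc
      have hcA : c ∈ A := by
        have := A.mul_mem haA (hAn.conj_mem _ (A.inv_mem haA) b)
        simpa [hc, mul_assoc] using this
      have hbc : b * c * b⁻¹ = c⁻¹ := by
        have hbb : b * b ∈ A := Subgroup.mul_self_mem_of_index_two hAi b
        have e : b * c * b⁻¹ = b * a * b⁻¹ * (b * b * a * (b * b)⁻¹)⁻¹ := by rw [hc]; group
        rw [e, hAcomm _ hbb, mul_inv_cancel_right, hc]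
        group
      haveI hCn : (Subgroup.zpowers c).Normal := by
        refine ⟨fun w hw v => ?_⟩
        obtain ⟨i, rfl⟩ := Subgroup.mem_zpowers_iff.mp hw
        rw [← conj_zpow]
        refine zpow_mem ?_ i
        by_cases hv : v ∈ A
        · have : v * c = c * v := by
            obtain ⟨j, w, hw', rfl⟩ := hAmem v hv
            have hca := hAcomm c hcA
            rcases hZmem w hw' with rfl | rfl
            · rw [mul_one, ((Commute.zpow_left (show Commute a c from hca.symm) j)).eq]
            · rw [mul_assoc, ← hzcomm c, ← mul_assoc,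
                ((Commute.zpow_left (show Commute a c from hca.symm) j)).eq, mul_assoc]
          rw [this, mul_inv_cancel_right]
          exact Subgroup.mem_zpowers c
        · have hm : v * b⁻¹ ∈ A := by
            rw [Subgroup.mul_mem_iff_of_index_two hAi, inv_mem_iff]
            exact iff_of_false hv hb'
          have e : v * c * v⁻¹ = v * b⁻¹ * (b * c * b⁻¹) * (v * b⁻¹)⁻¹ := by group
          rw [e, hbc]
          have : v * b⁻¹ * c⁻¹ = c⁻¹ * (v * b⁻¹) := by
            obtain ⟨j, w, hw', he⟩ := hAmem _ hm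
            rw [he]
            have hca := hAcomm c hcA
            have h1 : Commute (a ^ j) c⁻¹ :=
              ((Commute.zpow_left (show Commute a c from hca.symm) j)).inv_right
            rcases hZmem w hw' with rfl | rfl
            · rw [mul_one, h1.eq]
            · rw [mul_assoc, ← hzcomm c⁻¹, ← mul_assoc, h1.eq, mul_assoc]
          rw [this, mul_inv_cancel_right]
          exact inv_mem (Subgroup.mem_zpowers c)
      have hle : commutator P ≤ Subgroup.zpowers c := by
        set π' := QuotientGroup.mk' (Subgroup.zpowers c)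
        have hab : π' a * π' b = π' b * π' a := by
          rw [← map_mul, ← map_mul]
          refine (QuotientGroup.eq.mpr ?_).symm
          have e : (b * a)⁻¹ * (a * b) = (b * a)⁻¹ * c * (b * a)⁻¹⁻¹ := by rw [hc]; group
          rw [e]
          exact hCn.conj_mem _ (Subgroup.mem_zpowers c) _
        have hdec : ∀ v : P, ∃ (i : ℤ) (w : P) (j : ℕ), w ∈ Z ∧ v = a ^ i * w * b ^ j := by
          intro v
          by_cases hv : v ∈ A
          · obtain ⟨i, w, hw, rfl⟩ := hAmem v hv
            exact ⟨i, w, 0, hw, by simp⟩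
          · have hm : v * b⁻¹ ∈ A := by
              rw [Subgroup.mul_mem_iff_of_index_two hAi, inv_mem_iff]
              exact iff_of_false hv hb'
            obtain ⟨i, w, hw, he⟩ := hAmem _ hm
            exact ⟨i, w, 1, hw, by rw [pow_one, ← he, inv_mul_cancel_right]⟩
        have hcomm : ∀ v w : P, π' v * π' w = π' w * π' v := by
          intro v w
          obtain ⟨i, u, j, hu, rfl⟩ := hdec v
          obtain ⟨i', u', j', hu', rfl⟩ := hdec w
          have hz' : ∀ u ∈ Z, ∀ t, Commute (π' u) t := by
            intro u hu t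
            obtain ⟨t, rfl⟩ := QuotientGroup.mk'_surjective _ t
            rcases hZmem u hu with rfl | rfl
            · simp
            · rw [commute_iff_eq, ← map_mul, ← map_mul, hzcomm]
          have c1 : Commute (π' a) (π' b) := hab
          simp only [map_mul, map_zpow, map_pow]
          refine Commute.eq ?_
          refine Commute.mul_left (Commute.mul_left ?_ (hz' u hu _)) ?_
          · refine Commute.mul_right (Commute.mul_right ?_ (hz' u' hu' _).symm) ?_
            · exact ((Commute.refl _).zpow_zpow i i')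
            · exact (c1.zpow_left i).pow_right j'
          · refine Commute.mul_right (Commute.mul_right ?_ (hz' u' hu' _).symm) ?_
            · exact (c1.symm.pow_left j).zpow_right i'
            · exact (Commute.refl _).pow_pow j j'
        rw [commutator_eq_closure, Subgroup.closure_le]
        rintro _ ⟨v, w, rfl⟩
        rw [SetLike.mem_coe, ← QuotientGroup.eq_one_iff]
        change π' ⁅v, w⁆ = 1
        rw [map_commutatorElement, commutatorElement_eq_one_iff_mul_comm]
        exact hcomm v w
      obtain ⟨i, hi⟩ := Subgroup.mem_zpowers_iff.mp (hle hzD)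
      rcases Int.even_or_odd i with ⟨k, rfl⟩ | ⟨k, rfl⟩
      · exact hza (by
          rw [← hi, show k + k = 2 * k by ring, zpow_mul, zpow_two]
          exact zpow_mem (hAsq c hcA) k)
      · -- `c = z` makes the derived subgroup of order two
        have hord : ((orderOf c : ℕ) : ℤ) ∣ 2 * (2 * k + 1) := by
          rw [orderOf_dvd_iff_zpow_eq_one, mul_comm, zpow_mul, zpow_two, hi, hzz]
        obtain ⟨m, hm⟩ := IsPGroup.iff_orderOf.mp hP c
        have hc2' : orderOf c ∣ 2 := by
          rcases Nat.lt_or_ge m 2 with h | h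
          · rw [hm]; interval_cases m <;> simp
          · exfalso
            rw [hm] at hord
            have h4 : ((4 : ℕ) : ℤ) ∣ 2 * (2 * k + 1) :=
              (Int.natCast_dvd_natCast.mpr (show 4 ∣ 2 ^ m from pow_dvd_pow 2 h)).trans hord
            omega
        have hsmall : Nat.card (commutator P) ≤ 2 := by
          refine (Subgroup.card_le_of_le hle).trans ?_
          rw [Nat.card_zpowers]
          exact Nat.le_of_dvd two_pos hc2'
        have hb0 : (commutator P).map π = ⊥ := by
          rw [Subgroup.map_eq_bot_iff, QuotientGroup.ker_mk']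
          refine (Subgroup.eq_of_le_of_card_ge ?_ (by rw [hZc]; exact hsmall)).ge
          rw [Subgroup.zpowers_le]; exact hzD
        exact hb hb0

/-- A `2`-group with derived subgroup of index four has a cyclic derived subgroup. -/
theorem isCyclic_commutator {P : Type u} [Group P] [Finite P] (hP : IsPGroup 2 P)
    (hidx : (commutator P).index = 4) : IsCyclic (commutator P) := by
  by_cases hne : commutator P = ⊥
  · rw [hne]; infer_instance
  obtain ⟨a, ha⟩ := exists_index_two_aux _ P rfl hP hidx hne
  haveI := Subgroup.normal_of_index_eq_two ha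
  have hle : commutator P ≤ Subgroup.zpowers a := by
    rw [commutator_eq_closure, Subgroup.closure_le]
    rintro _ ⟨v, w, rfl⟩
    rw [SetLike.mem_coe, commutatorElement_def, Subgroup.mul_mem_iff_of_index_two ha,
      Subgroup.mul_mem_iff_of_index_two ha, Subgroup.mul_mem_iff_of_index_two ha, inv_mem_iff,
      inv_mem_iff]
    tauto
  exact isCyclic_of_injective (Subgroup.inclusion hle) (Subgroup.inclusion_injective hle)

/-- In a group `Q` of order more than `8` with all commutators in `{1, x}` and centre in `{1, x}`,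
every element commutes with two non-commuting elements. -/
theorem exists_noncommuting {Q : Type*} [Group Q] [Finite Q] (x : Q) (hx : x ≠ 1)
    (hab : ∀ v w : Q, v * w = w * v ∨ v * w = x * (w * v))
    (hcen : ∀ v : Q, (∀ w, v * w = w * v) → v = 1 ∨ v = x) (h8 : 8 < Nat.card Q) (w : Q) :
    ∃ v₁ v₂ : Q, v₁ * w = w * v₁ ∧ v₂ * w = w * v₂ ∧ v₁ * v₂ ≠ v₂ * v₁ := by
  classical
  by_contra hcon
  push Not at hcon
  haveI := Fintype.ofFinite Q
  set C := Subgroup.centralizer ({w} : Set Q)
  have hC : ∀ v, v ∈ C ↔ v * w = w * v := fun v => Subgroup.mem_centralizer_singleton_iff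
  by_cases htop : ∃ v₀, v₀ ∉ C
  swap
  · push Not at htop
    have hsub : ∀ v : Q, v = 1 ∨ v = x := fun v =>
      hcen v fun u => hcon v u ((hC v).mp (htop v)) ((hC u).mp (htop u))
    have : Nat.card Q ≤ 2 := by
      have h1 : (Finset.univ : Finset Q) ⊆ {1, x} := fun v _ => by
        rcases hsub v with h | h <;> simp [h]
      have := Finset.card_le_card h1
      rw [Finset.card_univ, ← Nat.card_eq_fintype_card] at this
      exact this.trans Finset.card_le_two
    omega
  obtain ⟨v₀, hv₀⟩ := htop
  -- `C` has index two and at most four elements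
  have hcov : ∀ v, v ∉ C → v₀⁻¹ * v ∈ C := by
    intro v hv
    rw [hC] at hv hv₀ ⊢
    have h1 := (hab v w).resolve_left hv
    have h2 := (hab v₀ w).resolve_left hv₀
    have h3 : v₀ * w * v₀⁻¹ = v * w * v⁻¹ := by
      rw [h1, h2]; group
    calc v₀⁻¹ * v * w = v₀⁻¹ * (v * w * v⁻¹) * v := by group
      _ = v₀⁻¹ * (v₀ * w * v₀⁻¹) * v := by rw [h3]
      _ = w * (v₀⁻¹ * v) := by group
  have hQ : Nat.card Q ≤ Nat.card C + Nat.card C := by
    rw [← Nat.card_sum]
    refine Nat.card_le_card_of_injective (fun v => if h : v ∈ C then Sum.inl ⟨v, h⟩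
      else Sum.inr ⟨v₀⁻¹ * v, hcov v h⟩) fun a b hab' => ?_
    by_cases ha : a ∈ C <;> by_cases hb : b ∈ C <;> simp [ha, hb] at hab' <;> exact hab'
  have hC4 : Nat.card C ≤ Nat.card (Bool × Bool) := by
    have hD : ∀ c : Q, c ∈ C → c * v₀ = v₀ * c → c = 1 ∨ c = x := fun c hc hcv => hcen c fun u => by
      by_cases hu : u ∈ C
      · exact hcon c u ((hC c).mp hc) ((hC u).mp hu)
      · have h2 := hcon c _ ((hC c).mp hc) ((hC _).mp (hcov u hu))
        calc c * u = c * v₀ * (v₀⁻¹ * u) := by group
          _ = v₀ * (c * (v₀⁻¹ * u)) := by rw [hcv]; group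
          _ = v₀ * (v₀⁻¹ * u * c) := by rw [h2]
          _ = u * c := by group
    by_cases hex : ∃ c₀ ∈ C, c₀ * v₀ ≠ v₀ * c₀
    · obtain ⟨c₀, hc₀, hc₀'⟩ := hex
      refine Nat.card_le_card_of_injective (fun c : C =>
        if h : (c : Q) * v₀ = v₀ * c then (false, decide ((c : Q) = 1))
        else (true, decide (c₀⁻¹ * (c : Q) = 1))) fun a b hab' => ?_
      have hm : ∀ c : Q, c * v₀ ≠ v₀ * c → (c₀⁻¹ * c) * v₀ = v₀ * (c₀⁻¹ * c) := by
        intro c hc
        have h1 := (hab c v₀).resolve_left hc
        have h2 := (hab c₀ v₀).resolve_left hc₀'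
        have h3 : c₀ * v₀ * c₀⁻¹ = c * v₀ * c⁻¹ := by rw [h1, h2]; group
        calc c₀⁻¹ * c * v₀ = c₀⁻¹ * (c * v₀ * c⁻¹) * c := by group
          _ = c₀⁻¹ * (c₀ * v₀ * c₀⁻¹) * c := by rw [h3]
          _ = v₀ * (c₀⁻¹ * c) := by group
      apply Subtype.ext
      by_cases ha : (a : Q) * v₀ = v₀ * a <;> by_cases hb : (b : Q) * v₀ = v₀ * b <;>
        simp [ha, hb] at hab'
      · rcases hD a a.2 ha with h1 | h1 <;> rcases hD b b.2 hb with h2 | h2 <;>
          simp_all
      · have ha' := hD _ (C.mul_mem (C.inv_mem hc₀) a.2) (hm a ha)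
        have hb' := hD _ (C.mul_mem (C.inv_mem hc₀) b.2) (hm b hb)
        rcases ha' with h1 | h1 <;> rcases hb' with h2 | h2
        · exact mul_left_cancel (h1.trans h2.symm)
        · exact absurd h2 (by simp [hab'.mp h1, Ne.symm hx])
        · exact absurd h1 (by simp [hab'.mpr h2, Ne.symm hx])
        · exact mul_left_cancel (h1.trans h2.symm)
    · push Not at hex
      refine Nat.card_le_card_of_injective (fun c : C => (false, decide ((c : Q) = 1))) fun a b h => ?_
      apply Subtype.ext
      rcases hD a a.2 (hex a a.2) with h1 | h1 <;> rcases hD b b.2 (hex b b.2) with h2 | h2 <;>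
        simp [h1, h2, hx] at h ⊢
  have h4 : Nat.card (Bool × Bool) = 4 := by simp [Nat.card_eq_fintype_card]
  omega

/-- Central factors do not change a commutator. -/
theorem comm_mul_central {H : Type*} [Group H] {a b r t : H} (ha : Commute r a) (hb : Commute r b)
    (hrt : Commute r t) (hta : Commute t a) :
    a * r * (b * t) * (a * r)⁻¹ * (b * t)⁻¹ = a * b * a⁻¹ * b⁻¹ :=
  calc a * r * (b * t) * (a * r)⁻¹ * (b * t)⁻¹
      = a * (r * b) * (t * r⁻¹) * a⁻¹ * t⁻¹ * b⁻¹ := by group
    _ = a * b * (r * t * r⁻¹) * a⁻¹ * t⁻¹ * b⁻¹ := by rw [hb.eq]; group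
    _ = a * b * (t * a⁻¹) * t⁻¹ * b⁻¹ := by rw [hrt.eq, mul_inv_cancel_right]; group
    _ = a * b * a⁻¹ * b⁻¹ := by rw [hta.inv_right.eq]; group

/-- The single class coset forces `R = 1` in large extraspecial quotient. -/
theorem eq_bot {P : Type u} [Group P] [Finite P] (hP : IsPGroup 2 P) (R : Subgroup P) [R.Normal]
    (x : P) (hx : x ∉ R) (hx2 : x * x ∈ R)
    (hab : ∀ v w : P, v * w * v⁻¹ * w⁻¹ ∈ R ∨ x⁻¹ * (v * w * v⁻¹ * w⁻¹) ∈ R)
    (hcen : ∀ v : P, (∀ w, v * w * v⁻¹ * w⁻¹ ∈ R) → v ∈ R ∨ x⁻¹ * v ∈ R)
    (hcls : ∀ ρ ∈ R, ∃ v : P, v * x * v⁻¹ = x * ρ) (h8 : 8 < R.index) : R = ⊥ := by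
  classical
  set X := ⁅R, (⊤ : Subgroup P)⁆
  haveI hXn : X.Normal := Subgroup.commutator_normal _ _
  have hXR : X ≤ R := Subgroup.commutator_le_left _ _
  set π := QuotientGroup.mk' X
  have hRc : ∀ ρ ∈ R, ∀ v : P, Commute (π ρ) (π v) := fun ρ hρ v => by
    rw [commute_iff_eq, ← commutatorElement_eq_one_iff_mul_comm, ← map_commutatorElement]
    exact (QuotientGroup.eq_one_iff _).mpr (Subgroup.commutator_mem_commutator hρ (Subgroup.mem_top v))
  have hR1 : ∀ u : P, (QuotientGroup.mk' R u = 1) ↔ u ∈ R := fun u => QuotientGroup.eq_one_iff u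
  have key : ∀ w : P, Commute (π x) (π w) := by
    intro w
    obtain ⟨q₁, q₂, h1, h2, h12⟩ := exists_noncommuting ((QuotientGroup.mk' R) x) (fun h => hx ((hR1 x).mp h))
      (fun a b => by
        obtain ⟨v, rfl⟩ := QuotientGroup.mk'_surjective R a
        obtain ⟨u, rfl⟩ := QuotientGroup.mk'_surjective R b
        rcases hab v u with h | h
        · left
          have := (hR1 _).mpr h
          simp only [map_mul, map_inv] at this
          calc (QuotientGroup.mk' R) v * (QuotientGroup.mk' R) u = (QuotientGroup.mk' R) v * (QuotientGroup.mk' R) u * ((QuotientGroup.mk' R) v)⁻¹ * ((QuotientGroup.mk' R) u)⁻¹ * ((QuotientGroup.mk' R) u * (QuotientGroup.mk' R) v) := by group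
            _ = (QuotientGroup.mk' R) u * (QuotientGroup.mk' R) v := by rw [this, one_mul]
        · right
          have := (hR1 _).mpr h
          simp only [map_mul, map_inv] at this
          rw [inv_mul_eq_one] at this
          rw [this]
          group)
      (fun a ha => by
        obtain ⟨v, rfl⟩ := QuotientGroup.mk'_surjective R a
        rcases hcen v (fun u => (hR1 _).mp (by
          simp only [map_mul, map_inv]
          rw [ha ((QuotientGroup.mk' R) u)]; group)) with h | h
        · exact Or.inl ((hR1 v).mpr h)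
        · right
          have := (hR1 _).mpr h
          rw [map_mul, map_inv, inv_mul_eq_one] at this
          exact this.symm)
      (by rw [← Subgroup.index_eq_card]; exact h8) ((QuotientGroup.mk' R) w)
    obtain ⟨v₁, rfl⟩ := QuotientGroup.mk'_surjective R q₁
    obtain ⟨v₂, rfl⟩ := QuotientGroup.mk'_surjective R q₂
    have hconj : ∀ v : P, (QuotientGroup.mk' R) v * (QuotientGroup.mk' R) w = (QuotientGroup.mk' R) w * (QuotientGroup.mk' R) v →
        ∃ ρ ∈ R, π w * π v * (π w)⁻¹ = π v * π ρ := by
      intro v hv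
      refine ⟨v⁻¹ * (w * v * w⁻¹), (hR1 _).mp ?_, ?_⟩
      · simp only [map_mul, map_inv]; rw [← hv]; group
      · simp only [map_mul, map_inv]; group
    obtain ⟨r₁, hr₁, e1⟩ := hconj v₁ h1
    obtain ⟨r₂, hr₂, e2⟩ := hconj v₂ h2
    set c := v₁ * v₂ * v₁⁻¹ * v₂⁻¹ with hc
    have hcw : π w * π c * (π w)⁻¹ = π c := by
      have e : π w * π c * (π w)⁻¹ = π w * π v₁ * (π w)⁻¹ * (π w * π v₂ * (π w)⁻¹) *
          (π w * π v₁ * (π w)⁻¹)⁻¹ * (π w * π v₂ * (π w)⁻¹)⁻¹ := by
        rw [hc]; simp only [map_mul, map_inv]; group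
      rw [e, e1, e2, hc, comm_mul_central (hRc r₁ hr₁ _) (hRc r₁ hr₁ _) (hRc r₁ hr₁ _)
        (hRc r₂ hr₂ _)]
      simp only [map_mul, map_inv]
    have hcR : c ∉ R := fun h => h12 (by
      have := (hR1 _).mpr h
      simp only [hc, map_mul, map_inv] at this
      calc (QuotientGroup.mk' R) v₁ * (QuotientGroup.mk' R) v₂ = (QuotientGroup.mk' R) v₁ * (QuotientGroup.mk' R) v₂ * ((QuotientGroup.mk' R) v₁)⁻¹ * ((QuotientGroup.mk' R) v₂)⁻¹ * ((QuotientGroup.mk' R) v₂ * (QuotientGroup.mk' R) v₁) := by group
        _ = (QuotientGroup.mk' R) v₂ * (QuotientGroup.mk' R) v₁ := by rw [this, one_mul])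
    have hxc : x⁻¹ * c ∈ R := (hab v₁ v₂).resolve_left hcR
    have h3 : π c = π x * π (x⁻¹ * c) := by rw [← map_mul, mul_inv_cancel_left]
    have hcw' : Commute (π c) (π w) := by
      change π c * π w = π w * π c
      calc π c * π w = π w * π c * (π w)⁻¹ * π w := by rw [hcw]
        _ = π w * π c := by group
    rw [h3] at hcw'
    simpa using hcw'.mul_left (hRc _ (R.inv_mem hxc) w) |> fun h => by
      simpa [← map_mul, mul_assoc] using h
  have hle : R ≤ X := by
    intro ρ hρ
    obtain ⟨v, hv⟩ := hcls ρ hρ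
    have h := congrArg π hv
    simp only [map_mul, map_inv] at h
    rw [← (key v).eq, mul_inv_cancel_right, left_eq_mul] at h
    exact (QuotientGroup.eq_one_iff ρ).mp h
  -- nilpotency
  haveI : Fact (Nat.Prime 2) := ⟨Nat.prime_two⟩
  haveI : Group.IsNilpotent P := hP.isNilpotent
  have hlow : ∀ i, R ≤ Subgroup.lowerCentralSeries ⊤ i := by
    intro i
    induction i with
    | zero => simp
    | succ i ih => exact hle.trans (Subgroup.commutator_mono ih le_rfl)
  rw [eq_bot_iff]
  exact (hlow _).trans (le_of_eq Subgroup.lowerCentralSeries_nilpotencyClass)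

end CfsgLib.PGroup.TwoClassCoset
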