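import Cfsg.Agent.Lib.PGroup.CentralKernel
import Cfsg.Agent.Lib.PGroup.TwoClassCoset
import Cfsg.Agent.Lib.Coprime.Generation
import Cfsg.Agent.Lib.OddOrder.FPFTools
import Cfsg.Agent.Lib.OddOrder.Final.Main
import Cfsg.Agent.Lib.Char.Orth
import Cfsg.Agent.Lib.Solvable.Transfer
import Mathlib

/-!
Groups `G` with normal subgroups `N < M = G'`, `M \ N` one class with small centraliser, are
solvable (the odd order theorem is used for the normal `2`-complement).
-/

set_option autoImplicit false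
set_option linter.unusedSectionVars false

namespace CfsgLib.PGroup.OneClassCoset

open scoped commutatorElement

universe u

variable {G : Type u} [Group G] [Finite G]

/-- Burnside: an abelian Sylow subgroup of a normal subgroup, acted on by `p`-power order
automorphisms only, has a normal complement. -/
theorem exists_complement {p : ℕ} [hp : Fact p.Prime] (N : Subgroup G) [N.Normal] (P : Sylow p G)
    (hab : ∀ a ∈ (P : Subgroup G) ⊓ N, ∀ b ∈ (P : Subgroup G) ⊓ N, a * b = b * a)
    (haut : ∀ u ∈ N, u ∈ Subgroup.normalizer (((P : Subgroup G) ⊓ N : Subgroup G) : Set G) →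
      ∃ k : ℕ, ∀ ρ ∈ (P : Subgroup G) ⊓ N, u ^ p ^ k * ρ = ρ * u ^ p ^ k) :
    ∃ K : Subgroup G, K.Normal ∧ K ≤ N ∧ ¬ p ∣ Nat.card K ∧ ∃ j, K.relIndex N = p ^ j := by
  classical
  set R : Subgroup G := (P : Subgroup G) ⊓ N with hR
  set R' : Subgroup N := R.subgroupOf N with hR'
  have hR'p : IsPGroup p R' := (P.2.to_le inf_le_left).of_equiv
    (Subgroup.subgroupOfEquivOfLe (show R ≤ N from inf_le_right)).symm
  have hidx : ¬ p ∣ R'.index := fun h => P.not_dvd_index (h.trans (by
    obtain ⟨t, ht⟩ := Subgroup.relIndex_dvd_index_of_normal N (P : Subgroup G)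
    have h1 := Subgroup.relIndex_mul_index (inf_le_right : (P : Subgroup G) ⊓ N ≤ N)
    have h2 := Subgroup.relIndex_mul_index (inf_le_left : (P : Subgroup G) ⊓ N ≤ P)
    rw [Subgroup.inf_relIndex_left, ← h1, ht] at h2
    refine ⟨t, Nat.eq_of_mul_eq_mul_left (n := N.relIndex (P : Subgroup G))
      (Nat.pos_of_ne_zero fun h0 => ?_) ?_⟩
    · rw [h0, zero_mul] at ht
      exact N.index_ne_zero_of_finite ht
    · rw [h2, hR', hR]
      change _ = _ * (Subgroup.relIndex ((P : Subgroup G) ⊓ N) N * t)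
      ac_rfl))
  set S : Sylow p N := hR'p.toSylow hidx
  have hS : (S : Subgroup N) = R' := rfl
  have hcen : Subgroup.normalizer ((S : Subgroup N) : Set N) ≤
      Subgroup.centralizer ((S : Subgroup N) : Set N) := by
    intro u hu
    rw [hS] at hu ⊢
    rw [Subgroup.mem_normalizer_iff] at hu
    have hun : (u : G) ∈ Subgroup.normalizer (R : Set G) := by
      rw [Subgroup.mem_normalizer_iff]
      intro v
      constructor
      · intro hv
        exact (hu ⟨v, hv.2⟩).mp hv
      · intro hv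
        have hvN : v ∈ N := by
          have := (inferInstance : N.Normal).conj_mem _ hv.2 (u : G)⁻¹
          simpa [mul_assoc] using this
        exact (hu ⟨v, hvN⟩).mpr hv
    obtain ⟨k, hk⟩ := haut u u.2 hun
    set C := Subgroup.centralizer ((R' : Subgroup N) : Set N)
    have h1 : u ^ p ^ k ∈ C := by
      rw [Subgroup.mem_centralizer_iff]
      intro v hv
      exact Subtype.ext (by simpa using (hk v hv).symm)
    obtain ⟨a, m, hm, hau⟩ := Nat.exists_eq_pow_mul_and_not_dvd (orderOf_pos u).ne' p hp.1.ne_one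
    have h2 : u ^ m ∈ C := by
      -- the `p`-part of `u` lies in the Sylow subgroup
      have hmem : u ^ m ∈ R' := by
        have hnu : u ^ m ∈ Subgroup.normalizer (R' : Set N) :=
          pow_mem (Subgroup.mem_normalizer_iff.mpr hu) m
        have hpz : IsPGroup p (Subgroup.zpowers (u ^ m)) := by
          refine IsPGroup.of_card (n := a) ?_
          rw [Nat.card_zpowers, orderOf_pow, hau, Nat.gcd_mul_left_left, Nat.mul_div_cancel _
            (Nat.pos_of_ne_zero fun h => hm (by rw [h]; exact dvd_zero p))]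
        have hsup : IsPGroup p (Subgroup.zpowers (u ^ m) ⊔ R' : Subgroup N) :=
          hpz.to_sup_of_normal_right' hR'p (by rw [Subgroup.zpowers_le]; exact hnu)
        have := S.3 hsup (by rw [hS]; exact le_sup_right)
        rw [hS] at this
        exact this ▸ Subgroup.mem_sup_left (Subgroup.mem_zpowers _)
      rw [Subgroup.mem_centralizer_iff]
      intro v hv
      exact Subtype.ext (hab _ hv _ hmem)
    have hco : Nat.gcd (p ^ k) m = 1 :=
      Nat.Coprime.pow_left k ((Nat.Prime.coprime_iff_not_dvd hp.1).mpr hm)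
    have hbez := Nat.gcd_eq_gcd_ab (p ^ k) m
    rw [hco] at hbez
    have : u ^ ((1 : ℕ) : ℤ) ∈ C := by
      rw [hbez, zpow_add, zpow_mul, zpow_mul, zpow_natCast, zpow_natCast]
      exact C.mul_mem (zpow_mem h1 _) (zpow_mem h2 _)
    simpa using this
  set K' := (MonoidHom.transferSylow S hcen).ker
  have hcomp : Subgroup.IsComplement' K' (S : Subgroup N) :=
    MonoidHom.ker_transferSylow_isComplement' S hcen
  have hK'i : K'.index = Nat.card R' := hcomp.symm.index_eq_card
  have hK'c : Nat.card K' = R'.index := hcomp.index_eq_card.symm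
  obtain ⟨j, hj⟩ := IsPGroup.iff_card.mp hR'p
  have hcop : (Nat.card K').Coprime K'.index := by
    rw [hK'c, hK'i, hj]
    exact Nat.Coprime.pow_right j ((Nat.Prime.coprime_iff_not_dvd hp.1).mpr hidx).symm
  haveI := CfsgLib.Solvable.Transfer.characteristic_of_normal_hall hcop
  refine ⟨K'.map N.subtype, inferInstance, Subgroup.map_subtype_le _, ?_, ?_⟩
  · rw [Subgroup.card_subtype, hK'c]
    exact hidx
  · have he : (K'.map N.subtype).subgroupOf N = K' :=
      Subgroup.comap_map_eq_self_of_injective N.subtype_injective K'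
    refine ⟨j, ?_⟩
    rw [Subgroup.relIndex, he, hK'i, hj]

/-- Single class cosets inside a Sylow subgroup. -/
theorem class_coset (N : Subgroup G) [N.Normal] (P : Subgroup G) (x : P)
    (hsub : ∀ v : P, x⁻¹ * (v * x * v⁻¹) ∈ N.subgroupOf P)
    (hle : Nat.card (Subgroup.centralizer ({(x : G)} : Set G)) ≤ (N.subgroupOf P).index) :
    ∀ ρ ∈ N.subgroupOf P, ∃ v : P, v * x * v⁻¹ = x * ρ := by
  classical
  set R := N.subgroupOf P
  set C := Subgroup.centralizer ({x} : Set P)
  have hCle : Nat.card C ≤ R.index := by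
    refine le_trans ?_ hle
    refine Nat.card_le_card_of_injective
      (fun c : C => (⟨((c : P) : G), Subgroup.mem_centralizer_singleton_iff.mpr
        (by simpa using congrArg Subtype.val (Subgroup.mem_centralizer_singleton_iff.mp c.2))⟩ :
        Subgroup.centralizer ({(x : G)} : Set G))) fun a b h => ?_
    exact Subtype.ext (Subtype.ext (congrArg (fun z => z.1) h))
  let f : P ⧸ C → R := Quotient.lift (fun v => (⟨x⁻¹ * (v * x * v⁻¹), hsub v⟩ : R)) fun a b h =>
    Subtype.ext (congrArg (x⁻¹ * ·) (by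
      have hd : a⁻¹ * b * x = x * (a⁻¹ * b) :=
        Subgroup.mem_centralizer_singleton_iff.mp (QuotientGroup.leftRel_apply.mp h)
      calc a * x * a⁻¹ = a * (x * (a⁻¹ * b)) * b⁻¹ := by group
        _ = a * (a⁻¹ * b * x) * b⁻¹ := by rw [hd]
        _ = b * x * b⁻¹ := by group))
  have hinj : Function.Injective f := by
    rintro ⟨a⟩ ⟨b⟩ h
    have h' : a * x * a⁻¹ = b * x * b⁻¹ := mul_left_cancel (congrArg Subtype.val h)
    refine Quotient.sound (QuotientGroup.leftRel_apply.mpr
      (Subgroup.mem_centralizer_singleton_iff.mpr ?_))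
    calc a⁻¹ * b * x = a⁻¹ * (b * x * b⁻¹) * b := by group
      _ = a⁻¹ * (a * x * a⁻¹) * b := by rw [h']
      _ = x * (a⁻¹ * b) := by group
  have hcard : Nat.card R ≤ Nat.card (P ⧸ C) := by
    refine Nat.le_of_mul_le_mul_right ?_ (Nat.pos_of_ne_zero R.index_ne_zero_of_finite)
    rw [R.card_mul_index, ← C.index_eq_card]
    calc Nat.card P = C.index * Nat.card C := (C.index_mul_card).symm
      _ ≤ C.index * R.index := Nat.mul_le_mul le_rfl hCle
  have hbij : Function.Bijective f :=
    (Nat.bijective_iff_injective_and_card f).mpr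
      ⟨hinj, le_antisymm (Nat.card_le_card_of_injective f hinj) hcard⟩
  intro ρ hρ
  obtain ⟨q, hq⟩ := hbij.2 ⟨ρ, hρ⟩
  obtain ⟨v, rfl⟩ := QuotientGroup.mk_surjective q
  have h' : x⁻¹ * (v * x * v⁻¹) = ρ := congrArg Subtype.val hq
  exact ⟨v, by rw [← h', mul_inv_cancel_left]⟩

/-- `(a b) ^ n` in class two. -/
theorem mul_pow_class_two {H : Type*} [Group H] (a b : H)
    (hc : ∀ w : H, Commute (b * a * b⁻¹ * a⁻¹) w) :
    ∀ n : ℕ, (a * b) ^ n = a ^ n * b ^ n * (b * a * b⁻¹ * a⁻¹) ^ (n.choose 2) := by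
  set c := b * a * b⁻¹ * a⁻¹ with hcdef
  have hba : ∀ n : ℕ, b ^ n * a = a * b ^ n * c ^ n := by
    intro n
    induction n with
    | zero => simp
    | succ n ih =>
      calc b ^ (n + 1) * a = b * (b ^ n * a) := by rw [pow_succ', mul_assoc]
        _ = b * a * (b ^ n * c ^ n) := by rw [ih]; group
        _ = c * (a * b) * (b ^ n * c ^ n) := by rw [hcdef]; group
        _ = a * b * (b ^ n * c ^ n) * c := by rw [(hc _).eq, mul_assoc (a * b), (hc _).eq]; group
        _ = a * b ^ (n + 1) * c ^ (n + 1) := by rw [pow_succ', pow_succ]; group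
  intro n
  induction n with
  | zero => simp
  | succ n ih =>
    rw [pow_succ (a * b), ih, Nat.choose_succ_succ, Nat.choose_one_right, pow_succ a,
      pow_succ b, pow_add]
    have h1 : Commute (c ^ n.choose 2) (a * b) := (hc _).pow_left _
    calc a ^ n * b ^ n * c ^ n.choose 2 * (a * b)
        = a ^ n * (b ^ n * a) * b * c ^ n.choose 2 := by rw [mul_assoc, h1.eq]; group
      _ = a ^ n * a * (b ^ n * (c ^ n * b)) * c ^ n.choose 2 := by rw [hba]; group
      _ = a ^ n * a * (b ^ n * b) * (c ^ n * c ^ n.choose 2) := by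
        rw [((hc b).pow_left n).eq]; group

section Main

variable {N M : Subgroup G} [N.Normal] [M.Normal] {g : G}

/-- The hypotheses. -/
structure Data (N M : Subgroup G) (g : G) : Prop where
  lt : N < M
  eq : M = commutator G
  cen : ∀ z : G, (∀ y : G, ⁅z, y⁆ ∈ N) → z ∈ M
  gM : g ∈ M
  gN : g ∉ N
  cls : ∀ h : G, h ∈ M → h ∉ N → IsConj g h
  card_cen : Nat.card (Subgroup.centralizer ({g} : Set G)) * (N.relIndex M - 1) =
    M.index * N.relIndex M
  index_sq : ∃ d : ℕ, 1 < d ∧ M.index * (N.relIndex M - 1) = d * d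

theorem card_map (D : Data N M g) : Nat.card (M.map (QuotientGroup.mk' N)) = N.relIndex M := by
  have h1 : (M.map (QuotientGroup.mk' N)).index = M.index :=
    Subgroup.index_map_eq _ (QuotientGroup.mk'_surjective _)
      (by rw [QuotientGroup.ker_mk']; exact D.lt.le)
  have h2 := (M.map (QuotientGroup.mk' N)).card_mul_index
  rw [h1, ← Subgroup.index_eq_card, ← Subgroup.relIndex_mul_index D.lt.le] at h2
  exact Nat.eq_of_mul_eq_mul_right (Nat.pos_of_ne_zero M.index_ne_zero_of_finite) h2

theorem mem_M (D : Data N M g) {y : G} (h : QuotientGroup.mk' N y ∈ M.map (QuotientGroup.mk' N)) :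
    y ∈ M := by
  obtain ⟨m, hm, he⟩ := h
  have := M.mul_mem hm (D.lt.le (QuotientGroup.eq.mp he))
  simpa using this

theorem conj_in_quotient (D : Data N M g) {m : G ⧸ N} (hm : m ∈ M.map (QuotientGroup.mk' N))
    (hm1 : m ≠ 1) : IsConj (QuotientGroup.mk' N g) m := by
  obtain ⟨h, hh, rfl⟩ := hm
  have hN : h ∉ N := fun hN => hm1 ((QuotientGroup.eq_one_iff h).mpr hN)
  exact (QuotientGroup.mk' N).map_isConj (D.cls h hh hN)

theorem quotient_structure (D : Data N M g) :
    ∃ p r : ℕ, p.Prime ∧ 0 < r ∧ N.relIndex M = p ^ r ∧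
      (∀ m ∈ M.map (QuotientGroup.mk' N), m ^ p = 1) ∧
      (∀ a ∈ M.map (QuotientGroup.mk' N), ∀ b ∈ M.map (QuotientGroup.mk' N), a * b = b * a) := by
  classical
  set π := QuotientGroup.mk' N
  set V := M.map π
  have hπg : π g ≠ 1 := fun h => D.gN ((QuotientGroup.eq_one_iff g).mp h)
  have hgV : π g ∈ V := Subgroup.mem_map_of_mem π D.gM
  have hV1 : Nat.card V ≠ 1 := fun h => hπg (by
    have := Subgroup.card_eq_one.mp h ▸ hgV
    simpa using this)
  set p := (Nat.card V).minFac
  have hp : p.Prime := Nat.minFac_prime hV1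
  haveI := Fact.mk hp
  obtain ⟨v₀, hv₀⟩ := exists_prime_orderOf_dvd_card' (G := V) p (Nat.minFac_dvd _)
  have hord : ∀ m ∈ V, m ≠ 1 → orderOf m = p := by
    intro m hm hm1
    have hv1 : (v₀ : G ⧸ N) ≠ 1 := fun h => by
      rw [← Subgroup.orderOf_coe, h, orderOf_one] at hv₀
      exact hp.ne_one hv₀.symm
    obtain ⟨c, hc⟩ := isConj_iff.mp ((conj_in_quotient D v₀.2 hv1).symm.trans (conj_in_quotient D hm hm1))
    rw [← hc, ← hv₀, ← Subgroup.orderOf_coe]
    exact (orderOf_injective (MulAut.conj c).toMonoidHom (MulAut.conj c).injective _)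
  have hexp : ∀ m ∈ V, m ^ p = 1 := by
    intro m hm
    by_cases hm1 : m = 1
    · rw [hm1, one_pow]
    · rw [← hord m hm hm1, pow_orderOf_eq_one]
  have hVp : IsPGroup p V := fun v => ⟨1, Subtype.ext (by simpa using hexp v v.2)⟩
  obtain ⟨r, hr⟩ := IsPGroup.iff_card.mp hVp
  refine ⟨p, r, hp, Nat.pos_of_ne_zero fun h => hV1 (by rw [hr, h, pow_zero]),
    (card_map D).symm.trans hr, hexp, ?_⟩
  haveI : Nontrivial V := Finite.one_lt_card_iff_nontrivial.mp (by
    have : 0 < Nat.card V := Nat.card_pos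
    omega)
  haveI := hVp.center_nontrivial
  obtain ⟨⟨c, hc⟩, hc1⟩ := exists_ne (1 : Subgroup.center V)
  have hc1' : (c : G ⧸ N) ≠ 1 := fun h => hc1 (Subtype.ext (Subtype.ext h))
  haveI : V.Normal := (inferInstance : M.Normal).map π (QuotientGroup.mk'_surjective _)
  intro a ha b hb
  by_cases ha1 : a = 1
  · simp [ha1]
  obtain ⟨y, hy⟩ := isConj_iff.mp ((conj_in_quotient D c.2 hc1').symm.trans (conj_in_quotient D ha ha1))
  have hb' : y⁻¹ * b * y ∈ V := by simpa using (inferInstance : V.Normal).conj_mem b hb y⁻¹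
  have h := congrArg Subtype.val (Subgroup.mem_center_iff.mp hc ⟨_, hb'⟩)
  simp only [Subgroup.coe_mul] at h
  rw [← hy]
  calc y * (c : G ⧸ N) * y⁻¹ * b = y * ((c : G ⧸ N) * (y⁻¹ * b * y)) * y⁻¹ := by group
    _ = y * (y⁻¹ * b * y * c) * y⁻¹ := by rw [h]
    _ = b * (y * c * y⁻¹) := by group

theorem solvable_of_N (D : Data N M g) {p : ℕ} [Fact p.Prime] (K : Subgroup G) [K.Normal]
    (hKN : K ≤ N) (hqi : ∃ j, K.relIndex N = p ^ j) (hKs : Group.IsSolvable K)
    (hMN : ∀ a ∈ M.map (QuotientGroup.mk' N), ∀ b ∈ M.map (QuotientGroup.mk' N), a * b = b * a) :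
    Group.IsSolvable G := by
  haveI : Group.IsSolvable (N ⧸ K.subgroupOf N) := by
    obtain ⟨j, hj⟩ := hqi
    have hq : IsPGroup p (N ⧸ K.subgroupOf N) :=
      IsPGroup.of_card (n := j) ((K.subgroupOf N).index_eq_card.symm.trans hj)
    haveI := hq.isNilpotent
    infer_instance
  haveI := hKs
  have hN : Group.IsSolvable N := Group.isSolvable_of_ker_le_range (Subgroup.inclusion hKN)
    (QuotientGroup.mk' (K.subgroupOf N)) (by
      rw [QuotientGroup.ker_mk']
      intro v hv
      exact ⟨⟨v, hv⟩, rfl⟩)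
  haveI := hN
  have hM : Group.IsSolvable M := by
    haveI : Group.IsSolvable (M.map (QuotientGroup.mk' N)) :=
      Group.isSolvable_of_comm fun a b => Subtype.ext (hMN a a.2 b b.2)
    refine Group.isSolvable_of_ker_le_range (Subgroup.inclusion D.lt.le)
      ((QuotientGroup.mk' N).subgroupMap M) ?_
    intro v hv
    exact ⟨⟨v, (QuotientGroup.eq_one_iff (v : G)).mp (congrArg Subtype.val hv)⟩, rfl⟩
  haveI := hM
  haveI : Group.IsSolvable (G ⧸ M) := Group.isSolvable_of_comm fun a b => by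
    obtain ⟨x, rfl⟩ := QuotientGroup.mk'_surjective M a
    obtain ⟨y, rfl⟩ := QuotientGroup.mk'_surjective M b
    rw [← commutatorElement_eq_one_iff_mul_comm, ← map_commutatorElement]
    refine (QuotientGroup.eq_one_iff _).mpr (D.eq ▸ ?_)
    exact Subgroup.commutator_mem_commutator (Subgroup.mem_top x) (Subgroup.mem_top y)
  exact Group.isSolvable_of_ker_le_range M.subtype (QuotientGroup.mk' M) (by simp)

theorem card_centralizer_conj {x : G} (h : IsConj g x) :
    Nat.card (Subgroup.centralizer ({x} : Set G)) = Nat.card (Subgroup.centralizer ({g} : Set G)) := by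
  classical
  haveI := Fintype.ofFinite G
  have h1 := CfsgLib.Char.card_conjugates_mul x
  have h2 := CfsgLib.Char.card_conjugates_mul g
  rw [Nat.card_congr (Equiv.subtypeEquivRight (q := fun a => IsConj a g)
    fun a => ⟨fun e => e.trans h.symm, fun e => e.trans h⟩)] at h1
  have hpos : 0 < Nat.card {a : G // IsConj a g} := by
    haveI : Nonempty {a : G // IsConj a g} := ⟨⟨g, IsConj.refl g⟩⟩
    exact Nat.card_pos
  exact Nat.eq_of_mul_eq_mul_left hpos (h1.trans h2.symm)

/-- The case `|M : N| = 2`. -/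
theorem solvable_two (D : Data N M g) (hq : N.relIndex M = 2) : Group.IsSolvable G := by
  classical
  haveI := Fact.mk Nat.prime_two
  obtain ⟨-, -, -, -, -, -, hVab⟩ := quotient_structure D
  set π := QuotientGroup.mk' N
  set V := M.map π
  have hπs : Function.Surjective π := QuotientGroup.mk'_surjective _
  haveI : V.Normal := (inferInstance : M.Normal).map π hπs
  set c := π g
  have hc1 : c ≠ 1 := fun h => D.gN ((QuotientGroup.eq_one_iff g).mp h)
  have hcV : c ∈ V := Subgroup.mem_map_of_mem π D.gM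
  have hVmem : ∀ v ∈ V, v = 1 ∨ v = c := by
    intro v hv
    by_contra hcon
    push Not at hcon
    haveI := Fintype.ofFinite V
    have h3 : 3 ≤ Nat.card V := by
      rw [Nat.card_eq_fintype_card]
      refine le_trans (le_of_eq ?_) (Finset.card_le_univ ({1, ⟨c, hcV⟩, ⟨v, hv⟩} : Finset V))
      rw [Finset.card_eq_three.mpr ⟨1, ⟨c, hcV⟩, ⟨v, hv⟩, fun e => hc1 (congrArg Subtype.val e).symm,
        fun e => hcon.1 (congrArg Subtype.val e).symm, fun e => hcon.2 (congrArg Subtype.val e).symm,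
        rfl⟩]
    rw [card_map D, hq] at h3
    omega
  have hccen : ∀ y, y * c = c * y := by
    intro y
    rcases hVmem _ ((inferInstance : V.Normal).conj_mem c hcV y) with h | h
    · exact absurd (conj_eq_one_iff.mp h) hc1
    · calc y * c = y * c * y⁻¹ * y := by group
        _ = c * y := by rw [h]
  have hcc : c * c = 1 := by
    rcases hVmem _ (V.mul_mem hcV hcV) with h | h
    · exact h
    · exact absurd (mul_left_cancel (h.trans (mul_one c).symm)) hc1
  have hcomm : ∀ a b : G ⧸ N, a * b = b * a ∨ a * b = c * (b * a) := by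
    intro a b
    have hmem : ⁅a, b⁆ ∈ V := by
      obtain ⟨x, rfl⟩ := hπs a
      obtain ⟨y, rfl⟩ := hπs b
      rw [← map_commutatorElement]
      exact Subgroup.mem_map_of_mem π
        (D.eq ▸ Subgroup.commutator_mem_commutator (Subgroup.mem_top x) (Subgroup.mem_top y))
    rcases hVmem _ hmem with h | h
    · exact Or.inl (commutatorElement_eq_one_iff_mul_comm.mp h)
    · right
      rw [← h, commutatorElement_def]; group
  have hsq : ∀ a b : G ⧸ N, a * a * b = b * (a * a) := by
    intro a b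
    rcases hcomm a b with h | h
    · rw [mul_assoc, h, ← mul_assoc, h, mul_assoc]
    · calc a * a * b = a * (c * (b * a)) := by rw [mul_assoc, h]
        _ = c * (a * b) * a := by rw [← mul_assoc, hccen a]; group
        _ = c * c * (b * (a * a)) := by rw [h]; group
        _ = b * (a * a) := by rw [hcc, one_mul]
  have hQp : IsPGroup 2 (G ⧸ N) := by
    intro a
    refine ⟨2, ?_⟩
    obtain ⟨x, hx⟩ := hπs (a * a)
    have hxM : x ∈ M := D.cen x fun y => (QuotientGroup.eq_one_iff _).mp (by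
      change π ⁅x, y⁆ = 1
      rw [map_commutatorElement, commutatorElement_eq_one_iff_mul_comm, hx]
      exact hsq a (π y))
    rcases hVmem _ (hx ▸ Subgroup.mem_map_of_mem π hxM) with h | h
    · rw [show (2 : ℕ) ^ 2 = 2 * 2 from rfl, pow_mul, pow_two a, h, one_pow]
    · rw [show (2 : ℕ) ^ 2 = 2 * 2 from rfl, pow_mul, pow_two a, h, pow_two, hcc]
  obtain ⟨j, hj⟩ := IsPGroup.iff_card.mp hQp
  have hQc : Nat.card (G ⧸ N) = 2 * M.index := by
    rw [← Subgroup.index_eq_card, ← Subgroup.relIndex_mul_index D.lt.le, hq]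
  have hCg : Nat.card (Subgroup.centralizer ({g} : Set G)) = 2 * M.index := by
    have := D.card_cen
    rw [hq] at this
    omega
  obtain ⟨P⟩ : Nonempty (Sylow 2 G) := inferInstance
  have hPtop : (P : Subgroup G).map π = ⊤ := by
    refine ((P.mapSurjective hπs).3 (IsPGroup.of_equiv hQp Subgroup.topEquiv.symm) le_top).symm.trans ?_
    rfl
  have hlift : ∀ a : G ⧸ N, ∃ v : (P : Subgroup G), π (v : G) = a := by
    intro a
    obtain ⟨v, hv, he⟩ := (hPtop ▸ Subgroup.mem_top a : a ∈ (P : Subgroup G).map π)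
    exact ⟨⟨v, hv⟩, he⟩
  obtain ⟨x, hx⟩ := hlift c
  set R := N.subgroupOf (P : Subgroup G) with hRdef
  have hmemR : ∀ v : (P : Subgroup G), v ∈ R ↔ π (v : G) = 1 := fun v =>
    (Subgroup.mem_subgroupOf).trans (QuotientGroup.eq_one_iff (v : G)).symm
  have hxM : (x : G) ∈ M := mem_M D (by rw [hx]; exact hcV)
  have hxN : (x : G) ∉ N := fun h => hc1 (by rw [← hx]; exact (QuotientGroup.eq_one_iff _).mpr h)
  have hRi : R.index = 2 * M.index := by
    have he : R = (π.comp (P : Subgroup G).subtype).ker := by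
      ext v
      rw [MonoidHom.mem_ker]
      exact hmemR v
    rw [he, Subgroup.index_ker, ← hQc]
    have : (π.comp (P : Subgroup G).subtype).range = ⊤ := eq_top_iff.mpr fun a _ => by
      obtain ⟨v, hv⟩ := hlift a
      exact ⟨v, hv⟩
    rw [this, Subgroup.card_top]
  have hsub : ∀ v : (P : Subgroup G), x⁻¹ * (v * x * v⁻¹) ∈ R := fun v => (hmemR _).mpr (by
    simp only [Subgroup.coe_mul, Subgroup.coe_inv, map_mul, map_inv, hx]
    rw [hccen, mul_inv_cancel_right, inv_mul_cancel])
  have hcls := class_coset N (P : Subgroup G) x hsub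
    (by rw [card_centralizer_conj (D.cls _ hxM hxN), hCg, ← hRdef, hRi])
  have hxR : x ∉ R := fun h => hc1 (hx ▸ (hmemR x).mp h)
  have hab : ∀ v w : (P : Subgroup G),
      v * w * v⁻¹ * w⁻¹ ∈ R ∨ x⁻¹ * (v * w * v⁻¹ * w⁻¹) ∈ R := by
    intro v w
    simp only [hmemR, Subgroup.coe_mul, Subgroup.coe_inv, map_mul, map_inv, hx]
    rcases hcomm (π v) (π w) with h | h <;> rw [h]
    · left; group
    · right; group
  have hcen' : ∀ v : (P : Subgroup G), (∀ w, v * w * v⁻¹ * w⁻¹ ∈ R) → v ∈ R ∨ x⁻¹ * v ∈ R := by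
    intro v hv
    have hvM : (v : G) ∈ M := D.cen _ fun y => (QuotientGroup.eq_one_iff _).mp (by
      change π ⁅(v : G), y⁆ = 1
      obtain ⟨w, hw⟩ := hlift (π y)
      have := (hmemR _).mp (hv w)
      simp only [Subgroup.coe_mul, Subgroup.coe_inv, map_mul, map_inv, hw] at this
      rw [map_commutatorElement, commutatorElement_def]
      exact this)
    simp only [hmemR, Subgroup.coe_mul, Subgroup.coe_inv, map_mul, map_inv, hx]
    rcases hVmem _ (Subgroup.mem_map_of_mem π hvM) with h | h <;> rw [h]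
    · exact Or.inl rfl
    · exact Or.inr (inv_mul_cancel c)
  -- `R` is cyclic
  have hcyc : IsCyclic R := by
    obtain ⟨d, hd, hd2⟩ := D.index_sq
    rw [hq] at hd2
    have hd4 : 4 ≤ M.index := by
      have : 2 * 2 ≤ d * d := Nat.mul_le_mul hd hd
      omega
    rcases Nat.lt_or_ge 4 M.index with h4 | h4
    · have hbot := TwoClassCoset.eq_bot P.2 R x hxR ((hmemR _).mpr (by
        simp only [Subgroup.coe_mul, map_mul, hx, hcc])) hab hcen' hcls (by rw [hRi]; omega)
      rw [hbot]; infer_instance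
    · have h4' : M.index = 4 := by omega
      set MP := M.subgroupOf (P : Subgroup G)
      have hderle : commutator (P : Subgroup G) ≤ MP := by
        rw [commutator_eq_closure, Subgroup.closure_le]
        rintro _ ⟨v, w, rfl⟩
        change (((⁅v, w⁆ : (P : Subgroup G)) : G)) ∈ M
        rw [D.eq]
        exact Subgroup.commutator_mem_commutator (Subgroup.mem_top (v : G)) (Subgroup.mem_top (w : G))
      have hxder : ∀ ρ ∈ R, x * ρ ∈ commutator (P : Subgroup G) := by
        intro ρ hρ
        obtain ⟨v, w, hvw⟩ : ∃ v w : (P : Subgroup G), v * w * v⁻¹ * w⁻¹ ∉ R := by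
          by_contra hall
          push Not at hall
          have hMtop : M = ⊤ := eq_top_iff.mpr fun y _ => D.cen y fun y' =>
            (QuotientGroup.eq_one_iff _).mp (by
              change π ⁅y, y'⁆ = 1
              obtain ⟨v, hv⟩ := hlift (π y)
              obtain ⟨w, hw⟩ := hlift (π y')
              have := (hmemR _).mp (hall v w)
              simp only [Subgroup.coe_mul, Subgroup.coe_inv, map_mul, map_inv, hv, hw] at this
              rw [map_commutatorElement, commutatorElement_def]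
              exact this)
          rw [hMtop, Subgroup.index_top] at h4'
          omega
        have h1 : v * w * v⁻¹ * w⁻¹ ∈ commutator (P : Subgroup G) :=
          Subgroup.commutator_mem_commutator (Subgroup.mem_top v) (Subgroup.mem_top w)
        obtain ⟨u, hu⟩ := hcls _ ((hab v w).resolve_left hvw)
        rw [mul_inv_cancel_left] at hu
        rw [← hu] at h1
        have hxd : x ∈ commutator (P : Subgroup G) := by
          have := (inferInstance : (commutator (P : Subgroup G)).Normal).conj_mem _ h1 u⁻¹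
          simpa [mul_assoc] using this
        obtain ⟨u', hu'⟩ := hcls ρ hρ
        rw [← hu']
        exact (inferInstance : (commutator (P : Subgroup G)).Normal).conj_mem _ hxd u'
      have hRle : R ≤ commutator (P : Subgroup G) := fun ρ hρ => by
        have h1 := hxder ρ hρ
        have h2 := hxder 1 R.one_mem
        rw [mul_one] at h2
        simpa using (commutator (P : Subgroup G)).mul_mem ((commutator (P : Subgroup G)).inv_mem h2) h1
      have hder : commutator (P : Subgroup G) = MP := by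
        refine le_antisymm hderle fun v hv => ?_
        rcases hVmem _ (Subgroup.mem_map_of_mem π (show (v : G) ∈ M from hv)) with h | h
        · exact hRle ((hmemR v).mpr h)
        · have hxv : x⁻¹ * v ∈ R := (hmemR _).mpr (by
            simp only [Subgroup.coe_mul, Subgroup.coe_inv, map_mul, map_inv, hx, h, inv_mul_cancel])
          simpa using hxder _ hxv
      have hidx : (commutator (P : Subgroup G)).index = 4 := by
        have he : MP = ((QuotientGroup.mk' M).comp (P : Subgroup G).subtype).ker := by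
          ext v
          rw [MonoidHom.mem_ker]
          exact (QuotientGroup.eq_one_iff (v : G)).symm
        rw [hder, he, Subgroup.index_ker, ← h4', Subgroup.index_eq_card]
        have : ((QuotientGroup.mk' M).comp (P : Subgroup G).subtype).range = ⊤ :=
          eq_top_iff.mpr fun a _ => by
            obtain ⟨y, rfl⟩ := QuotientGroup.mk'_surjective M a
            obtain ⟨v, hv⟩ := hlift (π y)
            exact ⟨v, QuotientGroup.eq.mpr (D.lt.le (QuotientGroup.eq.mp hv))⟩
        rw [this, Subgroup.card_top]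
      haveI := TwoClassCoset.isCyclic_commutator P.2 hidx
      exact isCyclic_of_injective (Subgroup.inclusion hRle) (Subgroup.inclusion_injective hRle)
  set R₀ : Subgroup G := (P : Subgroup G) ⊓ N
  have hcyc₀ : IsCyclic R₀ := by
    refine isCyclic_of_surjective
      ((Subgroup.inclusion (show R.map (P : Subgroup G).subtype ≤ R₀ from ?_)).comp
        ((P : Subgroup G).subtype.subgroupMap R)) ?_
    · rintro _ ⟨v, hv, rfl⟩
      exact ⟨v.2, hv⟩
    · rintro ⟨y, hy⟩
      exact ⟨⟨⟨y, hy.1⟩, hy.2⟩, rfl⟩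
  haveI := hcyc₀
  obtain ⟨K, hKn, hKN, hKc, hKq⟩ := exists_complement (p := 2) N P
    (fun a ha b hb => congrArg Subtype.val
      ((IsCyclic.commGroup (α := R₀)).mul_comm ⟨a, ha⟩ ⟨b, hb⟩))
    (fun u _ hun => by
      obtain ⟨i, hi⟩ := IsPGroup.iff_card.mp (P.2.to_le (show R₀ ≤ P from inf_le_left))
      refine ⟨i - 1, fun ρ hρ => ?_⟩
      set f := R₀.normalizerMonoidHom
      have h1 : f ⟨u, hun⟩ ^ 2 ^ (i - 1) = 1 := by
        rw [← orderOf_dvd_iff_pow_eq_one]
        refine (orderOf_dvd_natCard _).trans ?_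
        rw [IsCyclic.card_mulAut, hi]
        rcases i with _ | i
        · simp
        · rw [Nat.totient_prime_pow_succ Nat.prime_two]; simp
      rw [← map_pow] at h1
      have h2 : u ^ 2 ^ (i - 1) * ρ * (u ^ 2 ^ (i - 1))⁻¹ = ρ := congrArg Subtype.val
        (DFunLike.congr_fun h1 (⟨ρ, hρ⟩ : R₀))
      calc u ^ 2 ^ (i - 1) * ρ = u ^ 2 ^ (i - 1) * ρ * (u ^ 2 ^ (i - 1))⁻¹ * u ^ 2 ^ (i - 1) := by group
        _ = ρ * u ^ 2 ^ (i - 1) := by rw [h2])
  haveI := hKn
  refine solvable_of_N (p := 2) D K hKN hKq (CfsgLib.OddOrder.Final.oddSolvable K ?_) hVab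
  rw [Nat.odd_iff]
  omega

/-- The case `|M : N| > 2`. -/
theorem solvable_large (D : Data N M g) (hq2 : 2 < N.relIndex M) : Group.IsSolvable G := by
  classical
  haveI := Fintype.ofFinite G
  obtain ⟨p, r, hp, hr, hq, hVexp, hVab⟩ := quotient_structure D
  haveI := Fact.mk hp
  set π := QuotientGroup.mk' N
  set V := M.map π
  have hπs : Function.Surjective π := QuotientGroup.mk'_surjective _
  haveI : V.Normal := (inferInstance : M.Normal).map π hπs
  set c := π g
  have hc1 : c ≠ 1 := fun h => D.gN ((QuotientGroup.eq_one_iff g).mp h)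
  have hcV : c ∈ V := Subgroup.mem_map_of_mem π D.gM
  have hVc : Nat.card V = p ^ r := (card_map D).trans hq
  have hcomV : ∀ a b : G ⧸ N, a * b * a⁻¹ * b⁻¹ ∈ V := by
    intro a b
    obtain ⟨x, rfl⟩ := hπs a
    obtain ⟨y, rfl⟩ := hπs b
    have := Subgroup.mem_map_of_mem π (D.eq ▸
      Subgroup.commutator_mem_commutator (Subgroup.mem_top x) (Subgroup.mem_top y) : ⁅x, y⁆ ∈ M)
    rw [map_commutatorElement, commutatorElement_def] at this
    exact this
  -- an element centralising one non-trivial element of `V` centralises `V`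
  have hreg : ∀ y : G ⧸ N, ∀ m₀ ∈ V, m₀ ≠ 1 → y * m₀ = m₀ * y → ∀ m ∈ V, y * m = m * y := by
    intro y m₀ hm₀ hm₁ hy m hm
    by_cases hm1 : m = 1
    · simp [hm1]
    obtain ⟨u, rfl⟩ := isConj_iff.mp ((conj_in_quotient D hm₀ hm₁).symm.trans (conj_in_quotient D hm hm1))
    have h := hVab _ (hcomV y u) _ hm
    calc y * (u * m₀ * u⁻¹) = (y * u * y⁻¹ * u⁻¹) * u * (y * m₀) * u⁻¹ := by group
      _ = (y * u * y⁻¹ * u⁻¹) * (u * m₀ * u⁻¹) * (u * y * u⁻¹) := by rw [hy]; group
      _ = (u * m₀ * u⁻¹) * (y * u * y⁻¹ * u⁻¹) * (u * y * u⁻¹) := by rw [h]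
      _ = u * m₀ * u⁻¹ * y := by group
  -- the quotient has trivial centre
  have hcen1 : ∀ z : G ⧸ N, (∀ y, z * y = y * z) → z = 1 := by
    intro z hz
    by_contra hz1
    obtain ⟨x, rfl⟩ := hπs z
    have hxM : x ∈ M := D.cen x fun y => (QuotientGroup.eq_one_iff _).mp (by
      change π ⁅x, y⁆ = 1
      rw [map_commutatorElement, commutatorElement_eq_one_iff_mul_comm]
      exact hz (π y))
    have hsub : ∀ m ∈ V, m = 1 ∨ m = π x := by
      intro m hm
      by_cases hm1 : m = 1
      · exact Or.inl hm1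
      right
      obtain ⟨u, hu⟩ := isConj_iff.mp
        ((conj_in_quotient D (Subgroup.mem_map_of_mem π hxM) hz1).symm.trans (conj_in_quotient D hm hm1))
      rw [← hu, ← hz u, mul_inv_cancel_right]
    have : Nat.card V ≤ Nat.card Bool :=
      Nat.card_le_card_of_injective (fun m : V => decide ((m : G ⧸ N) = 1)) fun a b h => by
        apply Subtype.ext
        rcases hsub a a.2 with h1 | h1 <;> rcases hsub b b.2 with h2 | h2 <;>
          simp [h1, h2, hz1] at h ⊢
    rw [hVc, ← hq] at this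
    simp [Nat.card_eq_fintype_card] at this
    omega
  obtain ⟨y₀, hy₀⟩ : ∃ y₀ : G ⧸ N, y₀ * c ≠ c * y₀ := by
    by_contra h
    push Not at h
    exact hc1 (hcen1 c fun y => (h y).symm)
  -- `m ↦ m (y m y⁻¹)⁻¹` is onto for `y` not centralising `V`
  have hsurjV : ∀ y : G ⧸ N, y * c ≠ c * y → ∀ d ∈ V, ∃ m ∈ V, m * (y * m * y⁻¹)⁻¹ = d := by
    intro y hy d hd
    let f : V → V := fun m => ⟨(m : G ⧸ N) * (y * m * y⁻¹)⁻¹,
      V.mul_mem m.2 (V.inv_mem ((inferInstance : V.Normal).conj_mem _ m.2 y))⟩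
    have hf : Function.Injective f := by
      intro a b hab'
      have h : (a : G ⧸ N) * (y * a * y⁻¹)⁻¹ = b * (y * b * y⁻¹)⁻¹ := congrArg Subtype.val hab'
      by_contra hne
      have hne' : (b : G ⧸ N)⁻¹ * a ≠ 1 := fun e => hne (Subtype.ext (inv_mul_eq_one.mp e).symm)
      have hd' : y * ((b : G ⧸ N)⁻¹ * a) = (b : G ⧸ N)⁻¹ * a * y := by
        have h2 : (b : G ⧸ N)⁻¹ * a = (y * b * y⁻¹)⁻¹ * (y * a * y⁻¹) := by
          calc (b : G ⧸ N)⁻¹ * a
              = (b : G ⧸ N)⁻¹ * (a * (y * a * y⁻¹)⁻¹) * (y * a * y⁻¹) := by group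
            _ = (b : G ⧸ N)⁻¹ * (b * (y * b * y⁻¹)⁻¹) * (y * a * y⁻¹) := by rw [h]
            _ = _ := by group
        calc y * ((b : G ⧸ N)⁻¹ * a) = (y * b * y⁻¹)⁻¹ * (y * a * y⁻¹) * y := by group
          _ = (b : G ⧸ N)⁻¹ * a * y := by rw [← h2]
      exact hy (hreg y _ (V.mul_mem (V.inv_mem b.2) a.2) hne' hd' c hcV)
    obtain ⟨m, hm⟩ := (Finite.injective_iff_surjective.mp hf) ⟨d, hd⟩
    exact ⟨m, m.2, congrArg Subtype.val hm⟩
  have hfix : ∀ y : G ⧸ N, ∃ m ∈ V, y₀ * (m * y) = m * y * y₀ := by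
    intro y
    obtain ⟨m, hm, hmd⟩ := hsurjV y₀ hy₀ _ (hcomV y₀ y)
    refine ⟨m, hm, ?_⟩
    have hb : y₀ * m * y₀⁻¹ ∈ V := (inferInstance : V.Normal).conj_mem _ hm y₀
    calc y₀ * (m * y) = (y₀ * m * y₀⁻¹) * (y₀ * y * y₀⁻¹ * y⁻¹) * (y * y₀) := by group
      _ = (y₀ * m * y₀⁻¹) * (m * (y₀ * m * y₀⁻¹)⁻¹) * (y * y₀) := by rw [← hmd]
      _ = (m * (y₀ * m * y₀⁻¹)⁻¹) * (y₀ * m * y₀⁻¹) * (y * y₀) := by
        rw [hVab _ hb _ (V.mul_mem hm (V.inv_mem hb))]
      _ = m * y * y₀ := by group
  have hCV : ∀ y : G ⧸ N, (∀ m ∈ V, y * m = m * y) → y ∈ V := by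
    intro y hy
    obtain ⟨m, hm, hmy⟩ := hfix y
    have hc' : ∀ m' ∈ V, m * y * m' = m' * (m * y) := by
      intro m' hm'
      rw [mul_assoc, hy m' hm', ← mul_assoc, hVab m hm m' hm', mul_assoc]
    have hz : ∀ w, m * y * w = w * (m * y) := by
      intro w
      -- the commutator is fixed by `y₀`
      set c' := m * y with hc'def
      set d := w * c' * w⁻¹ * c'⁻¹ with hd
      have hdV : d ∈ V := hcomV w c'
      by_contra hne
      have hd1 : d ≠ 1 := fun e => hne (by
        calc c' * w = 1 * c' * w := by rw [one_mul]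
          _ = w * c' := by rw [← e, hd]; group)
      apply hy₀
      refine hreg y₀ d hdV hd1 ?_ c hcV
      have hv := hcomV y₀ w
      have e1 : y₀ * d * y₀⁻¹ = d := by
        have h1 : y₀ * c' * y₀⁻¹ = c' := by rw [hmy, mul_inv_cancel_right]
        calc y₀ * d * y₀⁻¹ = (y₀ * w * y₀⁻¹ * w⁻¹) * w * (y₀ * c' * y₀⁻¹) * w⁻¹ *
              (y₀ * w * y₀⁻¹ * w⁻¹)⁻¹ * (y₀ * c' * y₀⁻¹)⁻¹ := by rw [hd]; group
          _ = (y₀ * w * y₀⁻¹ * w⁻¹) * (w * c' * w⁻¹ * c'⁻¹) *
              (c' * (y₀ * w * y₀⁻¹ * w⁻¹)⁻¹) * c'⁻¹ := by rw [h1]; group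
          _ = (y₀ * w * y₀⁻¹ * w⁻¹) * d * ((y₀ * w * y₀⁻¹ * w⁻¹)⁻¹ * c') * c'⁻¹ := by
            rw [← hc' _ (V.inv_mem hv)]
          _ = (y₀ * w * y₀⁻¹ * w⁻¹) * d * (y₀ * w * y₀⁻¹ * w⁻¹)⁻¹ := by group
          _ = d := by rw [hVab _ hv _ hdV, mul_inv_cancel_right]
      calc y₀ * d = y₀ * d * y₀⁻¹ * y₀ := by group
        _ = d * y₀ := by rw [e1]
    rw [show y = m⁻¹ * (m * y) by group, hcen1 _ hz, mul_one]
    exact V.inv_mem hm
  -- the index of `M`
  have hai : M.index = p ^ r - 1 := by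
    have hC : Subgroup.centralizer ({c} : Set (G ⧸ N)) = V := by
      ext y
      rw [Subgroup.mem_centralizer_singleton_iff]
      refine ⟨fun h => hCV y (hreg y c hcV hc1 h), fun h => hVab y h c hcV⟩
    haveI := Fintype.ofFinite (G ⧸ N)
    have h1 := CfsgLib.Char.card_conjugates_mul c
    rw [hC, ← V.index_mul_card] at h1
    have h2 : Nat.card {a : G ⧸ N // IsConj a c} = Nat.card {a : V // a ≠ 1} := by
      refine Nat.card_congr
        { toFun := fun a => ⟨⟨a.1, by
            obtain ⟨u, hu⟩ := isConj_iff.mp a.2.symm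
            exact hu ▸ (inferInstance : V.Normal).conj_mem _ hcV u⟩,
            fun e => hc1 (isConj_one_right.mp ((show (a.1 : G ⧸ N) = 1 from congrArg Subtype.val e) ▸ a.2))⟩
          invFun := fun a => ⟨a.1.1, (conj_in_quotient D a.1.2 fun e => a.2 (Subtype.ext e)).symm⟩
          left_inv := fun a => rfl
          right_inv := fun a => rfl }
    have h3 : Nat.card {a : V // a ≠ 1} + 1 = Nat.card V := by
      have := Nat.card_congr (Equiv.sumCompl (fun a : V => a = 1))
      rw [Nat.card_sum, show Nat.card {a : V // a = 1} = 1 by simp] at this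
      show Nat.card {a : V // ¬ a = 1} + 1 = Nat.card V
      omega
    have h4 : V.index = M.index := Subgroup.index_map_eq _ hπs
      (by rw [QuotientGroup.ker_mk']; exact D.lt.le)
    rw [h2, h4] at h1
    have := Nat.eq_of_mul_eq_mul_right Nat.card_pos h1
    omega
  have hCg : Nat.card (Subgroup.centralizer ({g} : Set G)) = p ^ r := by
    have h := D.card_cen
    rw [hq, hai, mul_comm (p ^ r - 1)] at h
    exact Nat.eq_of_mul_eq_mul_right (by omega) h
  -- `G / M` is cyclic
  set H₀ := Subgroup.centralizer ({y₀} : Set (G ⧸ N))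
  have hy₀V : ∀ m ∈ V, y₀ * m = m * y₀ → m = 1 := fun m hm h => by
    by_contra hm1
    exact hy₀ (hreg y₀ m hm hm1 h c hcV)
  have hH₀ : ∀ a ∈ H₀, a ∈ V → a = 1 := fun a ha haV =>
    hy₀V a haV (Subgroup.mem_centralizer_singleton_iff.mp ha).symm
  haveI : IsMulCommutative H₀ := ⟨⟨fun a b => Subtype.ext (by
    have h := hH₀ _ (H₀.mul_mem (H₀.mul_mem (H₀.mul_mem a.2 b.2) (H₀.inv_mem a.2)) (H₀.inv_mem b.2))
      (hcomV a b)
    calc (a : G ⧸ N) * b = (a : G ⧸ N) * b * (a : G ⧸ N)⁻¹ * (b : G ⧸ N)⁻¹ * (b * a) := by group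
      _ = b * a := by rw [h, one_mul])⟩⟩
  let σ' : G ⧸ N →* G ⧸ M := QuotientGroup.map N M (MonoidHom.id G) D.lt.le
  have hσV : ∀ a, σ' a = 1 ↔ a ∈ V := by
    intro a
    obtain ⟨y, rfl⟩ := hπs a
    change (y : G ⧸ M) = 1 ↔ _
    rw [QuotientGroup.eq_one_iff]
    exact ⟨Subgroup.mem_map_of_mem π, mem_M D⟩
  let ι : H₀ →* G ⧸ M := σ'.comp H₀.subtype
  have hιs : Function.Surjective ι := by
    intro a
    obtain ⟨y, rfl⟩ := QuotientGroup.mk'_surjective M a
    obtain ⟨m, hm, hmy⟩ := hfix (π y)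
    refine ⟨⟨m * π y, Subgroup.mem_centralizer_singleton_iff.mpr hmy.symm⟩, ?_⟩
    change σ' (m * π y) = (y : G ⧸ M)
    rw [map_mul, (hσV m).mpr hm, one_mul]
    rfl
  have hιi : Function.Injective ι := by
    rw [← MonoidHom.ker_eq_bot_iff, eq_bot_iff]
    intro a ha
    exact Subtype.ext (hH₀ a a.2 ((hσV _).mp ha))
  have hH₀c : Nat.card H₀ = p ^ r - 1 := by
    rw [Nat.card_congr (Equiv.ofBijective ι ⟨hιi, hιs⟩), ← Subgroup.index_eq_card, hai]
  have hcop : (p ^ r - 1).Coprime (p ^ r) := by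
    refine Nat.Coprime.pow_right _ ((Nat.Prime.coprime_iff_not_dvd hp).mpr fun h => ?_).symm
    have h1 : p ∣ p ^ r := dvd_pow_self p hr.ne'
    have := Nat.dvd_sub h1 h
    rw [show p ^ r - (p ^ r - 1) = 1 by have := Nat.one_le_pow r p hp.pos; omega] at this
    exact hp.ne_one (Nat.dvd_one.mp this)
  have hH₀cyc : IsCyclic H₀ := by
    by_contra hnc
    have h := CfsgLib.Coprime.iSup_centralizer_singleton hnc (K := V)
      (by rw [Subgroup.normalizer_eq_top]; exact le_top) (by rw [hH₀c, hVc]; exact hcop)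
    apply hc1
    have hbot : V = ⊥ := by
      rw [← h]
      refine eq_bot_iff.mpr (iSup₂_le fun a ha m hm => ?_)
      rw [Subgroup.mem_bot]
      by_contra hm1
      have := hreg a m hm.1 hm1 ((Subgroup.mem_centralizer_singleton_iff.mp hm.2).symm)
      exact ha.2 (hH₀ a ha.1 (hCV a this))
    exact Subgroup.mem_bot.mp (hbot ▸ hcV)
  haveI : IsCyclic (G ⧸ M) := isCyclic_of_surjective ι hιs
  -- Sylow
  obtain ⟨P⟩ : Nonempty (Sylow p G) := inferInstance
  have hPM : (P : Subgroup G) ≤ M := by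
    intro v hv
    rw [← QuotientGroup.eq_one_iff, ← orderOf_eq_one_iff, ← Nat.dvd_one, ← hcop.gcd_eq_one]
    refine Nat.dvd_gcd ?_ ?_
    · rw [← hai, Subgroup.index_eq_card]; exact orderOf_dvd_natCard _
    · obtain ⟨i, hi⟩ := P.2 ⟨v, hv⟩
      have hvi : v ^ p ^ i = 1 := congrArg Subtype.val hi
      have h1 : orderOf (QuotientGroup.mk v : G ⧸ M) ∣ p ^ i :=
        orderOf_dvd_of_pow_eq_one (by rw [← QuotientGroup.mk_pow, hvi]; rfl)
      obtain ⟨j, -, hj⟩ := (Nat.dvd_prime_pow hp).mp h1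
      rcases Nat.eq_zero_or_pos j with rfl | hj0
      · rw [hj, pow_zero]; exact one_dvd _
      · exfalso
        have h2 : p ∣ p ^ r - 1 := by
          rw [← hai, Subgroup.index_eq_card]
          exact ((dvd_pow_self p hj0.ne').trans (dvd_of_eq hj.symm)).trans (orderOf_dvd_natCard _)
        exact (Nat.Prime.coprime_iff_not_dvd hp).mp
          (hcop.coprime_dvd_right (dvd_pow_self p hr.ne')).symm h2
  have hVp : IsPGroup p V := IsPGroup.of_card hVc
  have hPV : (P : Subgroup G).map π = V :=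
    ((P.mapSurjective hπs).3 hVp (Subgroup.map_mono hPM)).symm
  have hlift : ∀ a ∈ V, ∃ v : (P : Subgroup G), π (v : G) = a := by
    intro a ha
    obtain ⟨v, hv, he⟩ := (hPV ▸ ha : a ∈ (P : Subgroup G).map π)
    exact ⟨⟨v, hv⟩, he⟩
  obtain ⟨x, hx⟩ := hlift c hcV
  set R := N.subgroupOf (P : Subgroup G) with hRdef
  have hmemR : ∀ v : (P : Subgroup G), v ∈ R ↔ π (v : G) = 1 := fun v =>
    (Subgroup.mem_subgroupOf).trans (QuotientGroup.eq_one_iff (v : G)).symm
  have hPmem : ∀ v : (P : Subgroup G), π (v : G) ∈ V := fun v =>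
    Subgroup.mem_map_of_mem π (hPM v.2)
  have hRi : R.index = p ^ r := by
    have he : R = (π.comp (P : Subgroup G).subtype).ker := by
      ext v
      rw [MonoidHom.mem_ker]
      exact hmemR v
    rw [he, Subgroup.index_ker, ← hVc, MonoidHom.range_comp, Subgroup.range_subtype, hPV]
  have hab : ∀ v w : (P : Subgroup G), v⁻¹ * (w * v * w⁻¹) ∈ R := fun v w => (hmemR _).mpr (by
    simp only [Subgroup.coe_mul, Subgroup.coe_inv, map_mul, map_inv]
    rw [hVab _ (hPmem w) _ (hPmem v), mul_inv_cancel_right, inv_mul_cancel])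
  have hcls : ∀ v : (P : Subgroup G), v ∉ R → ∀ ρ ∈ R, ∃ w, w * v * w⁻¹ = v * ρ := fun v hv =>
    class_coset N (P : Subgroup G) v (fun w => hab v w) (by
      rw [card_centralizer_conj (D.cls _ (hPM v.2) fun h => hv h), hCg, ← hRdef, hRi])
  have hxR : x ∉ R := fun h => hc1 (hx ▸ (hmemR x).mp h)
  -- `R` is central and `x` has order `p` if `p` is odd
  have key : R ≤ Subgroup.center (P : Subgroup G) ∧ (p ≠ 2 → (x : G) ^ p = 1) := by
    have hcx : Nat.card (Subgroup.centralizer ({x} : Set (P : Subgroup G))) = p ^ r :=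
      hRi ▸ CentralKernel.card_centralizer R x (hcls x hxR) fun v => hab x v
    rcases Nat.lt_or_ge r 2 with hr1 | hr2
    · obtain rfl : r = 1 := by omega
      rw [pow_one] at hcx
      have hCz : Subgroup.centralizer ({x} : Set (P : Subgroup G)) = Subgroup.zpowers x := by
        refine ((Subgroup.eq_of_le_of_card_ge ?_ ?_)).symm
        · rw [Subgroup.zpowers_le]; exact Subgroup.mem_centralizer_singleton_iff.mpr rfl
        · rw [hcx, Nat.card_zpowers]
          obtain ⟨i, hi⟩ := IsPGroup.iff_orderOf.mp P.2 x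
          rw [hi]
          refine Nat.le_self_pow (fun h0 => hxR ?_) p
          rw [h0, pow_zero, orderOf_eq_one_iff] at hi
          rw [hi]; exact R.one_mem
      have hxp : orderOf x = p := by rw [← Nat.card_zpowers, ← hCz, hcx]
      have hR1 : R = ⊥ := by
        by_contra hR
        haveI : Group.IsNilpotent (P : Subgroup G) := P.2.isNilpotent
        obtain ⟨z, ⟨hzR, hzc⟩, hz1⟩ := ((R ⊓ Subgroup.center (P : Subgroup G)).bot_or_exists_ne_one).resolve_left
          (CfsgLib.Solvable.FrattiniFitting.inf_center_ne_bot R hR)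
        have hzx : z ∈ Subgroup.zpowers x := hCz ▸ Subgroup.mem_centralizer_singleton_iff.mpr
          (Subgroup.mem_center_iff.mp hzc x).symm
        obtain ⟨i, hi, rfl⟩ := mem_powers_iff_mem_zpowers.mpr hzx |> fun h =>
          (show ∃ i, i < p ∧ x ^ i = z from by
            obtain ⟨i, rfl⟩ := h
            exact ⟨i % p, Nat.mod_lt _ hp.pos, (congrArg (fun n => x ^ (i % n)) hxp.symm).trans (pow_mod_orderOf x i)⟩)
        apply hxR
        have hi0 : ¬ p ∣ i := fun h => hz1 (by
          rw [show i = 0 from Nat.eq_zero_of_dvd_of_lt h hi, pow_zero])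
        obtain ⟨j, hj⟩ := exists_pow_eq_self_of_coprime
          (show i.Coprime (orderOf x) by rw [hxp]; exact ((Nat.Prime.coprime_iff_not_dvd hp).mpr hi0).symm)
        rw [← hj]
        exact R.pow_mem hzR j
      refine ⟨hR1 ▸ bot_le, fun _ => ?_⟩
      rw [← Subgroup.coe_pow, (congrArg (x ^ ·) hxp.symm).trans (pow_orderOf_eq_one x)]; rfl
    · obtain ⟨l, e, hl, he, hle, hlt⟩ := CentralKernel.exists_prime_power hp hr2
      have hlp : ¬ l ∣ p := by
        intro h
        rcases (Nat.dvd_prime hp).mp h with h | h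
        · exact hl.ne_one h
        · subst h
          exact (Nat.Prime.coprime_iff_not_dvd hp).mp
            (hcop.coprime_dvd_right (dvd_pow_self l hr.ne')).symm ((dvd_pow_self l he.ne').trans hle)
      obtain ⟨s₀, hs₀⟩ := IsCyclic.exists_generator (α := G ⧸ M)
      have hs₀o : orderOf s₀ = p ^ r - 1 := by
        rw [orderOf_eq_card_of_forall_mem_zpowers hs₀, ← Subgroup.index_eq_card, hai]
      obtain ⟨k, hk⟩ := hle
      have hso : orderOf (s₀ ^ k) = l ^ e := by
        have hk0 : 0 < k := Nat.pos_of_ne_zero fun h => by rw [h, mul_zero] at hk; omega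
        rw [orderOf_pow, hs₀o, hk, Nat.gcd_mul_left_left, Nat.mul_div_cancel _ hk0]
      obtain ⟨y, hy⟩ := QuotientGroup.mk'_surjective M (s₀ ^ k)
      have hfr := P.normalizer_sup_eq_top' hPM
      obtain ⟨h₀, hh₀, m₀, hm₀, hh⟩ := Subgroup.mem_sup_of_normal_right.mp (hfr ▸ Subgroup.mem_top y)
      have hh₀s : (QuotientGroup.mk h₀ : G ⧸ M) = s₀ ^ k := by
        rw [← hy, ← hh]
        exact (QuotientGroup.mk_mul_of_mem h₀ hm₀).symm
      obtain ⟨b, m, hm, hb⟩ := Nat.exists_eq_pow_mul_and_not_dvd (orderOf_pos h₀).ne' l hl.ne_one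
      set h := h₀ ^ m with hhdef
      have hhn : h ∈ Subgroup.normalizer ((P : Subgroup G) : Set G) := pow_mem hh₀ m
      have hhl : h ^ l ^ b = 1 := by
        rw [hhdef, ← pow_mul, mul_comm, ← hb, pow_orderOf_eq_one]
      have hho : orderOf (QuotientGroup.mk h : G ⧸ M) = l ^ e := by
        rw [hhdef, QuotientGroup.mk_pow, hh₀s,
          Nat.Coprime.orderOf_pow (by
            rw [hso]; exact Nat.Coprime.pow_left e ((Nat.Prime.coprime_iff_not_dvd hl).mpr hm)), hso]
      set φ : MulAut (P : Subgroup G) := (P : Subgroup G).normalizerMonoidHom ⟨h, hhn⟩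
      have hφ : ∀ (i : ℕ) (v : (P : Subgroup G)), (((φ ^ i) v : (P : Subgroup G)) : G) = h ^ i * v * (h ^ i)⁻¹ := by
        intro i v
        rw [← map_pow]
        rfl
      have hφn : φ ^ l ^ b = 1 := MulEquiv.ext fun v => Subtype.ext (by rw [hφ, hhl]; simp)
      have hinv : ∀ v ∈ R, φ v ∈ R := fun v hv => by
        change h * (v : G) * h⁻¹ ∈ N
        exact (inferInstance : N.Normal).conj_mem _ hv h
      set t := π (h ^ l ^ (e - 1))
      have ht : t * c ≠ c * t := fun htc => by
        have h1 : σ' t = 1 := (hσV t).mpr (hCV t (hreg t c hcV hc1 htc))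
        have h2 : (QuotientGroup.mk h : G ⧸ M) ^ l ^ (e - 1) = 1 := by rw [← QuotientGroup.mk_pow]; exact h1
        have h3 := orderOf_dvd_of_pow_eq_one h2
        rw [hho] at h3
        have := (Nat.pow_dvd_pow_iff_le_right hl.one_lt).mp h3
        omega
      have hψ : ∀ v : (P : Subgroup G), π (((φ ^ l ^ (e - 1)) v : (P : Subgroup G)) : G) =
          t * π (v : G) * t⁻¹ := fun v => by rw [hφ, map_mul, map_mul, map_inv]
      have hfpf : ∀ v : (P : Subgroup G), v⁻¹ * (φ ^ l ^ (e - 1)) v ∈ R → v ∈ R := by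
        intro v hv
        rw [hmemR] at hv ⊢
        simp only [Subgroup.coe_mul, Subgroup.coe_inv, map_mul, map_inv, hψ, inv_mul_eq_one] at hv
        by_contra hv1
        refine ht (hreg t _ (hPmem v) hv1 ?_ c hcV)
        calc t * π (v : G) = t * π (v : G) * t⁻¹ * t := by group
          _ = π (v : G) * t := by rw [← hv]
      obtain ⟨hcent, hfixR⟩ := CentralKernel.le_center P.2 hl he hlt hlp R hRi
        (fun h => hxR (h ▸ Subgroup.mem_top x)) hcls hab φ hinv hφn hfpf
      refine ⟨hcent, fun hp2 => ?_⟩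
      have hpdvd : p ∣ p.choose 2 :=
        hp.dvd_choose_self two_ne_zero (lt_of_le_of_ne hp.two_le (Ne.symm hp2))
      have hRexp : ∀ ρ ∈ R, ρ ^ p = 1 := by
        intro ρ hρ
        obtain ⟨w, hw⟩ := hcls x hxR ρ hρ
        have hxpR : x ^ p ∈ R := (hmemR _).mpr (by
          rw [Subgroup.coe_pow, map_pow, hx]; exact hVexp c hcV)
        have h2 := congrArg (· ^ p) hw
        simp only [conj_pow] at h2
        rw [Subgroup.mem_center_iff.mp (hcent hxpR) w, mul_inv_cancel_right,
          (show Commute x ρ from Subgroup.mem_center_iff.mp (hcent hρ) x).mul_pow, left_eq_mul] at h2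
        exact h2
      have hpow : ∀ a b : (P : Subgroup G), (a * b) ^ p = a ^ p * b ^ p := by
        intro a b
        have hcR : b * a * b⁻¹ * a⁻¹ ∈ R := (hmemR _).mpr (by
          simp only [Subgroup.coe_mul, Subgroup.coe_inv, map_mul, map_inv]
          rw [hVab _ (hPmem b) _ (hPmem a)]; group)
        obtain ⟨k', hk'⟩ := hpdvd
        rw [mul_pow_class_two a b (fun w => (Subgroup.mem_center_iff.mp (hcent hcR) w).symm) p,
          hk', pow_mul, hRexp _ hcR, one_pow, mul_one]
      obtain ⟨m, hm, hmd⟩ := hsurjV t ht c hcV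
      obtain ⟨w, hw⟩ := hlift m hm
      set u := w * ((φ ^ l ^ (e - 1)) w)⁻¹ with hu
      have hux : u⁻¹ * x ∈ R := (hmemR _).mpr (by
        simp only [hu, Subgroup.coe_mul, Subgroup.coe_inv, map_mul, map_inv, hψ, hw, hx]
        rw [← hmd]; group)
      have hwp : w ^ p ∈ R := (hmemR _).mpr (by
        rw [Subgroup.coe_pow, map_pow, hw]; exact hVexp m hm)
      have hup : u ^ p = 1 := by
        rw [hu, hpow, inv_pow, ← map_pow, hfixR _ hwp, mul_inv_cancel]
      have : x ^ p = 1 := by
        rw [show x = u * (u⁻¹ * x) by group, hpow, hup, one_mul, hRexp _ hux]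
      rw [← Subgroup.coe_pow, this]; rfl
  obtain ⟨hcent, hxp⟩ := key
  have hRc : ∀ a ∈ (P : Subgroup G) ⊓ N, ∀ v ∈ (P : Subgroup G), a * v = v * a := by
    intro a ha v hv
    exact (congrArg Subtype.val
      (Subgroup.mem_center_iff.mp (hcent (show (⟨a, ha.1⟩ : (P : Subgroup G)) ∈ R from ha.2)) ⟨v, hv⟩)).symm
  have hxM : (x : G) ∈ M := hPM x.2
  have hxN : (x : G) ∉ N := fun h => hxR h
  obtain ⟨K, hKn, hKN, hKc, hKq⟩ := exists_complement (p := p) N P (fun a ha b hb => hRc a ha b hb.1)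
    (fun u huN hun => by
      set R₀ : Subgroup G := (P : Subgroup G) ⊓ N
      have hxn : (x : G) ∈ Subgroup.normalizer (R₀ : Set G) := by
        rw [Subgroup.mem_normalizer_iff]
        intro a
        constructor
        · intro ha
          rwa [← hRc a ha x x.2, mul_inv_cancel_right]
        · intro ha
          have h' := hRc _ ha x x.2
          have : (x : G) * a * (x : G)⁻¹ = a := by
            have h2 : (x : G) * a * (x : G)⁻¹ * x = x * (x * a * (x : G)⁻¹) := h'
            rw [inv_mul_cancel_right] at h2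
            have h3 := mul_left_cancel (a := (x : G)) (b := a) (c := x * a * (x : G)⁻¹) h2
            exact h3.symm
          rwa [this] at ha
      have hxu : IsConj g ((x : G) * u) := D.cls _ (M.mul_mem hxM (D.lt.le huN)) fun h =>
        hxN (by simpa using N.mul_mem h (N.inv_mem huN))
      have hord : orderOf ((x : G) * u) = orderOf (x : G) := by
        obtain ⟨w, hw⟩ := isConj_iff.mp ((D.cls _ hxM hxN).symm.trans hxu)
        rw [← hw]
        exact orderOf_injective (MulAut.conj w).toMonoidHom (MulAut.conj w).injective _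
      obtain ⟨i, hi⟩ := IsPGroup.iff_orderOf.mp P.2 x
      rw [← Subgroup.orderOf_coe] at hi
      refine ⟨i, fun ρ hρ => ?_⟩
      set f := R₀.normalizerMonoidHom
      have hfx : f ⟨x, hxn⟩ = 1 := MulEquiv.ext fun a => Subtype.ext (by
        change (x : G) * a * (x : G)⁻¹ = a
        rw [← hRc a a.2 x x.2, mul_inv_cancel_right])
      have h1 : f ⟨u, hun⟩ ^ p ^ i = 1 := by
        have e : f ⟨u, hun⟩ = f (⟨x, hxn⟩ * ⟨u, hun⟩) := by rw [map_mul, hfx, one_mul]
        rw [e, ← map_pow, show ((⟨x, hxn⟩ * ⟨u, hun⟩ : Subgroup.normalizer (R₀ : Set G)) ^ p ^ i) = 1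
          from Subtype.ext (by
            have := pow_orderOf_eq_one ((x : G) * u)
            rw [hord, hi] at this
            simpa using this), map_one]
      rw [← map_pow] at h1
      have h2 : u ^ p ^ i * ρ * (u ^ p ^ i)⁻¹ = ρ :=
        congrArg Subtype.val (DFunLike.congr_fun h1 (⟨ρ, hρ⟩ : R₀))
      calc u ^ p ^ i * ρ = u ^ p ^ i * ρ * (u ^ p ^ i)⁻¹ * u ^ p ^ i := by group
        _ = ρ * u ^ p ^ i := by rw [h2])
  haveI := hKn
  refine solvable_of_N (p := p) D K hKN hKq ?_ hVab
  by_cases hp2 : p = 2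
  · subst hp2
    refine CfsgLib.OddOrder.Final.oddSolvable K ?_
    rw [Nat.odd_iff]; omega
  · have hfix : K ⊓ Subgroup.centralizer ({(x : G)} : Set G) = ⊥ := by
      refine Subgroup.inf_eq_bot_of_coprime ?_
      rw [card_centralizer_conj (D.cls _ hxM hxN), hCg]
      exact Nat.Coprime.pow_right _ ((Nat.Prime.coprime_iff_not_dvd hp).mpr hKc).symm
    haveI := CfsgLib.OddOrder.FPFTools.isNilpotent_of_fpf hp (hxp hp2)
      (by rw [Subgroup.normalizer_eq_top]; exact Subgroup.mem_top _) hfix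
    infer_instance

theorem isSolvable (D : Data N M g) : Group.IsSolvable G := by
  obtain ⟨p, r, hp, hr, hq, -, -⟩ := quotient_structure D
  have : 2 ≤ N.relIndex M := hq ▸ le_trans hp.two_le (Nat.le_self_pow hr.ne' p)
  rcases Nat.lt_or_ge 2 (N.relIndex M) with h | h
  · exact solvable_large D h
  · exact solvable_two D (le_antisymm h this)

end Main

end CfsgLib.PGroup.OneClassCoset
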