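import Mathlib

/-!
# `p`-groups of permutations with all non-trivial orbits of length `p`
-/

set_option autoImplicit false

namespace CfsgLib.PGroup.OrbitsPrime

open Equiv MulAction

variable {α : Type*} [Fintype α] [DecidableEq α]

/-- `Q` is a `p`-group of permutations fixing everything outside `T`, without fixed points in `T`,
where `|T| < p ^ 2`. -/
structure IsShort (Q : Subgroup (Perm α)) (T : Finset α) (p : ℕ) : Prop where
  prime : p.Prime
  pgroup : IsPGroup p Q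
  fix : ∀ q ∈ Q, ∀ x ∉ T, q x = x
  move : ∀ x ∈ T, ∃ q ∈ Q, q x ≠ x
  small : T.card < p ^ 2

variable {Q : Subgroup (Perm α)} {T : Finset α} {p : ℕ}

theorem mem_orbit_iff {x y : α} : y ∈ orbit Q x ↔ ∃ q ∈ Q, q x = y :=
  ⟨fun ⟨⟨q, hq⟩, h⟩ => ⟨q, hq, h⟩, fun ⟨q, hq, h⟩ => ⟨⟨q, hq⟩, h⟩⟩

namespace IsShort

theorem mem_of_mem_orbit (h : IsShort Q T p) {x y : α} (hx : x ∈ T) (hy : y ∈ orbit Q x) :
    y ∈ T := by
  obtain ⟨q, hq, rfl⟩ := mem_orbit_iff.mp hy
  by_contra hc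
  have h1 := h.fix q hq _ hc
  have : q x = x := q.injective h1
  rw [this] at hc
  exact hc hx

theorem orbit_ncard (h : IsShort Q T p) {x : α} (hx : x ∈ T) : (orbit Q x).ncard = p := by
  classical
  have := Fact.mk h.prime
  obtain ⟨m, hm⟩ := IsPGroup.iff_card.mp h.pgroup
  have hdvd : (orbit Q x).ncard ∣ p ^ m := by
    rw [← hm, ← index_stabilizer]
    exact Subgroup.index_dvd_card _
  obtain ⟨i, -, hi⟩ := (Nat.dvd_prime_pow h.prime).mp hdvd
  have hle : (orbit Q x).ncard ≤ T.card := by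
    rw [← Set.ncard_coe_finset]
    exact Set.ncard_le_ncard (fun y hy => h.mem_of_mem_orbit hx hy)
  have hgt : 1 < (orbit Q x).ncard := by
    obtain ⟨q, hq, hqx⟩ := h.move x hx
    rw [Set.one_lt_ncard]
    exact ⟨_, mem_orbit_self x, q x, mem_orbit_iff.mpr ⟨q, hq, rfl⟩, Ne.symm hqx⟩
  rw [hi] at hle hgt ⊢
  have h2 : i < 2 := by
    by_contra hc
    have := Nat.pow_le_pow_right h.prime.pos (show 2 ≤ i by omega)
    have := h.small
    omega
  rcases i with _ | _ | i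
  · simp at hgt
  · simp
  · omega

theorem stab_index (h : IsShort Q T p) {x : α} (hx : x ∈ T) : (stabilizer Q x).index = p := by
  rw [index_stabilizer, h.orbit_ncard hx]

theorem stab_normal (h : IsShort Q T p) {x : α} (hx : x ∈ T) : (stabilizer Q x).Normal := by
  have := Fact.mk h.prime
  obtain ⟨m, hm⟩ := IsPGroup.iff_card.mp h.pgroup
  apply Subgroup.normal_of_index_eq_minFac_card
  rw [h.stab_index hx, hm]
  rcases Nat.eq_zero_or_pos m with rfl | hm0
  · have h2 := (stabilizer Q x).index_dvd_card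
    rw [hm, h.stab_index hx, pow_zero, Nat.dvd_one] at h2
    exact absurd h2 h.prime.ne_one
  · rw [Nat.pow_minFac hm0.ne', h.prime.minFac_eq]

/-- an element of `Q` is determined on an orbit by its value at one point -/
theorem det (h : IsShort Q T p) {x y : α} (hy : y ∈ orbit Q x) {q q' : Perm α} (hq : q ∈ Q)
    (hq' : q' ∈ Q) (he : q x = q' x) : q y = q' y := by
  by_cases hx : x ∈ T
  · have hN := h.stab_normal hx
    obtain ⟨s, hs, rfl⟩ := mem_orbit_iff.mp hy
    have h1 : (⟨q'⁻¹ * q, mul_mem (inv_mem hq') hq⟩ : Q) ∈ stabilizer Q x := by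
      rw [mem_stabilizer_iff, Subgroup.smul_def]
      show (q'⁻¹ * q) x = x
      rw [Perm.mul_apply, he]; simp
    have h2 := hN.conj_mem _ h1 ⟨s⁻¹, inv_mem hs⟩
    rw [mem_stabilizer_iff, Subgroup.smul_def] at h2
    change (s⁻¹ * (q'⁻¹ * q) * s⁻¹⁻¹) x = x at h2
    rw [inv_inv, Perm.mul_apply, Perm.mul_apply, Perm.inv_eq_iff_eq, Perm.mul_apply,
      Perm.inv_eq_iff_eq] at h2
    exact h2
  · obtain ⟨s, hs, rfl⟩ := mem_orbit_iff.mp hy
    rw [h.fix s hs x hx]; exact he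

/-- agreement at a point is compatible with products -/
theorem agree_mul (h : IsShort Q T p) {x : α} {q q' s s' : Perm α} (hq : q ∈ Q) (hq' : q' ∈ Q)
    (hs' : s' ∈ Q) (h1 : q x = q' x) (h2 : s x = s' x) : (q * s) x = (q' * s') x := by
  rw [Perm.mul_apply, Perm.mul_apply, h2]
  exact h.det (mem_orbit_iff.mpr ⟨s', hs', rfl⟩) hq hq' h1

theorem agree_pow (h : IsShort Q T p) {x : α} {q q' : Perm α} (hq : q ∈ Q) (hq' : q' ∈ Q)
    (h1 : q x = q' x) (m : ℕ) : (q ^ m) x = (q' ^ m) x := by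
  induction m with
  | zero => rfl
  | succ m ih =>
    rw [pow_succ, pow_succ]
    exact h.agree_mul (pow_mem hq m) (pow_mem hq' m) hq' ih h1

theorem pow_prime_apply (h : IsShort Q T p) {x : α} {q : Perm α} (hq : q ∈ Q) :
    (q ^ p) x = x := by
  by_cases hx : x ∈ T
  · have := h.stab_normal hx
    have h1 := (stabilizer Q x).pow_index_mem (⟨q, hq⟩ : Q)
    rw [h.stab_index hx] at h1
    exact h1
  · exact h.fix _ (pow_mem hq p) x hx

theorem pow_eq_iff (h : IsShort Q T p) {x : α} {q : Perm α} (hq : q ∈ Q) (hqx : q x ≠ x)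
    (a b : ℕ) : (q ^ a) x = (q ^ b) x ↔ a ≡ b [MOD p] := by
  have hx : x ∈ T := by by_contra hc; exact hqx (h.fix q hq x hc)
  have := Fact.mk h.prime
  have := h.stab_normal hx
  set c : Q ⧸ stabilizer Q x := QuotientGroup.mk (⟨q, hq⟩ : Q) with hc
  have hord : orderOf c = p := by
    apply orderOf_eq_prime
    · rw [hc, ← QuotientGroup.mk_pow, QuotientGroup.eq_one_iff]
      exact h.pow_prime_apply hq
    · rw [hc, Ne, QuotientGroup.eq_one_iff]
      exact hqx
  rw [← hord, ← pow_eq_pow_iff_modEq, hc, ← QuotientGroup.mk_pow, ← QuotientGroup.mk_pow,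
    QuotientGroup.eq, mem_stabilizer_iff, Subgroup.smul_def]
  show _ ↔ ((q ^ a)⁻¹ * q ^ b) x = x
  rw [Perm.mul_apply, Perm.inv_eq_iff_eq]
  exact eq_comm

/-- powers of an element moving `x` fill the orbit of `x` -/
theorem fill (h : IsShort Q T p) {x y : α} {q : Perm α} (hq : q ∈ Q) (hqx : q x ≠ x)
    (hy : y ∈ orbit Q x) : ∃ a : ℕ, y = (q ^ a) x := by
  classical
  have hx : x ∈ T := by by_contra hc; exact hqx (h.fix q hq x hc)
  have himg : (Set.range fun i : Fin p => (q ^ (i : ℕ)) x) = orbit Q x := by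
    refine Set.eq_of_subset_of_ncard_le ?_ ?_
    · rintro _ ⟨i, rfl⟩
      exact mem_orbit_iff.mpr ⟨_, pow_mem hq _, rfl⟩
    · rw [h.orbit_ncard hx, Set.ncard_range_of_injective, Nat.card_eq_fintype_card, Fintype.card_fin]
      intro i j e
      exact Fin.ext (((h.pow_eq_iff hq hqx i j).mp e).eq_of_lt_of_lt i.2 j.2)
  rw [← himg] at hy
  obtain ⟨i, rfl⟩ := hy
  exact ⟨i, rfl⟩

theorem mul_comm' (h : IsShort Q T p) {q q' : Perm α} (hq : q ∈ Q) (hq' : q' ∈ Q) :
    q * q' = q' * q := by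
  ext x
  by_cases hx : x ∈ T
  · obtain ⟨q0, hq0, hq0x⟩ := h.move x hx
    obtain ⟨a, ha⟩ := h.fill hq0 hq0x (mem_orbit_iff.mpr ⟨q, hq, rfl⟩)
    obtain ⟨b, hb⟩ := h.fill hq0 hq0x (mem_orbit_iff.mpr ⟨q', hq', rfl⟩)
    rw [h.agree_mul hq (pow_mem hq0 a) (pow_mem hq0 b) ha hb,
      h.agree_mul hq' (pow_mem hq0 b) (pow_mem hq0 a) hb ha, ← pow_add, ← pow_add, add_comm]
  · rw [Perm.mul_apply, Perm.mul_apply, h.fix q' hq' x hx, h.fix q hq x hx, h.fix q' hq' x hx]

theorem orbit_eq {x y : α} (hy : y ∈ orbit Q x) : orbit Q y = orbit Q x :=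
  orbit_eq_iff.mpr hy

/-- the orbits in `T` are `|T| / p` in number -/
theorem card_orbits (h : IsShort Q T p) [DecidableEq (Set α)] :
    (T.image fun x => orbit Q x).card * p = T.card := by
  rw [Finset.card_eq_sum_card_image (fun x => orbit Q x) T, Finset.sum_const_nat (m := p)]
  intro O hO
  obtain ⟨x, hx, rfl⟩ := Finset.mem_image.mp hO
  rw [← h.orbit_ncard hx, ← Set.ncard_coe_finset]
  congr 1
  ext y
  simp only [Finset.coe_filter, Set.mem_ofPred_eq]
  constructor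
  · rintro ⟨-, e⟩; exact orbit_eq_iff.mp e
  · exact fun hy => ⟨h.mem_of_mem_orbit hx hy, orbit_eq_iff.mpr hy⟩

/-- a permutation normalising `Q` maps orbits to orbits -/
theorem image_orbit {g : Perm α} (hg : g ∈ Subgroup.normalizer (Q : Set (Perm α))) (x : α) :
    g '' orbit Q x = orbit Q (g x) := by
  rw [Subgroup.mem_normalizer_iff] at hg
  ext y
  rw [Set.mem_image]
  simp only [mem_orbit_iff]
  constructor
  · rintro ⟨_, ⟨q, hq, rfl⟩, rfl⟩
    exact ⟨g * q * g⁻¹, (hg q).mp hq, by simp⟩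
  · rintro ⟨q, hq, rfl⟩
    refine ⟨(g⁻¹ * q * g) x, ⟨_, (hg _).mpr ?_, rfl⟩, by simp⟩
    simpa [mul_assoc] using hq

end IsShort

end CfsgLib.PGroup.OrbitsPrime
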