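import Cfsg.Agent.Lib.Fusion.MaxClass

/-!
# Groups of order `p ^ 4`: derived subgroup, centre and class
-/

set_option autoImplicit false

namespace CfsgLib.PGroup.OrderPFourth

open scoped commutatorElement

variable {P : Type*} [Group P] [Finite P] {p : ℕ} [Fact p.Prime]

/-- A group with centre of index `p²` has derived subgroup of order dividing `p`. -/
theorem card_commutator_dvd (h : (Subgroup.center P).index = p ^ 2) :
    Nat.card (commutator P) ∣ p := by
  set Z := Subgroup.center P
  have hc : Nat.card (P ⧸ Z) = p ^ 2 := by rw [← Subgroup.index_eq_card, h]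
  have hab := IsPGroup.commutative_of_card_eq_prime_sq (p := p) hc
  set q := QuotientGroup.mk' Z
  have hcz : ∀ u v : P, ⁅u, v⁆ ∈ Z := fun u v => by
    refine (QuotientGroup.eq_one_iff _).1 ?_
    show q ⁅u, v⁆ = 1
    rw [map_commutatorElement, commutatorElement_eq_one_iff_commute]
    exact hab _ _
  by_cases hall : ∀ u v : P, u * v = v * u
  · have : commutator P = ⊥ := by
      rw [commutator_def, eq_bot_iff, Subgroup.commutator_le]
      exact fun u _ v _ => commutatorElement_eq_one_iff_mul_comm.2 (hall u v)
    rw [this, Subgroup.card_bot]; exact one_dvd _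
  push Not at hall
  obtain ⟨a, b, hne⟩ := hall
  have hp := (Fact.out : p.Prime)
  have hsucc : ∀ W : Subgroup P, Z < W → W ≠ ⊤ → W.index = p := by
    intro W hlt hne'
    have hd := Subgroup.index_dvd_of_le hlt.le
    rw [h] at hd
    obtain ⟨i, hi, e⟩ := (Nat.dvd_prime_pow hp).1 hd
    rcases (show i = 0 ∨ i = 1 ∨ i = 2 by omega) with rfl | rfl | rfl
    · exact absurd (Subgroup.index_eq_one.1 (by rw [e, pow_zero])) hne'
    · rw [e, pow_one]
    · refine absurd (Subgroup.eq_of_le_of_card_ge hlt.le (le_of_eq ?_)) hlt.ne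
      have e1 := W.card_mul_index
      rw [e, ← Z.card_mul_index, h] at e1
      exact Nat.eq_of_mul_eq_mul_right (pow_pos hp.pos _) e1
  set W := Z ⊔ Subgroup.zpowers a with hW
  have hWlt : Z < W := SetLike.lt_iff_le_and_exists.2 ⟨le_sup_left, a,
    Subgroup.mem_sup_right (Subgroup.mem_zpowers a),
    fun ha => hne (Subgroup.mem_center_iff.1 ha b).symm⟩
  have hWC : W ≤ Subgroup.centralizer {a} := sup_le
    (fun z hz => Subgroup.mem_centralizer_singleton_iff.2 (Subgroup.mem_center_iff.1 hz a).symm)
    (Subgroup.zpowers_le.2 (Subgroup.mem_centralizer_singleton_iff.2 rfl))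
  have hbW : b ∉ W := fun hb => hne (Subgroup.mem_centralizer_singleton_iff.1 (hWC hb)).symm
  have htop : W ⊔ Subgroup.zpowers b = ⊤ := by
    by_contra hne'
    have h1 := hsucc W hWlt fun e => hbW (e ▸ Subgroup.mem_top b)
    have hlt : W < W ⊔ Subgroup.zpowers b := SetLike.lt_iff_le_and_exists.2
      ⟨le_sup_left, b, Subgroup.mem_sup_right (Subgroup.mem_zpowers b), hbW⟩
    have h2 := hsucc _ (hWlt.trans hlt) hne'
    refine hlt.ne (Subgroup.eq_of_le_of_card_ge hlt.le (le_of_eq ?_))
    have e1 := (W ⊔ Subgroup.zpowers b).card_mul_index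
    rw [h2, ← W.card_mul_index, h1] at e1
    exact Nat.eq_of_mul_eq_mul_right hp.pos e1
  set c := ⁅a, b⁆ with hc'
  set M := Subgroup.zpowers c
  have hcc : c ∈ Z := hcz a b
  haveI : M.Normal := ⟨fun m hm g => by
    rw [Subgroup.mem_center_iff.1 ((Subgroup.zpowers_le.2 hcc : M ≤ Z) hm) g, mul_inv_cancel_right]
    exact hm⟩
  set r := QuotientGroup.mk' M
  have hrab : Commute (r a) (r b) := by
    rw [← commutatorElement_eq_one_iff_commute, ← map_commutatorElement]
    exact (QuotientGroup.eq_one_iff _).2 (Subgroup.mem_zpowers _)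
  have hle : commutator P ≤ M := by
    have hz : ∀ z ∈ Z, ∀ u : P, Commute (r z) (r u) := fun z hz' u =>
      (show Commute z u from (Subgroup.mem_center_iff.1 hz' u).symm).map r
    have hgen : ∀ u : P, Commute (r u) (r a) ∧ Commute (r u) (r b) := by
      intro u
      refine (show W ⊔ Subgroup.zpowers b ≤
        (Subgroup.centralizer {r a} ⊓ Subgroup.centralizer {r b}).comap r from ?_)
        (htop ▸ Subgroup.mem_top u) |> fun hm =>
          ⟨Subgroup.mem_centralizer_singleton_iff.1 hm.1, Subgroup.mem_centralizer_singleton_iff.1 hm.2⟩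
      refine sup_le (sup_le (fun z hz' => ⟨Subgroup.mem_centralizer_singleton_iff.2 (hz z hz' a).eq,
        Subgroup.mem_centralizer_singleton_iff.2 (hz z hz' b).eq⟩)
        (Subgroup.zpowers_le.2 ⟨Subgroup.mem_centralizer_singleton_iff.2 rfl,
          Subgroup.mem_centralizer_singleton_iff.2 hrab.eq⟩))
        (Subgroup.zpowers_le.2 ⟨Subgroup.mem_centralizer_singleton_iff.2 hrab.symm.eq,
          Subgroup.mem_centralizer_singleton_iff.2 rfl⟩)
    rw [commutator_def, Subgroup.commutator_le]
    intro u _ v _
    rw [← QuotientGroup.eq_one_iff (N := M)]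
    show r ⁅u, v⁆ = 1
    rw [map_commutatorElement, commutatorElement_eq_one_iff_commute]
    have hv : W ⊔ Subgroup.zpowers b ≤ (Subgroup.centralizer {r u}).comap r :=
      sup_le (sup_le (fun z hz' => Subgroup.mem_centralizer_singleton_iff.2 (hz z hz' u).eq)
        (Subgroup.zpowers_le.2 (Subgroup.mem_centralizer_singleton_iff.2 (hgen u).1.symm.eq)))
        (Subgroup.zpowers_le.2 (Subgroup.mem_centralizer_singleton_iff.2 (hgen u).2.symm.eq))
    exact (show Commute (r v) (r u) from
      Subgroup.mem_centralizer_singleton_iff.1 (hv (htop ▸ Subgroup.mem_top v))).symm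
  -- the commutator has order dividing `p`
  have hord : orderOf c ∣ p := by
    have happ : a ^ p ∈ Z := by
      -- a lies in a subgroup of index `p` over the centre
      have h1 := hsucc W hWlt fun e => hbW (e ▸ Subgroup.mem_top b)
      have e1 := W.card_mul_index
      rw [h1, ← Z.card_mul_index, h, pow_two, ← mul_assoc] at e1
      have e2 : Nat.card W = Nat.card Z * p := Nat.eq_of_mul_eq_mul_right hp.pos e1
      have e3 : (Z.subgroupOf W).index = p := by
        refine Nat.eq_of_mul_eq_mul_left (Nat.card_pos : 0 < Nat.card Z) ?_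
        rw [← e2, ← Subgroup.card_mul_index (Z.subgroupOf W),
          Nat.card_congr (Subgroup.subgroupOfEquivOfLe hWlt.le).toEquiv]
      haveI : (Z.subgroupOf W).Normal := inferInstance
      have := Subgroup.pow_index_mem (Z.subgroupOf W)
        (⟨a, Subgroup.mem_sup_right (Subgroup.mem_zpowers a)⟩ : W)
      rw [e3] at this
      simpa [Subgroup.mem_subgroupOf] using this
    refine orderOf_dvd_of_pow_eq_one ?_
    have hcpow : ∀ m : ℕ, ⁅a ^ m, b⁆ = c ^ m := by
      intro m
      induction m with
      | zero => simp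
      | succ m ih =>
        rw [pow_succ', pow_succ, ← ih]
        have h3 : a * ⁅a ^ m, b⁆ * a⁻¹ = ⁅a ^ m, b⁆ := by
          rw [Subgroup.mem_center_iff.1 (hcz _ _) a, mul_inv_cancel_right]
        calc ⁅a * a ^ m, b⁆ = (a * ⁅a ^ m, b⁆ * a⁻¹) * ⁅a, b⁆ := by
              simp only [commutatorElement_def]; group
          _ = ⁅a ^ m, b⁆ * c := by rw [h3]
    rw [← hcpow, commutatorElement_eq_one_iff_mul_comm]
    exact (Subgroup.mem_center_iff.1 happ b).symm
  exact (Subgroup.card_dvd_of_le hle).trans ((Nat.card_zpowers c).dvd.trans hord)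

/-- Order `p ^ 4`: `|P'| = p` exactly when the centre has index `p ^ 2`. -/
theorem card_commutator_eq_iff (hP : Nat.card P = p ^ 4) :
    Nat.card (commutator P) = p ↔ (Subgroup.center P).index = p ^ 2 := by
  have hp := (Fact.out : p.Prime)
  have hpg : IsPGroup p P := IsPGroup.of_card hP
  constructor
  · intro hc
    have hcen : commutator P ≤ Subgroup.center P := by
      haveI := hpg.isNilpotent
      by_contra hnle
      haveI : Nontrivial P := Finite.one_lt_card_iff_nontrivial.1 (by
        rw [hP]; exact Nat.one_lt_pow (by norm_num) hp.one_lt)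
      have hlt : (⊤ : Subgroup P).lowerCentralSeries 2 < (⊤ : Subgroup P).lowerCentralSeries 1 :=
        CfsgLib.Fusion.MaxClass.lcs_strict hpg (i := 1) (by
          rw [Subgroup.top_lowerCentralSeries_one]
          exact fun e => hnle (e ▸ bot_le))
      have h1 := CfsgLib.Fusion.MaxClass.card_mul_le_of_lt hpg hlt
      rw [Subgroup.top_lowerCentralSeries_one, hc] at h1
      have h2 : (⊤ : Subgroup P).lowerCentralSeries 2 = ⊥ :=
        (Subgroup.card_le_one_iff_eq_bot _).1 (Nat.le_of_mul_le_mul_left (by simpa using h1) hp.pos)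
      refine hnle fun z hz => Subgroup.mem_center_iff.2 fun g => ?_
      have h3 : ⁅z, g⁆ ∈ (⊤ : Subgroup P).lowerCentralSeries 2 :=
        Subgroup.commutator_mem_commutator (by rwa [Subgroup.top_lowerCentralSeries_one])
          (Subgroup.mem_top g)
      rw [h2, Subgroup.mem_bot, commutatorElement_eq_one_iff_mul_comm] at h3
      exact h3.symm
    set Z := Subgroup.center P with hZ
    obtain ⟨i, hi⟩ := IsPGroup.iff_card.1 (hpg.to_subgroup Z)
    have e := Z.card_mul_index
    obtain ⟨j, hjle, hj⟩ := (Nat.dvd_prime_pow hp).1 (hP ▸ Subgroup.index_dvd_card Z : Z.index ∣ p ^ 4)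
    rw [hi, hj, hP, ← pow_add] at e
    have hij := Nat.pow_right_injective hp.two_le e
    have hi1 : 1 ≤ i := by
      rcases Nat.eq_zero_or_pos i with rfl | h1
      · have h2 := Subgroup.card_dvd_of_le hcen
        rw [hc, hi, pow_zero] at h2
        exact absurd h2 hp.not_dvd_one
      · exact h1
    have hnab : ¬ ∀ u v : P, u * v = v * u := fun h => by
      have : commutator P = ⊥ := by
        rw [commutator_def, eq_bot_iff, Subgroup.commutator_le]
        exact fun u _ v _ => commutatorElement_eq_one_iff_mul_comm.2 (h u v)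
      rw [this, Subgroup.card_bot] at hc
      exact hp.one_lt.ne hc
    have hj2 : 2 ≤ j := by
      by_contra hlt
      refine hnab fun u v => ?_
      have hcyc : IsCyclic (P ⧸ Z) := by
        rcases (show j = 0 ∨ j = 1 by omega) with rfl | rfl
        · haveI : Subsingleton (P ⧸ Z) := (Nat.card_eq_one_iff_unique.1
            (by rw [← Subgroup.index_eq_card, hj, pow_zero])).1
          infer_instance
        · exact isCyclic_of_prime_card (p := p) (by rw [← Subgroup.index_eq_card, hj, pow_one])
      haveI := hcyc
      exact commutative_of_cyclic_center_quotient (QuotientGroup.mk' Z)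
        (by rw [QuotientGroup.ker_mk']) u v
    by_contra hne
    rw [hj] at hne
    obtain rfl : j = 3 := by
      rcases (show j = 2 ∨ j = 3 by omega) with rfl | rfl
      · exact absurd rfl hne
      · rfl
    obtain rfl : i = 1 := by omega
    have hZc : Nat.card Z = p := by rw [hi, pow_one]
    -- centralizers of noncentral elements have index `p`
    have hcent : ∀ a : P, a ∉ Z → (Subgroup.centralizer ({a} : Set P)).index = p := by
      intro a ha
      let f : P →* ↥(commutator P) :=
        { toFun := fun g => ⟨⁅g, a⁆, by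
            rw [commutator_def]
            exact Subgroup.commutator_mem_commutator (Subgroup.mem_top _) (Subgroup.mem_top _)⟩
          map_one' := Subtype.ext (by simp)
          map_mul' := fun g g' => Subtype.ext (by
            show ⁅g * g', a⁆ = ⁅g, a⁆ * ⁅g', a⁆
            have h1 : g * ⁅g', a⁆ * g⁻¹ = ⁅g', a⁆ := by
              rw [Subgroup.mem_center_iff.1 (hcen (by
                rw [commutator_def]
                exact Subgroup.commutator_mem_commutator (Subgroup.mem_top _) (Subgroup.mem_top _))) g,
                mul_inv_cancel_right]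
            calc ⁅g * g', a⁆ = (g * ⁅g', a⁆ * g⁻¹) * ⁅g, a⁆ := by
                  simp only [commutatorElement_def]; group
              _ = ⁅g', a⁆ * ⁅g, a⁆ := by rw [h1]
              _ = ⁅g, a⁆ * ⁅g', a⁆ := (Subgroup.mem_center_iff.1 (hcen (by
                rw [commutator_def]
                exact Subgroup.commutator_mem_commutator (Subgroup.mem_top _) (Subgroup.mem_top _)))
                  _).symm) }
      have hker : f.ker = Subgroup.centralizer ({a} : Set P) := by
        ext g
        rw [MonoidHom.mem_ker, Subgroup.mem_centralizer_singleton_iff]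
        exact Subtype.ext_iff.trans commutatorElement_eq_one_iff_mul_comm
      have hd : f.ker.index ∣ p := by
        rw [Subgroup.index_ker, ← hc]
        exact Subgroup.card_subgroup_dvd_card _
      rw [hker] at hd
      rcases (Nat.dvd_prime hp).1 hd with e1 | e1
      · exact absurd (Subgroup.mem_center_iff.2 fun g => Subgroup.mem_centralizer_singleton_iff.1
          ((Subgroup.index_eq_one.1 e1).symm ▸ Subgroup.mem_top g)) ha
      · exact e1
    obtain ⟨a, b, hab⟩ : ∃ a b : P, a * b ≠ b * a := by push Not at hnab; exact hnab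
    set Ca := Subgroup.centralizer ({a} : Set P) with hCa
    set Cb := Subgroup.centralizer ({b} : Set P) with hCb
    have haZ : a ∉ Z := fun h => hab (Subgroup.mem_center_iff.1 h b).symm
    have hbZ : b ∉ Z := fun h => hab (Subgroup.mem_center_iff.1 h a)
    set D := Ca ⊓ Cb with hD
    have hDidx : D.index ≤ p * p := by
      have h1 := Subgroup.index_inf_le (H := Ca) (K := Cb)
      rw [hcent a haZ, hcent b hbZ] at h1
      exact h1
    have hZD : Z < D := by
      have hle : Z ≤ D := fun z hz => ⟨Subgroup.mem_centralizer_singleton_iff.2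
        (Subgroup.mem_center_iff.1 hz a).symm, Subgroup.mem_centralizer_singleton_iff.2
        (Subgroup.mem_center_iff.1 hz b).symm⟩
      refine lt_of_le_of_ne hle fun e1 => ?_
      rw [← e1, hj] at hDidx
      have : p * p < p ^ 3 := by
        rw [show p ^ 3 = p * p * p by ring]
        exact lt_mul_of_one_lt_right (mul_pos hp.pos hp.pos) hp.one_lt
      omega
    obtain ⟨c, hcD, hcZ⟩ := SetLike.exists_of_lt hZD
    set Cc := Subgroup.centralizer ({c} : Set P) with hCc
    -- `D` with `a`, `b` generates everything
    have ha' : a ∈ Ca := Subgroup.mem_centralizer_singleton_iff.2 rfl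
    have haCb : a ∉ Cb := fun h => hab (Subgroup.mem_centralizer_singleton_iff.1 h)
    have hdiv : ∀ W : Subgroup P, Ca ≤ W → W = Ca ∨ W = ⊤ := by
      intro W hle
      have hd := Subgroup.index_dvd_of_le hle
      rw [hcent a haZ] at hd
      rcases (Nat.dvd_prime hp).1 hd with e1 | e1
      · exact Or.inr (Subgroup.index_eq_one.1 e1)
      · refine Or.inl (Subgroup.eq_of_le_of_card_ge hle (le_of_eq ?_)).symm
        have e2 := W.card_mul_index
        rw [e1, ← Ca.card_mul_index, hcent a haZ] at e2
        exact Nat.eq_of_mul_eq_mul_right hp.pos e2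
    have hCaeq : D ⊔ Subgroup.zpowers a = Ca := by
      have hle : D ⊔ Subgroup.zpowers a ≤ Ca := sup_le inf_le_left (Subgroup.zpowers_le.2 ha')
      have hlt : D < D ⊔ Subgroup.zpowers a := SetLike.lt_iff_le_and_exists.2
        ⟨le_sup_left, a, Subgroup.mem_sup_right (Subgroup.mem_zpowers a), fun h => haCb h.2⟩
      refine Subgroup.eq_of_le_of_card_ge hle ?_
      have h1 := CfsgLib.Fusion.MaxClass.card_mul_le_of_lt hpg hlt
      have h2 : Nat.card Ca * p ≤ Nat.card D * (p * p) := by
        calc Nat.card Ca * p = Nat.card P := by rw [← hcent a haZ, Subgroup.card_mul_index]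
          _ = Nat.card D * D.index := (D.card_mul_index).symm
          _ ≤ Nat.card D * (p * p) := Nat.mul_le_mul_left _ hDidx
      exact Nat.le_of_mul_le_mul_right (h2.trans (le_of_eq_of_le (by ring)
        (Nat.mul_le_mul_right p h1))) hp.pos
    have htop : Ca ⊔ Subgroup.zpowers b = ⊤ := by
      refine (hdiv _ le_sup_left).resolve_left fun e1 => ?_
      exact hab (Subgroup.mem_centralizer_singleton_iff.1
        (e1 ▸ Subgroup.mem_sup_right (Subgroup.mem_zpowers b) : b ∈ Ca)).symm
    refine hcZ (Subgroup.mem_center_iff.2 fun g => ?_)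
    have hca : a ∈ Cc := Subgroup.mem_centralizer_singleton_iff.2
      (Subgroup.mem_centralizer_singleton_iff.1 hcD.1).symm
    have hcb : b ∈ Cc := Subgroup.mem_centralizer_singleton_iff.2
      (Subgroup.mem_centralizer_singleton_iff.1 hcD.2).symm
    have hDcomm : D ≤ Cc := by
      -- `D` is generated by the centre and `c`
      have h1 : Z < Z ⊔ Subgroup.zpowers c := SetLike.lt_iff_le_and_exists.2
        ⟨le_sup_left, c, Subgroup.mem_sup_right (Subgroup.mem_zpowers c), hcZ⟩
      have hle : Z ⊔ Subgroup.zpowers c ≤ Cc := sup_le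
        (fun z hz => Subgroup.mem_centralizer_singleton_iff.2 (Subgroup.mem_center_iff.1 hz c).symm)
        (Subgroup.zpowers_le.2 (Subgroup.mem_centralizer_singleton_iff.2 rfl))
      refine le_trans (le_of_eq ?_) hle
      refine (Subgroup.eq_of_le_of_card_ge (sup_le hZD.le (Subgroup.zpowers_le.2 hcD)) ?_).symm
      have h2 := CfsgLib.Fusion.MaxClass.card_mul_le_of_lt hpg h1
      rw [hZc] at h2
      refine le_trans ?_ h2
      have h3 : D < Ca := hCaeq ▸ SetLike.lt_iff_le_and_exists.2
        ⟨le_sup_left, a, Subgroup.mem_sup_right (Subgroup.mem_zpowers a), fun h => haCb h.2⟩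
      have h4 := CfsgLib.Fusion.MaxClass.card_mul_le_of_lt hpg h3
      have h5 : Nat.card Ca * p = p ^ 4 := by rw [← hP, ← hcent a haZ, Subgroup.card_mul_index]
      have h6 : p * Nat.card D * p ≤ p * (p * p) * p := by
        calc p * Nat.card D * p ≤ Nat.card Ca * p := Nat.mul_le_mul_right _ h4
          _ = p ^ 4 := h5
          _ = p * (p * p) * p := by ring
      exact Nat.le_of_mul_le_mul_left (Nat.le_of_mul_le_mul_right h6 hp.pos) hp.pos
    have hall : Ca ⊔ Subgroup.zpowers b ≤ Cc :=
      sup_le (hCaeq ▸ sup_le hDcomm (Subgroup.zpowers_le.2 hca)) (Subgroup.zpowers_le.2 hcb)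
    exact (Subgroup.mem_centralizer_singleton_iff.1 (hall (htop ▸ Subgroup.mem_top g)))
  · intro h
    rcases (Nat.dvd_prime hp).1 (card_commutator_dvd h) with e | e
    · exfalso
      have h1 : commutator P = ⊥ := Subgroup.card_eq_one.1 e
      rw [commutator_def, eq_bot_iff, Subgroup.commutator_le] at h1
      have h2 : Subgroup.center P = ⊤ := eq_top_iff.2 fun u _ => Subgroup.mem_center_iff.2 fun v =>
        (commutatorElement_eq_one_iff_mul_comm.1
          (Subgroup.mem_bot.1 (h1 u (Subgroup.mem_top u) v (Subgroup.mem_top v)))).symm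
      rw [h2, Subgroup.index_top] at h
      exact absurd h.symm (Nat.one_lt_pow two_ne_zero hp.one_lt).ne'
    · exact e

/-- Order `p ^ 4`: `P'` has index `p ^ 2` exactly when the class is three. -/
theorem index_commutator_eq_iff (hP : Nat.card P = p ^ 4) :
    (commutator P).index = p ^ 2 ↔ Group.nilpotencyClass P = 3 := by
  have hp := (Fact.out : p.Prime)
  have hpg : IsPGroup p P := IsPGroup.of_card hP
  haveI := hpg.isNilpotent
  have hle : Group.nilpotencyClass P ≤ 3 := CfsgLib.Fusion.MaxClass.class_le (by norm_num) hP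
  have hcard : (commutator P).index = p ^ 2 ↔ Nat.card (commutator P) = p ^ 2 := by
    have e := (commutator P).card_mul_index
    rw [hP, show p ^ 4 = p ^ 2 * p ^ 2 by ring] at e
    constructor <;> intro h <;> rw [h] at e
    · exact Nat.eq_of_mul_eq_mul_right (pow_pos hp.pos _) e
    · exact Nat.eq_of_mul_eq_mul_left (pow_pos hp.pos _) e
  rw [hcard]
  constructor
  · intro hc
    by_contra hne
    have h2 : (⊤ : Subgroup P).lowerCentralSeries 2 = ⊥ :=
      Subgroup.lowerCentralSeries_eq_bot_iff_nilpotencyClass_le.2 (by omega)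
    have hcen : commutator P ≤ Subgroup.center P := fun z hz => Subgroup.mem_center_iff.2 fun g => by
      have h3 : ⁅z, g⁆ ∈ (⊤ : Subgroup P).lowerCentralSeries 2 :=
        Subgroup.commutator_mem_commutator (by rwa [Subgroup.top_lowerCentralSeries_one])
          (Subgroup.mem_top g)
      rw [h2, Subgroup.mem_bot, commutatorElement_eq_one_iff_mul_comm] at h3
      exact h3.symm
    have h3 := Subgroup.card_dvd_of_le hcen
    rw [hc] at h3
    have e := (Subgroup.center P).card_mul_index
    obtain ⟨j, -, hj⟩ := (Nat.dvd_prime_pow hp).1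
      (hP ▸ Subgroup.index_dvd_card (Subgroup.center P) : (Subgroup.center P).index ∣ p ^ 4)
    obtain ⟨i, hi⟩ := IsPGroup.iff_card.1 (hpg.to_subgroup (Subgroup.center P))
    rw [hi, hj, hP, ← pow_add] at e
    have hij := Nat.pow_right_injective hp.two_le e
    rw [hi] at h3
    have hi2 : 2 ≤ i := Nat.pow_dvd_pow_iff_le_right hp.one_lt |>.1 h3
    have hj2 : j = 2 := by
      by_contra hlt
      have hab : ∀ u v : P, u * v = v * u := fun u v => by
        have hcyc : IsCyclic (P ⧸ Subgroup.center P) := by
          rcases (show j = 0 ∨ j = 1 by omega) with rfl | rfl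
          · haveI : Subsingleton (P ⧸ Subgroup.center P) := (Nat.card_eq_one_iff_unique.1
              (by rw [← Subgroup.index_eq_card, hj, pow_zero])).1
            infer_instance
          · exact isCyclic_of_prime_card (p := p) (by rw [← Subgroup.index_eq_card, hj, pow_one])
        haveI := hcyc
        exact commutative_of_cyclic_center_quotient (QuotientGroup.mk' (Subgroup.center P))
          (by rw [QuotientGroup.ker_mk']) u v
      have : commutator P = ⊥ := by
        rw [commutator_def, eq_bot_iff, Subgroup.commutator_le]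
        exact fun u _ v _ => commutatorElement_eq_one_iff_mul_comm.2 (hab u v)
      rw [this, Subgroup.card_bot] at hc
      exact (Nat.one_lt_pow two_ne_zero hp.one_lt).ne hc
    have h4 := card_commutator_dvd (p := p) (by rw [hj, hj2])
    rw [hc, pow_two] at h4
    have h5 := Nat.le_of_dvd hp.pos h4
    have h6 : p < p * p := lt_mul_of_one_lt_right hp.pos hp.one_lt
    omega
  · intro hc
    have h2 : (⊤ : Subgroup P).lowerCentralSeries 2 ≠ ⊥ := fun e => by
      have := Subgroup.lowerCentralSeries_eq_bot_iff_nilpotencyClass_le.1 e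
      omega
    have h1 : (⊤ : Subgroup P).lowerCentralSeries 1 ≠ ⊥ := fun e =>
      h2 (le_bot_iff.1 (e ▸ Subgroup.lowerCentralSeries_antitone _ (by norm_num : 1 ≤ 2)))
    have hlt := CfsgLib.Fusion.MaxClass.card_mul_le_of_lt hpg (CfsgLib.Fusion.MaxClass.lcs_strict hpg h1)
    rw [Subgroup.top_lowerCentralSeries_one] at hlt
    have hge : p * p ≤ Nat.card (commutator P) := by
      refine le_trans (Nat.mul_le_mul_left p ?_) hlt
      rcases IsPGroup.card_eq_or_dvd (hpg.to_subgroup ((⊤ : Subgroup P).lowerCentralSeries (1 + 1))) with e | e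
      · exact absurd ((Subgroup.card_eq_one).1 e) h2
      · exact Nat.le_of_dvd Nat.card_pos e
    have hle2 := CfsgLib.Fusion.MaxClass.commutator_card hpg (by norm_num : 2 ≤ 4) hP
    rw [show p ^ 4 = p ^ 2 * p ^ 2 by ring] at hle2
    refine le_antisymm (Nat.le_of_mul_le_mul_left hle2 (pow_pos hp.pos _)) ?_
    rw [pow_two]; exact hge

end CfsgLib.PGroup.OrderPFourth
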