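import Cfsg.Agent.Lib.PGroup.CoprimeFixProd
import Cfsg.Agent.Lib.Fusion.PSolvable
import Mathlib.Analysis.MeanInequalities
import Mathlib.Analysis.SpecialFunctions.Pow.Real

/-!
A lower bound for the number of `p`-elements of a `p`-solvable group.
-/

set_option autoImplicit false
set_option linter.style.haveILetI false

namespace CfsgLib.PGroup.PElementCount

open Subgroup

universe u

/-- The number of Sylow `p`-subgroups through `x`. -/
noncomputable def lam (p : ℕ) {G : Type u} [Group G] (x : G) : ℕ :=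
  Nat.card {Q : Sylow p G // x ∈ Q}

theorem lam_one (p : ℕ) {G : Type u} [Group G] : lam p (1 : G) = Nat.card (Sylow p G) :=
  Nat.card_congr (Equiv.subtypeUnivEquiv fun Q => one_mem Q)

variable {p : ℕ} [Fact p.Prime]

theorem sylow_map_eq_iff {G : Type u} [Group G] [Finite G] (N : Subgroup G) [N.Normal]
    (Q R : Sylow p G) :
    Q.mapSurjective (QuotientGroup.mk'_surjective N) = R.mapSurjective (QuotientGroup.mk'_surjective N)
      ↔ (Q : Subgroup G) ⊔ N = (R : Subgroup G) ⊔ N := by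
  rw [Sylow.ext_iff, Sylow.coe_mapSurjective, Sylow.coe_mapSurjective, Subgroup.map_eq_map_iff,
    QuotientGroup.ker_mk']

theorem smul_sylow_mem {G : Type u} [Group G] (g x : G) (Q : Sylow p G) :
    x ∈ g • Q ↔ g⁻¹ * x * g ∈ Q := by
  show x ∈ ((g • Q : Sylow p G) : Subgroup G) ↔ g⁻¹ * x * g ∈ (Q : Subgroup G)
  rw [Sylow.coe_subgroup_smul, mem_pointwise_smul_iff_inv_smul_mem]
  simp [mul_assoc]

/-- A normal `p`-subgroup does not change `lam`. -/
theorem lam_quotient_pgroup {G : Type u} [Group G] [Finite G] (N : Subgroup G) [N.Normal]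
    (hN : IsPGroup p N) (x : G) : lam p (x : G ⧸ N) = lam p x := by
  set hπ := QuotientGroup.mk'_surjective N
  have hle : ∀ Q : Sylow p G, N ≤ Q := fun Q => hN.le_sylow_of_normal Q
  have hbij : Function.Bijective (fun Q : Sylow p G => Q.mapSurjective hπ) := by
    refine ⟨fun Q R h => ?_, Sylow.mapSurjective_surjective hπ p⟩
    have h1 := (sylow_map_eq_iff N Q R).1 h
    rw [sup_eq_left.2 (hle Q), sup_eq_left.2 (hle R)] at h1
    exact Sylow.ext h1
  refine (Nat.card_congr ((Equiv.ofBijective _ hbij).subtypeEquiv fun Q => ?_)).symm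
  show x ∈ (Q : Subgroup G) ↔ (x : G ⧸ N) ∈ ((Q.mapSurjective hπ : Sylow p (G ⧸ N)) : Subgroup (G ⧸ N))
  rw [Sylow.coe_mapSurjective]
  refine ⟨fun h => ⟨x, h, rfl⟩, ?_⟩
  rintro ⟨y, hy, hyx⟩
  have h1 := (Q : Subgroup G).mul_mem hy (hle Q (QuotientGroup.eq.1 hyx))
  rwa [mul_inv_cancel_left] at h1

/-- A normal `p'`-subgroup multiplies `lam` by an index. -/
theorem lam_quotient_prime {G : Type u} [Group G] [Finite G] (N : Subgroup G) [N.Normal]
    (hN : (Nat.card N).Coprime p) (P : Sylow p G) {x : G} {k : ℕ} (hx : x ^ p ^ k = 1) :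
    lam p x * Nat.card ↥(N ⊓ centralizer ((P : Subgroup G) : Set G)) =
      lam p (x : G ⧸ N) * Nat.card ↥(N ⊓ centralizer {x}) := by
  classical
  set hπ := QuotientGroup.mk'_surjective N
  have hdis : ∀ Q : Sylow p G, (Q : Subgroup G) ⊓ N = ⊥ := fun Q => by
    obtain ⟨j, hj⟩ := IsPGroup.iff_card.1 Q.isPGroup'
    exact (disjoint_of_coprime_natCard (by rw [hj]; exact (hN.symm.pow_left j))).eq_bot
  let f : {Q : Sylow p G // x ∈ Q} → {R : Sylow p (G ⧸ N) // (x : G ⧸ N) ∈ R} := fun Q =>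
    ⟨Q.1.mapSurjective hπ, by
      show (x : G ⧸ N) ∈ ((Q.1.mapSurjective hπ : Sylow p (G ⧸ N)) : Subgroup (G ⧸ N))
      rw [Sylow.coe_mapSurjective]; exact ⟨x, Q.2, rfl⟩⟩
  have hfib : ∀ R, Nat.card {Q // f Q = R} * Nat.card ↥(N ⊓ centralizer ((P : Subgroup G) : Set G)) =
      Nat.card ↥(N ⊓ centralizer {x}) := by
    intro R
    obtain ⟨Q₁, hQ₁⟩ := Sylow.mapSurjective_surjective hπ p R.1
    -- a Sylow subgroup of the fibre through `x`
    set K := (Q₁ : Subgroup G) ⊔ N
    have hxK : x ∈ K := by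
      have h1 : (x : G ⧸ N) ∈ ((Q₁.mapSurjective hπ : Sylow p (G ⧸ N)) : Subgroup (G ⧸ N)) := by
        rw [hQ₁]; exact R.2
      rw [Sylow.coe_mapSurjective] at h1
      obtain ⟨y, hy, hyx⟩ := h1
      have h2 := mul_mem_sup hy (QuotientGroup.eq.1 hyx : y⁻¹ * x ∈ N)
      rwa [mul_inv_cancel_left] at h2
    have hzp : IsPGroup p (zpowers x) := IsPGroup.of_card_dvd_pow (n := k) (by
      rw [Nat.card_zpowers]; exact orderOf_dvd_of_pow_eq_one hx)
    obtain ⟨T, hT⟩ := (hzp.comap_subtype (K := K)).exists_le_sylow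
    obtain ⟨c, hc⟩ := MulAction.exists_smul_eq K T (Q₁.subtype (le_sup_left : (Q₁ : Subgroup G) ≤ K))
    obtain ⟨q, hq, m, hm, hcm⟩ := mem_sup_of_normal_right.1 c.2
    have hQ0 : x ∈ m⁻¹ • Q₁ := by
      rw [smul_sylow_mem, inv_inv]
      have h1 : (⟨x, hxK⟩ : K) ∈ T := hT (mem_zpowers x)
      have h2 : c * ⟨x, hxK⟩ * c⁻¹ ∈ Q₁.subtype (le_sup_left : (Q₁ : Subgroup G) ≤ K) := by
        rw [← hc, smul_sylow_mem]; simpa [mul_assoc] using h1
      have h3 : (c : G) * x * (c : G)⁻¹ ∈ (Q₁ : Subgroup G) := h2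
      rw [← hcm] at h3
      have h4 := (Q₁ : Subgroup G).mul_mem ((Q₁ : Subgroup G).mul_mem ((Q₁ : Subgroup G).inv_mem hq) h3) hq
      rwa [show q⁻¹ * (q * m * x * (q * m)⁻¹) * q = m * x * m⁻¹ by group] at h4
    set Q₀ := m⁻¹ • Q₁
    have hsup : ∀ (n : G), n ∈ N → ∀ Q : Sylow p G,
        ((n • Q : Sylow p G) : Subgroup G) ⊔ N = (Q : Subgroup G) ⊔ N := by
      intro n hn Q
      refine le_antisymm (sup_le ?_ le_sup_right) (sup_le ?_ le_sup_right)
      · intro y hy
        have h1 : n⁻¹ * y * n ∈ Q := (smul_sylow_mem n y Q).1 hy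
        have h2 := (↑Q ⊔ N : Subgroup G).mul_mem ((↑Q ⊔ N : Subgroup G).mul_mem (mem_sup_right hn) (mem_sup_left h1))
          (mem_sup_right (N.inv_mem hn))
        rwa [show n * (n⁻¹ * y * n) * n⁻¹ = y by group] at h2
      · intro y hy
        have h1 : n * y * n⁻¹ ∈ n • Q := (smul_sylow_mem n _ Q).2 (by
          rw [show n⁻¹ * (n * y * n⁻¹) * n = y by group]; exact hy)
        set Q' : Subgroup G := ((n • Q : Sylow p G) : Subgroup G) ⊔ N
        have h2 := Q'.mul_mem (Q'.mul_mem (mem_sup_right (N.inv_mem hn)) (mem_sup_left h1)) (mem_sup_right hn)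
        rwa [show n⁻¹ * (n * y * n⁻¹) * n = y by group] at h2
    set A := N ⊓ centralizer {x}
    set C := N ⊓ centralizer ((Q₀ : Subgroup G) : Set G)
    have hnormC : ∀ a ∈ N, a • Q₀ = Q₀ → a ∈ C := by
      intro a ha hfix
      refine mem_inf.2 ⟨ha, mem_centralizer_iff.2 fun y hy => ?_⟩
      have h1 : a * y * a⁻¹ ∈ Q₀ := by
        suffices h : a * y * a⁻¹ ∈ a • Q₀ by rwa [hfix] at h
        rw [smul_sylow_mem, show a⁻¹ * (a * y * a⁻¹) * a = y by group]; exact hy
      have h2 : a * y * a⁻¹ * y⁻¹ ∈ (Q₀ : Subgroup G) ⊓ N := by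
        refine mem_inf.2 ⟨(Q₀ : Subgroup G).mul_mem h1 ((Q₀ : Subgroup G).inv_mem hy), ?_⟩
        rw [show a * y * a⁻¹ * y⁻¹ = a * (y * a⁻¹ * y⁻¹) by group]
        exact N.mul_mem ha (‹N.Normal›.conj_mem _ (N.inv_mem ha) y)
      rw [hdis, mem_bot, mul_inv_eq_one, mul_inv_eq_iff_eq_mul] at h2
      exact h2.symm
    have hmA : ∀ a ∈ A, x ∈ a • Q₀ := fun a ha => by
      have he : a * x = x * a := mem_centralizer_singleton_iff.1 ha.2
      rw [smul_sylow_mem, mul_assoc, ← he, inv_mul_cancel_left]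
      exact hQ0
    let Φ : A ⧸ C.subgroupOf A → {Q // f Q = R} := Quotient.lift
      (fun a : A => ⟨⟨(a : G) • Q₀, hmA a a.2⟩, Subtype.ext (by
        show Sylow.mapSurjective hπ ((a : G) • Q₀) = R.1
        rw [← hQ₁, sylow_map_eq_iff, hsup _ a.2.1, hsup _ (N.inv_mem hm)])⟩)
      (fun a b hab => by
        have h1 : ((a⁻¹ * b : A) : G) ∈ C := mem_subgroupOf.1 (QuotientGroup.leftRel_apply.1 hab)
        refine Subtype.ext (Subtype.ext ?_)
        show (a : G) • Q₀ = (b : G) • Q₀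
        have h2 : ((a⁻¹ * b : A) : G) • Q₀ = Q₀ :=
          Sylow.smul_eq_iff_mem_normalizer.2 (centralizer_le_normalizer _ h1.2)
        conv_lhs => rw [← h2]
        rw [smul_smul]; simp)
    have hΦ : Function.Bijective Φ := by
      constructor
      · intro u v
        induction u using Quotient.inductionOn with | _ a =>
        induction v using Quotient.inductionOn with | _ b =>
        intro h
        have h1 : (a : G) • Q₀ = (b : G) • Q₀ := congrArg (fun z => (z.1.1 : Sylow p G)) h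
        refine Quotient.sound (QuotientGroup.leftRel_apply.2 (mem_subgroupOf.2 ?_))
        refine hnormC _ (a⁻¹ * b : A).2.1 ?_
        rw [Subgroup.coe_mul, Subgroup.coe_inv, mul_smul, ← h1, inv_smul_smul]
      · rintro ⟨⟨Q, hQx⟩, hQ⟩
        have h1 : Sylow.mapSurjective hπ Q = Sylow.mapSurjective hπ Q₀ := by
          rw [show Sylow.mapSurjective hπ Q = R.1 from congrArg Subtype.val hQ, ← hQ₁, sylow_map_eq_iff,
            hsup _ (N.inv_mem hm)]
        rw [sylow_map_eq_iff] at h1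
        set K0 := (Q₀ : Subgroup G) ⊔ N
        have hQK : (Q : Subgroup G) ≤ K0 := h1 ▸ le_sup_left
        obtain ⟨d, hd⟩ := MulAction.exists_smul_eq K0 (Q₀.subtype (le_sup_left : (Q₀ : Subgroup G) ≤ K0))
          (Q.subtype hQK)
        obtain ⟨a, ha, y, hy, hay⟩ := mem_sup_of_normal_left.1 (show (d : G) ∈ N ⊔ ↑Q₀ by
          rw [sup_comm]; exact d.2)
        have hQa : Q = a • Q₀ := by
          have h2 : (d : G) • Q₀ = Q := by
            simp_rw [Sylow.smul_subtype, Subgroup.smul_def] at hd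
            exact Sylow.subtype_injective hd
          rw [← h2, ← hay, mul_smul, Sylow.smul_eq_iff_mem_normalizer.2 (le_normalizer hy)]
        have hax : a⁻¹ * x * a ∈ Q₀ := by rw [← smul_sylow_mem, ← hQa]; exact hQx
        have haA : a ∈ A := by
          refine mem_inf.2 ⟨ha, mem_centralizer_singleton_iff.2 ?_⟩
          have h3 : x⁻¹ * (a⁻¹ * x * a) ∈ (Q₀ : Subgroup G) ⊓ N := by
            refine mem_inf.2 ⟨(Q₀ : Subgroup G).mul_mem ((Q₀ : Subgroup G).inv_mem hQ0) hax, ?_⟩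
            rw [show x⁻¹ * (a⁻¹ * x * a) = (x⁻¹ * a⁻¹ * x⁻¹⁻¹) * a by group]
            exact N.mul_mem (‹N.Normal›.conj_mem _ (N.inv_mem ha) x⁻¹) ha
          rw [hdis, mem_bot, inv_mul_eq_one] at h3
          calc a * x = a * (a⁻¹ * x * a) := by rw [← h3]
            _ = x * a := by group
        exact ⟨Quotient.mk _ ⟨a, haA⟩, Subtype.ext (Subtype.ext hQa.symm)⟩
    have hCA : C ≤ A := inf_le_inf_left _ (centralizer_le (Set.singleton_subset_iff.2 hQ0))
    have hCc : Nat.card C = Nat.card ↥(N ⊓ centralizer ((P : Subgroup G) : Set G)) := by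
      obtain ⟨g, hg⟩ := MulAction.exists_smul_eq G P Q₀
      have h := CoprimeFixProd.map_centralizer_card (MulAut.conj g).toMonoidHom
        (MulAut.conj g).injective N ((P : Subgroup G) : Set G)
      have hmapN : N.map (MulAut.conj g).toMonoidHom = N := Subgroup.ext fun y =>
        ⟨fun ⟨z, hz, e⟩ => e ▸ ‹N.Normal›.conj_mem z hz g,
          fun hy => ⟨g⁻¹ * y * g, by simpa using ‹N.Normal›.conj_mem y hy g⁻¹, by simp [mul_assoc]⟩⟩
      rw [hmapN] at h
      rw [← h]
      refine congrArg (fun H : Subgroup G => Nat.card H) ?_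
      simp only [C, ← hg]
      rfl
    rw [← hCc, ← Nat.card_eq_of_bijective Φ hΦ, ← index_eq_card,
      ← Nat.card_congr (subgroupOfEquivOfLe hCA).toEquiv, mul_comm, card_mul_index]
  haveI := Fintype.ofFinite {R : Sylow p (G ⧸ N) // (x : G ⧸ N) ∈ R}
  show Nat.card {Q : Sylow p G // x ∈ Q} * _ = _
  rw [← Nat.card_congr (Equiv.sigmaFiberEquiv f), Nat.card_sigma, Finset.sum_mul,
    Finset.sum_congr rfl (fun R _ => hfib R), Finset.sum_const, Finset.card_univ, smul_eq_mul,
    ← Nat.card_eq_fintype_card]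
  rfl

/-- `∏_{x ∈ P} lam x`, raised to `p`, is at most `n ^ |P|`. -/
theorem prod_lam_le : ∀ (m : ℕ) (G : Type u) [Group G] [Finite G], Nat.card G = m →
    Cfsg.IsPSolvable p G → ∀ P : Sylow p G,
      (∏ᶠ x : (P : Subgroup G), lam p (x : G)) ^ p ≤ Nat.card (Sylow p G) ^ Nat.card P := by
  classical
  intro m
  induction m using Nat.strong_induction_on with | _ m ih =>
  intro G _ _ hm hG P
  haveI := Fintype.ofFinite (P : Subgroup G)
  rw [finprod_eq_prod_of_fintype]
  rcases subsingleton_or_nontrivial G with h | h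
  · have hc : ∀ x : G, lam p x = 1 := fun x => by
      have : Subsingleton (Sylow p G) := ⟨fun Q R => Sylow.ext (Subsingleton.elim _ _)⟩
      rw [Subsingleton.elim x 1, lam_one, Nat.card_unique]
    simp only [hc, Finset.prod_const_one, one_pow]
    exact Nat.one_le_pow _ _ Nat.card_pos
  obtain ⟨N, hN, -, hne, hor⟩ :=
    CfsgLib.Fusion.PSolvable.exists_minimal_dichotomy hG (K := (⊤ : Subgroup G)) top_ne_bot
  haveI := hN
  set π := QuotientGroup.mk' N
  set hπ := QuotientGroup.mk'_surjective N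
  have hlt : Nat.card (G ⧸ N) < m := hm ▸ CfsgLib.Solvable.Basic.card_quotient_lt N hne
  set P' : Sylow p (G ⧸ N) := P.mapSurjective hπ
  have hP' : (P' : Subgroup (G ⧸ N)) = (P : Subgroup G).map π := Sylow.coe_mapSurjective _ _
  have ih' := ih _ hlt (G ⧸ N) rfl (CfsgLib.Fusion.PSolvable.psolvable_quotient hG N) P'
  haveI := Fintype.ofFinite (P' : Subgroup (G ⧸ N))
  rw [finprod_eq_prod_of_fintype] at ih'
  let e : (P : Subgroup G) →* (P' : Subgroup (G ⧸ N)) :=
    (π.comp (P : Subgroup G).subtype).codRestrict _ fun x => hP' ▸ mem_map_of_mem π x.2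
  have hes : Function.Surjective e := fun ⟨y, hy⟩ => by
    rw [hP'] at hy
    obtain ⟨x, hx, hxy⟩ := hy
    exact ⟨⟨x, hx⟩, Subtype.ext hxy⟩
  rcases hor with hNp | hNp
  · have hn : Nat.card (Sylow p (G ⧸ N)) = Nat.card (Sylow p G) := by
      rw [← lam_one, ← lam_one]; exact lam_quotient_pgroup N hNp 1
    have hker : Nat.card P = Nat.card e.ker * Nat.card P' := by
      rw [← e.ker.card_mul_index, Subgroup.index_ker, MonoidHom.range_eq_top.2 hes, card_top]
    have hprod : ∏ x : (P : Subgroup G), lam p (x : G) =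
        (∏ y : (P' : Subgroup (G ⧸ N)), lam p (y : G ⧸ N)) ^ Nat.card e.ker := by
      rw [← Finset.prod_pow, ← Finset.prod_fiberwise Finset.univ e]
      refine Finset.prod_congr rfl fun y _ => ?_
      rw [Finset.prod_congr rfl (g := fun _ => lam p (y : G ⧸ N)) fun x hx => by
        rw [← lam_quotient_pgroup N hNp (x : G)]
        exact congrArg (fun z : (P' : Subgroup (G ⧸ N)) => lam p (z : G ⧸ N)) (Finset.mem_filter.1 hx).2,
        Finset.prod_const]
      congr 1
      obtain ⟨x₀, rfl⟩ := hes y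
      rw [← Nat.card_eq_finsetCard]
      refine Nat.card_congr
        { toFun := fun x => ⟨x₀⁻¹ * x.1, by
            rw [MonoidHom.mem_ker, map_mul, map_inv, (Finset.mem_filter.1 x.2).2, inv_mul_cancel]⟩
          invFun := fun z => ⟨x₀ * z.1, by
            rw [Finset.mem_filter]
            exact ⟨Finset.mem_univ _, by rw [map_mul, MonoidHom.mem_ker.1 z.2, mul_one]⟩⟩
          left_inv := fun x => by simp
          right_inv := fun z => by simp }
    rw [hprod, ← pow_mul, mul_comm, pow_mul, hn.symm, hker, mul_comm, pow_mul]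
    exact Nat.pow_le_pow_left ih' _
  · have hdis : (P : Subgroup G) ⊓ N = ⊥ := by
      obtain ⟨j, hj⟩ := IsPGroup.iff_card.1 P.isPGroup'
      exact (disjoint_of_coprime_natCard (by rw [hj]; exact (hNp.symm.pow_left j))).eq_bot
    have hei : Function.Injective e := by
      rw [injective_iff_map_eq_one]
      intro x hx
      have h1 : (x : G) ∈ (P : Subgroup G) ⊓ N :=
        mem_inf.2 ⟨x.2, (QuotientGroup.eq_one_iff _).1 (congrArg Subtype.val hx)⟩
      rw [hdis, mem_bot] at h1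
      exact Subtype.ext h1
    have hPP : Nat.card P' = Nat.card P := (Nat.card_eq_of_bijective e ⟨hei, hes⟩).symm
    set c := Nat.card ↥(N ⊓ centralizer ((P : Subgroup G) : Set G))
    have hn : Nat.card (Sylow p G) * c = Nat.card (Sylow p (G ⧸ N)) * Nat.card N := by
      have h1 := lam_quotient_prime N hNp P (x := (1 : G)) (k := 0) (one_pow _)
      rw [QuotientGroup.mk_one, lam_one, lam_one] at h1
      rw [h1]
      congr 1
      refine congrArg (fun H : Subgroup G => Nat.card H) (inf_eq_left.2 fun y _ => ?_)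
      exact mem_centralizer_singleton_iff.2 (by rw [one_mul, mul_one])
    have hx : ∀ x : (P : Subgroup G), lam p (x : G) * c =
        lam p ((e x : (P' : Subgroup (G ⧸ N))) : G ⧸ N) * Nat.card ↥(N ⊓ centralizer {(x : G)}) := fun x => by
      obtain ⟨k, hk⟩ := P.isPGroup' x
      exact lam_quotient_prime N hNp P (k := k) (congrArg Subtype.val hk)
    have hgood := CoprimeFixProd.good P.isPGroup'
      (le_normalizer_of_normal : (P : Subgroup G) ≤ normalizer (N : Set G)) (by
        obtain ⟨j, hj⟩ := IsPGroup.iff_card.1 P.isPGroup'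
        rw [hj]; exact hNp.symm.pow_left j)
    unfold CoprimeFixProd.Good CoprimeFixProd.fixProd at hgood
    rw [finprod_eq_prod_of_fintype] at hgood
    have hmul : (∏ x : (P : Subgroup G), lam p (x : G)) ^ p * c ^ (p * Nat.card P) =
        (∏ y : (P' : Subgroup (G ⧸ N)), lam p (y : G ⧸ N)) ^ p *
          (∏ x : (P : Subgroup G), Nat.card ↥(N ⊓ centralizer {(x : G)})) ^ p := by
      rw [← mul_pow, ← Fintype.prod_bijective e ⟨hei, hes⟩ (fun x => lam p ((e x : (P' : Subgroup (G ⧸ N))) : G ⧸ N)) _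
        (fun _ => rfl), ← Finset.prod_mul_distrib, Finset.prod_congr rfl (fun x _ => (hx x).symm),
        Finset.prod_mul_distrib, Finset.prod_const, Finset.card_univ, ← Nat.card_eq_fintype_card,
        mul_pow, ← pow_mul, mul_comm (Nat.card _) p]
    refine Nat.le_of_mul_le_mul_right ?_ (pow_pos (Nat.card_pos : 0 < c) (p * Nat.card P))
    rw [hmul]
    refine (Nat.mul_le_mul (hPP ▸ ih') hgood).trans (le_of_eq ?_)
    obtain ⟨q, hq⟩ : ∃ q, p = q + 1 := ⟨p - 1, by have := (Fact.out : p.Prime).one_lt; omega⟩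
    rw [← mul_assoc, ← mul_pow, ← hn, mul_pow, mul_assoc, ← pow_add]
    congr 2
    subst hq
    rw [Nat.add_sub_cancel]; ring

/-- `p`-elements. -/
theorem card_pelements_ge {G : Type u} [Group G] [Finite G] (hG : Cfsg.IsPSolvable p G) (P : Sylow p G) :
    Nat.card (P : Subgroup G) ^ p * Nat.card (Sylow p G) ^ (p - 1) ≤
      Nat.card {g : G // ∃ k : ℕ, orderOf g = p ^ k} ^ p := by
  classical
  haveI := Fintype.ofFinite G
  haveI := Fintype.ofFinite (Sylow p G)
  haveI := Fintype.ofFinite (P : Subgroup G)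
  set n := Nat.card (Sylow p G)
  have hn : 0 < n := Nat.card_pos
  set U := {g : G // ∃ k : ℕ, orderOf g = p ^ k}
  have hlampos : ∀ g : U, 0 < lam p (g : G) := fun g => by
    obtain ⟨k, hk⟩ := g.2
    obtain ⟨Q, hQ⟩ := (IsPGroup.of_card (G := zpowers (g : G)) (n := k)
      (by rw [Nat.card_zpowers, hk])).exists_le_sylow
    exact @Nat.card_pos _ ⟨⟨Q, hQ (mem_zpowers _)⟩⟩ _
  have hPU : ∀ x : G, x ∈ P → ∃ k : ℕ, orderOf x = p ^ k := fun x hx => by
    obtain ⟨k, hk⟩ := IsPGroup.iff_orderOf.1 P.isPGroup' ⟨x, hx⟩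
    exact ⟨k, by rwa [← Subgroup.orderOf_coe] at hk⟩
  -- double counting
  have hcount : (Nat.card U : ℝ) = n * ∑ x : (P : Subgroup G), ((lam p (x : G) : ℝ))⁻¹ := by
    have h1 : ∀ g : U, ∑ Q : Sylow p G, (if (g : G) ∈ Q then ((lam p (g : G) : ℝ))⁻¹ else 0) = 1 := by
      intro g
      rw [← Finset.sum_filter, Finset.sum_const, nsmul_eq_mul, ← Fintype.card_subtype,
        ← Nat.card_eq_fintype_card]
      exact mul_inv_cancel₀ (Nat.cast_ne_zero.2 (hlampos g).ne')
    have h2 : ∀ Q : Sylow p G, ∑ g : U, (if (g : G) ∈ Q then ((lam p (g : G) : ℝ))⁻¹ else 0) =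
        ∑ x : (P : Subgroup G), ((lam p (x : G) : ℝ))⁻¹ := by
      intro Q
      rw [← Finset.sum_filter]
      obtain ⟨c, rfl⟩ := MulAction.exists_smul_eq G P Q
      have hlam : ∀ x : G, lam p (c * x * c⁻¹) = lam p x := fun x => by
        refine (Nat.card_congr ((MulAction.toPerm c).subtypeEquiv fun R => ?_)).symm
        show x ∈ R ↔ c * x * c⁻¹ ∈ c • R
        rw [smul_sylow_mem]; simp [mul_assoc]
      refine Finset.sum_bij' (fun g hg => (⟨c⁻¹ * g * c, (smul_sylow_mem c g P).1 (Finset.mem_filter.1 hg).2⟩ : (P : Subgroup G)))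
        (fun x _ => ⟨c * x * c⁻¹, by
          obtain ⟨k, hk⟩ := hPU x x.2
          exact ⟨k, by rw [← MulAut.conj_apply c (x : G), MulEquiv.orderOf_eq, hk]⟩⟩) ?_ ?_ ?_ ?_ ?_
      · intro g hg; exact Finset.mem_univ _
      · intro x _
        rw [Finset.mem_filter]
        refine ⟨Finset.mem_univ _, (smul_sylow_mem c _ P).2 ?_⟩
        simp [mul_assoc]
      · intro g hg; apply Subtype.ext; simp [mul_assoc]
      · intro x _; apply Subtype.ext; simp [mul_assoc]
      · intro g hg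
        rw [← hlam (c⁻¹ * (g : G) * c)]
        simp [mul_assoc]
    calc (Nat.card U : ℝ) = ∑ _g : U, (1 : ℝ) := by
          rw [Finset.sum_const, nsmul_eq_mul, mul_one, Finset.card_univ, Nat.card_eq_fintype_card]
      _ = _ := by
          rw [← Finset.sum_congr rfl (fun g _ => h1 g), Finset.sum_comm,
            Finset.sum_congr rfl (fun Q _ => h2 Q), Finset.sum_const, nsmul_eq_mul, Finset.card_univ,
            ← Nat.card_eq_fintype_card]
  -- the inequality of means
  set k := Nat.card (P : Subgroup G)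
  have hk : 0 < k := Nat.card_pos
  have hlamP : ∀ x : (P : Subgroup G), (0 : ℝ) < lam p (x : G) := fun x =>
    Nat.cast_pos.2 (hlampos ⟨x, hPU x x.2⟩)
  set s := ∑ x : (P : Subgroup G), ((lam p (x : G) : ℝ))⁻¹
  have hs : 0 ≤ s := Finset.sum_nonneg fun x _ => (inv_pos.2 (hlamP x)).le
  have hAG : (k : ℝ) ^ k * ∏ x : (P : Subgroup G), ((lam p (x : G) : ℝ))⁻¹ ≤ s ^ k := by
    have h := Real.geom_mean_le_arith_mean Finset.univ (fun _ => (1 : ℝ))
      (fun x : (P : Subgroup G) => ((lam p (x : G) : ℝ))⁻¹) (fun _ _ => zero_le_one)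
      (by simp [Fintype.card_pos]) (fun x _ => (inv_pos.2 (hlamP x)).le)
    simp only [Real.rpow_one, one_mul, Finset.sum_const, Finset.card_univ, nsmul_eq_mul, mul_one,
      ← Nat.card_eq_fintype_card] at h
    have hprod : 0 ≤ ∏ x : (P : Subgroup G), ((lam p (x : G) : ℝ))⁻¹ :=
      Finset.prod_nonneg fun x _ => (inv_pos.2 (hlamP x)).le
    have h' := pow_le_pow_left₀ (Real.rpow_nonneg hprod _) h k
    rw [Real.rpow_inv_natCast_pow hprod hk.ne', div_pow, le_div_iff₀ (by positivity)] at h'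
    rwa [mul_comm]
  have hmain := prod_lam_le _ G rfl hG P
  rw [finprod_eq_prod_of_fintype] at hmain
  set L := ∏ x : (P : Subgroup G), lam p (x : G) with hL
  have hLpos : (0 : ℝ) < (L : ℝ) := by
    rw [hL, Nat.cast_prod]; exact Finset.prod_pos fun x _ => hlamP x
  have hgoal : ((k : ℝ) ^ p * (n : ℝ) ^ (p - 1)) ^ k ≤ ((Nat.card U : ℝ) ^ p) ^ k := by
    rw [hcount, mul_pow (n : ℝ) s p, mul_pow, mul_pow, ← pow_mul, ← pow_mul, ← pow_mul, ← pow_mul,
      mul_comm p k, pow_mul s k p]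
    have h1 := pow_le_pow_left₀ (by positivity) hAG p
    refine le_trans ?_ (mul_le_mul_of_nonneg_left h1 (by positivity))
    rw [Finset.prod_inv_distrib, mul_pow, inv_pow, ← Nat.cast_prod, ← pow_mul]
    rw [show (n : ℝ) ^ (k * p) = (n : ℝ) ^ k * (n : ℝ) ^ ((p - 1) * k) by
      rw [← pow_add]; congr 1
      obtain ⟨q, hq⟩ : ∃ q, p = q + 1 := ⟨p - 1, by have := (Fact.out : p.Prime).one_lt; omega⟩
      rw [hq, Nat.add_sub_cancel]; ring]
    rw [← hL]
    have h2 : ((L : ℝ)) ^ p ≤ (n : ℝ) ^ k := by exact_mod_cast hmain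
    have h3 : 1 ≤ (n : ℝ) ^ k * ((L : ℝ) ^ p)⁻¹ := by
      rw [← div_eq_mul_inv, one_le_div (by positivity)]; exact h2
    calc (k : ℝ) ^ (k * p) * (n : ℝ) ^ ((p - 1) * k)
        ≤ (k : ℝ) ^ (k * p) * (n : ℝ) ^ ((p - 1) * k) * ((n : ℝ) ^ k * ((L : ℝ) ^ p)⁻¹) :=
          le_mul_of_one_le_right (by positivity) h3
      _ = _ := by ring
  exact (Nat.pow_le_pow_iff_left hk.ne').1 (by exact_mod_cast hgoal)

end CfsgLib.PGroup.PElementCount
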