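import Cfsg.Agent.Lib.Classical.SL2Tori
import Mathlib.FieldTheory.Finite.Basic
import Mathlib.LinearAlgebra.Matrix.SpecialLinearGroup
import Mathlib.Tactic

set_option autoImplicit false

/-!
Conjugacy by trace in `SL(2, F)` and factorisations inside one trace class.
-/

namespace CfsgLib.PGroup.SL2Triangle

open Matrix
open scoped MatrixGroups

variable {F : Type*} [Field F]

/-- An element from its matrix. -/
def mkSL (M : Matrix (Fin 2) (Fin 2) F) (h : M.det = 1) : SL(2, F) := ⟨M, h⟩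

@[simp] theorem mkSL_val (M : Matrix (Fin 2) (Fin 2) F) (h : M.det = 1) : (mkSL M h).1 = M := rfl

/-- The companion matrix of trace `τ`. -/
def comp (τ : F) : SL(2, F) := mkSL !![0, -1; 1, τ] (by simp [det_fin_two])

@[simp] theorem comp_val (τ : F) : (comp τ).1 = !![0, -1; 1, τ] := rfl

/-- The trace. -/
def tr (g : SL(2, F)) : F := g.1 0 0 + g.1 1 1

theorem tr_conj (P g : SL(2, F)) : tr (P * g * P⁻¹) = tr g := by
  have h : tr (P * g * P⁻¹) = ((P * g * P⁻¹ : SL(2, F)) : Matrix (Fin 2) (Fin 2) F).trace := by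
    rw [trace_fin_two]; rfl
  rw [h, Matrix.SpecialLinearGroup.coe_mul, Matrix.trace_mul_comm,
    ← Matrix.SpecialLinearGroup.coe_mul, inv_mul_cancel_left, trace_fin_two]
  rfl

theorem tr_neg [Fact (Even (Fintype.card (Fin 2)))] (g : SL(2, F)) : tr (-g) = -tr g := by
  simp [tr]; ring

theorem tr_inv (g : SL(2, F)) : tr g⁻¹ = tr g := by
  rw [tr, Matrix.SpecialLinearGroup.coe_inv, adjugate_fin_two]; simp [tr]; ring

/-- `g` is not a scalar. -/
def NonScalar (g : SL(2, F)) : Prop := g.1 1 0 ≠ 0 ∨ g.1 0 1 ≠ 0 ∨ g.1 0 0 ≠ g.1 1 1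

theorem nonScalar_of [Fact (Even (Fintype.card (Fin 2)))] {g : SL(2, F)} (h1 : g ≠ 1)
    (h2 : g ≠ -1) : NonScalar g := by
  by_contra h
  simp only [NonScalar, not_or, not_not, ne_eq] at h
  obtain ⟨hc, hb, ha⟩ := h
  have hd := g.2
  rw [det_fin_two, hb, hc, ← ha, mul_zero, sub_zero] at hd
  rcases mul_self_eq_one_iff.1 hd with e | e
  · refine h1 (Subtype.ext (Matrix.ext fun i j => ?_))
    fin_cases i <;> fin_cases j <;> simp [hb, hc, ← ha, e]
  · refine h2 (Subtype.ext (Matrix.ext fun i j => ?_))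
    fin_cases i <;> fin_cases j <;> simp [hb, hc, ← ha, e]

variable [Fintype F]

omit [Fintype F] in
theorem ringChar_two (h2 : (2 : F) = 0) : ringChar F = 2 := by
  have : CharP F 2 := CharTwo.of_one_ne_zero_of_two_eq_zero one_ne_zero h2
  exact ringChar.eq F 2

theorem odd_card (h2 : (2 : F) ≠ 0) : Fintype.card F % 2 = 1 :=
  FiniteField.odd_card_of_char_ne_two fun e => h2 (by
    have : CharP F 2 := ringChar.of_eq e
    exact CharTwo.two_eq_zero)

/-- The quadratic form `det (v, g v)` represents one. -/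
theorem exists_rep (g : SL(2, F)) (hg : NonScalar g) (h : (2 : F) = 0 ∨ tr g ^ 2 ≠ 4) :
    ∃ x y : F, g.1 1 0 * x ^ 2 + (g.1 1 1 - g.1 0 0) * x * y - g.1 0 1 * y ^ 2 = 1 := by
  set a := g.1 0 0
  set b := g.1 0 1
  set c := g.1 1 0
  set d := g.1 1 1
  have hdet : a * d - b * c = 1 := by have := g.2; rwa [det_fin_two] at this
  have htr : tr g = a + d := rfl
  rw [htr] at h
  by_cases h2 : (2 : F) = 0
  · -- every value scales by a square
    have hsq : ∀ u : F, IsSquare u := fun u =>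
      FiniteField.isSquare_of_char_two (ringChar_two h2) u
    obtain ⟨x, y, hv⟩ : ∃ x y : F, c * x ^ 2 + (d - a) * x * y - b * y ^ 2 ≠ 0 := by
      by_contra! hall
      have e1 := hall 1 0
      have e2 := hall 0 1
      have e3 := hall 1 1
      simp only [one_pow, mul_one, mul_zero, add_zero, ne_eq, OfNat.ofNat_ne_zero, not_false_eq_true,
        zero_pow, sub_zero, zero_add, zero_sub, neg_eq_zero] at e1 e2 e3
      rcases hg with hg | hg | hg
      · exact hg e1
      · exact hg e2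
      · exact hg (by linear_combination -e3 + e1 - e2)
    obtain ⟨s, hs⟩ := hsq (c * x ^ 2 + (d - a) * x * y - b * y ^ 2)⁻¹
    exact ⟨s * x, s * y, by
      calc _ = (s * s) * (c * x ^ 2 + (d - a) * x * y - b * y ^ 2) := by ring
        _ = 1 := by rw [← hs, inv_mul_cancel₀ hv]⟩
  replace h := h.resolve_left h2
  by_cases hc : c = 0
  · have hne : d - a ≠ 0 := fun e => h (by
      rw [hc] at hdet; linear_combination 4 * hdet + (d - a) * e)
    exact ⟨(1 + b) / (d - a), 1, by rw [hc]; field_simp; ring⟩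
  set D := ((a + d) ^ 2 - 4) / (4 * c) with hD
  have h4 : (4 : F) ≠ 0 := by
    rw [show (4 : F) = 2 * 2 by norm_num]; exact mul_ne_zero h2 h2
  have hD0 : D ≠ 0 := div_ne_zero (sub_ne_zero.2 h) (mul_ne_zero h4 hc)
  obtain ⟨u, y, huy⟩ := FiniteField.exists_root_sum_quadratic (R := F)
    (f := Polynomial.C c * Polynomial.X ^ 2) (g := Polynomial.C (-D) * Polynomial.X ^ 2 + Polynomial.C (-1))
    (Polynomial.degree_C_mul_X_pow 2 hc)
    (by
      rw [Polynomial.degree_add_eq_left_of_degree_lt]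
      · exact Polynomial.degree_C_mul_X_pow 2 (neg_ne_zero.2 hD0)
      · rw [Polynomial.degree_C_mul_X_pow 2 (neg_ne_zero.2 hD0)]
        exact lt_of_le_of_lt Polynomial.degree_C_le (by norm_num))
    (odd_card h2)
  simp only [Polynomial.eval_mul, Polynomial.eval_C, Polynomial.eval_pow, Polynomial.eval_X,
    Polynomial.eval_add] at huy
  refine ⟨u - (d - a) * y / (2 * c), y, ?_⟩
  have hD' : D * (4 * c) = (d - a) ^ 2 + 4 * b * c := by
    rw [hD, div_mul_cancel₀ _ (mul_ne_zero h4 hc)]; linear_combination 4 * hdet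
  field_simp
  linear_combination (4 * c) * huy + y ^ 2 * hD'

/-- A non-scalar element with separable characteristic polynomial is conjugate to its companion. -/
theorem conj_comp (g : SL(2, F)) (hg : NonScalar g) (h : (2 : F) = 0 ∨ tr g ^ 2 ≠ 4) :
    ∃ P : SL(2, F), g = P * comp (tr g) * P⁻¹ := by
  obtain ⟨x, y, hxy⟩ := exists_rep g hg h
  have hdet : g.1 0 0 * g.1 1 1 - g.1 0 1 * g.1 1 0 = 1 := by
    have := g.2; rwa [det_fin_two] at this
  refine ⟨mkSL !![x, g.1 0 0 * x + g.1 0 1 * y; y, g.1 1 0 * x + g.1 1 1 * y] ?_, ?_⟩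
  · rw [det_fin_two_of]; linear_combination hxy
  · rw [eq_mul_inv_iff_mul_eq]
    refine Subtype.ext ?_
    simp only [Matrix.SpecialLinearGroup.coe_mul]
    ext i j
    fin_cases i <;> fin_cases j <;>
      simp [tr, Matrix.mul_apply, Fin.sum_univ_two] <;>
      first | linear_combination x * hdet | linear_combination y * hdet |
        linear_combination -x * hdet | linear_combination -y * hdet | ring

theorem conj_of_tr {g g' : SL(2, F)} (hg : NonScalar g) (hg' : NonScalar g') (ht : tr g = tr g')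
    (h : (2 : F) = 0 ∨ tr g ^ 2 ≠ 4) : ∃ P : SL(2, F), g' = P * g * P⁻¹ := by
  obtain ⟨P, hP⟩ := conj_comp g hg h
  obtain ⟨Q, hQ⟩ := conj_comp g' hg' (ht ▸ h)
  refine ⟨Q * P⁻¹, ?_⟩
  rw [hQ, ← ht]
  conv_rhs => arg 1; arg 2; rw [hP]
  group

/-- A second element of the same trace with product of the same trace up to sign. -/
theorem exists_triangle {g : SL(2, F)} (hg : NonScalar g) (h0 : tr g ≠ 0)
    (h4 : tr g ^ 2 ≠ 4) (hsp : (2 : F) = 0 → tr g = 1 → ∃ ω : F, ω ^ 2 + ω + 1 = 0) :
    ∃ y : SL(2, F), tr y = tr g ∧ (tr (g * y) = tr g ∨ tr (g * y) = -tr g) ∧ g * y ≠ y * g := by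
  obtain ⟨P, hP⟩ := conj_comp g hg (Or.inr h4)
  set τ := tr g with hτ
  suffices h : ∃ y : SL(2, F), tr y = τ ∧ (tr (comp τ * y) = τ ∨ tr (comp τ * y) = -τ) ∧
      comp τ * y ≠ y * comp τ by
    obtain ⟨y, h1, h2, h3⟩ := h
    have e : g * (P * y * P⁻¹) = P * (comp τ * y) * P⁻¹ := by rw [hP]; group
    refine ⟨P * y * P⁻¹, by rw [tr_conj, h1], by rw [e, tr_conj]; exact h2, fun hc => h3 ?_⟩
    have e' : (P * y * P⁻¹) * g = P * (y * comp τ) * P⁻¹ := by rw [hP]; group
    rw [e, e'] at hc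
    exact mul_left_cancel (mul_right_cancel hc)
  have hcomm : ∀ y : SL(2, F), comp τ * y = y * comp τ →
      y.1 1 0 = -y.1 0 1 ∧ τ * y.1 0 1 = y.1 0 0 - y.1 1 1 := by
    intro y hy
    have e : (comp τ * y).1 = (y * comp τ).1 := congrArg Subtype.val hy
    have e1 := congrFun (congrFun e 0) 0
    have e2 := congrFun (congrFun e 0) 1
    simp [Matrix.mul_apply, Fin.sum_univ_two] at e1 e2
    exact ⟨by linear_combination -e1, by linear_combination -e2⟩
  by_cases h2 : (2 : F) = 0
  · by_cases h1 : τ = 1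
    · obtain ⟨ω, hω⟩ := hsp h2 h1
      refine ⟨mkSL !![ω, 0; ω, τ - ω] (by
        rw [det_fin_two_of, h1]; linear_combination -hω + ω * h2), by simp [tr], Or.inl ?_, fun hc => ?_⟩
      · simp [tr, Matrix.mul_apply, Fin.sum_univ_two, h1]
        linear_combination -ω * h2
      · obtain ⟨e1, -⟩ := hcomm _ hc
        simp at e1
        rw [e1] at hω
        simp at hω
    · obtain ⟨β, hβ⟩ := FiniteField.isSquare_of_char_two (ringChar_two h2) τ
      refine ⟨mkSL !![τ + 1, β; β, -1] (by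
        rw [det_fin_two_of]; linear_combination hβ - (τ + 1) * h2), by simp [tr], Or.inl ?_, fun hc => ?_⟩
      · simp [tr, Matrix.mul_apply, Fin.sum_univ_two]
        linear_combination -τ * h2
      · obtain ⟨-, e2⟩ := hcomm _ hc
        simp at e2
        refine h1 ?_
        have h5 : β = 1 := mul_left_cancel₀ h0 (by rw [e2, mul_one]; linear_combination h2)
        rw [hβ, h5, mul_one]
  · have h4' : (4 : F) ≠ 0 := by rw [show (4 : F) = 2 * 2 by norm_num]; exact mul_ne_zero h2 h2
    obtain ⟨s, hs, hs2, hsτ⟩ : ∃ s : F, (s = τ ∨ s = -τ) ∧ s ≠ 2 ∧ s ≠ τ ^ 2 - 2 := by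
      by_cases h1 : τ = -1
      · refine ⟨-τ, Or.inr rfl, fun e => ?_, fun e => ?_⟩ <;> rw [h1] at e
        · exact one_ne_zero (α := F) (by linear_combination -e)
        · exact h2 (by linear_combination e)
      · refine ⟨τ, Or.inl rfl, fun e => h4 (by rw [e]; norm_num), fun e => ?_⟩
        have : (τ - 2) * (τ + 1) = 0 := by linear_combination -e
        rcases mul_eq_zero.1 this with e' | e'
        · exact h4 (by rw [sub_eq_zero.1 e']; norm_num)
        · exact h1 (eq_neg_of_add_eq_zero_left e')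
    set A := τ ^ 2 - 4
    have hA : A ≠ 0 := sub_ne_zero.2 h4
    obtain ⟨w, a, hwa⟩ := FiniteField.exists_root_sum_quadratic (R := F)
      (f := (Polynomial.X ^ 2 : Polynomial F))
      (g := Polynomial.C (-A) * Polynomial.X ^ 2 + (Polynomial.C (2 * τ * (τ ^ 2 - s) - 4 * τ) *
        Polynomial.X + Polynomial.C (4 - (τ ^ 2 - s) ^ 2)))
      (Polynomial.degree_X_pow 2)
      (by
        rw [Polynomial.degree_add_eq_left_of_degree_lt]
        · exact Polynomial.degree_C_mul_X_pow 2 (neg_ne_zero.2 hA)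
        · rw [Polynomial.degree_C_mul_X_pow 2 (neg_ne_zero.2 hA)]
          exact lt_of_le_of_lt Polynomial.degree_linear_le (by norm_num))
      (odd_card h2)
    simp only [Polynomial.eval_mul, Polynomial.eval_C, Polynomial.eval_pow, Polynomial.eval_X,
      Polynomial.eval_add] at hwa
    set e := τ ^ 2 - τ * a - s with he
    set b := (w - e) / 2 with hb
    have hb2 : 2 * b = w - e := by rw [hb, mul_div_cancel₀ _ h2]
    clear_value b
    have hdet : a * (τ - a) - b * (b + e) = 1 :=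
      mul_left_cancel₀ h4' (by linear_combination -hwa - (2 * b + e + w) * hb2)
    refine ⟨mkSL !![a, b; b + e, τ - a] (by rw [det_fin_two_of]; exact hdet), by simp [tr],
      hs.imp (fun h => ?_) (fun h => ?_), fun hc => ?_⟩
    · simp [tr, Matrix.mul_apply, Fin.sum_univ_two]
      linear_combination h - he
    · simp [tr, Matrix.mul_apply, Fin.sum_univ_two]
      linear_combination h - he
    · obtain ⟨e1, e2⟩ := hcomm _ hc
      simp at e1 e2
      have hsb : s = 2 * b + τ * (τ - a) := by linear_combination he - e1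
      have h5 : (b - 1) * (b + 1) * A = 0 := by
        linear_combination -4 * hdet + (τ * b + 2 * a - τ) * e2 - 4 * b * e1
      rcases mul_eq_zero.1 ((mul_eq_zero.1 h5).resolve_right hA) with h6 | h6
      · rw [sub_eq_zero.1 h6] at e2 hsb
        refine hs2 ?_
        have : τ = a := mul_left_cancel₀ h2 (by linear_combination e2)
        rw [hsb, ← this]; ring
      · rw [eq_neg_of_add_eq_zero_left h6] at e2 hsb
        refine hsτ ?_
        have : a = 0 := mul_left_cancel₀ h2 (by linear_combination -e2)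
        rw [hsb, this]; ring

/-- The upper transvection. -/
def up (a : F) : SL(2, F) := mkSL !![1, a; 0, 1] (by simp [det_fin_two])

omit [Fintype F] in
@[simp] theorem up_val (a : F) : (up a).1 = !![1, a; 0, 1] := rfl

/-- The lower transvection. -/
def low (a : F) : SL(2, F) := mkSL !![1, 0; a, 1] (by simp [det_fin_two])

omit [Fintype F] in
@[simp] theorem low_val (a : F) : (low a).1 = !![1, 0; a, 1] := rfl

omit [Fintype F] in
theorem unip_triangle [Fact (Even (Fintype.card (Fin 2)))] (h2 : (2 : F) ≠ 0) {a : F} (ha : a ≠ 0) :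
    (∃ P : SL(2, F), low (-4 / a) = P * up a * P⁻¹) ∧
      ∃ P : SL(2, F), up a * low (-4 / a) = -(P * (up a)⁻¹ * P⁻¹) := by
  refine ⟨⟨mkSL !![0, -(a / 2); 2 / a, 0] ?_, ?_⟩, ⟨mkSL !![1, 0; 2 / a, 1] (by simp [det_fin_two]), ?_⟩⟩
  · rw [det_fin_two_of]; field_simp; ring
  · rw [eq_mul_inv_iff_mul_eq]
    refine Subtype.ext ?_
    simp only [Matrix.SpecialLinearGroup.coe_mul]
    ext i j
    fin_cases i <;> fin_cases j <;> simp [Matrix.mul_apply, Fin.sum_univ_two] <;>
      field_simp <;> ring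
  · refine Subtype.ext ?_
    simp only [Matrix.SpecialLinearGroup.coe_mul, Matrix.SpecialLinearGroup.coe_neg,
      Matrix.SpecialLinearGroup.coe_inv, adjugate_fin_two]
    ext i j
    fin_cases i <;> fin_cases j <;> simp [Matrix.mul_apply, Fin.sum_univ_two] <;>
      field_simp <;> ring

omit [Fintype F] in
/-- In characteristic two, trace one elements with trace one product coincide. -/
theorem eq_of_tr_one (h2 : (2 : F) = 0) (hroot : ∀ l : F, l ^ 2 + l + 1 ≠ 0) {x y : SL(2, F)}
    (hx : tr x = 1) (hy : tr y = 1) (hxy : tr (x * y) = 1) : x = y := by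
  have dx := x.2
  have dy := y.2
  rw [det_fin_two] at dx dy
  simp only [tr, Matrix.SpecialLinearGroup.coe_mul, Matrix.mul_apply, Fin.sum_univ_two] at hx hy hxy
  obtain ⟨p, ep⟩ : ∃ t, x.1 0 0 = t := ⟨_, rfl⟩
  obtain ⟨q, eq⟩ : ∃ t, x.1 0 1 = t := ⟨_, rfl⟩
  obtain ⟨r, er⟩ : ∃ t, x.1 1 0 = t := ⟨_, rfl⟩
  obtain ⟨s, es⟩ : ∃ t, x.1 1 1 = t := ⟨_, rfl⟩
  obtain ⟨u, eu⟩ : ∃ t, y.1 0 0 = t := ⟨_, rfl⟩
  obtain ⟨v, ev⟩ : ∃ t, y.1 0 1 = t := ⟨_, rfl⟩
  obtain ⟨w, ew⟩ : ∃ t, y.1 1 0 = t := ⟨_, rfl⟩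
  obtain ⟨z, ez⟩ : ∃ t, y.1 1 1 = t := ⟨_, rfl⟩
  simp only [ep, eq, er, es, eu, ev, ew, ez] at hx hy hxy dx dy
  obtain rfl : s = 1 - p := by linear_combination hx
  obtain rfl : z = 1 - u := by linear_combination hy
  have hN : (p + u) ^ 2 + (q + v) * (r + w) = 0 := by
    linear_combination -(dx + dy) + hxy + (p + u - 1) * h2
  have hNx : (p + u) + (q + v) * r + (r + w) * q = 0 := by
    linear_combination hxy + (p + u + q * r - p * u) * h2
  suffices h : p + u = 0 ∧ q + v = 0 ∧ r + w = 0 by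
    obtain ⟨h1, h3, h4⟩ := h
    refine Subtype.ext (Matrix.ext fun i j => ?_)
    fin_cases i <;> fin_cases j
    · show x.1 0 0 = y.1 0 0; rw [ep, eu]; linear_combination h1 - u * h2
    · show x.1 0 1 = y.1 0 1; rw [eq, ev]; linear_combination h3 - v * h2
    · show x.1 1 0 = y.1 1 0; rw [er, ew]; linear_combination h4 - w * h2
    · show x.1 1 1 = y.1 1 1; rw [es, ez]; linear_combination -(h1 - u * h2)
  by_cases hc : r + w = 0
  · have hn : p + u = 0 := pow_eq_zero_iff two_ne_zero |>.1 (by simpa [hc] using hN)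
    refine ⟨hn, ?_, hc⟩
    by_contra hb
    have hr : r = 0 := (mul_eq_zero.1 (show (q + v) * r = 0 by
      linear_combination hNx - hn - q * hc)).resolve_left hb
    exact hroot p (by linear_combination -dx - q * hr + p * h2)
  · exfalso
    have hQ : q * (r + w) ^ 2 + (p + u) * (r + w) + r * (p + u) ^ 2 = 0 := by
      linear_combination (r + w) * hNx + r * hN - r * (q + v) * (r + w) * h2
    refine hroot (1 + p + r * (p + u) / (r + w)) ?_
    field_simp
    linear_combination (r + w) ^ 2 * dx + r * hQ +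
      ((r + w) ^ 2 * (2 + p + p ^ 2) + (1 + p) * r * (p + u) * (r + w)) * h2

end CfsgLib.PGroup.SL2Triangle
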