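import Cfsg.Agent.Lib.PGroup.BinaryStabilizer
import Cfsg.Agent.Lib.PGroup.SL2Triangle
import Cfsg.Agent.Lib.Classical.Dickson.Main
import Cfsg.Agent.Lib.Classical.Dickson.Rational
import Cfsg.Agent.Lib.Classical.Dickson.PSL
import Cfsg.Agent.Lib.Classical.SLBasic
import Cfsg.Agent.Lib.Classical.SL2Fours

set_option autoImplicit false
set_option linter.unusedSectionVars false
set_option linter.style.haveILetI false

/-!
Trace invariants and factorisations in `PSL(2, F)`.
-/

namespace CfsgLib.PGroup.PSL2Binary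

open Matrix CfsgLib.Classical.Dickson
open scoped MatrixGroups
open SL2Triangle (tr comp up low mkSL NonScalar)

variable {F : Type*} [Field F] [Fintype F] [DecidableEq F]

local notation "G₂" => ProjectiveSpecialLinearGroup (Fin 2) F

/-- The projection. -/
def pr : SL(2, F) →* G₂ := QuotientGroup.mk' _

/-- The embedding. -/
def emb : G₂ →* ProjGenLinGroup (Fin 2) F := ProjectiveSpecialLinearGroup.toPGL

omit [Fintype F] [DecidableEq F] in
theorem pr_surjective : Function.Surjective (pr (F := F)) := QuotientGroup.mk'_surjective _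

omit [Fintype F] [DecidableEq F] in
theorem emb_injective : Function.Injective (emb (F := F)) :=
  ProjectiveSpecialLinearGroup.toPGL_injective

theorem pr_eq_one {g : SL(2, F)} : pr g = 1 ↔ g = 1 ∨ g = -1 := by
  constructor
  · intro h
    exact sl_scalar_of_toPGL_one (s := g) (by
      have := congrArg emb h
      rwa [map_one] at this)
  · rintro (rfl | rfl)
    · exact map_one _
    · exact (QuotientGroup.eq_one_iff _).2 (Matrix.SpecialLinearGroup.mem_center_iff.2
        ⟨-1, by simp, by ext i j; fin_cases i <;> fin_cases j <;> simp⟩)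

theorem pr_neg (g : SL(2, F)) : pr (-g) = pr g := by
  rw [← neg_one_mul, map_mul, pr_eq_one.2 (Or.inr rfl), one_mul]

theorem pr_eq_iff {a b : SL(2, F)} : pr a = pr b ↔ a = b ∨ a = -b := by
  rw [← mul_inv_eq_one, ← map_inv, ← map_mul, pr_eq_one, mul_inv_eq_one, mul_inv_eq_iff_eq_mul,
    neg_one_mul]

/-- The invariant square of the trace. -/
noncomputable def T (c : G₂) : F := tinv (emb c)

theorem T_pr (g : SL(2, F)) : T (pr g) = tr g ^ 2 := by
  show tinv (ProjGenLinGroup.mk (SpecialLinearGroup.toGL g)) = _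
  rw [tinv_mk]
  simp [tr, Matrix.trace_fin_two]

theorem T_conj (x c : G₂) : T (x * c * x⁻¹) = T c := by
  simp only [T, map_mul, map_inv]
  exact tinv_conj (emb x) (emb c)

theorem nonScalar_of_ne_one {g : SL(2, F)} (h : pr g ≠ 1) : NonScalar g :=
  SL2Triangle.nonScalar_of (fun e => h (pr_eq_one.2 (Or.inl e))) (fun e => h (pr_eq_one.2 (Or.inr e)))

theorem tr_eq_zero_of_sq {g : SL(2, F)} (h : pr g ≠ 1) (h2 : pr g * pr g = 1) : tr g = 0 := by
  rw [← map_mul, pr_eq_one] at h2
  have hd : g.1 0 0 * g.1 1 1 - g.1 0 1 * g.1 1 0 = 1 := by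
    have := g.2; rwa [det_fin_two] at this
  rcases h2 with h2 | h2
  · by_cases hc : (2 : F) = 0
    · by_contra ht
      have e : (g * g).1 = (1 : SL(2, F)).1 := congrArg Subtype.val h2
      have e00 := congrFun (congrFun e 0) 0
      have e01 := congrFun (congrFun e 0) 1
      simp [Matrix.mul_apply, Fin.sum_univ_two] at e00 e01
      have a0 : g.1 0 0 = 0 := (mul_eq_zero.1 (show g.1 0 0 * tr g = 0 by
        simp only [tr]; linear_combination e00 + hd + hc)).resolve_right ht
      have b0 : g.1 0 1 = 0 := (mul_eq_zero.1 (show g.1 0 1 * tr g = 0 by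
        simp only [tr]; linear_combination e01)).resolve_right ht
      rw [a0, b0] at hd
      simp at hd
    · exact absurd (CfsgLib.Classical.sl2_eq_neg_one hc (fun e => h (pr_eq_one.2 (Or.inl e))) h2)
        (fun e => h (pr_eq_one.2 (Or.inr e)))
  · by_contra ht
    have e : (g * g).1 = (-1 : SL(2, F)).1 := congrArg Subtype.val h2
    have e00 := congrFun (congrFun e 0) 0
    have e01 := congrFun (congrFun e 0) 1
    simp [Matrix.mul_apply, Fin.sum_univ_two] at e00 e01
    have a0 : g.1 0 0 = 0 := (mul_eq_zero.1 (show g.1 0 0 * tr g = 0 by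
      simp only [tr]; linear_combination e00 + hd)).resolve_right ht
    have b0 : g.1 0 1 = 0 := (mul_eq_zero.1 (show g.1 0 1 * tr g = 0 by
      simp only [tr]; linear_combination e01)).resolve_right ht
    rw [a0, b0] at hd
    simp at hd

theorem sq_of_tr_eq_zero {g : SL(2, F)} (h : tr g = 0) : pr g * pr g = 1 := by
  rw [← map_mul, pr_eq_one]
  refine Or.inr (Subtype.ext (Matrix.ext fun i j => ?_))
  have hd : g.1 0 0 * g.1 1 1 - g.1 0 1 * g.1 1 0 = 1 := by
    have := g.2; rwa [det_fin_two] at this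
  simp only [tr] at h
  fin_cases i <;> fin_cases j <;> simp [Matrix.mul_apply, Fin.sum_univ_two] <;>
    first
      | linear_combination g.1 0 0 * h - hd
      | linear_combination g.1 0 1 * h
      | linear_combination g.1 1 0 * h
      | linear_combination g.1 1 1 * h - hd

theorem sq_iff {c : G₂} (hc : c ≠ 1) : c * c = 1 ↔ T c = 0 := by
  obtain ⟨g, rfl⟩ := pr_surjective c
  rw [T_pr, sq_eq_zero_iff]
  exact ⟨tr_eq_zero_of_sq hc, sq_of_tr_eq_zero⟩

/-- Involutions are conjugate. -/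
theorem involutions_conj {s t : G₂} (hs : s ≠ 1) (hs2 : s * s = 1) (ht : t ≠ 1) (ht2 : t * t = 1) :
    ∃ x : G₂, t = x * s * x⁻¹ := by
  obtain ⟨g, rfl⟩ := pr_surjective s
  obtain ⟨g', rfl⟩ := pr_surjective t
  have h1 := tr_eq_zero_of_sq hs hs2
  have h2 := tr_eq_zero_of_sq ht ht2
  obtain ⟨P, hP⟩ := SL2Triangle.conj_of_tr (nonScalar_of_ne_one hs) (nonScalar_of_ne_one ht)
    (h1.trans h2.symm) (by
      rw [h1]
      by_cases h : (2 : F) = 0
      · exact Or.inl h
      · refine Or.inr fun e => h ?_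
        have : (2 : F) * 2 = 0 := by linear_combination -e
        simpa using this)
  exact ⟨pr P, by rw [hP, map_mul, map_mul, map_inv]⟩

theorem conj_of_T {c d : G₂} (hc : c ≠ 1) (hd : d ≠ 1) (hT : T c = T d) (h4 : T c ≠ 4) :
    ∃ x : G₂, d = x * c * x⁻¹ := by
  obtain ⟨g, rfl⟩ := pr_surjective c
  obtain ⟨g', rfl⟩ := pr_surjective d
  rw [T_pr] at hT h4
  rw [T_pr] at hT
  rcases eq_or_eq_neg_of_sq_eq_sq _ _ hT with e | e
  · obtain ⟨P, hP⟩ := SL2Triangle.conj_of_tr (nonScalar_of_ne_one hc) (nonScalar_of_ne_one hd) e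
      (Or.inr h4)
    exact ⟨pr P, by rw [hP, map_mul, map_mul, map_inv]⟩
  · obtain ⟨P, hP⟩ := SL2Triangle.conj_of_tr (g' := -g') (nonScalar_of_ne_one hc)
      (nonScalar_of_ne_one (by rwa [pr_neg])) (by rw [SL2Triangle.tr_neg]; exact e) (Or.inr h4)
    exact ⟨pr P, by rw [← pr_neg g', hP, map_mul, map_mul, map_inv]⟩

theorem T_inv (c : G₂) : T c⁻¹ = T c := by
  obtain ⟨g, rfl⟩ := pr_surjective c
  rw [← map_inv, T_pr, T_pr, SL2Triangle.tr_inv]

/-- Factorisation inside a semisimple class. -/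
theorem exists_factor {h : G₂} (h1 : h ≠ 1) (h0 : T h ≠ 0) (h4 : T h ≠ 4)
    (hsp : (2 : F) = 0 → T h = 1 → ∃ ω : F, ω ^ 2 + ω + 1 = 0) :
    ∃ l : G₂, (∃ x : G₂, l = x * h * x⁻¹) ∧ (∃ x : G₂, h * l = x * h * x⁻¹) ∧ h * l ≠ l * h := by
  obtain ⟨g, rfl⟩ := pr_surjective h
  rw [T_pr] at h0 h4 hsp
  have hg := nonScalar_of_ne_one h1
  obtain ⟨y, hy, hgy, hne⟩ := SL2Triangle.exists_triangle hg (fun e => h0 (by rw [e]; simp)) h4
    (fun e2 e1 => hsp e2 (by rw [e1]; simp))
  have hy1 : pr y ≠ 1 := fun e => hne (by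
    rcases pr_eq_one.1 e with rfl | rfl <;> simp)
  refine ⟨pr y, conj_of_T h1 hy1 (by rw [T_pr, T_pr, hy]) (by rwa [T_pr]),
    conj_of_T h1 (fun e => hne ?_) ?_ (by rwa [T_pr]), fun e => ?_⟩
  · rw [← map_mul, pr_eq_one] at e
    rcases e with e | e
    · rw [eq_inv_of_mul_eq_one_right e]; simp
    · rw [show y = g⁻¹ * -1 by rw [← e, inv_mul_cancel_left]]; simp
  · rw [← map_mul, T_pr, T_pr]
    rcases hgy with e | e <;> rw [e] <;> simp
  · rw [← map_mul, ← map_mul, pr_eq_iff] at e
    refine e.elim hne fun e => h0 ?_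
    have e' : g = -(y * g * y⁻¹) := by
      rw [← neg_mul, ← e, mul_inv_cancel_right]
    have ht : tr g = -tr g := by
      conv_lhs => rw [e', SL2Triangle.tr_neg, SL2Triangle.tr_conj]
    by_cases h2 : (2 : F) = 0
    · exfalso
      refine hne ?_
      rw [e]
      refine Subtype.ext ?_
      ext i j
      show -((y * g).1 i j) = (y * g).1 i j
      linear_combination -(y * g).1 i j * h2
    · have : (2 : F) * tr g = 0 := by linear_combination ht
      rw [(mul_eq_zero.1 this).resolve_left h2]; simp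

theorem exists_up {c : G₂} (hc : c ≠ 1) (hT : T c = 4) :
    ∃ (a : F) (x : G₂), a ≠ 0 ∧ c = x * pr (up a) * x⁻¹ := by
  obtain ⟨g₀, rfl⟩ := pr_surjective c
  rw [T_pr] at hT
  obtain ⟨g, hgp, hg⟩ : ∃ g : SL(2, F), pr g = pr g₀ ∧ tr g = 2 := by
    rcases eq_or_eq_neg_of_sq_eq_sq (tr g₀) 2 (by rw [hT]; norm_num) with e | e
    · exact ⟨g₀, rfl, e⟩
    · exact ⟨-g₀, pr_neg _, by rw [SL2Triangle.tr_neg, e, neg_neg]⟩
  rw [← hgp] at hc ⊢
  have hd : g.1 0 0 * g.1 1 1 - g.1 0 1 * g.1 1 0 = 1 := by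
    have := g.2; rwa [det_fin_two] at this
  simp only [tr] at hg
  by_cases h10 : g.1 1 0 = 0
  · have ha : g.1 0 0 = 1 := by
      have e : (g.1 0 0 - 1) ^ 2 = 0 := by
        linear_combination -hd + g.1 0 0 * hg - g.1 0 1 * h10
      exact sub_eq_zero.1 (pow_eq_zero_iff two_ne_zero |>.1 e)
    have he : g = up (g.1 0 1) := Subtype.ext (Matrix.ext fun i j => by
      fin_cases i <;> fin_cases j <;> simp [ha, h10]
      linear_combination hg - ha)
    refine ⟨g.1 0 1, 1, fun e => hc (pr_eq_one.2 (Or.inl ?_)), by rw [← he]; simp⟩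
    rw [he, e]
    exact Subtype.ext (by simp [← Matrix.one_fin_two])
  · set P := mkSL !![g.1 0 0 - 1, -(g.1 1 0)⁻¹; g.1 1 0, 0] (by
      rw [det_fin_two_of]; field_simp; ring) with hP
    refine ⟨-(g.1 1 0)⁻¹, pr P, neg_ne_zero.2 (inv_ne_zero h10), ?_⟩
    rw [← map_inv, ← map_mul, ← map_mul]
    congr 1
    rw [eq_mul_inv_iff_mul_eq]
    refine Subtype.ext ?_
    simp only [Matrix.SpecialLinearGroup.coe_mul]
    ext i j
    fin_cases i <;> fin_cases j <;> simp [hP, Matrix.mul_apply, Fin.sum_univ_two] <;> field_simp <;>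
      first
        | ring1
        | linear_combination hd + (-(g.1 0 0)) * hg
        | linear_combination -hd + (g.1 0 0) * hg
        | linear_combination g.1 1 0 * hg
        | linear_combination hg
        | linear_combination -g.1 1 0 * hg

theorem card_eq_card_inPGL (L : Subgroup G₂) : Nat.card (inPGL L) = Nat.card L :=
  Nat.card_congr (inPGLEquiv L).symm.toEquiv

end CfsgLib.PGroup.PSL2Binary
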