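import Cfsg.Agent.Lib.PGroup.PSL2BinaryBase
import Cfsg.Agent.Lib.KnownC.PSL2Classes
import Cfsg.Agent.Lib.Classical.Dickson.MaxBasic
import Mathlib.GroupTheory.SpecificGroups.Dihedral
import Mathlib.GroupTheory.SpecificGroups.Alternating
import Mathlib.GroupTheory.SpecificGroups.Cyclic

set_option autoImplicit false
set_option linter.unusedSectionVars false
set_option linter.style.haveILetI false

/-!
Subgroups of `PSL(2, F)` containing involution centralisers.
-/

namespace CfsgLib.PGroup.PSL2Binary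

open Matrix OnePoint CfsgLib.Classical.Dickson CfsgLib.KnownC.PSL2Classes
open scoped MatrixGroups
open SL2Triangle (tr comp up low mkSL NonScalar)

variable {F : Type*} [Field F] [Fintype F] [DecidableEq F] (p : ℕ) [hp : Fact p.Prime] [CharP F p]

local notation "G₂" => ProjectiveSpecialLinearGroup (Fin 2) F
local notation "PG" => ProjGenLinGroup (Fin 2) F

theorem emb_mem_sln (c : G₂) : emb c ∈ sln F := by
  obtain ⟨g, rfl⟩ := pr_surjective c
  exact ⟨g, rfl⟩

theorem exists_of_mem_sln {g : PG} (hg : g ∈ sln F) : ∃ c : G₂, emb c = g := by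
  obtain ⟨s, rfl⟩ := hg
  exact ⟨pr s, rfl⟩

include p hp in
/-- An involution centraliser is generated by its involutions. -/
theorem cen_generated {t c : G₂} (ht : t ≠ 1) (ht2 : t * t = 1) (hc : c * t = t * c) :
    ∃ i j : G₂, (i * i = 1 ∧ i * t = t * i) ∧ (j * j = 1 ∧ j * t = t * j) ∧ c = i * j := by
  have hJ : pr (comp (0 : F)) ≠ 1 := fun e => by
    rcases pr_eq_one.1 e with e | e <;>
      simpa using congrArg (fun g : SL(2, F) => g.1 1 0) e
  have hJ2 := sq_of_tr_eq_zero (g := comp (0 : F)) (by simp [tr])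
  suffices h : ∀ d : G₂, d * pr (comp 0) = pr (comp 0) * d → ∃ i j : G₂,
      (i * i = 1 ∧ i * pr (comp 0) = pr (comp 0) * i) ∧
        (j * j = 1 ∧ j * pr (comp 0) = pr (comp 0) * j) ∧ d = i * j by
    obtain ⟨x, hx⟩ := involutions_conj hJ hJ2 ht ht2
    obtain ⟨i, j, ⟨hi, hi'⟩, ⟨hj, hj'⟩, hd⟩ := h (MulAut.conj x⁻¹ c) (by
      have e : pr (comp 0) = MulAut.conj x⁻¹ t := by rw [hx]; simp [mul_assoc]
      rw [e, ← map_mul, ← map_mul, hc])
    have e : t = MulAut.conj x (pr (comp 0)) := by rw [hx]; rfl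
    refine ⟨MulAut.conj x i, MulAut.conj x j, ⟨?_, ?_⟩, ⟨?_, ?_⟩, ?_⟩
    · rw [← map_mul, hi, map_one]
    · rw [e, ← map_mul, ← map_mul, hi']
    · rw [← map_mul, hj, map_one]
    · rw [e, ← map_mul, ← map_mul, hj']
    · rw [← map_mul, ← hd]; simp [mul_assoc]
  intro d hd
  obtain ⟨g, rfl⟩ := pr_surjective d
  rw [← map_mul, ← map_mul, pr_eq_iff] at hd
  rcases hd with hd | hd
  · obtain ⟨u, v, huv⟩ : ∃ u v : F, u ^ 2 + v ^ 2 = -1 := by
      obtain ⟨u, v, huv⟩ := CharP.sq_add_sq F p (-1)
      exact ⟨u, v, by simpa using huv⟩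
    set w := mkSL !![u, v; v, -u] (by rw [det_fin_two_of]; linear_combination -huv) with hw
    have hwtr : tr w = 0 := by simp [hw, tr]
    have hwJ : w * comp 0 = -(comp 0 * w) := Subtype.ext (Matrix.ext fun i j => by
      fin_cases i <;> fin_cases j <;> simp [hw, Matrix.mul_apply, Fin.sum_univ_two])
    have e00 := congrFun (congrFun (congrArg Subtype.val hd) 0) 0
    have e10 := congrFun (congrFun (congrArg Subtype.val hd) 1) 0
    simp [Matrix.mul_apply, Matrix.vecMul, dotProduct, Fin.sum_univ_two] at e00 e10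
    have hgw : tr (g * w) = 0 := by
      simp [hw, tr, Matrix.mul_apply, Fin.sum_univ_two]
      linear_combination v * e00 - u * e10
    have hwc : pr w * pr (comp 0) = pr (comp 0) * pr w := by
      rw [← map_mul, hwJ, pr_neg, map_mul]
    refine ⟨pr (g * w), pr w, ⟨sq_of_tr_eq_zero hgw, ?_⟩, ⟨sq_of_tr_eq_zero hwtr, hwc⟩, ?_⟩
    · rw [map_mul, mul_assoc, hwc, ← mul_assoc, ← map_mul, hd, map_mul, mul_assoc]
    · rw [map_mul, mul_assoc, sq_of_tr_eq_zero hwtr, mul_one]
  · have e01 := congrFun (congrFun (congrArg Subtype.val hd) 0) 1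
    simp [Matrix.mul_apply, Matrix.vecMul, dotProduct, Fin.sum_univ_two] at e01
    refine ⟨pr g, 1, ⟨sq_of_tr_eq_zero (by simp only [tr]; linear_combination -e01), ?_⟩,
      ⟨one_mul _, by simp⟩, (mul_one _).symm⟩
    rw [← map_mul, hd, pr_neg, map_mul]

theorem orderOf_emb (c : G₂) : orderOf (emb c) = orderOf c := orderOf_injective _ emb_injective c

theorem subfield_card (A : Subfield F) : Nat.card A = Fintype.card F ∨
    (Nat.card A ^ 2 ≤ Fintype.card F ∧ Nat.card A ∣ Fintype.card F) := by
  classical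
  have h := Module.card_eq_pow_finrank (K := A) (V := F)
  have h1 : 1 ≤ Module.finrank A F := Module.finrank_pos
  rw [← Nat.card_eq_fintype_card (α := A)] at h
  rcases h1.eq_or_lt with e | e
  · left; rw [h, ← e, pow_one]
  · right
    rw [h]
    exact ⟨Nat.pow_le_pow_right Nat.card_pos e, dvd_pow_self _ (by omega)⟩

theorem card_map_conj (h : PG) (L : Subgroup PG) :
    Nat.card (L.map (MulAut.conj h).toMonoidHom) = Nat.card L :=
  Subgroup.card_map_of_injective (MulEquiv.injective _)

theorem card_le_of_le_range {α β : Type*} [Finite α] (f : α → β) (P : β → Prop)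
    (h : ∀ b, P b → ∃ a, f a = b) : Nat.card {b // P b} ≤ Nat.card α :=
  Nat.card_le_card_of_injective (fun b => (h b.1 b.2).choose) fun b b' e => Subtype.ext (by
    rw [← (h b.1 b.2).choose_spec, ← (h b'.1 b'.2).choose_spec]; exact congrArg f e)

theorem card_pgl_cen_le (h2 : (2 : F) ≠ 0) (A : Subfield F) :
    Nat.card {g : PG // g ∈ ratPGL A ∧ g * aff (-1) 0 = aff (-1) 0 * g} ≤ 2 * (Nat.card A - 1) := by
  classical
  let w : GL (Fin 2) F := GeneralLinearGroup.mkOfDetNeZero !![0, 1; 1, 0] (by simp [det_fin_two])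
  have hwA : ProjGenLinGroup.mk w ∈ ratPGL A :=
    mk_mem_ratPGL fun i j => by fin_cases i <;> fin_cases j <;> simp [w]
  have hww : ProjGenLinGroup.mk w * ProjGenLinGroup.mk w = (1 : PG) := by
    rw [← map_mul, show w * w = 1 from Units.ext (by ext i j; fin_cases i <;> fin_cases j <;> simp [w]),
      map_one]
  have hw0 : ProjGenLinGroup.mk w • (((0 : F)) : OnePoint F) = ∞ := by
    rw [mk_smul, smul_some_eq_ite]; simp [w]
  have hwe : ProjGenLinGroup.mk w * aff (-1) 0 = aff (-1) 0 * ProjGenLinGroup.mk w := by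
    rw [aff, ← map_mul, ← map_mul]
    refine ProjGenLinGroup.mk_eq_mk_iff.2 ⟨-1, Units.ext ?_⟩
    ext i j
    fin_cases i <;> fin_cases j <;> simp [w, affGL, GeneralLinearGroup.coe_scalar]
  have key : ∀ g : PG, g ∈ ratPGL A → g * aff (-1) 0 = aff (-1) 0 * g → g • (∞ : OnePoint F) = ∞ →
      ∃ a : Aˣ, g = aff (Units.map A.subtype.toMonoidHom a) 0 := by
    intro g hgA hcomm hinf
    obtain ⟨a, b, rfl⟩ := exists_aff hinf
    rw [aff_mul, aff_mul] at hcomm
    have hb := (aff_injective hcomm).2
    simp at hb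
    obtain rfl : b = 0 := by
      have : (2 : F) * b = 0 := by linear_combination hb
      simpa [h2] using this
    obtain ⟨m, hm⟩ := hgA
    induction m using ProjGenLinGroup.induction_on with | mk m =>
    rw [ProjGenLinGroup.map_mk] at hm
    obtain ⟨u, hu⟩ := ProjGenLinGroup.mk_eq_mk_iff.1 hm
    have h00 := congrArg (fun M : GL (Fin 2) F => (M : Matrix (Fin 2) (Fin 2) F) 0 0) hu
    have h11 := congrArg (fun M : GL (Fin 2) F => (M : Matrix (Fin 2) (Fin 2) F) 1 1) hu
    simp [affGL, GeneralLinearGroup.coe_scalar] at h00 h11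
    have h00' : (m 0 0 : F) * (u : F) = a := by linear_combination h00
    have h11' : (m 1 1 : F) * (u : F) = 1 := by linear_combination h11
    have ha : (a : F) ∈ A := by
      have e : (a : F) = (m 0 0 : F) / (m 1 1 : F) := by
        rw [eq_div_iff (left_ne_zero_of_mul_eq_one h11'), ← h00']
        linear_combination (m 0 0 : F) * h11'
      rw [e]
      exact div_mem (m 0 0).2 (m 1 1).2
    exact ⟨Units.mk0 ⟨(a : F), ha⟩ (fun e => a.ne_zero (congrArg Subtype.val e)),
      congrArg (fun z => aff z 0) (Units.ext rfl)⟩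
  refine (card_le_of_le_range (α := Bool × Aˣ) (fun x => (cond x.1 (ProjGenLinGroup.mk w) 1) *
    aff (Units.map A.subtype.toMonoidHom x.2) 0) _ ?_).trans (by
      rw [Nat.card_prod, Nat.card_units]; simp)
  rintro g ⟨hgA, hcomm⟩
  have hfix : (aff (-1) 0 : PG) • g • (∞ : OnePoint F) = g • ∞ := by
    rw [← mul_smul, ← hcomm, mul_smul, aff_smul_infty]
  cases hg : g • (∞ : OnePoint F) with
  | infty =>
    obtain ⟨a, ha⟩ := key g hgA hcomm hg
    exact ⟨(false, a), by simp [ha]⟩
  | coe z =>
    rw [hg, aff_smul_coe, coe_eq_coe] at hfix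
    simp at hfix
    obtain rfl : z = 0 := by
      have : (2 : F) * z = 0 := by linear_combination -hfix
      simpa [h2] using this
    obtain ⟨a, ha⟩ := key (ProjGenLinGroup.mk w * g) (mul_mem hwA hgA)
      (by rw [mul_assoc, hcomm, ← mul_assoc, hwe, mul_assoc]) (by rw [mul_smul, hg, hw0])
    exact ⟨(true, a), by
      show ProjGenLinGroup.mk w * _ = g
      rw [← ha, ← mul_assoc, hww, one_mul]⟩

theorem card_psl_cen_le (A : Subfield F) (u : PG)
    (hu : u = ProjGenLinGroup.map (n := Fin 2) A.subtype (SpecialLinearGroup.toPGL (comp (0 : A)))) :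
    Nat.card {g : PG // g ∈ ratPSL A ∧ g * u = u * g} ≤ 4 * Nat.card A := by
  classical
  let root : A → A := fun x => if h : ∃ y : A, y * y = 1 - x * x then h.choose else 0
  let root' : A → A := fun x => if h : ∃ y : A, y * y = -1 - x * x then h.choose else 0
  let sgn : Bool → A := fun b => cond b 1 (-1)
  let M : Bool × A × Bool → Matrix (Fin 2) (Fin 2) A := fun z =>
    cond z.1 !![z.2.1, -(sgn z.2.2 * root z.2.1); sgn z.2.2 * root z.2.1, z.2.1]
      !![z.2.1, sgn z.2.2 * root' z.2.1; sgn z.2.2 * root' z.2.1, -z.2.1]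
  let f : Bool × A × Bool → PG := fun z =>
    if h : (M z).det = 1 then
      ProjGenLinGroup.map (n := Fin 2) A.subtype (SpecialLinearGroup.toPGL ⟨M z, h⟩) else 1
  refine (card_le_of_le_range f _ ?_).trans (by simp [Nat.card_prod]; ring_nf; rfl)
  rintro _ ⟨⟨s, rfl⟩, hcomm⟩
  subst hu
  rw [MonoidHom.comp_apply, ← map_mul, ← map_mul, ← map_mul, ← map_mul] at hcomm
  have hc := map_injective_subfield A hcomm
  rw [← mul_inv_eq_one, ← map_inv, ← map_mul] at hc
  have hdet : s.1 0 0 * s.1 1 1 - s.1 0 1 * s.1 1 0 = 1 := by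
    have := s.2; rwa [det_fin_two] at this
  suffices h : ∃ z : Bool × A × Bool, M z = s.1 by
    obtain ⟨z, hz⟩ := h
    refine ⟨z, ?_⟩
    have hd : (M z).det = 1 := hz ▸ s.2
    show dite _ _ _ = _
    rw [dif_pos hd, MonoidHom.comp_apply]
    exact congrArg _ (congrArg _ (Subtype.ext hz))
  rcases sl_scalar_of_toPGL_one hc with e | e
  · rw [mul_inv_eq_one] at e
    have e00 := congrFun (congrFun (congrArg Subtype.val e) 0) 0
    have e01 := congrFun (congrFun (congrArg Subtype.val e) 0) 1
    simp [Matrix.mul_apply, Matrix.vecMul, dotProduct, Fin.sum_univ_two] at e00 e01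
    have hex : ∃ y : A, y * y = 1 - s.1 0 0 * s.1 0 0 :=
      ⟨s.1 1 0, by linear_combination hdet + s.1 1 0 * e00 + s.1 0 0 * e01⟩
    have hroot : root (s.1 0 0) * root (s.1 0 0) = s.1 1 0 * s.1 1 0 := by
      simp only [root, dif_pos hex, hex.choose_spec]
      linear_combination -(hdet + s.1 1 0 * e00 + s.1 0 0 * e01)
    rcases mul_self_eq_mul_self_iff.1 hroot with e' | e'
    · refine ⟨(true, s.1 0 0, true), ?_⟩
      ext i j
      fin_cases i <;> fin_cases j <;> simp [M, sgn, e'] <;>
        first | linear_combination e00 | linear_combination -e00 | linear_combination e01 | linear_combination -e01 | simp [e00] | simp [e01] | simp [← e01]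
    · refine ⟨(true, s.1 0 0, false), ?_⟩
      ext i j
      fin_cases i <;> fin_cases j <;> simp [M, sgn, e'] <;>
        first | linear_combination e00 | linear_combination -e00 | linear_combination e01 | linear_combination -e01 | simp [e00] | simp [e01] | simp [← e01]
  · rw [mul_inv_eq_iff_eq_mul, neg_one_mul] at e
    have e00 := congrFun (congrFun (congrArg Subtype.val e) 0) 0
    have e01 := congrFun (congrFun (congrArg Subtype.val e) 0) 1
    simp [Matrix.mul_apply, Matrix.vecMul, dotProduct, Fin.sum_univ_two] at e00 e01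
    have hex : ∃ y : A, y * y = -1 - s.1 0 0 * s.1 0 0 :=
      ⟨s.1 1 0, by linear_combination -hdet - s.1 1 0 * e00 - s.1 0 0 * e01⟩
    have hroot : root' (s.1 0 0) * root' (s.1 0 0) = s.1 1 0 * s.1 1 0 := by
      simp only [root', dif_pos hex, hex.choose_spec]
      linear_combination hdet + s.1 1 0 * e00 + s.1 0 0 * e01
    rcases mul_self_eq_mul_self_iff.1 hroot with e' | e'
    · refine ⟨(false, s.1 0 0, true), ?_⟩
      ext i j
      fin_cases i <;> fin_cases j <;> simp [M, sgn, e'] <;>
        first | linear_combination e00 | linear_combination -e00 | linear_combination e01 | linear_combination -e01 | simp [e00] | simp [e01] | simp [← e01]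
    · refine ⟨(false, s.1 0 0, false), ?_⟩
      ext i j
      fin_cases i <;> fin_cases j <;> simp [M, sgn, e'] <;>
        first | linear_combination e00 | linear_combination -e00 | linear_combination e01 | linear_combination -e01 | simp [e00] | simp [e01] | simp [← e01]

end CfsgLib.PGroup.PSL2Binary
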