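import Cfsg.Agent.Lib.PGroup.PSL2BinaryBase
import Mathlib.GroupTheory.SpecificGroups.Dihedral
import Mathlib.GroupTheory.SpecificGroups.Alternating

set_option autoImplicit false
set_option linter.unusedSectionVars false
set_option linter.style.haveILetI false

/-!
Minimal stabilisers of odd order in a binary action of `PSL(2, F)`.
-/

namespace CfsgLib.PGroup.PSL2Binary

open Matrix OnePoint CfsgLib.Classical.Dickson
open scoped MatrixGroups
open SL2Triangle (tr comp up low mkSL NonScalar)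

variable {F : Type*} [Field F] [Fintype F] [DecidableEq F] (p : ℕ) [hp : Fact p.Prime] [CharP F p]

local notation "G₂" => ProjectiveSpecialLinearGroup (Fin 2) F

theorem kind_odd (L : Subgroup G₂) (hL : Odd (Nat.card L)) :
    (∃ x : OnePoint F, ∀ g ∈ L, emb g • x = x) ∨
      ∃ c : ProjGenLinGroup (Fin 2) F, inPGL L = Subgroup.zpowers c ∧ ¬ p ∣ orderOf c := by
  have hcard := card_eq_card_inPGL L
  have he : ¬ Even (Nat.card (inPGL L)) := by rw [hcard]; exact Nat.not_even_iff_odd.2 hL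
  cases kind p (inPGL L) with
  | fixed x h => exact Or.inl ⟨x, fun g hg => h _ ⟨g, hg, rfl⟩⟩
  | cyclic c hc hpc => exact Or.inr ⟨c, hc, hpc⟩
  | dihedral c _ _ _ hG =>
    obtain ⟨e⟩ := hG
    rw [Nat.card_congr e.toEquiv, DihedralGroup.nat_card] at he
    exact absurd (even_two_mul _) he
  | a4 h =>
    obtain ⟨e⟩ := h
    rw [Nat.card_congr e.toEquiv, nat_card_alternatingGroup] at he
    simp [Nat.even_iff, Nat.factorial] at he
  | s4 h =>
    obtain ⟨e⟩ := h
    rw [Nat.card_congr e.toEquiv, Nat.card_perm, Nat.card_fin] at he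
    simp [Nat.even_iff, Nat.factorial] at he
  | a5 h =>
    obtain ⟨e⟩ := h
    rw [Nat.card_congr e.toEquiv, nat_card_alternatingGroup] at he
    simp [Nat.even_iff, Nat.factorial] at he
  | pgl A h hG =>
    rw [← card_map_conj' h, hG] at he
    change ¬ Even (Nat.card (ratPGL A)) at he
    rw [card_ratPGL] at he
    refine absurd (Even.mul_right ?_ _) he
    exact mul_comm (Nat.card A + 1) _ ▸ Nat.even_mul_succ_self _
  | psl A hA h hG =>
    rw [← card_map_conj' h, hG] at he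
    change ¬ Even (Nat.card (ratPSL A)) at he
    have h1 := card_ratPSL A
    obtain ⟨k, hk⟩ : ∃ k, Nat.card A = 2 * k + 1 := ⟨Nat.card A / 2, by omega⟩
    rw [hk, Nat.add_sub_cancel, show Nat.gcd 2 (2 * k) = 2 from Nat.gcd_mul_right_right 2 k ▸ by simp] at h1
    refine absurd ?_ he
    rw [show Nat.card (ratPSL A) = 2 * (k * (k + 1) * (2 * k + 1)) from
      Nat.eq_of_mul_eq_mul_left two_pos (h1.trans (by ring))]
    exact even_two_mul _
where
  card_map_conj' (h : ProjGenLinGroup (Fin 2) F) {L : Subgroup (ProjGenLinGroup (Fin 2) F)} :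
      Nat.card (L.map (MulAut.conj h).toMonoidHom) = Nat.card L :=
    Subgroup.card_map_of_injective (MulEquiv.injective _)

variable {p}

theorem tinv_aff (a : Fˣ) (b : F) : tinv (aff a b) * (a : F) = ((a : F) + 1) ^ 2 := by
  rw [aff, tinv_mk]
  simp [affGL, Matrix.trace_fin_two, det_fin_two]

theorem T_of_fixed {c : G₂} {x : OnePoint F} (hx : emb c • x = x) :
    ∃ a : Fˣ, T c * (a : F) = ((a : F) + 1) ^ 2 := by
  obtain ⟨h, e⟩ := exists_to_infty x
  obtain ⟨a, b, hab⟩ := exists_aff (g := MulAut.conj h⁻¹ (emb c)) (by simp [mul_smul, e, hx, inv_smul_eq_iff])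
  refine ⟨a, ?_⟩
  rw [T, ← tinv_conj h⁻¹ (emb c), hab, tinv_aff]

theorem T_commutator {c d : G₂} {x : OnePoint F} (hc : emb c • x = x) (hd : emb d • x = x) :
    T (c * d * c⁻¹ * d⁻¹) = 4 := by
  obtain ⟨h, e⟩ := exists_to_infty x
  obtain ⟨a, b, hab⟩ := exists_aff (g := MulAut.conj h⁻¹ (emb c)) (by simp [mul_smul, e, hc, inv_smul_eq_iff])
  obtain ⟨a', b', hab'⟩ := exists_aff (g := MulAut.conj h⁻¹ (emb d)) (by simp [mul_smul, e, hd, inv_smul_eq_iff])
  have hinv : ∀ (u : Fˣ) (v : F), (aff u v)⁻¹ = aff u⁻¹ (-(↑u⁻¹ : F) * v) := fun u v =>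
    inv_eq_of_mul_eq_one_right (by rw [aff_mul, aff_eq_one_iff]; simp)
  obtain ⟨v, hv⟩ : ∃ v, MulAut.conj h⁻¹ (emb (c * d * c⁻¹ * d⁻¹)) = aff 1 v := by
    generalize h⁻¹ = k at hab hab' ⊢
    rw [map_mul, map_mul, map_mul, map_inv, map_inv, map_mul, map_mul, map_mul, map_inv, map_inv,
      hab, hab', hinv, hinv, aff_mul, aff_mul, aff_mul]
    exact ⟨_, congrArg₂ aff (by rw [mul_comm a a']; group) rfl⟩
  have h4 := tinv_aff (1 : Fˣ) v
  rw [Units.val_one, mul_one, ← hv, tinv_conj] at h4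
  rw [T, h4]
  norm_num

theorem cube_of_T_one (h2 : (2 : F) = 0) {c : G₂} (hT : T c = 1) : c ^ 3 = 1 := by
  obtain ⟨g, rfl⟩ := pr_surjective c
  rw [T_pr] at hT
  have ht : tr g = 1 := by
    have : (tr g - 1) ^ 2 = 0 := by linear_combination hT + (1 - tr g) * h2
    exact sub_eq_zero.1 (pow_eq_zero_iff two_ne_zero |>.1 this)
  rw [← map_pow, pr_eq_one]
  refine Or.inr (Subtype.ext (Matrix.ext fun i j => ?_))
  have hd : g.1 0 0 * g.1 1 1 - g.1 0 1 * g.1 1 0 = 1 := by
    have := g.2; rwa [det_fin_two] at this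
  simp only [tr] at ht
  fin_cases i <;> fin_cases j <;> simp [pow_succ, Matrix.mul_apply, Fin.sum_univ_two] <;>
    first
      | linear_combination (g.1 0 0 ^ 2 + g.1 0 1 * g.1 1 0 + g.1 0 0) * ht - (g.1 0 0 + 1) * hd
      | linear_combination g.1 0 1 * (g.1 0 0 + g.1 1 1 + 1) * ht - g.1 0 1 * hd
      | linear_combination g.1 1 0 * (g.1 0 0 + g.1 1 1 + 1) * ht - g.1 1 0 * hd
      | linear_combination (g.1 1 1 ^ 2 + g.1 0 1 * g.1 1 0 + g.1 1 1) * ht - (g.1 1 1 + 1) * hd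

variable {H : Subgroup (ProjectiveSpecialLinearGroup (Fin 2) F)} (hb : Binary.IsBinary H)
include hb

theorem mem_of_triangle {h k l : G₂} (hh : Binary.Minimal H h) (hk : Binary.Minimal H k)
    (hl : Binary.Minimal H l) (hkl : h = k * l⁻¹) : l ∈ Binary.K H h := by
  have h1 := Binary.mem_of_factor hb hh hk hl.inv hkl
  have h2 := mul_mem (inv_mem (Binary.self_mem_K (H := H) h)) h1
  have e : h⁻¹ * k = l := by rw [hkl]; group
  rwa [e] at h2

variable (p)
include p

theorem up_false (h2 : (2 : F) ≠ 0) {a : F} (ha : a ≠ 0) (hh : Binary.Minimal H (pr (up a)))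
    (hodd : Odd (Nat.card (Binary.K H (pr (up a))))) : False := by
  obtain ⟨⟨P, hP⟩, ⟨Q, hQ⟩⟩ := SL2Triangle.unip_triangle h2 ha
  have hl : Binary.Minimal H (pr (low (-4 / a))) := by
    rw [hP, map_mul, map_mul, map_inv]; exact hh.conj _
  have hk : Binary.Minimal H (pr (up a * low (-4 / a))) := by
    rw [hQ, pr_neg, map_mul, map_mul, map_inv, map_inv]; exact hh.inv.conj _
  have hmem := mem_of_triangle hb hh hk hl (by rw [map_mul, mul_inv_cancel_right])
  have hself := Binary.self_mem_K (H := H) (pr (up a))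
  rcases kind_odd p (Binary.K H (pr (up a))) hodd with ⟨x, hx⟩ | ⟨c, hc, hpc⟩
  · have hu := hx _ hself
    have hw := hx _ hmem
    have hb0 : (-4 / a : F) ≠ 0 := div_ne_zero (neg_ne_zero.2 (by
      rw [show (4 : F) = 2 * 2 by norm_num]; exact mul_ne_zero h2 h2)) ha
    cases x with
    | infty =>
      change ProjGenLinGroup.mk (SpecialLinearGroup.toGL (low (-4 / a))) • (∞ : OnePoint F) = ∞ at hw
      rw [mk_smul, smul_infty_eq_self_iff] at hw
      exact hb0 (by simpa using hw)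
    | coe z =>
      change ProjGenLinGroup.mk (SpecialLinearGroup.toGL (up a)) • (z : OnePoint F) = z at hu
      rw [mk_smul, smul_some_eq_ite] at hu
      exact ha (by simpa [coe_eq_coe] using hu)
  · have hne : emb (pr (up a)) ≠ 1 := fun e => hh.ne (emb_injective (by rw [e, map_one]))
    have hpow : emb (pr (up a)) ^ p = 1 := by
      rw [← map_pow, ← map_pow, CfsgLib.Classical.sl2_pow_char p (up a) (by simp [det_fin_two]),
        map_one, map_one]
    have hord := orderOf_eq_prime hpow hne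
    refine hpc (hord ▸ ?_)
    have hz : emb (pr (up a)) ∈ Subgroup.zpowers c := hc ▸ ⟨_, hself, rfl⟩
    exact orderOf_dvd_of_mem_zpowers hz

/-- A minimal stabiliser of odd order has order three, in characteristic two. -/
theorem odd_kernel {h : G₂} (hh : Binary.Minimal H h) (hodd : Odd (Nat.card (Binary.K H h))) :
    (2 : F) = 0 ∧ (∀ ω : F, ω ^ 2 + ω + 1 ≠ 0) ∧ Nat.card (Binary.K H h) = 3 ∧
      ∀ c ∈ Binary.K H h, c ≠ 1 → T c = 1 := by
  set K := Binary.K H h
  have h0 : ∀ c ∈ K, c ≠ 1 → T c ≠ 0 := by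
    intro c hc hc1 hT
    have hord : orderOf c = 2 := orderOf_eq_prime (by rw [pow_two]; exact (sq_iff hc1).2 hT) hc1
    have := Subgroup.orderOf_coe (⟨c, hc⟩ : K) ▸ orderOf_dvd_natCard (⟨c, hc⟩ : K)
    rw [hord] at this
    exact Nat.not_even_iff_odd.2 hodd (even_iff_two_dvd.2 this)
  have h4 : ∀ c ∈ K, c ≠ 1 → T c ≠ 4 := by
    intro c hc hc1 hT
    by_cases h2 : (2 : F) = 0
    · exact h0 c hc hc1 (by rw [hT]; linear_combination 2 * h2)
    obtain ⟨a, x, ha, hcx⟩ := exists_up hc1 hT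
    have hm := (hh.of_mem hc hc1).conj x⁻¹
    have e : x⁻¹ * c * x⁻¹⁻¹ = pr (up a) := by rw [hcx]; group
    rw [e] at hm
    refine up_false p hb h2 ha hm ?_
    rw [← e, ← Binary.map_conj_K, Subgroup.card_map_of_injective (MulEquiv.injective _),
      hh.min c hc hc1]
    exact hodd
  have hspecial : ∀ c ∈ K, c ≠ 1 → (2 : F) = 0 ∧ T c = 1 ∧ ∀ ω : F, ω ^ 2 + ω + 1 ≠ 0 := by
    intro c hc hc1
    by_contra hcon
    obtain ⟨l, ⟨x, hx⟩, ⟨y, hy⟩, hne⟩ := exists_factor hc1 (h0 c hc hc1) (h4 c hc hc1)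
      (fun a b => by
        by_contra hno
        exact hcon ⟨a, b, fun ω hω => hno ⟨ω, hω⟩⟩)
    have hcm := hh.of_mem hc hc1
    have hl := mem_of_triangle hb hcm (hy ▸ hcm.conj y : Binary.Minimal H (c * l))
      (hx ▸ hcm.conj x : Binary.Minimal H l) (by group)
    rw [hh.min c hc hc1] at hl
    rcases kind_odd p K hodd with ⟨z, hz⟩ | ⟨e, he, -⟩
    · have hmem : c * l * c⁻¹ * l⁻¹ ∈ K := mul_mem (mul_mem (mul_mem hc hl) (inv_mem hc)) (inv_mem hl)
      refine h4 _ hmem ?_ (T_commutator (hz c hc) (hz l hl))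
      rw [Ne, mul_inv_eq_one, mul_inv_eq_iff_eq_mul]
      exact hne
    · obtain ⟨m, hm⟩ := Subgroup.mem_zpowers_iff.1 (he ▸ ⟨c, hc, rfl⟩ : emb c ∈ Subgroup.zpowers e)
      obtain ⟨n, hn⟩ := Subgroup.mem_zpowers_iff.1 (he ▸ ⟨l, hl, rfl⟩ : emb l ∈ Subgroup.zpowers e)
      refine hne (emb_injective ?_)
      rw [map_mul, map_mul, ← hm, ← hn, ← _root_.zpow_add, ← _root_.zpow_add, add_comm]
  obtain ⟨h2, hT, hroot⟩ := hspecial h (Binary.self_mem_K h) hh.ne
  refine ⟨h2, hroot, ?_, fun c hc hc1 => (hspecial c hc hc1).2.1⟩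
  rcases kind_odd p K hodd with ⟨z, hz⟩ | ⟨e, he, -⟩
  · obtain ⟨a, ha⟩ := T_of_fixed (hz h (Binary.self_mem_K h))
    rw [hT, one_mul] at ha
    exact absurd (show (a : F) ^ 2 + a + 1 = 0 by linear_combination -ha) (hroot a)
  · rw [← card_eq_card_inPGL, he, Nat.card_zpowers]
    obtain ⟨c, hc, hce⟩ : e ∈ inPGL K := he ▸ Subgroup.mem_zpowers e
    have hc1 : c ≠ 1 := by
      intro hc1
      have : emb h ∈ Subgroup.zpowers e := he ▸ ⟨h, Binary.self_mem_K h, rfl⟩
      rw [← hce, hc1, map_one, Subgroup.zpowers_one_eq_bot, Subgroup.mem_bot] at this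
      exact hh.ne (emb_injective (by rw [this, map_one]))
    rw [← hce]
    exact (orderOf_injective _ emb_injective c).trans
      (orderOf_eq_prime (hp := ⟨Nat.prime_three⟩) (cube_of_T_one h2 (hspecial c hc hc1).2.1) hc1)

end CfsgLib.PGroup.PSL2Binary
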