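import Cfsg.Agent.Lib.PGroup.PSL2BinaryBase
import Mathlib.GroupTheory.Sylow

set_option autoImplicit false
set_option linter.unusedSectionVars false
set_option linter.style.haveILetI false

/-!
The binary coset actions of `PSL(2, 2^a)`.
-/

namespace CfsgLib.PGroup.PSL2Binary

open Matrix
open scoped MatrixGroups
open SL2Triangle (tr up low mkSL)

section General

variable {G : Type*} [Group G]

theorem binary_conj {H : Subgroup G} (hb : Binary.IsBinary H) (x : G) :
    Binary.IsBinary (H.map (MulAut.conj x).toMonoidHom) := by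
  set H' := H.map (MulAut.conj x).toMonoidHom with hH'
  have hmem : ∀ z : G, z ∈ H' ↔ x⁻¹ * z * x ∈ H := fun z => by
    constructor
    · rintro ⟨k, hk, rfl⟩; simpa [mul_assoc] using hk
    · exact fun hz => ⟨x⁻¹ * z * x, hz, by simp [mul_assoc]⟩
  let f : G ⧸ H → G ⧸ H' := Quotient.map' (fun g => g * x⁻¹) fun a b h => by
    rw [QuotientGroup.leftRel_apply] at h ⊢
    rw [hmem]
    simpa [mul_assoc] using h
  let f' : G ⧸ H' → G ⧸ H := Quotient.map' (fun g => g * x) fun a b h => by
    rw [QuotientGroup.leftRel_apply, hmem] at h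
    rw [QuotientGroup.leftRel_apply]
    simpa [mul_assoc] using h
  have hf : ∀ (g : G) (a : G ⧸ H), f (g • a) = g • f a := fun g a => by
    induction a using QuotientGroup.induction_on with
    | H y => exact congrArg QuotientGroup.mk (mul_assoc g y x⁻¹)
  have hf' : ∀ (g : G) (a : G ⧸ H'), f' (g • a) = g • f' a := fun g a => by
    induction a using QuotientGroup.induction_on with
    | H y => exact congrArg QuotientGroup.mk (mul_assoc g y x)
  have hff : ∀ a, f (f' a) = a := fun a => by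
    induction a using QuotientGroup.induction_on with
    | H y => exact congrArg QuotientGroup.mk (mul_inv_cancel_right y x)
  intro n I J hn hp
  obtain ⟨g, hg⟩ := hb n (fun i => f' (I i)) (fun i => f' (J i)) hn fun i j hij => by
    obtain ⟨g, h1, h2⟩ := hp i j hij
    exact ⟨g, by rw [← hf', h1], by rw [← hf', h2]⟩
  exact ⟨g, fun i => by rw [← hff (I i), ← hf, hg i, hff]⟩

/-- Stabilisers of prime order without triangles give a binary action. -/
theorem binary_of_no_triangle {H : Subgroup G}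
    (hTI : ∀ a b : G ⧸ H, MulAction.stabilizer G a ≠ MulAction.stabilizer G b →
      ∀ u : G, u • a = a → u • b = b → u = 1)
    (htri : ∀ (a b c : G ⧸ H) (u v : G), u • a = a → v • b = b → (v⁻¹ * u) • c = c →
      u ≠ 1 → v ≠ 1 → v⁻¹ * u ≠ 1 → v⁻¹ = u) : Binary.IsBinary H := by
  intro n I J hn hp
  by_cases hall : ∀ i j, MulAction.stabilizer G (I i) = MulAction.stabilizer G (I j)
  · obtain ⟨i₀, i₁, hne⟩ : ∃ i j : Fin n, i ≠ j :=
      ⟨⟨0, by omega⟩, ⟨1, by omega⟩, fun e => by simpa using congrArg Fin.val e⟩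
    obtain ⟨g, hg, -⟩ := hp i₀ i₁ hne
    refine ⟨g, fun k => ?_⟩
    by_cases hk : i₀ = k
    · rw [← hk, hg]
    obtain ⟨h, hh, hhk⟩ := hp i₀ k hk
    have h1 : g⁻¹ * h ∈ MulAction.stabilizer G (I i₀) := by
      rw [MulAction.mem_stabilizer_iff, mul_smul, hh, inv_smul_eq_iff, hg]
    rw [hall i₀ k, MulAction.mem_stabilizer_iff, mul_smul, hhk, inv_smul_eq_iff] at h1
    exact h1.symm
  push Not at hall
  obtain ⟨i, j, hij⟩ := hall
  have hne : i ≠ j := fun e => hij (by rw [e])
  obtain ⟨g, hgi, hgj⟩ := hp i j hne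
  refine ⟨g, fun k => ?_⟩
  by_cases hki : i = k
  · rw [← hki, hgi]
  by_cases hkj : j = k
  · rw [← hkj, hgj]
  obtain ⟨hi, hii, hik⟩ := hp i k hki
  obtain ⟨hj, hjj, hjk⟩ := hp j k hkj
  set u := g⁻¹ * hi with hu
  set v := g⁻¹ * hj with hv
  have hui : u • I i = I i := by rw [hu, mul_smul, hii, inv_smul_eq_iff, hgi]
  have hvj : v • I j = I j := by rw [hv, mul_smul, hjj, inv_smul_eq_iff, hgj]
  have huk : u • I k = g⁻¹ • J k := by rw [hu, mul_smul, hik]
  have hvk : v • I k = g⁻¹ • J k := by rw [hv, mul_smul, hjk]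
  by_cases hu1 : u = 1
  · rw [hu1, one_smul] at huk
    rw [huk, smul_inv_smul]
  by_cases hv1 : v = 1
  · rw [hv1, one_smul] at hvk
    rw [hvk, smul_inv_smul]
  exfalso
  have hw : (v⁻¹ * u) • I k = I k := by rw [mul_smul, huk, ← hvk, inv_smul_smul]
  have huv : v⁻¹ * u ≠ 1 := fun e => hu1 (hTI _ _ hij u hui (by
    rw [← inv_inv v, ← eq_inv_of_mul_eq_one_right e] at hvj; exact hvj))
  have e := htri (I i) (I j) (I k) u v hui hvj hw hu1 hv1 huv
  exact hu1 (hTI _ _ hij u hui (by rw [← e, inv_smul_eq_iff]; exact hvj.symm))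

end General

variable {F : Type*} [Field F] [Fintype F] [DecidableEq F]

local notation "G₂" => ProjectiveSpecialLinearGroup (Fin 2) F

theorem pr_injective (h2 : (2 : F) = 0) {a b : SL(2, F)} (h : pr a = pr b) : a = b := by
  rcases pr_eq_iff.1 h with e | e
  · exact e
  · rw [e]
    refine Subtype.ext (Matrix.ext fun i j => ?_)
    show -(b.1 i j) = b.1 i j
    linear_combination -(b.1 i j) * h2

theorem up_add (a b : F) : up (a + b) = up a * up b :=
  Subtype.ext (Matrix.ext fun i j => by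
    fin_cases i <;> fin_cases j <;> simp [Matrix.mul_apply, Fin.sum_univ_two, add_comm])

/-- The unipotent homomorphism. -/
def upHom : Multiplicative F →* G₂ := MonoidHom.mk' (fun a => pr (up a.toAdd)) fun a b => by
  rw [toAdd_mul, up_add, map_mul]

/-- The unipotent subgroup. -/
def unip : Subgroup G₂ := (upHom (F := F)).range

theorem coset_eq_iff (h2 : (2 : F) = 0) (s s' : SL(2, F)) :
    ((pr s : G₂) : G₂ ⧸ unip (F := F)) = (pr s' : G₂) ↔ s.1 0 0 = s'.1 0 0 ∧ s.1 1 0 = s'.1 1 0 := by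
  rw [QuotientGroup.eq, ← map_inv, ← map_mul]
  constructor
  · rintro ⟨a, ha⟩
    have e : s' = s * up a.toAdd := by rw [pr_injective h2 ha, mul_inv_cancel_left]
    rw [e]
    simp [Matrix.mul_apply, Fin.sum_univ_two]
  · rintro ⟨h0, h1⟩
    have hd := s.2
    have hd' := s'.2
    rw [det_fin_two] at hd hd'
    refine ⟨Multiplicative.ofAdd ((s⁻¹ * s' : SL(2, F)).1 0 1), congrArg pr ?_⟩
    refine Subtype.ext (Matrix.ext fun i j => ?_)
    fin_cases i <;> fin_cases j <;>
      simp [Matrix.SpecialLinearGroup.coe_inv, adjugate_fin_two, Matrix.mul_apply, Fin.sum_univ_two] <;>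
      first
        | linear_combination hd - s.1 1 1 * h0 + s.1 0 1 * h1
        | linear_combination -hd + s.1 1 1 * h0 - s.1 0 1 * h1
        | linear_combination s.1 1 0 * h0 - s.1 0 0 * h1
        | linear_combination -s.1 1 0 * h0 + s.1 0 0 * h1
        | linear_combination -hd' + s'.1 1 1 * h0 - s'.1 0 1 * h1
        | linear_combination hd' + s'.1 1 1 * h0 - s'.1 0 1 * h1
        | linear_combination -hd' - s'.1 1 1 * h0 + s'.1 0 1 * h1
        | linear_combination hd' - s'.1 1 1 * h0 + s'.1 0 1 * h1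

/-- The bracket of the first columns. -/
def br (s t : SL(2, F)) : F := s.1 0 0 * t.1 1 0 - s.1 1 0 * t.1 0 0

theorem br_smul (g s t : SL(2, F)) : br (g * s) (g * t) = br s t := by
  have hd := g.2
  rw [det_fin_two] at hd
  simp [br, Matrix.mul_apply, Fin.sum_univ_two]
  linear_combination (s.1 0 0 * t.1 1 0 - s.1 1 0 * t.1 0 0) * hd

/-- The unipotent coset action is binary. -/
theorem binary_unip (h2 : (2 : F) = 0) : Binary.IsBinary (unip (F := F)) := by
  intro n I J hn hp
  have hrep : ∀ a : G₂ ⧸ unip (F := F), ∃ s : SL(2, F), ((pr s : G₂) : G₂ ⧸ unip (F := F)) = a :=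
    fun a => by
      induction a using QuotientGroup.induction_on with
      | H y => obtain ⟨s, rfl⟩ := pr_surjective y; exact ⟨s, rfl⟩
  choose s hs using fun i => hrep (I i)
  choose t ht using fun i => hrep (J i)
  have hrel : ∀ (g : SL(2, F)) i, pr g • I i = J i ↔
      (g * s i).1 0 0 = (t i).1 0 0 ∧ (g * s i).1 1 0 = (t i).1 1 0 := fun g i => by
    rw [← hs i, ← ht i, MulAction.Quotient.smul_mk, smul_eq_mul, ← map_mul, coset_eq_iff h2]
  replace hp : ∀ i j, i ≠ j → ∃ g : SL(2, F),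
      ((g * s i).1 0 0 = (t i).1 0 0 ∧ (g * s i).1 1 0 = (t i).1 1 0) ∧
      ((g * s j).1 0 0 = (t j).1 0 0 ∧ (g * s j).1 1 0 = (t j).1 1 0) := fun i j hij => by
    obtain ⟨c, h1, h3⟩ := hp i j hij
    obtain ⟨g, rfl⟩ := pr_surjective c
    exact ⟨g, (hrel g i).1 h1, (hrel g j).1 h3⟩
  suffices h : ∃ g : SL(2, F), ∀ i, (g * s i).1 0 0 = (t i).1 0 0 ∧ (g * s i).1 1 0 = (t i).1 1 0 by
    obtain ⟨g, hg⟩ := h
    exact ⟨pr g, fun i => (hrel g i).2 (hg i)⟩
  have hbr : ∀ i j, i ≠ j → br (t i) (t j) = br (s i) (s j) := fun i j hij => by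
    obtain ⟨g, ⟨a, b⟩, c, d⟩ := hp i j hij
    rw [← br_smul g (s i) (s j)]
    simp only [br, a, b, c, d]
  by_cases hall : ∀ i j, br (s i) (s j) = 0
  · let i₀ : Fin n := ⟨0, by omega⟩
    let i₁ : Fin n := ⟨1, by omega⟩
    obtain ⟨g, ⟨a, b⟩, -⟩ := hp i₀ i₁ (fun e => by simpa [i₀, i₁] using congrArg Fin.val e)
    refine ⟨g, fun k => ?_⟩
    by_cases hk : i₀ = k
    · rw [← hk]; exact ⟨a, b⟩
    obtain ⟨h, ⟨a', b'⟩, c', d'⟩ := hp i₀ k hk
    have hb' := hall i₀ k
    simp only [br] at hb'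
    simp [Matrix.mul_apply, Fin.sum_univ_two] at a b a' b' c' d' ⊢
    have hd := (s i₀).2
    rw [det_fin_two] at hd
    have h00 : (s i₀).1 0 0 ≠ 0 ∨ (s i₀).1 1 0 ≠ 0 := by
      by_contra! h0
      rw [h0.1, h0.2] at hd
      simp at hd
    rcases h00 with h0 | h0
    · constructor <;> refine mul_left_cancel₀ h0 ?_
      · linear_combination (s i₀).1 0 0 * c' + (s k).1 0 0 * (a - a') + (g.1 0 1 - h.1 0 1) * hb'
      · linear_combination (s i₀).1 0 0 * d' + (s k).1 0 0 * (b - b') + (g.1 1 1 - h.1 1 1) * hb'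
    · constructor <;> refine mul_left_cancel₀ h0 ?_
      · linear_combination (s i₀).1 1 0 * c' + (s k).1 1 0 * (a - a') - (g.1 0 0 - h.1 0 0) * hb'
      · linear_combination (s i₀).1 1 0 * d' + (s k).1 1 0 * (b - b') - (g.1 1 0 - h.1 1 0) * hb'
  push Not at hall
  obtain ⟨i, j, hij⟩ := hall
  have hne : i ≠ j := fun e => hij (by rw [e, br]; ring)
  obtain ⟨g, ⟨a, b⟩, c, d⟩ := hp i j hne
  refine ⟨g, fun k => ?_⟩
  by_cases hki : i = k
  · rw [← hki]; exact ⟨a, b⟩
  by_cases hkj : j = k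
  · rw [← hkj]; exact ⟨c, d⟩
  have h1 : br (g * s i) (g * s k) = br (t i) (t k) := by rw [br_smul, hbr i k hki]
  have h3 : br (g * s j) (g * s k) = br (t j) (t k) := by rw [br_smul, hbr j k hkj]
  have hD : br (t i) (t j) ≠ 0 := by rwa [hbr i j hne]
  simp only [br, a, b, c, d] at h1 h3 hD
  constructor <;> refine mul_left_cancel₀ hD ?_
  · linear_combination (t j).1 0 0 * h1 - (t i).1 0 0 * h3
  · linear_combination (t j).1 1 0 * h1 - (t i).1 1 0 * h3

/-- A Sylow two-subgroup gives a binary action. -/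
theorem binary_sylow (h2 : (2 : F) = 0) (P : Sylow 2 G₂) : Binary.IsBinary (P : Subgroup G₂) := by
  classical
  haveI : Fact (Nat.Prime 2) := ⟨Nat.prime_two⟩
  have hu1 : pr (up (1 : F)) ≠ (1 : G₂) := fun e => by
    rcases pr_eq_one.1 e with e | e <;> simpa using congrArg (fun g : SL(2, F) => g.1 0 1) e
  have hu2 : pr (up (1 : F)) * pr (up (1 : F)) = (1 : G₂) :=
    sq_of_tr_eq_zero (by simp [tr]; linear_combination h2)
  have hU : IsPGroup 2 (unip (F := F)) := by
    rintro ⟨_, a, rfl⟩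
    refine ⟨1, Subtype.ext ?_⟩
    show upHom a ^ 2 ^ 1 = 1
    rw [pow_one, pow_two]
    exact sq_of_tr_eq_zero (by simp [tr]; linear_combination h2)
  obtain ⟨x, hx⟩ : ∃ x : G₂, (P : Subgroup G₂) = (unip (F := F)).map (MulAut.conj x).toMonoidHom := by
    obtain ⟨Q, hQ⟩ := hU.exists_le_sylow
    obtain ⟨x, hx⟩ := MulAction.exists_smul_eq G₂ Q P
    refine ⟨x, ?_⟩
    have hQeq : (Q : Subgroup G₂) = unip := by
      refine le_antisymm (fun g hg => ?_) hQ
      have hsq : ∀ g ∈ (Q : Subgroup G₂), g * g = 1 := by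
        intro g hg
        obtain ⟨k, hk⟩ := Q.isPGroup' ⟨g, hg⟩
        have hk' : g ^ 2 ^ k = 1 := by simpa using congrArg Subtype.val hk
        obtain ⟨s, rfl⟩ := pr_surjective g
        exact pr_sq_of_pow h2 hk'
      have hut : pr (up (1 : F)) ∈ (Q : Subgroup G₂) := hQ ⟨Multiplicative.ofAdd 1, rfl⟩
      have h1 := hsq _ (mul_mem hg hut)
      have hc : g * pr (up 1) = pr (up 1) * g := by
        rw [mul_eq_one_iff_eq_inv.1 h1, _root_.mul_inv_rev, ← eq_inv_of_mul_eq_one_left (hsq g hg),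
          ← eq_inv_of_mul_eq_one_left hu2]
      obtain ⟨s, rfl⟩ := pr_surjective g
      rw [← map_mul, ← map_mul] at hc
      have e := congrArg Subtype.val (pr_injective h2 hc)
      have e00 := congrFun (congrFun e 0) 0
      have e01 := congrFun (congrFun e 0) 1
      simp [Matrix.mul_apply, Fin.sum_univ_two] at e00 e01
      have hd := s.2
      rw [det_fin_two, e00] at hd
      have ha : s.1 0 0 = 1 := by
        have h3 : (s.1 0 0 - 1) ^ 2 = 0 := by
          linear_combination hd + s.1 0 0 * e01 + (1 - s.1 0 0) * h2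
        exact sub_eq_zero.1 ((pow_eq_zero_iff two_ne_zero).1 h3)
      refine ⟨Multiplicative.ofAdd (s.1 0 1), congrArg pr (Subtype.ext (Matrix.ext fun i j => ?_))⟩
      fin_cases i <;> fin_cases j <;> simp [ha, e00]
      linear_combination e01 - ha
    rw [← hx, ← hQeq]
    rfl
  rw [hx]
  exact binary_conj (binary_unip h2) x
where
  pr_sq_of_pow (h2 : (2 : F) = 0) {s : SL(2, F)} {k : ℕ} (hk : (pr s) ^ 2 ^ k = 1) :
      pr s * pr s = 1 := by
    induction k generalizing s with
    | zero => rw [pow_zero, pow_one] at hk; rw [hk, one_mul]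
    | succ k ih =>
      have h1 := ih (s := s * s) (by rw [map_mul, ← pow_two, ← pow_mul, ← pow_succ']; exact hk)
      by_cases hne : pr (s * s) = 1
      · rwa [map_mul] at hne
      have h3 := tr_eq_zero_of_sq hne h1
      have hd := s.2
      rw [det_fin_two] at hd
      simp [tr, Matrix.mul_apply, Fin.sum_univ_two] at h3
      refine sq_of_tr_eq_zero ?_
      have : tr s ^ 2 = 0 := by
        simp only [tr]
        linear_combination h3 + 2 * hd + h2
      exact (pow_eq_zero_iff two_ne_zero).1 this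

theorem no_root_of_odd {a : ℕ} (ha : Odd a) (hq : Fintype.card F = 2 ^ a) :
    ∀ ω : F, ω ^ 2 + ω + 1 ≠ 0 := by
  intro ω hω
  obtain ⟨k, rfl⟩ := ha
  have h3 : ω ^ 3 = 1 := by linear_combination (ω - 1) * hω
  have hω0 : ω ≠ 0 := fun e => by rw [e] at hω; simp at hω
  have hone : ω ≠ 1 := fun e => by
    rw [e] at hω
    have h2 : (2 : F) = 0 := by
      haveI : CharP F 2 := charP_of_card_eq_prime_pow hq
      exact CharTwo.two_eq_zero
    exact one_ne_zero (α := F) (by linear_combination hω - h2)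
  haveI : Fact (Nat.Prime 3) := ⟨Nat.prime_three⟩
  have hord : orderOf ω = 3 := orderOf_eq_prime h3 hone
  have hd : 3 ∣ 2 ^ (2 * k + 1) - 1 := by
    rw [← hq, ← hord]
    exact orderOf_dvd_of_pow_eq_one (FiniteField.pow_card_sub_one_eq_one ω hω0)
  have h1 : 2 ^ (2 * k + 1) % 3 = 2 := by
    rw [pow_succ, pow_mul, Nat.mul_mod, Nat.pow_mod]; norm_num
  generalize 2 ^ (2 * k + 1) = N at hd h1
  omega

theorem T_eq_one_of_cube (h2 : (2 : F) = 0) (hroot : ∀ ω : F, ω ^ 2 + ω + 1 ≠ 0) {s : SL(2, F)}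
    (hs : pr s ≠ 1) (h3 : pr s ^ 3 = 1) : tr s = 1 := by
  have e : s * s = s⁻¹ := by
    refine eq_inv_of_mul_eq_one_left (pr_injective h2 ?_)
    rw [map_mul, map_mul, map_one, ← pow_two, ← pow_succ, h3]
  have e' := congrArg Subtype.val e
  have e00 := congrFun (congrFun e' 0) 0
  have e01 := congrFun (congrFun e' 0) 1
  have e10 := congrFun (congrFun e' 1) 0
  simp [Matrix.mul_apply, Fin.sum_univ_two, adjugate_fin_two] at e00 e01 e10
  by_contra ht
  have ht' : tr s + 1 ≠ 0 := fun h => ht (by linear_combination h - h2)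
  have hb : s.1 0 1 = 0 := (mul_eq_zero.1 (show s.1 0 1 * (tr s + 1) = 0 by
    simp only [tr]; linear_combination e01)).resolve_right ht'
  have hc : s.1 1 0 = 0 := (mul_eq_zero.1 (show s.1 1 0 * (tr s + 1) = 0 by
    simp only [tr]; linear_combination e10)).resolve_right ht'
  have hd := s.2
  rw [det_fin_two, hb, hc, mul_zero, sub_zero] at hd
  rw [hb, hc, mul_zero, add_zero] at e00
  have ha : s.1 0 0 = 1 := by
    by_contra hne
    refine hroot (s.1 0 0) ((mul_eq_zero.1 ?_).resolve_left (sub_ne_zero.2 hne))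
    linear_combination hd + s.1 0 0 * e00
  rw [ha, one_mul] at hd
  refine hs (pr_eq_one.2 (Or.inl (Subtype.ext (Matrix.ext fun i j => ?_))))
  fin_cases i <;> fin_cases j <;> simp [ha, hb, hc, hd]

/-- A subgroup of order three gives a binary action in odd degree. -/
theorem binary_three {a : ℕ} (ha : Odd a) (hq : Fintype.card F = 2 ^ a) {H : Subgroup G₂}
    (hH : Nat.card H = 3) : Binary.IsBinary H := by
  classical
  have h2 : (2 : F) = 0 := by
    haveI : CharP F 2 := charP_of_card_eq_prime_pow hq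
    exact CharTwo.two_eq_zero
  have hroot := no_root_of_odd ha hq
  haveI : Fact (Nat.Prime 3) := ⟨Nat.prime_three⟩
  have hst : ∀ c : G₂ ⧸ H, Nat.card (MulAction.stabilizer G₂ c) = 3 := by
    intro c
    induction c using QuotientGroup.induction_on with
    | H y =>
      have hc : Nat.card (H.map (MulAut.conj y).toMonoidHom) = Nat.card H :=
        Subgroup.card_map_of_injective (MulEquiv.injective _)
      rw [← hH, ← hc]
      refine Nat.card_congr (Equiv.setCongr (congrArg SetLike.coe (Subgroup.ext fun g => ?_)))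
      rw [MulAction.mem_stabilizer_iff, MulAction.Quotient.smul_mk, eq_comm, QuotientGroup.eq]
      constructor
      · exact fun hg => ⟨y⁻¹ * g * y, by simpa [mul_assoc] using hg, by simp [mul_assoc]⟩
      · rintro ⟨k, hk, rfl⟩; simpa [mul_assoc] using hk
  have hone : ∀ (c : G₂ ⧸ H) (u : G₂), u • c = c → u ≠ 1 → ∀ s, pr s = u → tr s = 1 := by
    rintro c u hu hu1 s rfl
    refine T_eq_one_of_cube h2 hroot hu1 ?_
    have := congrArg Subtype.val (pow_card_eq_one' (x := (⟨pr s, hu⟩ : MulAction.stabilizer G₂ c)))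
    rw [hst] at this
    simpa using this
  refine binary_of_no_triangle (fun b c hbc u hub huc => ?_) fun b c d u v hu hv hw hu1 hv1 hw1 => ?_
  · by_contra hu1
    refine hbc ?_
    have key : ∀ (e : G₂ ⧸ H) (hue : u • e = e),
        MulAction.stabilizer G₂ e = Subgroup.zpowers u := fun e hue =>
      (Subgroup.eq_of_le_of_card_ge (Subgroup.zpowers_le.2 hue) (by
        rw [hst, Nat.card_zpowers]
        refine (le_of_eq (orderOf_eq_prime ?_ hu1).symm)
        have := congrArg Subtype.val (pow_card_eq_one' (x := (⟨u, hue⟩ : MulAction.stabilizer G₂ e)))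
        rw [hst] at this
        simpa using this)).symm
    rw [key b hub, key c huc]
  · obtain ⟨x, hx⟩ := pr_surjective v⁻¹
    obtain ⟨y, hy⟩ := pr_surjective u
    rw [← hx, ← hy]
    refine congrArg pr (SL2Triangle.eq_of_tr_one h2 hroot ?_ (hone b u hu hu1 y hy) ?_)
    · exact hone c v⁻¹ (inv_smul_eq_iff.2 hv.symm) (inv_ne_one.2 hv1) x hx
    · exact hone d (v⁻¹ * u) hw hw1 (x * y) (by rw [map_mul, hx, hy])

end CfsgLib.PGroup.PSL2Binary
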