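import Cfsg.Agent.Lib.PGroup.PSL2BinaryTwo
import Cfsg.Agent.Lib.Classical.SLBasic

set_option autoImplicit false
set_option linter.unusedSectionVars false
set_option linter.style.haveILetI false

/-!
Necessary conditions for a binary coset action of `PSL(2, F)`.
-/

namespace CfsgLib.PGroup.PSL2Binary

open Matrix OnePoint CfsgLib.Classical.Dickson CfsgLib.KnownC.PSL2Classes
open scoped MatrixGroups
open SL2Triangle (tr comp)

variable {F : Type*} [Field F] [Fintype F] [DecidableEq F] (p : ℕ) [hp : Fact p.Prime] [CharP F p]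

local notation "G₂" => ProjectiveSpecialLinearGroup (Fin 2) F
local notation "PG" => ProjGenLinGroup (Fin 2) F

theorem cyclic_eq_of_card {G : Type*} [Group G] [Finite G] {c : G} {P Q : Subgroup G}
    (hP : P ≤ Subgroup.zpowers c) (hQ : Q ≤ Subgroup.zpowers c) (h : Nat.card P = Nat.card Q) :
    P = Q := by
  classical
  refine Subgroup.eq_of_le_of_card_ge (fun x hx => ?_) h.ge
  haveI := Fintype.ofFinite (Subgroup.zpowers c)
  haveI := Fintype.ofFinite Q
  have hcard := IsCyclic.card_pow_eq_one_le (α := Subgroup.zpowers c) (Nat.card_pos (α := Q))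
  let f : Q → Subgroup.zpowers c := fun y => ⟨y.1, hQ y.2⟩
  have hsub : Finset.univ.image f ⊆ Finset.univ.filter fun y : Subgroup.zpowers c => y ^ Nat.card Q = 1 := by
    intro y hy
    obtain ⟨z, -, rfl⟩ := Finset.mem_image.1 hy
    exact Finset.mem_filter.2 ⟨Finset.mem_univ _, Subtype.ext (by
      show ((z : G)) ^ Nat.card Q = 1
      rw [← SubgroupClass.coe_pow, pow_card_eq_one']
      rfl)⟩
  have himg : (Finset.univ.image f).card = Nat.card Q := by
    have hinj : Function.Injective f := fun a b e =>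
      Subtype.ext (congrArg (fun z : Subgroup.zpowers c => (z : G)) e)
    rw [Finset.card_image_of_injective _ hinj,
      Finset.card_univ, Nat.card_eq_fintype_card]
  have heq := Finset.eq_of_subset_of_card_le hsub (himg ▸ hcard)
  have hmem : (⟨x, hP hx⟩ : Subgroup.zpowers c) ∈
      Finset.univ.filter fun y : Subgroup.zpowers c => y ^ Nat.card Q = 1 := by
    refine Finset.mem_filter.2 ⟨Finset.mem_univ _, Subtype.ext ?_⟩
    have e := congrArg Subtype.val (pow_card_eq_one' (x := (⟨x, hx⟩ : P)))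
    rw [h] at e
    simpa using e
  rw [← heq] at hmem
  obtain ⟨z, -, hz⟩ := Finset.mem_image.1 hmem
  have : (z : G) = x := congrArg Subtype.val hz
  exact this ▸ z.2

include p hp in
theorem odd_exponent (h2 : (2 : F) = 0) (hroot : ∀ ω : F, ω ^ 2 + ω + 1 ≠ 0) :
    ∃ a : ℕ, Odd a ∧ Fintype.card F = 2 ^ a := by
  obtain ⟨n, -, hn⟩ := FiniteField.card F p
  rw [p_eq_two p h2] at hn
  refine ⟨n, Nat.not_even_iff_odd.1 fun ⟨k, hk⟩ => ?_, hn⟩
  have h3 : 3 ∣ Fintype.card Fˣ := by
    rw [Fintype.card_units, hn, hk, ← two_mul, pow_mul]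
    have h1 : (2 ^ 2) ^ k % 3 = 1 := by rw [Nat.pow_mod]; norm_num
    omega
  haveI : Fact (Nat.Prime 3) := ⟨Nat.prime_three⟩
  obtain ⟨ω, hω⟩ := exists_prime_orderOf_dvd_card 3 h3
  have h3' : (ω : F) ^ 3 = 1 := by
    have := pow_orderOf_eq_one ω
    rw [hω] at this
    simpa using congrArg (fun u : Fˣ => (u : F)) this
  have hne : (ω : F) - 1 ≠ 0 := fun e => by
    have : ω = 1 := Units.ext (sub_eq_zero.1 e)
    rw [this, orderOf_one] at hω
    omega
  refine hroot ω ((mul_eq_zero.1 ?_).resolve_left hne)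
  linear_combination h3'

variable {p}
variable {H : Subgroup (ProjectiveSpecialLinearGroup (Fin 2) F)} (hb : Binary.IsBinary H) (hH : H ≠ ⊤)
include hb hH

variable (p)
include p

theorem three_of_odd (hq : 4 ≤ Fintype.card F) {g : G₂} (hg : Binary.Minimal H g)
    (hall : ∀ g, Binary.Minimal H g → Odd (Nat.card (Binary.K H g))) :
    (∃ a : ℕ, Odd a ∧ Fintype.card F = 2 ^ a) ∧ Nat.card H = 3 := by
  classical
  haveI : IsSimpleGroup G₂ := CfsgLib.Classical.psl_fin_isSimpleGroup le_rfl fun _ => hq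
  obtain ⟨h2, hroot, -, -⟩ := odd_kernel p hb hg (hall g hg)
  refine ⟨odd_exponent p h2 hroot, ?_⟩
  have hord3 : ∀ g, Binary.Minimal H g → T g = 1 := fun g hg =>
    (odd_kernel p hb hg (hall g hg)).2.2.2 g (Binary.self_mem_K g) hg.ne
  have hnofix : ∀ g, Binary.Minimal H g → ∀ x : OnePoint F, emb g • x ≠ x := by
    intro g hg x hx
    obtain ⟨a, ha⟩ := T_of_fixed hx
    rw [hord3 g hg, one_mul] at ha
    exact hroot a (by linear_combination -ha)
  -- no involutions
  have hHodd : Odd (Nat.card H) := by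
    rw [← Nat.not_even_iff_odd]
    intro hev
    obtain ⟨⟨t, htH⟩, ht⟩ := exists_prime_orderOf_dvd_card' (G := H) 2 hev.two_dvd
    rw [← Subgroup.orderOf_coe] at ht
    change orderOf t = 2 at ht
    have ht1 : t ≠ 1 := fun e => by rw [e, orderOf_one] at ht; omega
    have ht2 : t * t = 1 := by
      have := pow_orderOf_eq_one t
      rwa [ht, pow_two] at this
    have htf := Binary.fixes_of_mem_self (H := H) htH
    obtain ⟨g₀, hg₀, hle⟩ := Binary.exists_minimal_le ht1 htf
    set N := Subgroup.normalizer (Binary.K H t : Set G₂)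
    have hC : ∀ c : G₂, c * t = t * c → c ∈ N := fun c hc =>
      Binary.mem_normalizer_of_K (by rw [hc, mul_inv_cancel_right])
    have hte : emb t ≠ 1 := fun e => ht1 (emb_injective (by rw [e, map_one]))
    rcases two_fixed_or_top p h2 hq (inPGL N) hte (by rw [← map_mul, ht2, map_one])
      ⟨t, hC t rfl, rfl⟩ (fun u hu => by
        obtain ⟨c, rfl⟩ := exists_of_mem_sln (mem_cen.1 hu).1
        exact ⟨c, hC c (emb_injective (by rw [map_mul, map_mul]; exact (mem_cen.1 hu).2)), rfl⟩)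
      with ⟨x, hx⟩ | h
    · exact hnofix g₀ hg₀ x (hx _ ⟨g₀, Subgroup.le_normalizer (hle (Binary.self_mem_K g₀)), rfl⟩)
    · refine Binary.not_normalized (K := Binary.K H t) (fun e => ?_) (Binary.K_ne_top hH htf)
        (eq_top_of_inPGL p hb hH h2 h)
      have := Binary.self_mem_K (H := H) t
      rw [e, Subgroup.mem_bot] at this
      exact ht1 this
  obtain ⟨x₀, hx₀⟩ := Binary.exists_conj_mem hg.fixes
  set g₁ := x₀⁻¹ * g * x₀ with hg₁def
  have hg₁ : Binary.Minimal H g₁ := by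
    have := hg.conj x₀⁻¹
    rwa [inv_inv] at this
  obtain ⟨-, -, hcard3, -⟩ := odd_kernel p hb hg₁ (hall g₁ hg₁)
  obtain ⟨cH, hcH⟩ : ∃ cH : PG, inPGL H = Subgroup.zpowers cH := by
    rcases kind_odd p H hHodd with ⟨x, hx⟩ | ⟨c, hc, -⟩
    · exact absurd (hx g₁ hx₀) (hnofix g₁ hg₁ x)
    · exact ⟨c, hc⟩
  have hHcomm : ∀ a ∈ H, ∀ b ∈ H, a * b = b * a := by
    intro a ha b hb'
    obtain ⟨i, hi⟩ := Subgroup.mem_zpowers_iff.1 (hcH ▸ ⟨a, ha, rfl⟩ : emb a ∈ Subgroup.zpowers cH)
    obtain ⟨j, hj⟩ := Subgroup.mem_zpowers_iff.1 (hcH ▸ ⟨b, hb', rfl⟩ : emb b ∈ Subgroup.zpowers cH)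
    refine emb_injective ?_
    rw [map_mul, map_mul, ← hi, ← hj, ← _root_.zpow_add, ← _root_.zpow_add, add_comm]
  set C := Subgroup.centralizer ({g₁} : Set G₂)
  have hCodd : Odd (Nat.card C) := by
    rw [← Nat.not_even_iff_odd]
    intro hev
    obtain ⟨⟨s, hsC⟩, hs⟩ := exists_prime_orderOf_dvd_card' (G := C) 2 hev.two_dvd
    rw [← Subgroup.orderOf_coe] at hs
    change orderOf s = 2 at hs
    have hs1 : emb s ≠ 1 := fun e => by
      rw [← orderOf_emb, e, orderOf_one] at hs; omega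
    have hs2 : emb s * emb s = 1 := by
      have := pow_orderOf_eq_one (emb s)
      rwa [orderOf_emb, hs, pow_two] at this
    obtain ⟨x, hx, -⟩ := invol_fix p h2 hs1 hs2
    exact hnofix g₁ hg₁ x (commute_fix p h2 hs1 hs2 hx (by
      rw [← map_mul, ← map_mul, Subgroup.mem_centralizer_singleton_iff.1 hsC]))
  obtain ⟨cC, hcC⟩ : ∃ cC : PG, inPGL C = Subgroup.zpowers cC := by
    rcases kind_odd p C hCodd with ⟨x, hx⟩ | ⟨c, hc, -⟩
    · exact absurd (hx g₁ (Subgroup.mem_centralizer_singleton_iff.2 rfl)) (hnofix g₁ hg₁ x)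
    · exact ⟨c, hc⟩
  have hHC : H ≤ C := fun a ha => Subgroup.mem_centralizer_singleton_iff.2 (hHcomm a ha g₁ hx₀)
  have heq : H = Binary.K H g₁ := by
    refine le_antisymm (fun a ha => Binary.mem_K.2 fun q hq => ?_) ?_
    · induction q using QuotientGroup.induction_on with
      | H y =>
        rw [MulAction.Quotient.smul_mk, eq_comm, QuotientGroup.eq] at hq
        set H' := H.map (MulAut.conj y).toMonoidHom
        have hH'C : H' ≤ C := by
          rintro _ ⟨b, hb', rfl⟩
          refine Subgroup.mem_centralizer_singleton_iff.2 ?_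
          have := congrArg (MulAut.conj y) (hHcomm b hb' _ hq)
          simpa [mul_assoc] using this
        have e : inPGL H = inPGL H' := cyclic_eq_of_card (c := cC)
          (hcC ▸ Subgroup.map_mono hHC) (hcC ▸ Subgroup.map_mono hH'C) (by
            rw [card_eq_card_inPGL, card_eq_card_inPGL,
              Subgroup.card_map_of_injective (MulAut.conj y).injective])
        obtain ⟨b, ⟨k, hk, rfl⟩, e'⟩ : emb a ∈ inPGL H' := e ▸ ⟨a, ha, rfl⟩
        rw [MulAction.Quotient.smul_mk, eq_comm, QuotientGroup.eq, ← emb_injective e']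
        simpa [mul_assoc] using hk
    · intro z hz
      obtain ⟨k, hk, rfl⟩ := Binary.K_le_conj (H := H) (g := g₁) 1 (by simpa using hx₀) hz
      simpa using hk
  exact (congrArg (fun X : Subgroup G₂ => Nat.card X) heq).trans hcard3

/-- The necessary condition. -/
theorem necessary (hq : 4 ≤ Fintype.card F) (hq5 : Fintype.card F ≠ 5) :
    H = ⊥ ∨ ((∃ a : ℕ, Fintype.card F = 2 ^ a) ∧ ∃ P : Sylow 2 G₂, H = P) ∨
      ((∃ a : ℕ, Odd a ∧ Fintype.card F = 2 ^ a) ∧ Nat.card H = 3) := by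
  classical
  by_cases hbot : H = ⊥
  · exact Or.inl hbot
  refine Or.inr ?_
  obtain ⟨⟨h, hh⟩, hh1⟩ := exists_ne_one_of_nontrivial' hbot
  obtain ⟨g, hg, -⟩ := Binary.exists_minimal_le (H := H) hh1 (Binary.fixes_of_mem_self hh)
  by_cases hall : ∀ g, Binary.Minimal H g → Odd (Nat.card (Binary.K H g))
  · exact Or.inr (three_of_odd p hb hH hq hg hall)
  push Not at hall
  obtain ⟨g', hg', hev⟩ := hall
  obtain ⟨⟨t, htK⟩, ht⟩ := exists_prime_orderOf_dvd_card' (G := Binary.K H g') 2
    (Nat.not_odd_iff_even.1 hev).two_dvd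
  rw [← Subgroup.orderOf_coe] at ht
  change orderOf t = 2 at ht
  have ht1 : t ≠ 1 := fun e => by rw [e, orderOf_one] at ht; omega
  have ht2 : t * t = 1 := by
    have := pow_orderOf_eq_one t
    rwa [ht, pow_two] at this
  have htm := hg'.of_mem htK ht1
  have h2 := two_of_even p hb hH hq hq5 htm ht2
  refine Or.inl ⟨?_, sylow_of_even p hb hH hq h2 htm ht2⟩
  obtain ⟨n, -, hn⟩ := FiniteField.card F p
  exact ⟨n, by rw [hn, p_eq_two p h2]⟩
where
  exists_ne_one_of_nontrivial' (hbot : H ≠ ⊥) : ∃ h : H, (h : G₂) ≠ 1 := by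
    by_contra! hh
    exact hbot (eq_bot_iff.2 fun x hx => Subgroup.mem_bot.2 (hh ⟨x, hx⟩))

end CfsgLib.PGroup.PSL2Binary
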