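import Cfsg.Agent.Lib.PGroup.PSL2BinaryEven
import Cfsg.Agent.Lib.PGroup.PSL2BinaryOdd

set_option autoImplicit false
set_option linter.unusedSectionVars false
set_option linter.style.haveILetI false

/-!
The stabiliser in a binary action of `PSL(2, F)`.
-/

namespace CfsgLib.PGroup.PSL2Binary

open Matrix OnePoint CfsgLib.Classical.Dickson CfsgLib.KnownC.PSL2Classes
open scoped MatrixGroups
open SL2Triangle (tr comp)

variable {F : Type*} [Field F] [Fintype F] [DecidableEq F] (p : ℕ) [hp : Fact p.Prime] [CharP F p]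

local notation "G₂" => ProjectiveSpecialLinearGroup (Fin 2) F
local notation "PG" => ProjGenLinGroup (Fin 2) F

include p hp in
theorem p_eq_two (h2 : (2 : F) = 0) : p = 2 :=
  (CharP.eq F (inferInstance : CharP F p) (CharTwo.of_one_ne_zero_of_two_eq_zero one_ne_zero h2))

include p hp in
/-- In characteristic two, squares equal one or the order is odd. -/
theorem sq_or_odd (h2 : (2 : F) = 0) (c : PG) (hc : c ∈ sln F) : c * c = 1 ∨ ¬ 2 ∣ orderOf c := by
  obtain rfl := p_eq_two p h2
  rw [← pow_two]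
  exact pow_eq_one_or 2 c hc

include p hp in
theorem sln_top (h2 : (2 : F) = 0) : sln F = ⊤ := sln_eq_top_of_even (by
  obtain ⟨n, -, hn⟩ := FiniteField.card F p
  rw [hn, p_eq_two p h2, Nat.pow_mod]; simp)

include p hp in
/-- An involution has exactly one fixed point. -/
theorem invol_fix (h2 : (2 : F) = 0) {t : PG} (ht : t ≠ 1) (ht2 : t * t = 1) :
    ∃ x : OnePoint F, t • x = x ∧ ∀ y, t • y = y → y = x := by
  classical
  have htp : t ^ p = 1 := by rw [p_eq_two p h2, pow_two, ht2]
  obtain ⟨x, hx⟩ : ∃ x : OnePoint F, t • x = x := by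
    have hP : IsPGroup p (Subgroup.zpowers t) := IsPGroup.of_card (n := 1) (by
      rw [Nat.card_zpowers, pow_one]; exact orderOf_eq_prime htp ht)
    have h := hP.card_modEq_card_fixedPoints (OnePoint F)
    by_contra hall
    push Not at hall
    have hempty : IsEmpty (MulAction.fixedPoints (Subgroup.zpowers t) (OnePoint F)) :=
      ⟨fun z => hall z.1 (z.2 ⟨t, Subgroup.mem_zpowers t⟩)⟩
    have h0 : Nat.card (MulAction.fixedPoints (Subgroup.zpowers t) (OnePoint F)) = 0 := Nat.card_of_isEmpty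
    rw [h0, natCard_points, Nat.card_eq_fintype_card, Nat.modEq_zero_iff_dvd] at h
    obtain ⟨n, -, hn⟩ := FiniteField.card F p
    rw [hn] at h
    exact hp.out.one_lt.ne' (Nat.dvd_one.mp ((Nat.dvd_add_right (dvd_pow_self p n.ne_zero)).mp h))
  exact ⟨x, hx, fun y hy => fix_of_unip p ht htp hx hy⟩

include p hp in
/-- A commuting element keeps the fixed point. -/
theorem commute_fix (h2 : (2 : F) = 0) {t g : PG} (ht : t ≠ 1) (ht2 : t * t = 1)
    {x : OnePoint F} (hx : t • x = x) (hg : g * t = t * g) : g • x = x :=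
  fix_of_unip p ht (by rw [p_eq_two p h2, pow_two, ht2]) hx (by rw [← mul_smul, ← hg, mul_smul, hx])

include p hp in
theorem two_fixed_or_top (h2 : (2 : F) = 0) (hq : 4 ≤ Fintype.card F) (L : Subgroup PG) {t : PG}
    (ht : t ≠ 1) (ht2 : t * t = 1) (htL : t ∈ L) (hC : cen t ≤ L) :
    (∃ x : OnePoint F, ∀ g ∈ L, g • x = x) ∨ L = ⊤ := by
  classical
  have ep := p_eq_two p h2
  have hord : orderOf t = 2 := orderOf_eq_prime (by rw [pow_two, ht2]) ht
  have hdvd : Fintype.card F ∣ Nat.card L := by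
    rw [← card_cen_unip p ht (by rw [ep, pow_two, ht2])]
    exact Subgroup.card_dvd_of_le hC
  have hG : Nat.card PG = (Fintype.card F + 1) * Fintype.card F * (Fintype.card F - 1) := by
    rw [card_pgl2, Nat.card_eq_fintype_card]
  obtain ⟨n, hn0, hn⟩ := FiniteField.card F p
  rw [ep] at hn
  cases kind p L with
  | fixed x h => exact Or.inl ⟨x, h⟩
  | cyclic c hc hpc =>
    refine absurd ?_ hpc
    have h := orderOf_dvd_of_mem_zpowers (hc ▸ htL : t ∈ Subgroup.zpowers c)
    rw [hord] at h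
    rw [ep]
    exact h
  | dihedral c hc hpc h hG' =>
    obtain ⟨e⟩ := hG'
    rw [Nat.card_congr e.toEquiv, DihedralGroup.nat_card, hn] at hdvd
    have h4 : 2 * 2 ∣ 2 * orderOf c := by
      refine dvd_trans ?_ hdvd
      rw [show 2 * 2 = 2 ^ 2 by norm_num]
      refine pow_dvd_pow 2 ?_
      by_contra hlt
      have : (n : ℕ) = 1 := by have := n.pos; omega
      rw [this] at hn
      omega
    exact absurd (Nat.dvd_of_mul_dvd_mul_left two_pos h4) (ep ▸ hpc)
  | a4 h =>
    obtain ⟨e⟩ := h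
    obtain ⟨x, hx, huniq⟩ := invol_fix p h2 ht ht2
    refine Or.inl ⟨x, fun g hg => ?_⟩
    have key : g * t * g⁻¹ * t = t * (g * t * g⁻¹) := by
      have ha : (⟨g * t * g⁻¹, mul_mem (mul_mem hg htL) (inv_mem hg)⟩ : L) * ⟨g * t * g⁻¹, mul_mem (mul_mem hg htL) (inv_mem hg)⟩ = 1 :=
        Subtype.ext (show g * t * g⁻¹ * (g * t * g⁻¹) = 1 by
          rw [show g * t * g⁻¹ * (g * t * g⁻¹) = g * (t * t) * g⁻¹ by group, ht2]; group)
      have hb : (⟨t, htL⟩ : L) * ⟨t, htL⟩ = 1 := Subtype.ext ht2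
      have := altFour_commute _ _ (by rw [← map_mul, ha, map_one] : e _ * e _ = 1)
        (by rw [← map_mul, hb, map_one] : e _ * e _ = 1)
      rw [← map_mul, ← map_mul] at this
      exact congrArg Subtype.val (e.injective this)
    have hg1 : g * t * g⁻¹ ≠ 1 := fun e => ht (conj_eq_one_iff.1 e)
    have hgx : (g * t * g⁻¹) • x = x := commute_fix p h2 ht ht2 hx key
    rw [mul_smul, mul_smul] at hgx
    exact (inv_smul_eq_iff.1 (huniq _ (eq_inv_smul_iff.2 hgx))).symm
  | s4 h =>
    obtain ⟨e⟩ := h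
    exfalso
    let c : Equiv.Perm (Fin 4) := finRotate 4
    have hc4 : c ^ 4 = 1 ∧ c * c ≠ 1 := by decide
    rcases sq_or_odd p h2 ((e.symm c : L) : PG) (by rw [sln_top p h2]; trivial) with h | h
    · exact hc4.2 (e.symm.injective (Subtype.ext (by simpa using h)))
    · refine h ?_
      rw [Subgroup.orderOf_coe, MulEquiv.orderOf_eq]
      have hd : orderOf c ∣ 4 := orderOf_dvd_of_pow_eq_one hc4.1
      have hne : orderOf c ≠ 1 := fun e' => hc4.2 (by rw [orderOf_eq_one_iff.1 e', one_mul])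
      have := Nat.le_of_dvd (by norm_num) hd
      interval_cases orderOf c <;> omega
  | a5 h =>
    obtain ⟨e⟩ := h
    have h60 : Nat.card L = 60 := by
      rw [Nat.card_congr e.toEquiv, nat_card_alternatingGroup]; simp [Nat.factorial]
    rw [h60, hn] at hdvd
    have hq4 : Fintype.card F = 4 := by
      have hle := Nat.le_of_dvd (by norm_num) hdvd
      have : (n : ℕ) < 6 := by
        by_contra hlt
        have := Nat.pow_le_pow_right (show 0 < 2 by norm_num) (Nat.le_of_not_lt hlt)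
        omega
      rw [hn] at hq ⊢
      interval_cases hn' : (n : ℕ) <;> omega
    refine Or.inr (Subgroup.eq_top_of_card_eq _ ?_)
    rw [h60, hG, hq4]
  | pgl A h hG' =>
    have hG'' : L.map (MulAut.conj h).toMonoidHom = ratPGL A := hG'
    have hL : Nat.card L = (Nat.card A + 1) * Nat.card A * (Nat.card A - 1) := by
      rw [← card_map_conj h L, hG'', card_ratPGL]
    rcases subfield_card A with hA | ⟨hA, hAq⟩
    · exact Or.inr (Subgroup.eq_top_of_card_eq _ (by rw [hL, hG, hA]))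
    exfalso
    rw [hn] at hAq hdvd
    obtain ⟨m, -, hm⟩ := (Nat.dvd_prime_pow Nat.prime_two).1 hAq
    have hA2 : 2 ≤ Nat.card A := Finite.one_lt_card
    have hev : 2 ∣ Nat.card A := by
      rw [hm]
      refine dvd_pow_self 2 fun e => ?_
      rw [e, pow_zero] at hm
      omega
    rw [hL, mul_assoc] at hdvd
    have hco : Nat.Coprime (2 ^ (n : ℕ)) (Nat.card A + 1) :=
      Nat.Coprime.pow_left _ ((Nat.Prime.coprime_iff_not_dvd Nat.prime_two).2 (by omega))
    have hco' : Nat.Coprime (2 ^ (n : ℕ)) (Nat.card A - 1) :=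
      Nat.Coprime.pow_left _ ((Nat.Prime.coprime_iff_not_dvd Nat.prime_two).2 (by omega))
    have h1 := Nat.le_of_dvd Nat.card_pos (hco'.dvd_of_dvd_mul_right (hco.dvd_of_dvd_mul_left hdvd))
    rw [hn] at hA
    nlinarith
  | psl A hA h hG' =>
    exfalso
    haveI : CharP A 2 := CharTwo.of_one_ne_zero_of_two_eq_zero one_ne_zero (A.subtype.injective (by rw [map_ofNat, map_zero]; exact h2))
    haveI := Fintype.ofFinite A
    obtain ⟨m, -, hm⟩ := FiniteField.card A 2
    rw [Nat.card_eq_fintype_card, hm, Nat.pow_mod] at hA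
    simp at hA

variable {p}
variable {H : Subgroup (ProjectiveSpecialLinearGroup (Fin 2) F)} (hb : Binary.IsBinary H) (hH : H ≠ ⊤)
include hb hH

variable (p)
include p

theorem cen_le_K {t : G₂} (ht : Binary.Minimal H t) (ht2 : t * t = 1) {c : G₂}
    (hc : c * t = t * c) : c ∈ Binary.K H t := by
  have key : ∀ i : G₂, i * i = 1 ∧ i * t = t * i → i ∈ Binary.K H t := by
    rintro i ⟨hi, hit⟩
    by_cases h1 : i = 1
    · rw [h1]; exact one_mem _
    by_cases h2 : i = t
    · rw [h2]; exact Binary.self_mem_K t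
    have hti : t * i ≠ 1 := fun e => h2 (by
      rw [← mul_one t, ← hi, ← mul_assoc, e, one_mul])
    have hti2 : (t * i) * (t * i) = 1 := by
      rw [mul_assoc, ← mul_assoc i, hit, mul_assoc, hi, mul_one, ht2]
    obtain ⟨x, hx⟩ := involutions_conj ht.ne ht2 h1 hi
    obtain ⟨y, hy⟩ := involutions_conj ht.ne ht2 hti hti2
    have h := Binary.mem_of_factor hb ht (hy ▸ ht.conj y : Binary.Minimal H (t * i))
      (hx ▸ ht.conj x : Binary.Minimal H i) (by rw [mul_assoc, hi, mul_one])
    simpa using mul_mem (inv_mem (Binary.self_mem_K (H := H) t)) h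
  obtain ⟨i, j, hi, hj, rfl⟩ := cen_generated p ht.ne ht2 hc
  exact mul_mem (key i hi) (key j hj)

theorem cen_le_inPGL_K {t : G₂} (ht : Binary.Minimal H t) (ht2 : t * t = 1) :
    cen (emb t) ≤ inPGL (Binary.K H t) := fun g hg => by
  obtain ⟨c, rfl⟩ := exists_of_mem_sln (mem_cen.1 hg).1
  exact ⟨c, cen_le_K p hb hH ht ht2 (emb_injective (by
    rw [map_mul, map_mul]; exact (mem_cen.1 hg).2)), rfl⟩

theorem two_of_even (hq : 4 ≤ Fintype.card F) (hq5 : Fintype.card F ≠ 5) {t : G₂}
    (ht : Binary.Minimal H t) (ht2 : t * t = 1) : (2 : F) = 0 := by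
  by_contra h2
  have hodd := SL2Triangle.odd_card h2
  have hord : orderOf t = 2 := orderOf_eq_prime (by rw [pow_two, ht2]) ht.ne
  have h := odd_top p h2 (by omega) (inPGL (Binary.K H t))
    (by rintro _ ⟨c, -, rfl⟩; exact emb_mem_sln c)
    (t := emb t) ⟨t, Binary.self_mem_K t, rfl⟩ (by rw [orderOf_emb, hord]) (by
      rintro _ ⟨u, hu, rfl⟩ hu2
      change orderOf (emb u) = 2 at hu2
      rw [orderOf_emb] at hu2
      have hu1 : u ≠ 1 := fun e => by rw [e, orderOf_one] at hu2; omega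
      rw [← ht.min u hu hu1]
      have := pow_orderOf_eq_one u
      rw [hu2, pow_two] at this
      exact cen_le_inPGL_K p hb hH (ht.of_mem hu hu1) this)
  refine Binary.K_ne_top hH ht.fixes (eq_top_iff.2 fun c _ => ?_)
  obtain ⟨d, hd, e⟩ : emb c ∈ inPGL (Binary.K H t) := h ▸ emb_mem_sln c
  exact emb_injective e ▸ hd

theorem eq_top_of_inPGL (h2 : (2 : F) = 0) {K : Subgroup G₂} (h : inPGL K = ⊤) : K = ⊤ := by
  refine eq_top_iff.2 fun c _ => ?_
  obtain ⟨d, hd, e⟩ : emb c ∈ inPGL K := h ▸ Subgroup.mem_top _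
  exact emb_injective e ▸ hd

/-- A minimal stabiliser of even order forces a Sylow stabiliser. -/
theorem sylow_of_even (hq : 4 ≤ Fintype.card F) (h2 : (2 : F) = 0) {t : G₂}
    (ht : Binary.Minimal H t) (ht2 : t * t = 1) : ∃ P : Sylow 2 G₂, H = P := by
  classical
  have ep := p_eq_two p h2
  set K := Binary.K H t with hKdef
  have hte : emb t ≠ 1 := fun e => ht.ne (emb_injective (by rw [e, map_one]))
  have hte2 : emb t * emb t = 1 := by rw [← map_mul, ht2, map_one]
  obtain ⟨x, hx, huniq⟩ := invol_fix p h2 hte hte2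
  have hKx : ∀ g ∈ K, emb g • x = x := by
    rcases two_fixed_or_top p h2 hq (inPGL K) hte hte2 ⟨t, Binary.self_mem_K t, rfl⟩
      (cen_le_inPGL_K p hb hH ht ht2) with ⟨y, hy⟩ | h
    · intro g hg
      rw [← huniq y (hy _ ⟨t, Binary.self_mem_K t, rfl⟩)]
      exact hy _ ⟨g, hg, rfl⟩
    · exact absurd (eq_top_of_inPGL p hb hH h2 h) (Binary.K_ne_top hH ht.fixes)
  -- the kernel of the point stabiliser
  have hU : ∀ g : G₂, emb g • x = x → g * g = 1 → g ∈ K := fun g hgx hg2 =>
    cen_le_K p hb hH ht ht2 (emb_injective (by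
      rw [map_mul, map_mul]
      exact (unip_mul p hgx hx (by rw [ep, pow_two, ← map_mul, hg2, map_one])
        (by rw [ep, pow_two, hte2])).2))
  have h4 : (4 : F) = 0 := by rw [show (4 : F) = 2 * 2 by norm_num, h2, zero_mul]
  have hKsq : ∀ g ∈ K, g * g = 1 := by
    intro g hg
    by_contra hne
    have hg1 : g ≠ 1 := fun e => hne (by rw [e, one_mul])
    have hT : T g ≠ 4 := fun e => hne ((sq_iff hg1).2 (by rw [e, h4]))
    obtain ⟨w, hw⟩ := conj_of_T hg1 (inv_ne_one.2 hg1) (T_inv g).symm hT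
    have hwn := ht.mem_normalizer hg hg1 (Or.inr hw.symm)
    have hwt : w * t * w⁻¹ ∈ K := by
      rw [Subgroup.mem_normalizer_iff] at hwn
      exact (hwn t).1 (Binary.self_mem_K t)
    have hwx : emb w • x = x := by
      have h1 := hKx _ hwt
      rw [map_mul, map_mul, map_inv, mul_smul, mul_smul] at h1
      have h3 := huniq _ (eq_inv_smul_iff.2 h1)
      exact (inv_smul_eq_iff.1 h3).symm
    obtain ⟨h, e⟩ := exists_to_infty x
    obtain ⟨a, b, hab⟩ := exists_aff (g := MulAut.conj h⁻¹ (emb g))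
      (by simp [mul_smul, e, hKx g hg, inv_smul_eq_iff])
    obtain ⟨c, d, hcd⟩ := exists_aff (g := MulAut.conj h⁻¹ (emb w))
      (by simp [mul_smul, e, hwx, inv_smul_eq_iff])
    have hrel : g * w * g = w := by
      calc g * w * g = g * (w * g * w⁻¹) * w := by group
        _ = w := by rw [← hw, mul_inv_cancel, one_mul]
    have hrel' := congrArg (fun z => MulAut.conj h⁻¹ (emb z)) hrel
    simp only [map_mul, hab, hcd, aff_mul] at hrel'
    have ha2 : ((a : F) - 1) ^ 2 = 0 := by
      have h3 : (a : F) * c * a = c := congrArg (fun u : Fˣ => (u : F)) (aff_injective hrel').1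
      have h5 : ((a : F) ^ 2 - 1) * c = 0 := by linear_combination h3
      have h6 := (mul_eq_zero.1 h5).resolve_right c.ne_zero
      linear_combination h6 + (1 - (a : F)) * h2
    have ha1 : a = 1 := Units.ext (by simpa [sub_eq_zero] using (pow_eq_zero_iff two_ne_zero).1 ha2)
    refine hne (emb_injective ((MulAut.conj h⁻¹).injective ?_))
    rw [map_mul emb, map_mul, hab, map_one, map_one, aff_mul, aff_eq_one_iff, ha1]
    exact ⟨one_mul _, by rw [Units.val_one, one_mul]; linear_combination b * h2⟩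
  obtain ⟨x₀, hx₀⟩ := Binary.exists_conj_mem ht.fixes
  set H' := H.map (MulAut.conj x₀).toMonoidHom with hH'
  have hKH' : K ≤ H' := Binary.K_le_conj x₀ hx₀
  have hH'x : ∀ g ∈ H', emb g • x = x := by
    rcases two_fixed_or_top p h2 hq (inPGL H') hte hte2 ⟨t, hKH' (Binary.self_mem_K t), rfl⟩
      (fun g hg => Subgroup.map_mono hKH' (cen_le_inPGL_K p hb hH ht ht2 hg)) with ⟨y, hy⟩ | h
    · intro g hg
      rw [← huniq y (hy _ ⟨t, hKH' (Binary.self_mem_K t), rfl⟩)]
      exact hy _ ⟨g, hg, rfl⟩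
    · refine absurd (eq_top_of_inPGL p hb hH h2 h) fun e => hH ?_
      refine Subgroup.map_injective (MulAut.conj x₀).injective (e.trans ?_)
      rw [Subgroup.map_top_of_surjective _ (MulAut.conj x₀).surjective]
  have hH'K : H' ≤ K := by
    intro g hg
    refine Binary.mem_K.2 fun q hqt => ?_
    induction q using QuotientGroup.induction_on with
    | H y =>
      rw [MulAction.Quotient.smul_mk, eq_comm, QuotientGroup.eq] at hqt
      set z := y * x₀⁻¹ with hz
      have hzt : z⁻¹ * t * z ∈ H' := ⟨y⁻¹ * t * y, by simpa [mul_assoc] using hqt, by simp [hz, mul_assoc]⟩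
      have hzx : emb z • x = x := by
        have h1 := hH'x _ hzt
        rw [map_mul, map_mul, map_inv, mul_smul, mul_smul, inv_smul_eq_iff] at h1
        exact huniq _ h1
      have hcm : g⁻¹ * z⁻¹ * g * z ∈ H' := hKH' (by
        have hfix : emb (g⁻¹ * z⁻¹ * g * z) • x = x := by
          simp only [map_mul, map_inv, mul_smul, hzx, hH'x g hg, inv_smul_eq_iff]
        refine hU _ hfix ?_
        have h1 := T_commutator (c := g⁻¹) (d := z⁻¹) (x := x)
          (by rw [map_inv, inv_smul_eq_iff, hH'x g hg]) (by rw [map_inv, inv_smul_eq_iff, hzx])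
        rw [inv_inv, inv_inv] at h1
        by_cases e1 : g⁻¹ * z⁻¹ * g * z = 1
        · rw [e1, one_mul]
        · exact (sq_iff e1).2 (h1.trans h4))
      have hzg := mul_mem hg hcm
      rw [show g * (g⁻¹ * z⁻¹ * g * z) = z⁻¹ * g * z by group] at hzg
      obtain ⟨k, hk, e⟩ := hzg
      rw [MulAction.Quotient.smul_mk, eq_comm, QuotientGroup.eq]
      have e' : y⁻¹ * g * y = k := by
        refine (MulAut.conj x₀).injective (Eq.trans ?_ e.symm)
        simp [hz, mul_assoc]
      simpa [← mul_assoc, e'] using hk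
  have hHK : H' = K := le_antisymm hH'K hKH'
  have hH2 : IsPGroup 2 H := fun g => ⟨1, Subtype.ext (by
    have h1 := hKsq _ (hH'K ⟨g.1, g.2, rfl⟩)
    rw [pow_one, pow_two]
    apply (MulAut.conj x₀).injective
    simpa using h1)⟩
  refine ⟨⟨H, hH2, fun {Q} hQ hle => le_antisymm (fun q hq => ?_) hle⟩, rfl⟩
  have hsq : ∀ q ∈ Q, q * q = 1 := by
    intro q hq
    rcases sq_or_odd p h2 (emb q) (emb_mem_sln q) with h | h
    · exact emb_injective (by rw [map_mul, h, map_one])
    · obtain ⟨k, hk⟩ := hQ ⟨q, hq⟩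
      rw [orderOf_emb] at h
      obtain ⟨j, -, hj⟩ := (Nat.dvd_prime_pow Nat.prime_two).1
        (orderOf_dvd_of_pow_eq_one (show q ^ 2 ^ k = 1 by simpa using congrArg Subtype.val hk))
      rcases j with _ | j
      · rw [pow_zero] at hj
        rw [orderOf_eq_one_iff.1 hj, one_mul]
      · exact absurd (hj ▸ dvd_pow_self 2 (Nat.succ_ne_zero j)) h
  have htQ : x₀⁻¹ * t * x₀ ∈ Q := hle hx₀
  have hcomm : (x₀ * q * x₀⁻¹) * t = t * (x₀ * q * x₀⁻¹) := by
    have h1 := hsq _ (mul_mem hq htQ)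
    have hq2 := hsq q hq
    have ht' := hsq _ htQ
    have : q * (x₀⁻¹ * t * x₀) = (x₀⁻¹ * t * x₀) * q := by
      rw [mul_eq_one_iff_eq_inv.1 h1, _root_.mul_inv_rev, ← eq_inv_of_mul_eq_one_left hq2,
        ← eq_inv_of_mul_eq_one_left ht']
    calc (x₀ * q * x₀⁻¹) * t = x₀ * (q * (x₀⁻¹ * t * x₀)) * x₀⁻¹ := by group
      _ = t * (x₀ * q * x₀⁻¹) := by rw [this]; group
  have := hKH' (cen_le_K p hb hH ht ht2 hcomm)
  obtain ⟨k, hk, e⟩ := this
  have : k = q := (MulAut.conj x₀).injective (e.trans rfl)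
  exact this ▸ hk

end CfsgLib.PGroup.PSL2Binary
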