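import Cfsg.Agent.Lib.DegreeTools.SL2Degrees
import Cfsg.Agent.Lib.Classical.SL2Fours
import Cfsg.Agent.Lib.Classical.SL2Tori
import Cfsg.Agent.Lib.Classical.Dickson.PSL
import Cfsg.Agent.S0165
import Cfsg.Agent.S0731

/-!
# Groups with the degree pattern of `PSL₂(p²)`
-/

set_option autoImplicit false
set_option linter.unusedSectionVars false
set_option linter.style.haveILetI false

namespace CfsgLib.PGroup.PSL2Column

open CfsgLib CfsgLib.Char CfsgLib.DegreeTools CfsgLib.KnownB.GL2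
open scoped MatrixGroups

section psl

variable {F : Type*} [Field F] [Fintype F]

local notation "PSL" => Matrix.ProjectiveSpecialLinearGroup (Fin 2) F
local notation "qN" => Fintype.card F

/-- The order of `PSL₂` in odd characteristic. -/
theorem card_psl_odd (hodd : Odd qN) : 2 * Nat.card PSL = qN * ((qN - 1) * (qN + 1)) := by
  classical
  haveI : NeZero (2 : F) := ⟨two_ne_zero_of_odd hodd⟩
  have hne : (1 : SL(2, F)) ≠ -1 := fun h => by
    have h1 : ((1 : SL(2, F)) : Matrix (Fin 2) (Fin 2) F) 0 0 =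
        ((-1 : SL(2, F)) : Matrix (Fin 2) (Fin 2) F) 0 0 := by rw [← h]
    simp at h1
    exact two_ne_zero_of_odd hodd (by linear_combination h1)
  have hc : ((Subgroup.center SL(2, F) : Subgroup SL(2, F)) : Set SL(2, F)) = {1, -1} := by
    ext z
    simp only [SetLike.mem_coe, Set.mem_insert_iff, Set.mem_singleton_iff]
    refine ⟨Classical.sl2_center_eq, ?_⟩
    rintro (rfl | rfl)
    · exact one_mem _
    · exact Subgroup.mem_center_iff.2 fun g => by simp
  have h2 : Nat.card (Subgroup.center SL(2, F)) = 2 := by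
    calc Nat.card (Subgroup.center SL(2, F))
        = ((Subgroup.center SL(2, F) : Subgroup SL(2, F)) : Set SL(2, F)).ncard := Nat.card_coe_set_eq _
      _ = 2 := by rw [hc, Set.ncard_pair hne]
  have h := Subgroup.card_eq_card_quotient_mul_card_subgroup (Subgroup.center SL(2, F))
  rw [h2, Classical.card_sl2'] at h
  rw [h, mul_comm]

/-- The degrees of `PSL₂` when `q ≡ 1 (mod 4)`. -/
theorem deg_psl (h4 : qN % 4 = 1) (χ : Cfsg.IrrCharacter PSL) :
    Cfsg.charDegree (χ : PSL → ℂ) = 1 ∨ Cfsg.charDegree (χ : PSL → ℂ) = qN ∨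
      Cfsg.charDegree (χ : PSL → ℂ) = qN + 1 ∨ Cfsg.charDegree (χ : PSL → ℂ) = qN - 1 ∨
      Cfsg.charDegree (χ : PSL → ℂ) = (qN + 1) / 2 := by
  classical
  have hodd : Odd qN := Nat.odd_iff.2 (by omega)
  obtain ⟨t₀, d₀, -, h₀⟩ := exists_irreducible (F := F)
  obtain ⟨T⟩ := exists_oddTable h₀ hodd
  obtain ⟨φ, hd, hv⟩ := SL2Degrees.exists_sl χ
  rw [← hd]
  obtain ⟨n, hn, hc⟩ := irr_SL_odd T hodd φ.2
  rw [SL2Degrees.deg_eq_of_apply_one φ hn]
  rcases hc with ⟨e, -⟩ | ⟨e, -⟩ | ⟨e, -⟩ | ⟨e, -⟩ | ⟨e, -⟩ | ⟨e, hce⟩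
  · exact Or.inl e
  · exact Or.inr (Or.inl e)
  · exact Or.inr (Or.inr (Or.inl e))
  · exact Or.inr (Or.inr (Or.inr (Or.inl e)))
  · exact Or.inr (Or.inr (Or.inr (Or.inr e)))
  exfalso
  let m1 : Sg F := ⟨-1, mem_signs.2 neg_one_sq⟩
  have hcen : scalSL m1.1 (sg_sq m1) ∈ Subgroup.center SL(2, F) := scal_center (scal_scalSL _ _)
  have hval : (φ : SL(2, F) → ℂ) (scalSL m1.1 (sg_sq m1)) = (φ : SL(2, F) → ℂ) 1 := by
    rw [hv, hv, map_one]
    exact congrArg _ ((QuotientGroup.eq_one_iff _).2 hcen)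
  obtain ⟨a, b, H, hab⟩ : ∃ a b, Halves h₀ (piS h₀ T.ψ) a b ∧ (φ : SL(2, F) → ℂ) = a := by
    rcases hce with h | h
    exacts [⟨_, _, T.HP, h⟩, ⟨_, _, T.HP.symm, h⟩]
  rw [hab, (H.semi_eq (Or.inl (scal_scalSL _ _))).1, piS_scal, H.apply_one, piS_apply_one] at hval
  haveI := isCyclic_torS h₀
  rw [quad_value (card_torS_two_mul hodd h₀) T.ψ_ne T.ψ_sq (sgT h₀ m1), if_neg] at hval
  · have hq1 : ((qN : ℂ) - 1) = 0 := by linear_combination (-1 : ℂ) * hval
    have h5 : (qN : ℂ) = ((1 : ℕ) : ℂ) := by rw [Nat.cast_one]; linear_combination hq1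
    have := Nat.cast_injective (R := ℂ) h5
    exact absurd this (Fintype.one_lt_card (α := F)).ne'
  · intro he
    have e := congrArg (fun x : torS h₀ => ((x : SL(2, F)) : Matrix (Fin 2) (Fin 2) F) 0 0) he
    simp only [Subgroup.coe_pow, Matrix.SpecialLinearGroup.coe_pow, coe_sgT, coe_scalSL, smul_pow,
      one_pow, Subgroup.coe_one, Matrix.SpecialLinearGroup.coe_one] at e
    rw [Odd.neg_one_pow (Nat.odd_iff.2 (by omega))] at e
    simp at e
    exact two_ne_zero_of_odd hodd (by linear_combination (-1 : F) * e)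

/-- `PSL₂` has one linear character. -/
theorem linear_le_one (hodd : Odd qN) (h5 : 5 ≤ qN) (χ ψ : Cfsg.IrrCharacter PSL)
    (hχ : Cfsg.charDegree (χ : PSL → ℂ) = 1) (hψ : Cfsg.charDegree (ψ : PSL → ℂ) = 1) : χ = ψ := by
  classical
  obtain ⟨a, ha, ha'⟩ := SL2Degrees.exists_sl χ
  obtain ⟨b, hb, hb'⟩ := SL2Degrees.exists_sl ψ
  have h1 := ((degrees_SL_odd hodd).2 h5).1
  haveI : Subsingleton {x : Cfsg.IrrCharacter SL(2, F) // (x : SL(2, F) → ℂ) 1 = 1} :=
    (Nat.card_eq_one_iff_unique.1 h1).1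
  have e : a = b := congrArg Subtype.val (Subsingleton.elim
    (⟨a, (deg_eq_one_iff a).1 (ha.trans hχ)⟩ : {x : Cfsg.IrrCharacter SL(2, F) // (x : SL(2, F) → ℂ) 1 = 1})
    ⟨b, (deg_eq_one_iff b).1 (hb.trans hψ)⟩)
  refine Subtype.ext (funext fun x => ?_)
  obtain ⟨g, rfl⟩ := QuotientGroup.mk'_surjective (Subgroup.center SL(2, F)) x
  rw [← ha', ← hb', e]

end psl

section col

variable {G : Type*} [Group G] [Finite G]

/-- An integer of absolute value at least two does not divide minus one in the algebraic integers. -/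
theorem one_add_mul_ne_zero {k : ℕ} (hk : 2 ≤ k) {A : ℂ} (hA : IsIntegral ℤ A) :
    1 + (k : ℂ) * A ≠ 0 := by
  intro h
  have hk0 : (k : ℂ) ≠ 0 := by exact_mod_cast (by omega : k ≠ 0)
  have e : A = algebraMap ℚ ℂ (-1 / k) := by
    rw [map_div₀, map_neg, map_one, map_natCast, eq_div_iff hk0]
    linear_combination h
  rw [e, isIntegral_algebraMap_iff (algebraMap ℚ ℂ).injective] at hA
  obtain ⟨z, hz⟩ := (IsIntegrallyClosed.isIntegral_iff (R := ℤ) (K := ℚ)).1 hA
  have hz' : ((z : ℤ) : ℚ) * k = -1 := by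
    rw [show ((z : ℤ) : ℚ) = (-1 / k : ℚ) from hz, div_mul_cancel₀]
    exact_mod_cast (by omega : k ≠ 0)
  have hz'' : z * (k : ℤ) = -1 := by exact_mod_cast hz'
  have : (k : ℤ) ∣ 1 := ⟨-z, by linarith⟩
  have := Int.natCast_dvd_natCast.1 (by exact_mod_cast this : ((k : ℕ) : ℤ) ∣ ((1 : ℕ) : ℤ))
  exact absurd (Nat.le_of_dvd one_pos this) (by omega)

/-- A degree containing the full `r`-part kills the `r`-singular elements. -/
theorem vanish (χ : Cfsg.IrrCharacter G) {r : ℕ} (hr : r.Prime)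
    (hd : r ^ (Nat.card G).factorization r ∣ Cfsg.charDegree (χ : G → ℂ)) {g : G}
    (hg : r ∣ orderOf g) : (χ : G → ℂ) g = 0 := by
  obtain ⟨m, ρ, hirr, hρ⟩ := χ.2
  haveI := hirr
  rw [← hρ]
  refine Cfsg.Agent.S0165.result ρ r _ hr (Nat.ordProj_dvd _ _)
    (Nat.pow_succ_factorization_not_dvd Nat.card_pos.ne' hr) ?_ g hg
  have e : Cfsg.charDegree (χ : G → ℂ) = Module.finrank ℂ (Fin m → ℂ) := by
    apply Nat.cast_injective (R := ℂ)
    rw [deg_cast, ← hρ, Representation.char_one]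
  rwa [e] at hd

/-- Column orthogonality with the identity leaves a unit equation. -/
theorem column_false {g : G} (hg : g ≠ 1) {k : ℕ} (hk : 2 ≤ k)
    (h1 : ∀ χ : Cfsg.IrrCharacter G, Cfsg.charDegree (χ : G → ℂ) = 1 → χ = oneChar G)
    (h : ∀ χ : Cfsg.IrrCharacter G, χ ≠ oneChar G →
      (χ : G → ℂ) g = 0 ∨ k ∣ Cfsg.charDegree (χ : G → ℂ)) : False := by
  classical
  cases nonempty_fintype G
  have hs := sum_deg_mul g hg
  rw [← Finset.add_sum_erase _ _ (Finset.mem_univ (oneChar G))] at hs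
  have e1 : (Cfsg.charDegree (oneChar G : G → ℂ) : ℂ) * (oneChar G : G → ℂ) g = 1 := by
    rw [deg_oneChar, Nat.cast_one, one_mul]; rfl
  rw [e1] at hs
  let A : Cfsg.IrrCharacter G → ℂ := fun χ =>
    if k ∣ Cfsg.charDegree (χ : G → ℂ) then
      ((Cfsg.charDegree (χ : G → ℂ) / k : ℕ) : ℂ) * (χ : G → ℂ) g else 0
  have hA : ∀ χ ∈ (Finset.univ.erase (oneChar G)),
      (Cfsg.charDegree (χ : G → ℂ) : ℂ) * (χ : G → ℂ) g = (k : ℂ) * A χ := by
    intro χ hχ
    simp only [A]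
    split_ifs with hd
    · rw [← mul_assoc, ← Nat.cast_mul, Nat.mul_div_cancel' hd]
    · rw [(h χ (Finset.ne_of_mem_erase hχ)).resolve_right hd, mul_zero, mul_zero]
  rw [Finset.sum_congr rfl hA, ← Finset.mul_sum] at hs
  refine one_add_mul_ne_zero hk (IsIntegral.sum _ fun χ _ => ?_) hs
  simp only [A]
  split_ifs
  · refine IsIntegral.mul ?_ (IsCharacter.isIntegral (isCharacter_irr χ) g)
    rw [← map_natCast (algebraMap ℤ ℂ)]
    exact isIntegral_algebraMap
  · exact isIntegral_zero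

end col

end CfsgLib.PGroup.PSL2Column
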