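import Cfsg.Agent.S0674
import Cfsg.Agent.S0675
import Cfsg.Agent.Lib.Perm.PrimeDegree
import Cfsg.Agent.Lib.Perm.PermRep

/-!
# Groups of prime degree whose Sylow normaliser has index two in the affine group

Neumann's argument: an invariant coefficient function on triples is determined by two numbers.
-/

set_option autoImplicit false
set_option linter.unusedSectionVars false
set_option linter.style.haveILetI false

namespace CfsgLib.PGroup.PrimeHalfNormaliser

open MulAction CfsgLib.Perm

variable {G Ω : Type*} [Group G] [Finite G] [MulAction G Ω] [FaithfulSMul G Ω] [Finite Ω]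
  {p : ℕ} [hp : Fact p.Prime]

/-- Coordinates in which the translations and the square multipliers belong to the group. -/
structure Coord (G Ω : Type*) [Group G] [MulAction G Ω] (p : ℕ) where
  e : Ω ≃ ZMod p
  s : G
  hs : ∀ x, e (s • x) = e x + 1
  sq : ∀ c : (ZMod p)ˣ, ∃ t : G, ∀ x, e (t • x) = (c : ZMod p) ^ 2 * e x

theorem exists_coord (hΩ : Nat.card Ω = p) [IsPretransitive G Ω] (P : Sylow p G)
    (hN : 2 * Nat.card ↥(Subgroup.normalizer ((P : Subgroup G) : Set G)) = p * (p - 1)) :
    Nonempty (Coord G Ω p) := by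
  classical
  have hp' : p.Prime := Fact.out
  let φ := MulAction.toPermHom G Ω
  have hφ : Function.Injective φ := MulAction.toPerm_injective
  haveI : IsPretransitive φ.range Ω := ⟨fun x y => by
    obtain ⟨g, hg⟩ := exists_smul_eq G x y
    exact ⟨⟨φ g, g, rfl⟩, hg⟩⟩
  obtain ⟨a⟩ : Nonempty Ω := (Nat.card_pos_iff.1 (hΩ ▸ hp'.pos)).1
  obtain ⟨s', e, hs', ha, hes⟩ := CfsgLib.Perm.PrimeDegree.exists_coord hΩ φ.range a
  obtain ⟨s, hs⟩ := s'.2
  have hsx : ∀ x, e (s • x) = e x + 1 := fun x => by
    have h : s • x = s' • x := by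
      show φ s x = (s' : Equiv.Perm Ω) x
      rw [hs]
    rw [h, hes]
  have hso : orderOf s = p := by
    rw [← orderOf_injective φ hφ, hs, Subgroup.orderOf_coe, hs']
  have hsn : ∀ (n : ℕ) (x : Ω), e (s ^ n • x) = e x + n := fun n => by
    induction n with
    | zero => simp
    | succ n ih => intro x; rw [pow_succ', mul_smul, hsx, ih]; push_cast; ring
  obtain ⟨Q, hQ⟩ : ∃ Q : Sylow p G, (Q : Subgroup G) = Subgroup.zpowers s := by
    have hcard : Nat.card (Subgroup.zpowers s) = p := by rw [Nat.card_zpowers, hso]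
    obtain ⟨Q, hQ⟩ := (IsPGroup.of_card (n := 1) (hcard.trans (pow_one p).symm) :
      IsPGroup p (Subgroup.zpowers s)).exists_le_sylow
    refine ⟨Q, (Subgroup.eq_of_le_of_card_ge hQ ?_).symm⟩
    rw [hcard, Q.card_eq_multiplicity]
    have hd : Nat.card G ∣ p.factorial := by
      rw [← hΩ, ← Nat.card_perm, Nat.card_congr (MonoidHom.ofInjective hφ).toEquiv]
      exact Subgroup.card_subgroup_dvd_card _
    have : (Nat.card G).factorization p ≤ 1 := by
      by_contra hlt
      have h3 : p ^ 2 ∣ p.factorial :=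
        ((pow_dvd_pow p (by omega : 2 ≤ (Nat.card G).factorization p)).trans
          (Nat.ordProj_dvd _ _)).trans hd
      rw [← Nat.mul_factorial_pred hp'.ne_zero, pow_two] at h3
      have h4 := Nat.dvd_of_mul_dvd_mul_left hp'.pos h3
      rw [hp'.dvd_factorial] at h4
      have := hp'.two_le
      omega
    calc p ^ (Nat.card G).factorization p ≤ p ^ 1 := Nat.pow_le_pow_right hp'.pos this
      _ = p := pow_one p
  set N := Subgroup.normalizer ((Q : Subgroup G) : Set G) with hNdef
  have hNc : 2 * Nat.card N = p * (p - 1) := by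
    rw [← hN]
    congr 1
    have h1 : N.index = (Subgroup.normalizer ((P : Subgroup G) : Set G)).index :=
      (Q.card_eq_index_normalizer).symm.trans P.card_eq_index_normalizer
    have h2 := N.card_mul_index
    have h3 := (Subgroup.normalizer ((P : Subgroup G) : Set G)).card_mul_index
    rw [h1] at h2
    exact Nat.eq_of_mul_eq_mul_right (Nat.pos_of_ne_zero Subgroup.index_ne_zero_of_finite) (h2.trans h3.symm)
  set x₀ := e.symm 0
  have haff : ∀ t : N, ∃ c : ZMod p, ∀ x, e ((t : G) • x) = c * e x + e ((t : G) • x₀) := by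
    intro t
    have hmem : (t : G) * s * (t : G)⁻¹ ∈ (Q : Subgroup G) :=
      (Subgroup.mem_normalizer_iff.1 t.2 s).1 (hQ ▸ Subgroup.mem_zpowers s)
    rw [hQ] at hmem
    obtain ⟨c, hc⟩ := mem_powers_iff_mem_zpowers.2 hmem
    replace hc : s ^ c = (t : G) * s * (t : G)⁻¹ := hc
    refine ⟨c, fun x => ?_⟩
    have hx : x = s ^ (e x).val • x₀ := e.injective (by
      rw [hsn, e.apply_symm_apply, zero_add, ZMod.natCast_zmod_val])
    have key : (t : G) • x = s ^ (c * (e x).val) • (t : G) • x₀ := by
      rw [pow_mul, hc, conj_pow, mul_smul, mul_smul, inv_smul_smul, ← hx]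
    rw [key, hsn, Nat.cast_mul, ZMod.natCast_zmod_val, add_comm]
  choose A hA using haff
  have hA' : ∀ (t : N) (c b : ZMod p), (∀ x, e ((t : G) • x) = c * e x + b) → A t = c := by
    intro t c b h
    have h0 := (hA t x₀).symm.trans (h x₀)
    have h1 := (hA t (e.symm 1)).symm.trans (h (e.symm 1))
    simp only [x₀, Equiv.apply_symm_apply, mul_zero, zero_add, mul_one] at h0 h1
    rw [h0] at h1
    exact add_right_cancel h1
  let f : N →* ZMod p :=
    { toFun := A
      map_one' := hA' 1 1 0 fun x => by simp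
      map_mul' := fun t t' => hA' _ _ (A t * e ((t' : G) • x₀) + e ((t : G) • x₀)) fun x => by
        rw [Subgroup.coe_mul, mul_smul, hA, hA]; ring }
  have hker : Nat.card f.toHomUnits.ker ≤ p := by
    refine le_trans (Nat.card_le_card_of_injective
      (fun t => (⟨s ^ (e ((((t : f.toHomUnits.ker) : N) : G) • x₀)).val, ⟨_, zpow_natCast s _⟩⟩ : Subgroup.zpowers s)) ?_)
      (by rw [Nat.card_zpowers, hso])
    intro t t' h
    have ht : ∀ u : f.toHomUnits.ker, (((u : N)) : G) = s ^ (e (((u : N) : G) • x₀)).val := by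
      intro u
      refine FaithfulSMul.eq_of_smul_eq_smul (α := Ω) fun x => e.injective ?_
      have h1 : A (u : N) = 1 := congrArg Units.val (MonoidHom.mem_ker.1 u.2)
      rw [hA (u : N) x, h1, hsn, ZMod.natCast_zmod_val, one_mul]
    refine Subtype.ext (Subtype.ext ?_)
    rw [ht t, ht t']
    exact congrArg Subtype.val h
  have hidx : f.toHomUnits.range.index ≤ 2 := by
    have h1 := f.toHomUnits.ker.index_mul_card
    rw [Subgroup.index_ker] at h1
    have h2 := f.toHomUnits.range.card_mul_index
    rw [Nat.card_eq_fintype_card (α := (ZMod p)ˣ), ZMod.card_units] at h2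
    have h4 : p * (p - 1) ≤ p * (2 * Nat.card f.toHomUnits.range) := by
      rw [← hNc, ← h1]
      calc 2 * (Nat.card f.toHomUnits.range * Nat.card f.toHomUnits.ker)
          ≤ 2 * (Nat.card f.toHomUnits.range * p) := Nat.mul_le_mul_left _ (Nat.mul_le_mul_left _ hker)
        _ = _ := by ring
    rw [← h2] at h4
    have h5 := Nat.le_of_mul_le_mul_left h4 hp'.pos
    rw [mul_comm 2] at h5
    exact Nat.le_of_mul_le_mul_left h5 Nat.card_pos
  refine ⟨⟨e, s, hsx, fun c => ?_⟩⟩
  have hc2 : c ^ 2 ∈ f.toHomUnits.range := by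
    have := Subgroup.index_ne_zero_of_finite (H := f.toHomUnits.range)
    rcases (show f.toHomUnits.range.index = 1 ∨ f.toHomUnits.range.index = 2 by omega) with h | h
    · rw [Subgroup.index_eq_one.1 h]; trivial
    · exact Subgroup.sq_mem_of_index_two h c
  obtain ⟨t, ht⟩ := hc2
  have hAt : A t = (c : ZMod p) ^ 2 := by
    rw [← Units.val_pow_eq_pow_val, ← ht]; rfl
  refine ⟨s ^ (- e ((t : G) • x₀)).val * (t : G), fun x => ?_⟩
  rw [mul_smul, hsn, ZMod.natCast_zmod_val, hA, hAt]
  ring

section kernel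

variable [Fintype Ω] (C : Coord G Ω p) (c : Ω → Ω → Ω → ZMod p)

/-- The value of the coefficient function on the coordinate. -/
def value (x y : Ω) : ZMod p := ∑ z, c x y z * C.e z

theorem value_translate (hc : ∀ (g : G) (x y z : Ω), c (g • x) (g • y) (g • z) = c x y z)
    {x y : Ω} (hz : ∑ z, c x y z = 0) (g : G) (a b : ZMod p) (hg : ∀ z, C.e (g • z) = a * C.e z + b) :
    value C c (g • x) (g • y) = a * value C c x y := by
  rw [value, value, Finset.mul_sum]
  calc ∑ z, c (g • x) (g • y) z * C.e z = ∑ z, c x y z * (a * C.e z + b) := by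
        refine (Fintype.sum_equiv (MulAction.toPerm g) _ _ fun z => ?_).symm
        simp only [MulAction.toPerm_apply, hc, hg]
    _ = _ := by
        simp only [mul_add, Finset.sum_add_distrib]
        rw [← Finset.sum_mul, hz, zero_mul, add_zero]
        exact Finset.sum_congr rfl fun z _ => by ring

variable {C c}

theorem pow_translate (n : ℕ) (z : Ω) : C.e (C.s ^ n • z) = C.e z + n := by
  induction n with
  | zero => simp
  | succ n ih => rw [pow_succ', mul_smul, C.hs, ih]; push_cast; ring

/-- Two numbers decide whether all values vanish. -/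
theorem value_eq_zero (hc : ∀ (g : G) (x y z : Ω), c (g • x) (g • y) (g • z) = c x y z)
    (hsum : ∀ x y, x ≠ y → ∑ z, c x y z = 0) {ν : ZMod p} (hν : ¬ IsSquare ν)
    (h1 : value C c (C.e.symm 0) (C.e.symm 1) = 0) (h2 : value C c (C.e.symm 0) (C.e.symm ν) = 0)
    {x y : Ω} (hxy : x ≠ y) : value C c x y = 0 := by
  have hν0 : ν ≠ 0 := fun h => hν (h ▸ ⟨0, (mul_zero _).symm⟩)
  have hd : C.e y - C.e x ≠ 0 := sub_ne_zero.2 fun h => hxy (C.e.injective h).symm
  obtain ⟨w, r, hw, hr, hw0⟩ : ∃ w r : ZMod p,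
      value C c (C.e.symm 0) (C.e.symm w) = 0 ∧ r ^ 2 * w = C.e y - C.e x ∧ w ≠ 0 := by
    by_cases hs : IsSquare (C.e y - C.e x)
    · obtain ⟨r, hr⟩ := hs
      exact ⟨1, r, h1, by rw [mul_one, sq, hr], one_ne_zero⟩
    · obtain ⟨r, hr⟩ : IsSquare ((C.e y - C.e x) * ν⁻¹) := by
        have hF : ringChar (ZMod p) ≠ 2 := fun h2 =>
          hν (FiniteField.isSquare_of_char_two h2 ν)
        have h1' := (quadraticChar_neg_one_iff_not_isSquare (F := ZMod p)).2 hs
        have h2' := (quadraticChar_neg_one_iff_not_isSquare (F := ZMod p)).2 hν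
        refine (quadraticChar_one_iff_isSquare (mul_ne_zero hd (inv_ne_zero hν0))).1 ?_
        have h3 : quadraticChar (ZMod p) ν⁻¹ = -1 := by
          rw [quadraticChar_neg_one_iff_not_isSquare]
          exact fun h => hν (by simpa using h.inv)
        rw [map_mul, h1', h3]; norm_num
      exact ⟨ν, r, h2, by rw [sq, ← hr, inv_mul_cancel_right₀ hν0], hν0⟩
  have hr0 : r ≠ 0 := fun h => hd (by rw [← hr, h]; ring)
  obtain ⟨t, ht⟩ := C.sq (Units.mk0 r hr0)
  let g := C.s ^ (C.e x).val * t
  have hg : ∀ z, C.e (g • z) = r ^ 2 * C.e z + C.e x := fun z => by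
    rw [mul_smul, pow_translate, ZMod.natCast_zmod_val, ht, Units.val_mk0]
  have hne : C.e.symm 0 ≠ C.e.symm w := fun h => hw0 (C.e.symm.injective h).symm
  have := value_translate C c hc (hsum _ _ hne) g (r ^ 2) (C.e x) hg
  rw [hw, mul_zero] at this
  rwa [show g • C.e.symm 0 = x from C.e.injective (by rw [hg, C.e.apply_symm_apply]; ring),
    show g • C.e.symm w = y from C.e.injective (by rw [hg, C.e.apply_symm_apply, hr]; ring)] at this

/-- An invariant coefficient function with vanishing values is constant in its last variable. -/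
theorem const_of_value (hΩ : Nat.card Ω = p) [IsPretransitive G Ω] (hins : ¬ Group.IsSolvable G)
    (hc : ∀ (g : G) (x y z : Ω), c (g • x) (g • y) (g • z) = c x y z)
    (hsum : ∀ x y, x ≠ y → ∑ z, c x y z = 0) (hval : ∀ x y, x ≠ y → value C c x y = 0)
    {x y : Ω} (hxy : x ≠ y) (z z' : Ω) : c x y z = c x y z' := by
  classical
  have hp' : p.Prime := Fact.out
  have hp2 : 2 < p := by
    by_contra h
    apply hins
    have := CfsgLib.Perm.PrimeDegree.isSolvable_of_le_three (p := p) hΩ (by omega)
      (MulAction.toPermHom G Ω).range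
    exact Group.isSolvable_of_isSolvable_injective
      (f := (MulAction.toPermHom G Ω).rangeRestrict) fun a b h =>
        MulAction.toPerm_injective (congrArg Subtype.val h)
  let φ := MulAction.toPermHom G Ω
  haveI : IsPretransitive φ.range Ω := ⟨fun x y => by
    obtain ⟨g, hg⟩ := exists_smul_eq G x y
    exact ⟨⟨φ g, g, rfl⟩, hg⟩⟩
  have hins' : ¬ Group.IsSolvable φ.range := fun h => hins
    (Group.isSolvable_of_isSolvable_injective (f := φ.rangeRestrict) fun a b h =>
      MulAction.toPerm_injective (congrArg Subtype.val h))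
  let W : Subrepresentation (Cfsg.permRep (ZMod p) φ.range Ω) :=
    { toSubmodule :=
        { carrier := {v | ∑ z, v z = 0 ∧ ∀ x y, x ≠ y → ∑ z, c x y z * v z = 0}
          zero_mem' := ⟨by simp, fun x y _ => by simp⟩
          add_mem' := fun {v w} hv hw => ⟨by simp [Finset.sum_add_distrib, hv.1, hw.1], fun x y h => by
            simp [mul_add, Finset.sum_add_distrib, hv.2 x y h, hw.2 x y h]⟩
          smul_mem' := fun a v hv => ⟨by simp [← Finset.mul_sum, hv.1], fun x y h => by
            simp only [Pi.smul_apply, smul_eq_mul, mul_left_comm _ a]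
            rw [← Finset.mul_sum, hv.2 x y h, mul_zero]⟩ }
      apply_mem_toSubmodule := fun g v hv => by
        obtain ⟨_, g, rfl⟩ := g
        have happ : ∀ z, Cfsg.permRep (ZMod p) φ.range Ω ⟨φ g, g, rfl⟩ v z = v (g⁻¹ • z) := fun z => by
          rw [PermRep.permRep_apply]
          congr 1
        refine ⟨?_, fun x y hxy => ?_⟩
        · simp only [happ]
          exact (Fintype.sum_equiv (MulAction.toPerm g⁻¹) _ _ fun z => rfl).trans hv.1
        · simp only [happ]
          refine ((Fintype.sum_equiv (MulAction.toPerm g) _ _ fun z => ?_).symm).trans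
            (hv.2 (g⁻¹ • x) (g⁻¹ • y) fun h => hxy (MulAction.injective _ h))
          simp only [MulAction.toPerm_apply, inv_smul_smul]
          rw [← hc g, smul_inv_smul, smul_inv_smul] }
  have hcard : Fintype.card Ω = p := by rw [← Nat.card_eq_fintype_card, hΩ]
  have hone : (fun _ => (1 : ZMod p)) ∈ W.toSubmodule :=
    ⟨by simp [hcard], fun x y h => by simp [hsum x y h]⟩
  have hX : (fun z => C.e z) ∈ W.toSubmodule := by
    refine ⟨?_, hval⟩
    have := CfsgLib.Perm.PrimeDegree.sum_pow_eq_zero (p := p) (K := ZMod p) (k := 1) (by omega)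
    simp only [pow_one, ZMod.cast_id] at this
    exact (Fintype.sum_equiv C.e _ _ fun z => rfl).trans this
  rcases Cfsg.Agent.S0674.result hcard φ.range hins' W (fun v hv => by
      obtain ⟨a, rfl⟩ := PermRep.mem_permConstants.1 hv
      have := W.toSubmodule.smul_mem a hone
      simpa [Pi.smul_def] using this)
      (fun v hv => PermRep.mem_permSumZero.2 hv.1) with h | h
  · exfalso
    rw [h] at hX
    obtain ⟨a, ha⟩ := PermRep.mem_permConstants.1 hX
    have h0 := congrFun ha (C.e.symm 0)
    have h1 := congrFun ha (C.e.symm 1)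
    simp only [Equiv.apply_symm_apply] at h0 h1
    exact one_ne_zero (h1.trans h0.symm)
  · by_cases hzz : z = z'
    · rw [hzz]
    have hv : (Pi.single z 1 - Pi.single z' 1 : Ω → ZMod p) ∈ W.toSubmodule := by
      rw [h, PermRep.mem_permSumZero]
      simp [Finset.sum_sub_distrib]
    have := hv.2 x y hxy
    simp [mul_sub, Finset.sum_sub_distrib, Pi.single_apply] at this
    exact sub_eq_zero.1 this

end kernel

/-- Burnside's alternative for an abstract action. -/
theorem two_transitive (hΩ : Nat.card Ω = p) [IsPretransitive G Ω] (hins : ¬ Group.IsSolvable G) :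
    IsMultiplyPretransitive G Ω 2 := by
  classical
  letI := Fintype.ofFinite Ω
  let φ := MulAction.toPermHom G Ω
  haveI : IsPretransitive φ.range Ω := ⟨fun x y => by
    obtain ⟨g, hg⟩ := exists_smul_eq G x y
    exact ⟨⟨φ g, g, rfl⟩, hg⟩⟩
  rcases Cfsg.Agent.S0675.result (α := Ω) (by rw [← Nat.card_eq_fintype_card, hΩ]; exact hp.out) φ.range with h | h
  · exact absurd (Group.isSolvable_of_isSolvable_injective (f := φ.rangeRestrict) fun a b h =>
      MulAction.toPerm_injective (congrArg Subtype.val h)) hins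
  · rw [MulAction.is_two_pretransitive_iff] at h ⊢
    intro a b c d hab hcd
    obtain ⟨⟨_, g, rfl⟩, h1, h2⟩ := h hab hcd
    exact ⟨g, h1, h2⟩

/-- A two-point stabiliser has at most two orbits on the remaining points. -/
theorem at_most_two (hΩ : Nat.card Ω = p) [IsPretransitive G Ω] (hins : ¬ Group.IsSolvable G)
    (P : Sylow p G) (hN : 2 * Nat.card ↥(Subgroup.normalizer ((P : Subgroup G) : Set G)) = p * (p - 1))
    {α β : Ω} (hαβ : α ≠ β) (γ : Fin 3 → Ω) (hγα : ∀ i, γ i ≠ α) (hγβ : ∀ i, γ i ≠ β) :
    ∃ i j, i ≠ j ∧ ∃ g : G, g • α = α ∧ g • β = β ∧ g • γ i = γ j := by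
  classical
  letI := Fintype.ofFinite Ω
  have hp' : p.Prime := Fact.out
  obtain ⟨C⟩ := exists_coord hΩ P hN
  by_contra hno
  push Not at hno
  haveI : IsMultiplyPretransitive G Ω 2 := (two_transitive hΩ hins)
  have h2 : ∀ {a b c d : Ω}, a ≠ b → c ≠ d → ∃ g : G, g • a = c ∧ g • b = d :=
    fun {a b c d} hab hcd => (MulAction.is_two_pretransitive_iff.mp inferInstance) hab hcd
  have hp2 : p ≠ 2 := by
    intro h2p
    exact hγα 0 (by
      haveI : Fintype Ω := inferInstance
      by_contra hne
      have h3 : ({α, β, γ 0} : Finset Ω).card = 3 := by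
        rw [Finset.card_insert_of_notMem (by simp [hαβ, Ne.symm hne]), Finset.card_pair (hγβ 0).symm]
      have := Finset.card_le_univ ({α, β, γ 0} : Finset Ω)
      rw [h3, ← Nat.card_eq_fintype_card, hΩ] at this
      omega)
  obtain ⟨ν, hν⟩ := FiniteField.exists_nonsquare (F := ZMod p) (by rwa [ZMod.ringChar_zmod_n])
  let I : Fin 3 → Ω → Ω → Ω → ZMod p := fun i x y z =>
    if ∃ g : G, g • α = x ∧ g • β = y ∧ g • γ i = z then 1 else 0
  have hI : ∀ (i : Fin 3) (g : G) (x y z : Ω), I i (g • x) (g • y) (g • z) = I i x y z := fun i g x y z => by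
    simp only [I]
    refine if_congr ⟨?_, ?_⟩ rfl rfl
    · rintro ⟨k, h1, h2, h3⟩
      exact ⟨g⁻¹ * k, by rw [mul_smul, h1, inv_smul_smul], by rw [mul_smul, h2, inv_smul_smul],
        by rw [mul_smul, h3, inv_smul_smul]⟩
    · rintro ⟨k, h1, h2, h3⟩
      exact ⟨g * k, by rw [mul_smul, h1], by rw [mul_smul, h2], by rw [mul_smul, h3]⟩
  let cf : (Fin 4 → ZMod p) → Ω → Ω → Ω → ZMod p := fun l x y z =>
    (∑ i : Fin 3, l i.castSucc * I i x y z) + l 3 * if z = x then 1 else 0
  have hcinv : ∀ (l) (g : G) (x y z : Ω), cf l (g • x) (g • y) (g • z) = cf l x y z := fun l g x y z => by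
    simp only [cf, hI, MulAction.injective g |>.eq_iff]
  let L : (Fin 4 → ZMod p) →ₗ[ZMod p] (Fin 3 → ZMod p) :=
    { toFun := fun l => ![∑ z, cf l α β z, value C (cf l) (C.e.symm 0) (C.e.symm 1),
        value C (cf l) (C.e.symm 0) (C.e.symm ν)]
      map_add' := fun l m => by
        ext i; fin_cases i <;>
          simp [cf, value, add_mul, Finset.sum_add_distrib] <;> ring
      map_smul' := fun a l => by
        ext i; fin_cases i <;>
          simp [cf, value, mul_assoc, ← Finset.mul_sum, Finset.sum_add_distrib, mul_add, add_mul] }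
  obtain ⟨l, hl, hl0⟩ := Submodule.exists_mem_ne_zero_of_ne_bot
    (LinearMap.ker_ne_bot_of_finrank_lt (f := L) (by simp))
  have hl' : ∀ i, L l i = 0 := fun i => congrFun (LinearMap.mem_ker.1 hl) i
  have hsum : ∀ x y, x ≠ y → ∑ z, cf l x y z = 0 := by
    intro x y hxy
    obtain ⟨g, hgx, hgy⟩ := h2 hαβ hxy
    rw [← hl' 0]
    show _ = ∑ z, cf l α β z
    exact (Fintype.sum_equiv (MulAction.toPerm g) _ _ fun z => by
      simp only [MulAction.toPerm_apply, ← hgx, ← hgy, hcinv]).symm
  have hval : ∀ x y, x ≠ y → value C (cf l) x y = 0 := fun x y hxy =>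
    value_eq_zero (hcinv l) hsum hν (hl' 1) (hl' 2) hxy
  have hconst := fun z => const_of_value hΩ hins (hcinv l) hsum hval hαβ z β
  have hβ : cf l α β β = 0 := by
    simp only [cf]
    rw [if_neg (Ne.symm hαβ), mul_zero, add_zero]
    refine Finset.sum_eq_zero fun i _ => ?_
    simp only [I]
    rw [if_neg, mul_zero]
    rintro ⟨g, hga, hgb, hgc⟩
    exact hγβ i (MulAction.injective g (hgc.trans hgb.symm))
  apply hl0
  have h3 : l 3 = 0 := by
    have := (hconst α).trans hβ
    simp only [cf] at this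
    rw [if_true, mul_one, Finset.sum_eq_zero, zero_add] at this
    · exact this
    · intro i _
      simp only [I]
      rw [if_neg, mul_zero]
      rintro ⟨g, hga, hgb, hgc⟩
      exact hγα i (MulAction.injective g (hgc.trans hga.symm))
  have hi : ∀ i : Fin 3, l i.castSucc = 0 := by
    intro i
    have := (hconst (γ i)).trans hβ
    simp only [cf] at this
    rw [h3, zero_mul, add_zero, Finset.sum_eq_single i] at this
    · simp only [I] at this
      rwa [if_pos ⟨1, one_smul G α, one_smul G β, one_smul G (γ i)⟩, mul_one] at this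
    · intro j _ hji
      simp only [I]
      rw [if_neg, mul_zero]
      rintro ⟨g, hga, hgb, hgc⟩
      exact hno j i hji g hga hgb hgc
    · exact fun h => absurd (Finset.mem_univ i) h
  funext i
  fin_cases i
  · exact hi 0
  · exact hi 1
  · exact hi 2
  · exact h3

end CfsgLib.PGroup.PrimeHalfNormaliser
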