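import Cfsg.Agent.S0676
import Cfsg.Agent.S0989
import Cfsg.Agent.S2508
import Cfsg.Agent.S3612
import Cfsg.Agent.Lib.Perm.PrimeDegreeDihedralNormalizer
import Cfsg.Agent.Lib.PGroup.PSL2Column
import Cfsg.Agent.Lib.PGroup.DihedralSRG

/-!
# Groups of even permutations properly containing `PSL(2, p)` on the projective line
-/

set_option autoImplicit false
set_option linter.unusedSectionVars false
set_option linter.style.haveILetI false

open scoped Classical Pointwise
open MulAction Finset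

namespace CfsgLib.PGroup.PSL2OverLine

open CfsgLib.PGroup.PrimeHalfNormaliser

/-- Normalisers of Sylow subgroups correspond under an injective map onto a group. -/
theorem card_normalizer_of_equiv {G H : Type*} [Group G] [Finite G] [Group H] [Finite H] {p : ℕ} [Fact p.Prime]
    (e : G ≃* H) (P : Sylow p G) (Q : Sylow p H) :
    Nat.card (Subgroup.normalizer ((Q : Subgroup H) : Set H)) =
      Nat.card (Subgroup.normalizer ((P : Subgroup G) : Set G)) := by
  have h1 := (Subgroup.normalizer ((P : Subgroup G) : Set G)).card_mul_index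
  have h2 := (Subgroup.normalizer ((Q : Subgroup H) : Set H)).card_mul_index
  have h7 : Nat.card (Sylow p G) = Nat.card (Sylow p H) :=
    Nat.card_congr (Equiv.ofBijective (fun S => S.mapSurjective (f := e.toMonoidHom) e.surjective)
      ⟨fun S S' h => Sylow.ext (Subgroup.map_injective e.injective (congrArg Sylow.toSubgroup h)),
        Sylow.mapSurjective_surjective e.surjective p⟩)
  rw [show (Subgroup.normalizer ((P : Subgroup G) : Set G)).index = Nat.card (Sylow p G) from
    P.card_eq_index_normalizer.symm] at h1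
  rw [show (Subgroup.normalizer ((Q : Subgroup H) : Set H)).index = Nat.card (Sylow p G) from
    Q.card_eq_index_normalizer.symm.trans h7.symm] at h2
  exact Nat.eq_of_mul_eq_mul_right Nat.card_pos (h2.trans ((Nat.card_congr e.toEquiv).symm.trans h1.symm))

variable {X Ω : Type*} [Group X] [Finite X] [MulAction X Ω] [FaithfulSMul X Ω] [Fintype Ω]
  {p : ℕ} [hp : Fact p.Prime]

instance faithful_ofStabilizer (o : Ω) : FaithfulSMul (stabilizer X o) (SubMulAction.ofStabilizer X o) :=
  ⟨fun {g h} hgh => Subtype.ext (FaithfulSMul.eq_of_smul_eq_smul (α := Ω) fun a => by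
    by_cases ha : a = o
    · rw [ha, mem_stabilizer_iff.1 g.2, mem_stabilizer_iff.1 h.2]
    · exact congrArg Subtype.val (hgh ⟨a, ha⟩))⟩

theorem card_ofStabilizer (hΩ : Fintype.card Ω = p + 1) (o : Ω) :
    Nat.card (SubMulAction.ofStabilizer X o) = p := by
  have h : ((SubMulAction.ofStabilizer X o : SubMulAction (stabilizer X o) Ω) : Set Ω) = ({o}ᶜ : Set Ω) :=
    SubMulAction.ofStabilizer_carrier X o
  show Nat.card ↥((SubMulAction.ofStabilizer X o : SubMulAction (stabilizer X o) Ω) : Set Ω) = p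
  rw [Nat.card_coe_set_eq, h, Set.ncard_compl, Set.ncard_singleton, Nat.card_eq_fintype_card, hΩ]
  omega

theorem card_psl (hp2 : p ≠ 2) (L : Subgroup X)
    (hL : Nonempty (L ≃* Matrix.ProjectiveSpecialLinearGroup (Fin 2) (ZMod p))) :
    2 * Nat.card L = p * ((p - 1) * (p + 1)) := by
  obtain ⟨e⟩ := hL
  rw [Nat.card_congr e.toEquiv]
  have := CfsgLib.PGroup.PSL2Column.card_psl_odd (F := ZMod p) (by rw [ZMod.card]; exact hp.out.odd_of_ne_two hp2)
  rwa [ZMod.card] at this

/-- An element of odd order dividing `(p - 1) / 2` of `PSL(2, p)` commutes with no involution. -/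
theorem no_commuting (hp7 : 7 < p) (L : Subgroup X)
    (hL : Nonempty (L ≃* Matrix.ProjectiveSpecialLinearGroup (Fin 2) (ZMod p)))
    (hcl : ∀ c ∈ L, (∀ g ∈ L, g * c = c * g) → c = 1) {m : ℕ} (hm : p = 2 * m + 1) (hodd : Odd m) {c w : X}
    (hc : c ∈ L) (hw : w ∈ L) (hcm : c ^ m = 1) (hw2 : orderOf w = 2) (hcw : w * c = c * w) : c = 1 := by
  have hp' : p.Prime := hp.out
  have hcard := card_psl (by omega) L hL
  obtain ⟨e⟩ := hL
  by_contra hc1
  set C := Subgroup.centralizer ({e ⟨c, hc⟩} : Set (Matrix.ProjectiveSpecialLinearGroup (Fin 2) (ZMod p))) with hC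
  have hd1 : orderOf c ∣ Nat.card C := by
    have h := orderOf_dvd_natCard (⟨e ⟨c, hc⟩, Subgroup.mem_centralizer_singleton_iff.2 rfl⟩ : C)
    rwa [Subgroup.orderOf_mk, MulEquiv.orderOf_eq, Subgroup.orderOf_mk] at h
  have hd2 : 2 ∣ Nat.card C := by
    have h := orderOf_dvd_natCard (⟨e ⟨w, hw⟩, Subgroup.mem_centralizer_singleton_iff.2 (by
      rw [← map_mul, ← map_mul]; exact congrArg e (Subtype.ext hcw))⟩ : C)
    rwa [Subgroup.orderOf_mk, MulEquiv.orderOf_eq, Subgroup.orderOf_mk, hw2] at h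
  have hne : C.index ≠ 1 := fun h => hc1 (hcl c hc fun g hg => by
    have h2 : e ⟨g, hg⟩ ∈ C := by rw [Subgroup.index_eq_one.1 h]; trivial
    have h3 := Subgroup.mem_centralizer_singleton_iff.1 h2
    rw [← map_mul, ← map_mul] at h3
    exact congrArg Subtype.val (e.injective h3))
  have hmem : C.index ∈ Set.range (fun g : Matrix.ProjectiveSpecialLinearGroup (Fin 2) (ZMod p) =>
      (Subgroup.centralizer ({g} : Set (Matrix.ProjectiveSpecialLinearGroup (Fin 2) (ZMod p)))).index) := ⟨_, rfl⟩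
  obtain ⟨k, hk⟩ := hodd
  rw [(Cfsg.Agent.S2508.result (F := ZMod p) (by rw [ZMod.card]; omega) (by rw [ZMod.card]; omega)).2
    (by rw [ZMod.card]; omega), ZMod.card] at hmem
  simp only [Set.mem_insert_iff, Set.mem_singleton_iff] at hmem
  have hmul := C.card_mul_index
  rw [← Nat.card_congr e.toEquiv] at hmul
  have hdm : orderOf c ∣ m := orderOf_dvd_of_pow_eq_one hcm
  have hord : orderOf c ≠ 1 := fun h => hc1 (orderOf_eq_one_iff.1 h)
  have e1 : (p - 1) * (p + 1) = 2 * (2 * (m * (m + 1))) := by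
    rw [show p - 1 = 2 * m by omega, hm]; ring
  have e2 : (p ^ 2 - 1) / 2 = 2 * (m * (m + 1)) := by
    rw [show p ^ 2 - 1 = (p - 1) * (p + 1) by rw [mul_comm, ← Nat.sq_sub_sq, one_pow], e1]; omega
  have e3 : p * (p - 1) / 2 = p * m := by rw [show p * (p - 1) = p * m * 2 by rw [show p - 1 = m * 2 by omega]; ring]; omega
  rw [e1] at hcard
  rw [e2, e3] at hmem
  have hL' : Nat.card L = p * (2 * (m * (m + 1))) := by
    have : 2 * Nat.card L = 2 * (p * (2 * (m * (m + 1)))) := by rw [hcard]; ring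
    omega
  rw [hL'] at hmul
  have hgcd : ∀ d : ℕ, d ∣ m → d ∣ 2 * (m + 1) → Odd d → d = 1 := fun d h1 h2 h3 => by
    have h4 : d ∣ 2 * m + 2 := by rwa [mul_add, mul_one] at h2
    have h5 : d ∣ 2 := (Nat.dvd_add_right (h1.mul_left 2)).1 h4
    rcases (Nat.dvd_prime Nat.prime_two).1 h5 with h | h
    · exact h
    · rw [h] at h3; exact absurd h3 (by decide)
  have hdodd : Odd (orderOf c) := Odd.of_dvd_nat ⟨k, hk⟩ hdm
  have hcancel : ∀ x y : ℕ, x * C.index = y * C.index → x = y := fun x y h =>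
    Nat.eq_of_mul_eq_mul_right (Nat.pos_of_ne_zero Subgroup.index_ne_zero_of_finite) h
  rcases hmem with h | h | h | h | h
  · exact hne h
  · have := hcancel _ p (hmul.trans (by rw [h]))
    rw [this] at hd2
    obtain ⟨v, hv⟩ := hd2; omega
  · have := hcancel _ (2 * (m + 1)) (hmul.trans (by rw [h]; ring))
    rw [this] at hd1
    exact hord (hgcd _ hdm hd1 hdodd)
  · have := hcancel _ m (hmul.trans (by rw [h, show p + 1 = 2 * (m + 1) by omega]; ring))
    rw [this] at hd2
    obtain ⟨v, hv⟩ := hd2; omega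
  · have := hcancel _ (m + 1) (hmul.trans (by rw [h, show p - 1 = 2 * m by omega]; ring))
    rw [this] at hd1
    exact hord (hgcd _ hdm (hd1.mul_left 2) hdodd)

theorem four_transitive (hp7 : 7 < p) (hΩ : Fintype.card Ω = p + 1)
    (heven : ∀ x : X, Equiv.Perm.sign (MulAction.toPerm x : Equiv.Perm Ω) = 1) (L : Subgroup X)
    (hL : Nonempty (L ≃* Matrix.ProjectiveSpecialLinearGroup (Fin 2) (ZMod p)))
    (hLt : IsMultiplyPretransitive L Ω 2) (hLX : L ≠ ⊤) : IsMultiplyPretransitive X Ω 4 := by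
  have hp' : p.Prime := hp.out
  have hodd : Odd p := hp'.odd_of_ne_two (by omega)
  obtain ⟨m, hm⟩ := hodd
  have hL2 : ∀ {a b c d : Ω}, a ≠ b → c ≠ d → ∃ g ∈ L, g • a = c ∧ g • b = d := fun {a b c d} hab hcd => by
    obtain ⟨g, h1, h2⟩ := (MulAction.is_two_pretransitive_iff.mp hLt) hab hcd
    exact ⟨g, g.2, h1, h2⟩
  haveI : Nontrivial Ω := Fintype.one_lt_card_iff_nontrivial.1 (by omega)
  haveI : IsPretransitive X Ω := ⟨fun a b => by
    by_cases hab : a = b
    · exact ⟨1, by rw [one_smul, hab]⟩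
    · obtain ⟨g, -, h, -⟩ := hL2 hab (Ne.symm hab)
      exact ⟨g, h⟩⟩
  obtain ⟨o⟩ : Nonempty Ω := inferInstance
  rw [show (4 : ℕ) = (3 : ℕ).succ from rfl, SubMulAction.ofStabilizer.isMultiplyPretransitive (a := o)]
  set Xo := stabilizer X o with hXo
  set Wo := SubMulAction.ofStabilizer X o with hWo
  have hWc : Nat.card Wo = p := card_ofStabilizer hΩ o
  have hmo : ∀ a : Wo, (a : Ω) ≠ o := fun a => a.2
  -- the point stabiliser in `L`
  set M : Subgroup Xo := L.comap Xo.subtype with hM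
  haveI hMt : IsPretransitive M Wo := ⟨fun a b => by
    obtain ⟨g, hg, h1, h2⟩ := hL2 (hmo a).symm (hmo b).symm
    exact ⟨⟨⟨g, h1⟩, hg⟩, Subtype.ext h2⟩⟩
  have hMc : Nat.card M = p * m := by
    have e : M.map Xo.subtype = L ⊓ Xo := by
      rw [hM, Subgroup.map_comap_eq, Subgroup.range_subtype, inf_comm]
    have h1 : Nat.card M = Nat.card (stabilizer L o) := by
      rw [← Subgroup.card_subtype Xo M, e]
      refine Nat.card_congr ⟨fun g => ⟨⟨g.1, g.2.1⟩, g.2.2⟩, fun g => ⟨g.1.1, g.1.2, g.2⟩,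
        fun g => rfl, fun g => rfl⟩
    have horb : orbit L o = Set.univ := Set.eq_univ_of_forall fun a => by
      by_cases ha : a = o
      · rw [ha]; exact mem_orbit_self o
      · obtain ⟨g, hg, h, -⟩ := hL2 (Ne.symm ha) ha
        exact ⟨⟨g, hg⟩, h⟩
    have h2 := (stabilizer L o).card_mul_index
    rw [index_stabilizer, horb, Set.ncard_univ, Nat.card_eq_fintype_card (α := Ω), hΩ, ← h1] at h2
    have h3 := card_psl (by omega) L hL
    rw [← h2] at h3
    have h4 : 2 * Nat.card M * (p + 1) = 2 * (p * m) * (p + 1) := by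
      rw [mul_assoc 2, h3, show p - 1 = 2 * m by omega]; ring
    have := Nat.eq_of_mul_eq_mul_right (show 0 < p + 1 by omega) h4
    omega
  haveI : Fact p.Prime := hp
  have hpM : p ∣ Nat.card M := hMc ▸ dvd_mul_right p m
  obtain ⟨PM⟩ : Nonempty (Sylow p M) := inferInstance
  have hm0 : 0 < m := by omega
  have hXo_fact : ∀ (H : Subgroup Xo), p ∣ Nat.card H → (Nat.card H).factorization p = 1 := by
    intro H hH
    refine le_antisymm ?_ (Nat.Prime.factorization_pos_of_dvd hp' Nat.card_pos.ne' hH)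
    by_contra hlt
    have h1 : p ^ 2 ∣ Nat.card H := (hp'.pow_dvd_iff_le_factorization Nat.card_pos.ne').2 (by omega)
    have h2 : Nat.card H ∣ p.factorial := by
      refine (Subgroup.card_subgroup_dvd_card H).trans ?_
      have hinjW : Function.Injective (MulAction.toPermHom Xo Wo) := MulAction.toPerm_injective
      rw [← hWc, ← Nat.card_perm, Nat.card_congr (MonoidHom.ofInjective hinjW).toEquiv]
      exact Subgroup.card_subgroup_dvd_card _
    have h3 := h1.trans h2
    rw [← Nat.mul_factorial_pred hp'.ne_zero, pow_two] at h3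
    have h4 := Nat.dvd_of_mul_dvd_mul_left hp'.pos h3
    rw [hp'.dvd_factorial] at h4
    omega
  have hPMc : Nat.card (PM : Subgroup M) = p := by
    rw [PM.card_eq_multiplicity, hXo_fact M hpM, pow_one]
  haveI hPMn : (PM : Subgroup M).Normal := by
    have h1 : (PM : Subgroup M).index = m := by
      have := (PM : Subgroup M).card_mul_index
      rw [hPMc, hMc] at this
      exact Nat.eq_of_mul_eq_mul_left hp'.pos this
    have h2 : Nat.card (Sylow p M) = 1 := by
      have h3 := PM.card_dvd_index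
      rw [h1] at h3
      have h4 := card_sylow_modEq_one p M
      have h5 := Nat.le_of_dvd hm0 h3
      rw [Nat.ModEq, Nat.mod_eq_of_lt (by omega), Nat.mod_eq_of_lt hp'.one_lt] at h4
      exact h4
    haveI : Subsingleton (Sylow p M) := (Nat.card_eq_one_iff_unique.1 h2).1
    exact PM.normal_of_subsingleton
  obtain ⟨P, hP⟩ : ∃ P : Sylow p Xo, (P : Subgroup Xo) = (PM : Subgroup M).map M.subtype := by
    have hc : Nat.card ((PM : Subgroup M).map M.subtype) = p := by rw [Subgroup.card_subtype, hPMc]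
    obtain ⟨Q, hQ⟩ := (IsPGroup.of_card (n := 1) (hc.trans (pow_one p).symm) :
      IsPGroup p ((PM : Subgroup M).map M.subtype)).exists_le_sylow
    refine ⟨Q, (Subgroup.eq_of_le_of_card_ge hQ ?_).symm⟩
    rw [hc, Q.card_eq_multiplicity]
    have h1 : p ∣ Nat.card (⊤ : Subgroup Xo) := by
      rw [Subgroup.card_top]; exact (hc ▸ Subgroup.card_subgroup_dvd_card _ : p ∣ Nat.card Xo)
    have h2 := hXo_fact ⊤ h1
    rw [Subgroup.card_top] at h2
    rw [h2, pow_one]
  have hPc : Nat.card (P : Subgroup Xo) = p := by rw [hP, Subgroup.card_subtype, hPMc]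
  have hMN : M ≤ Subgroup.normalizer ((P : Subgroup Xo) : Set Xo) := fun g hg => by
    rw [Subgroup.mem_normalizer_iff]
    intro h
    rw [hP]
    constructor
    · rintro ⟨k, hk, rfl⟩
      exact ⟨⟨g, hg⟩ * k * ⟨g, hg⟩⁻¹, hPMn.conj_mem k hk _, rfl⟩
    · rintro ⟨k, hk, he⟩
      refine ⟨⟨g, hg⟩⁻¹ * k * ⟨g, hg⟩, by have := hPMn.conj_mem k hk (⟨g, hg⟩ : M)⁻¹; rw [inv_inv] at this; exact this, ?_⟩
      simp only [map_mul, map_inv, Subgroup.coe_subtype] at he ⊢
      rw [he]; group
  let φ := MulAction.toPermHom Xo Wo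
  have hφ : Function.Injective φ := MulAction.toPerm_injective
  have hWc' : Fintype.card Wo = p := by rw [← Nat.card_eq_fintype_card, hWc]
  have hsign : ∀ g : Xo, φ g ∈ alternatingGroup Wo := fun g => by
    rw [Equiv.Perm.mem_alternatingGroup, ← heven g]
    have hiff : ∀ a : Ω, (toPerm (g : X) : Equiv.Perm Ω) a ∈ Wo ↔ a ∈ Wo := fun a => by
      simp only [toPerm_apply]
      constructor <;> intro h e
      · exact h (by rw [e]; exact mem_stabilizer_iff.1 g.2)
      · exact h (MulAction.injective (g : X) (e.trans (mem_stabilizer_iff.1 g.2).symm))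
    have hφg : φ g = (toPerm (g : X) : Equiv.Perm Ω).subtypePerm hiff := Equiv.ext fun a => Subtype.ext rfl
    rw [hφg]
    refine Equiv.Perm.sign_subtypePerm _ hiff fun a ha => ?_
    by_contra h
    have : a = o := by_contra fun e => h e
    exact ha (by rw [this]; exact mem_stabilizer_iff.1 g.2)
  obtain ⟨Q', hQ'⟩ : ∃ Q' : Sylow p (Equiv.Perm Wo), (Q' : Subgroup _) = (P : Subgroup Xo).map φ := by
    have hc : Nat.card ((P : Subgroup Xo).map φ) = p := by
      rw [← Nat.card_congr (Subgroup.equivMapOfInjective _ φ hφ).toEquiv, hPc]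
    obtain ⟨Q, hQ⟩ := (IsPGroup.of_card (n := 1) (hc.trans (pow_one p).symm) :
      IsPGroup p ((P : Subgroup Xo).map φ)).exists_le_sylow
    refine ⟨Q, (Subgroup.eq_of_le_of_card_ge hQ ?_).symm⟩
    rw [hc, Q.card_eq_multiplicity, Nat.card_perm, hWc]
    have h1 : p.factorial.factorization p = 1 := by
      refine le_antisymm ?_ (Nat.Prime.factorization_pos_of_dvd hp' p.factorial_ne_zero (Nat.dvd_factorial hp'.pos le_rfl))
      by_contra hlt
      have h3 : p ^ 2 ∣ p.factorial := (hp'.pow_dvd_iff_le_factorization p.factorial_ne_zero).2 (by omega)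
      rw [← Nat.mul_factorial_pred hp'.ne_zero, pow_two] at h3
      have h4 := Nat.dvd_of_mul_dvd_mul_left hp'.pos h3
      rw [hp'.dvd_factorial] at h4
      omega
    rw [h1, pow_one]
  set N := Subgroup.normalizer ((P : Subgroup Xo) : Set Xo) with hN
  set N' := Subgroup.normalizer ((Q' : Subgroup (Equiv.Perm Wo)) : Set (Equiv.Perm Wo)) with hN'
  have hN'c : Nat.card N' = p * (p - 1) := Cfsg.Agent.S0989.result p (Or.inl hWc') Q'
  have hNle : 2 * Nat.card N ≤ p * (p - 1) := by
    have hsub : N.map φ ≤ N' ⊓ alternatingGroup Wo := by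
      rintro _ ⟨g, hg, rfl⟩
      refine ⟨?_, hsign g⟩
      rw [hN', hQ']
      exact Subgroup.le_normalizer_map φ ⟨g, hg, rfl⟩
    have hnot : ¬ N' ≤ alternatingGroup Wo := fun hle => by
      have hQA : (Q' : Subgroup (Equiv.Perm Wo)) ≤ alternatingGroup Wo := by
        rw [hQ']; rintro _ ⟨g, -, rfl⟩; exact hsign g
      have h1 := Sylow.normalizer_sup_eq_top' (N := alternatingGroup Wo) Q' hQA
      replace h1 : N' ⊔ alternatingGroup Wo = ⊤ := h1
      rw [sup_eq_right.2 hle] at h1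
      haveI : Nontrivial Wo := Fintype.one_lt_card_iff_nontrivial.1 (by omega)
      have h2 := alternatingGroup.index_eq_two (α := Wo)
      rw [h1, Subgroup.index_top] at h2
      omega
    have h1 : (alternatingGroup Wo).relIndex N' ∣ 2 := by
      haveI : Nontrivial Wo := Fintype.one_lt_card_iff_nontrivial.1 (by omega)
      rw [← alternatingGroup.index_eq_two (α := Wo)]
      exact Subgroup.relIndex_dvd_index_of_normal _ _
    have h2 : (alternatingGroup Wo).relIndex N' = 2 :=
      ((Nat.dvd_prime Nat.prime_two).1 h1).resolve_left fun h => hnot (Subgroup.relIndex_eq_one.1 h)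
    have h3 : Nat.card N ≤ Nat.card (N' ⊓ alternatingGroup Wo : Subgroup _) := by
      rw [Nat.card_congr (Subgroup.equivMapOfInjective N φ hφ).toEquiv]
      exact Nat.card_le_card_of_injective _ (Subgroup.inclusion_injective hsub)
    have h4 := Subgroup.relIndex_mul_relIndex (⊥ : Subgroup (Equiv.Perm Wo)) (N' ⊓ alternatingGroup Wo) N' bot_le inf_le_left
    rw [Subgroup.relIndex_bot_left, Subgroup.relIndex_bot_left, Subgroup.inf_relIndex_left, h2, hN'c] at h4
    omega
  have hNM : N = M := (Subgroup.eq_of_le_of_card_ge hMN (by rw [hMc]; rw [show p - 1 = 2 * m by omega] at hNle; nlinarith)).symm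
  have hN2 : 2 * Nat.card N = p * (p - 1) := by rw [hNM, hMc, show p - 1 = 2 * m by omega]; ring
  haveI : IsPretransitive Xo Wo := ⟨fun a b => by
    obtain ⟨g, hg⟩ := exists_smul_eq M a b
    exact ⟨g.1, hg⟩⟩
  haveI : IsPretransitive φ.range Wo := ⟨fun a b => by
    obtain ⟨g, hg⟩ := exists_smul_eq Xo a b
    exact ⟨⟨φ g, g, rfl⟩, hg⟩⟩
  let eX : Xo ≃* φ.range := MonoidHom.ofInjective hφ
  let Pr : Sylow p φ.range := P.mapSurjective (f := eX.toMonoidHom) eX.surjective
  have hins : ¬ Group.IsSolvable Xo := fun hs => by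
    have hsr : Group.IsSolvable φ.range :=
      Group.isSolvable_of_surjective (f := eX.toMonoidHom) eX.surjective
    have hn : (Pr : Subgroup φ.range).Normal :=
      CfsgLib.Perm.PrimeDegreeDihedral.sylow_normal_of_isSolvable hWc' hsr Pr (by
        rw [show Nat.card Pr = Nat.card ((P : Subgroup Xo).map eX.toMonoidHom) from rfl,
          ← Nat.card_congr (Subgroup.equivMapOfInjective _ eX.toMonoidHom eX.injective).toEquiv, hPc])
    have htop : N = ⊤ := by
      refine Subgroup.eq_top_of_card_eq N ?_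
      rw [hN, ← card_normalizer_of_equiv eX P Pr, Subgroup.normalizer_eq_top_iff.2 hn, Subgroup.card_top,
        Nat.card_congr eX.toEquiv]
    apply hLX
    rw [eq_top_iff]
    intro g _
    by_cases hgo : g • o = o
    · have : (⟨g, hgo⟩ : Xo) ∈ M := by rw [← hNM, htop]; trivial
      exact this
    · obtain ⟨l, hl, h1, -⟩ := hL2 (Ne.symm hgo) hgo
      have hmem : (l⁻¹ * g) • o = o := by rw [mul_smul, inv_smul_eq_iff, h1]
      have : (⟨l⁻¹ * g, hmem⟩ : Xo) ∈ M := by rw [← hNM, htop]; trivial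
      have h2 : l * (l⁻¹ * g) ∈ L := L.mul_mem hl this
      rwa [mul_inv_cancel_left] at h2
  by_cases hm2 : Even m
  · -- the normaliser has even order
    haveI := Cfsg.Agent.S0676.result hWc' φ.range
      (fun h => hins (Group.isSolvable_of_isSolvable_injective (f := eX.toMonoidHom) eX.injective)) Pr (by
        rw [card_normalizer_of_equiv eX P Pr, ← hN, hNM, hMc]
        exact hm2.mul_left p)
    refine ⟨fun x y => ?_⟩
    obtain ⟨⟨_, g, rfl⟩, hg⟩ := exists_smul_eq φ.range x y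
    refine ⟨g, ?_⟩
    ext i
    exact congrArg Subtype.val (DFunLike.congr_fun hg i)
  replace hm2 : Odd m := Nat.not_even_iff_odd.1 hm2
  haveI h2o : IsMultiplyPretransitive Xo Wo 2 := two_transitive hWc hins
  have h2' : ∀ {a b c d : Wo}, a ≠ b → c ≠ d → ∃ g : Xo, g • a = c ∧ g • b = d :=
    fun {a b c d} hab hcd => (MulAction.is_two_pretransitive_iff.mp h2o) hab hcd
  have h3 : ∀ a b c a' b' c' : Ω, a ≠ b → a ≠ c → b ≠ c → a' ≠ b' → a' ≠ c' → b' ≠ c' →
      ∃ g : X, g • a = a' ∧ g • b = b' ∧ g • c = c' := by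
    intro a b c a' b' c' hab hac hbc hab' hac' hbc'
    obtain ⟨g, hg⟩ := exists_smul_eq X a o
    obtain ⟨g', hg'⟩ := exists_smul_eq X a' o
    have hne : ∀ v, v ≠ a → g • v ≠ o := fun v hv e => hv (MulAction.injective g (e.trans hg.symm))
    have hne' : ∀ v, v ≠ a' → g' • v ≠ o := fun v hv e => hv (MulAction.injective g' (e.trans hg'.symm))
    obtain ⟨k, hk1, hk2⟩ := h2' (a := ⟨g • b, hne b hab.symm⟩) (b := ⟨g • c, hne c hac.symm⟩)
      (c := ⟨g' • b', hne' b' hab'.symm⟩) (d := ⟨g' • c', hne' c' hac'.symm⟩)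
      (fun e => hbc (MulAction.injective g (congrArg Subtype.val e)))
      (fun e => hbc' (MulAction.injective g' (congrArg Subtype.val e)))
    refine ⟨g'⁻¹ * k * g, ?_, ?_, ?_⟩
    · rw [mul_smul, mul_smul, hg, mem_stabilizer_iff.1 k.2, inv_smul_eq_iff, hg']
    · rw [mul_smul, mul_smul, inv_smul_eq_iff]
      exact congrArg Subtype.val hk1
    · rw [mul_smul, mul_smul, inv_smul_eq_iff]
      exact congrArg Subtype.val hk2
  -- coordinates of the point stabiliser in `L`
  haveI : FaithfulSMul M Wo := ⟨fun {g h} hgh => Subtype.ext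
    (FaithfulSMul.eq_of_smul_eq_smul (M := Xo) (α := Wo) fun a => hgh a)⟩
  obtain ⟨Co⟩ := exists_coord (G := M) hWc PM (by
    rw [Subgroup.normalizer_eq_top_iff.2 hPMn, Subgroup.card_top, hMc, show p - 1 = 2 * m by omega]; ring)
  set z1 : Wo := Co.e.symm 0 with hz1
  set u1 : Wo := Co.e.symm 1 with hu1
  set z0 : Ω := (z1 : Ω) with hz0
  set u : Ω := (u1 : Ω) with hu
  have hzo : z0 ≠ o := hmo z1
  have huo : u ≠ o := hmo u1
  have hzu1 : z1 ≠ u1 := fun e => zero_ne_one (Co.e.symm.injective e)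
  have hzu : z0 ≠ u := fun e => hzu1 (Subtype.ext e)
  let Fix : X → Prop := fun g => g • o = o ∧ g • z0 = z0 ∧ g • u = u
  by_cases hone : ∀ c d : Ω, c ≠ o → c ≠ z0 → c ≠ u → d ≠ o → d ≠ z0 → d ≠ u → ∃ g, Fix g ∧ g • c = d
  · refine ⟨fun x y => ?_⟩
    have hx : ∀ i j, i ≠ j → (x i : Ω) ≠ x j := fun i j h e => h (x.injective (Subtype.ext e))
    have hy : ∀ i j, i ≠ j → (y i : Ω) ≠ y j := fun i j h e => h (y.injective (Subtype.ext e))
    obtain ⟨g, g1, g2, g3⟩ := h3 o (x 0) (x 1) o z0 u (hmo _).symm (hmo _).symm (hx 0 1 (by decide))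
      hzo.symm huo.symm hzu
    obtain ⟨k, k1, k2, k3⟩ := h3 o z0 u o (y 0) (y 1) hzo.symm huo.symm hzu
      (hmo _).symm (hmo _).symm (hy 0 1 (by decide))
    have k1' : k⁻¹ • o = o := inv_smul_eq_iff.2 k1.symm
    have hc : ∀ v, v ≠ o → v ≠ (x 0 : Ω) → v ≠ (x 1 : Ω) → g • v ≠ o ∧ g • v ≠ z0 ∧ g • v ≠ u := fun v a b c =>
      ⟨fun e => a (MulAction.injective g (e.trans g1.symm)), fun e => b (MulAction.injective g (e.trans g2.symm)),
        fun e => c (MulAction.injective g (e.trans g3.symm))⟩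
    have hd : k⁻¹ • (y 2 : Ω) ≠ o ∧ k⁻¹ • (y 2 : Ω) ≠ z0 ∧ k⁻¹ • (y 2 : Ω) ≠ u :=
      ⟨fun e => hmo _ (by rw [inv_smul_eq_iff, k1] at e; exact e),
        fun e => hy 2 0 (by decide) (by rw [inv_smul_eq_iff, k2] at e; exact e),
        fun e => hy 2 1 (by decide) (by rw [inv_smul_eq_iff, k3] at e; exact e)⟩
    obtain ⟨hc1, hc2, hc3⟩ := hc (x 2) (hmo _) (hx 2 0 (by decide)) (hx 2 1 (by decide))
    obtain ⟨l, ⟨l1, l2, l3⟩, l4⟩ := hone _ _ hc1 hc2 hc3 hd.1 hd.2.1 hd.2.2
    refine ⟨⟨k * (l * g), ?_⟩, ?_⟩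
    · show (k * (l * g)) • o = o
      rw [mul_smul, mul_smul, g1, l1, k1]
    · ext i
      show (k * (l * g)) • (x i : Ω) = y i
      rw [mul_smul, mul_smul]
      fin_cases i
      · show k • l • g • (x 0 : Ω) = y 0
        rw [g2, l2, k2]
      · show k • l • g • (x 1 : Ω) = y 1
        rw [g3, l3, k3]
      · show k • l • g • (x 2 : Ω) = y 2
        rw [l4, smul_inv_smul]
  exfalso
  push Not at hone
  obtain ⟨c, d, hco, hcz, hcu, hdo, hdz, hdu, hcd⟩ := hone
  have Fix_mul : ∀ g h, Fix g → Fix h → Fix (g * h) := fun g h a b =>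
    ⟨by rw [mul_smul, b.1, a.1], by rw [mul_smul, b.2.1, a.2.1], by rw [mul_smul, b.2.2, a.2.2]⟩
  have Fix_inv : ∀ g, Fix g → Fix g⁻¹ := fun g a =>
    ⟨inv_smul_eq_iff.2 a.1.symm, inv_smul_eq_iff.2 a.2.1.symm, inv_smul_eq_iff.2 a.2.2.symm⟩
  have Fix_one : Fix 1 := ⟨one_smul _ _, one_smul _ _, one_smul _ _⟩
  set A : Finset Ω := univ.filter fun x => ∃ g, Fix g ∧ g • c = x with hAdef
  set B : Finset Ω := univ.filter fun x => ∃ g, Fix g ∧ g • d = x with hBdef
  have memA : ∀ x, x ∈ A ↔ ∃ g, Fix g ∧ g • c = x := fun x => by rw [hAdef, mem_filter, and_iff_right (mem_univ _)]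
  have memB : ∀ x, x ∈ B ↔ ∃ g, Fix g ∧ g • d = x := fun x => by rw [hBdef, mem_filter, and_iff_right (mem_univ _)]
  have hcA : c ∈ A := (memA c).2 ⟨1, Fix_one, one_smul _ _⟩
  have hdB : d ∈ B := (memB d).2 ⟨1, Fix_one, one_smul _ _⟩
  have hAclosed : ∀ g x, Fix g → x ∈ A → g • x ∈ A := fun g x hg hx => by
    obtain ⟨h, hh, rfl⟩ := (memA x).1 hx
    exact (memA _).2 ⟨g * h, Fix_mul g h hg hh, mul_smul _ _ _⟩
  have hBclosed : ∀ g x, Fix g → x ∈ B → g • x ∈ B := fun g x hg hx => by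
    obtain ⟨h, hh, rfl⟩ := (memB x).1 hx
    exact (memB _).2 ⟨g * h, Fix_mul g h hg hh, mul_smul _ _ _⟩
  have hdisj : Disjoint A B := disjoint_left.2 fun x ha hb => by
    obtain ⟨g, hg, hgx⟩ := (memA x).1 ha
    obtain ⟨h, hh, hhx⟩ := (memB x).1 hb
    exact hcd (h⁻¹ * g) (Fix_mul _ _ (Fix_inv h hh) hg) (by rw [mul_smul, hgx, inv_smul_eq_iff, hhx])
  have hoff : ∀ x, x ∈ A ∪ B → x ≠ o ∧ x ≠ z0 ∧ x ≠ u := by
    intro x hx
    rcases mem_union.1 hx with h | h
    · obtain ⟨g, ⟨g1, g2, g3⟩, rfl⟩ := (memA x).1 h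
      exact ⟨fun e => hco (MulAction.injective g (e.trans g1.symm)), fun e => hcz (MulAction.injective g (e.trans g2.symm)),
        fun e => hcu (MulAction.injective g (e.trans g3.symm))⟩
    · obtain ⟨g, ⟨g1, g2, g3⟩, rfl⟩ := (memB x).1 h
      exact ⟨fun e => hdo (MulAction.injective g (e.trans g1.symm)), fun e => hdz (MulAction.injective g (e.trans g2.symm)),
        fun e => hdu (MulAction.injective g (e.trans g3.symm))⟩
  have hcover : ∀ x, x ≠ o → x ≠ z0 → x ≠ u → x ∈ A ∪ B := by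
    intro x hxo hxz hxu
    obtain ⟨i, j, hij, g, g1, g2, hg⟩ := at_most_two (G := Xo) hWc hins P hN2 hzu1
      ![⟨c, hco⟩, ⟨d, hdo⟩, ⟨x, hxo⟩]
      (fun i => by fin_cases i <;> simp [Subtype.ext_iff, ← hz0, hcz, hdz, hxz])
      (fun i => by fin_cases i <;> simp [Subtype.ext_iff, ← hu, hcu, hdu, hxu])
    have hF : Fix (g : X) := ⟨g.2, congrArg Subtype.val g1, congrArg Subtype.val g2⟩
    replace hg := congrArg Subtype.val hg
    simp only [SetLike.val_smul] at hg
    fin_cases i <;> fin_cases j <;> simp at hij hg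
    · exact absurd hg (hcd _ hF)
    · exact mem_union_left _ ((memA x).2 ⟨g, hF, hg⟩)
    · exact absurd (inv_smul_eq_iff.2 hg.symm) (hcd _ (Fix_inv _ hF))
    · exact mem_union_right _ ((memB x).2 ⟨g, hF, hg⟩)
    · exact mem_union_left _ ((memA x).2 ⟨_, Fix_inv _ hF, inv_smul_eq_iff.2 hg.symm⟩)
    · exact mem_union_right _ ((memB x).2 ⟨_, Fix_inv _ hF, inv_smul_eq_iff.2 hg.symm⟩)
  set T3 : Finset Ω := {o, z0, u} with hT3
  have hT3c : T3.card = 3 := by
    rw [hT3, card_insert_of_notMem (by simp [hzo.symm, huo.symm]), card_pair hzu]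
  have hAB : A.card + B.card = p - 2 := by
    rw [← card_union_of_disjoint hdisj, show A ∪ B = T3ᶜ from ?_, card_compl, hT3c, hΩ]
    · omega
    · ext x
      simp only [mem_compl, hT3, Finset.mem_insert, Finset.mem_singleton, not_or]
      exact ⟨hoff x, fun h => hcover x h.1 h.2.1 h.2.2⟩
  have hAneB : A.card ≠ B.card := fun h => by omega
  have hperm : ∀ g : X, (∀ x ∈ T3, g • x ∈ T3) → ∀ x ∈ A, g • x ∈ A := by
    intro g hg
    have himg : T3.image (g • ·) = T3 := eq_of_subset_of_card_le (image_subset_iff.2 hg)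
      (card_image_of_injective _ (MulAction.injective g)).ge
    have hconj : ∀ h, Fix h → Fix (g * h * g⁻¹) := by
      intro h hh
      have key : ∀ x ∈ T3, (g * h * g⁻¹) • x = x := fun x hx => by
        rw [← himg] at hx
        obtain ⟨y, hy, rfl⟩ := mem_image.1 hx
        rw [mul_smul, mul_smul, inv_smul_smul]
        simp only [hT3, Finset.mem_insert, Finset.mem_singleton] at hy
        rcases hy with rfl | rfl | rfl
        · rw [hh.1]
        · rw [hh.2.1]
        · rw [hh.2.2]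
      exact ⟨key o (by simp [hT3]), key z0 (by simp [hT3]), key u (by simp [hT3])⟩
    have hout : ∀ x, x ∈ A ∪ B → g • x ∈ A ∪ B := fun x hx => by
      by_contra h
      have : g • x ∈ T3 := by
        by_contra h'
        simp only [hT3, Finset.mem_insert, Finset.mem_singleton, not_or] at h'
        exact h (hcover _ h'.1 h'.2.1 h'.2.2)
      rw [← himg] at this
      obtain ⟨y, hy, e⟩ := mem_image.1 this
      rw [MulAction.injective g e] at hy
      simp only [hT3, Finset.mem_insert, Finset.mem_singleton] at hy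
      obtain ⟨a1, a2, a3⟩ := hoff x hx
      tauto
    have hmapA : ∀ x ∈ A, ∃ h, Fix h ∧ g • x = h • g • c := fun x hx => by
      obtain ⟨h, hh, rfl⟩ := (memA x).1 hx
      exact ⟨_, hconj h hh, by rw [mul_smul, mul_smul, inv_smul_smul]⟩
    have hmapB : ∀ x ∈ B, ∃ h, Fix h ∧ g • x = h • g • d := fun x hx => by
      obtain ⟨h, hh, rfl⟩ := (memB x).1 hx
      exact ⟨_, hconj h hh, by rw [mul_smul, mul_smul, inv_smul_smul]⟩
    rcases mem_union.1 (hout c (mem_union_left _ hcA)) with hc' | hc'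
    · intro x hx
      obtain ⟨h, hh, e⟩ := hmapA x hx
      exact e ▸ hAclosed h _ hh hc'
    · exfalso
      have e1 : A.image (g • ·) ⊆ B := image_subset_iff.2 fun x hx => by
        obtain ⟨h, hh, e⟩ := hmapA x hx
        exact e ▸ hBclosed h _ hh hc'
      rcases mem_union.1 (hout d (mem_union_right _ hdB)) with hd' | hd'
      · have e2 : B.image (g • ·) ⊆ A := image_subset_iff.2 fun x hx => by
          obtain ⟨h, hh, e⟩ := hmapB x hx
          exact e ▸ hAclosed h _ hh hd'
        have l1 := card_le_card e1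
        have l2 := card_le_card e2
        rw [card_image_of_injective _ (MulAction.injective g)] at l1 l2
        omega
      · have e2 : B.image (g • ·) ⊆ B := image_subset_iff.2 fun x hx => by
          obtain ⟨h, hh, e⟩ := hmapB x hx
          exact e ▸ hBclosed h _ hh hd'
        have l1 := card_le_card (union_subset e1 e2)
        rw [← image_union, card_image_of_injective _ (MulAction.injective g), card_union_of_disjoint hdisj] at l1
        have : 0 < A.card := card_pos.2 ⟨c, hcA⟩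
        omega
  -- the graph
  let S0 : X → Prop := fun g => g • o = o ∧ g • z0 = z0
  set W : Finset Ω := univ.filter fun y => y ≠ o ∧ y ≠ z0 with hWdef
  have memW : ∀ y, y ∈ W ↔ y ≠ o ∧ y ≠ z0 := fun y => by rw [hWdef, mem_filter, and_iff_right (mem_univ _)]
  have hWcard : W.card = 2 * m := by
    have : W = ({o, z0} : Finset Ω)ᶜ := by ext y; simp [memW]
    rw [this, card_compl, card_pair hzo.symm, hΩ]; omega
  have S0_mul : ∀ g h, S0 g → S0 h → S0 (g * h) := fun g h a b =>
    ⟨by rw [mul_smul, b.1, a.1], by rw [mul_smul, b.2, a.2]⟩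
  have S0_inv : ∀ g, S0 g → S0 g⁻¹ := fun g a => ⟨inv_smul_eq_iff.2 a.1.symm, inv_smul_eq_iff.2 a.2.symm⟩
  have S0W : ∀ g y, S0 g → y ∈ W → g • y ∈ W := fun g y hg hy => by
    rw [memW] at hy ⊢
    exact ⟨fun e => hy.1 (MulAction.injective g (e.trans hg.1.symm)), fun e => hy.2 (MulAction.injective g (e.trans hg.2.symm))⟩
  have huW : u ∈ W := (memW u).2 ⟨huo, hzu.symm⟩
  have htW : ∀ y ∈ W, ∃ g, S0 g ∧ g • y = u := fun y hy => by
    obtain ⟨g, a, b, e⟩ := h3 o z0 y o z0 u hzo.symm ((memW y).1 hy).1.symm ((memW y).1 hy).2.symm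
      hzo.symm huo.symm hzu
    exact ⟨g, ⟨a, b⟩, e⟩
  have fromU : ∀ y ∈ W, ∃ g, S0 g ∧ g • u = y := fun y hy => by
    obtain ⟨g, hg, e⟩ := htW y hy
    exact ⟨g⁻¹, S0_inv g hg, inv_smul_eq_iff.2 e.symm⟩
  let R : Ω → Ω → Prop := fun y z => ∃ g, S0 g ∧ g • y = u ∧ g • z ∈ A
  have Rinv : ∀ g y z, S0 g → R y z → R (g • y) (g • z) := fun g y z hg ⟨k, hk, k1, k2⟩ =>
    ⟨k * g⁻¹, S0_mul _ _ hk (S0_inv g hg), by rw [mul_smul, inv_smul_smul, k1], by rw [mul_smul, inv_smul_smul]; exact k2⟩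
  have Rinv' : ∀ g y z, S0 g → (R (g • y) (g • z) ↔ R y z) := fun g y z hg =>
    ⟨fun h => by simpa [inv_smul_smul] using Rinv g⁻¹ _ _ (S0_inv g hg) h, Rinv g y z hg⟩
  have Ru : ∀ z, R u z ↔ z ∈ A := fun z => by
    constructor
    · rintro ⟨g, hg, g1, g2⟩
      have := hAclosed g⁻¹ _ (Fix_inv g ⟨hg.1, hg.2, g1⟩) g2
      rwa [inv_smul_smul] at this
    · exact fun h => ⟨1, ⟨one_smul _ _, one_smul _ _⟩, one_smul _ _, by rwa [one_smul]⟩
  have Rmem : ∀ y z, R y z → y ∈ W ∧ z ∈ W ∧ y ≠ z := by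
    rintro y z ⟨g, hg, g1, g2⟩
    obtain ⟨a1, a2, a3⟩ := hoff _ (mem_union_left _ g2)
    have hgi := S0_inv g hg
    refine ⟨?_, ?_, ?_⟩
    · have := S0W g⁻¹ u hgi huW
      rwa [← g1, inv_smul_smul] at this
    · have := S0W g⁻¹ _ hgi ((memW (g • z)).2 ⟨a1, a2⟩)
      rwa [inv_smul_smul] at this
    · rintro rfl
      exact a3 g1
  have hdeg : ∀ y ∈ W, (W.filter fun z => R y z).card = A.card := by
    intro y hy
    obtain ⟨g, hg, rfl⟩ := fromU y hy
    have : (W.filter fun z => R (g • u) z) = A.image (g • ·) := by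
      ext z
      simp only [mem_filter, mem_image]
      constructor
      · rintro ⟨-, h⟩
        refine ⟨g⁻¹ • z, (Ru _).1 ?_, smul_inv_smul g z⟩
        rw [← Rinv' g u (g⁻¹ • z) hg, smul_inv_smul]; exact h
      · rintro ⟨x, hx, rfl⟩
        exact ⟨S0W g x hg ((memW x).2 ⟨(hoff x (mem_union_left _ hx)).1, (hoff x (mem_union_left _ hx)).2.1⟩),
          Rinv g _ _ hg ((Ru x).2 hx)⟩
    rw [this, card_image_of_injective _ (MulAction.injective g)]
  have Rsymm : ∀ y z, R y z → R z y := by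
    set A' := W.filter fun z => R z u with hA'
    have hin : ∀ y ∈ W, (W.filter fun z => R z y).card = A'.card := by
      intro y hy
      obtain ⟨g, hg, rfl⟩ := fromU y hy
      refine (card_bij (fun z _ => g • z) (fun z hz => ?_) (fun a _ b _ e => MulAction.injective g e)
        (fun z hz => ⟨g⁻¹ • z, ?_, smul_inv_smul g z⟩)).symm
      · rw [hA', mem_filter] at hz
        exact mem_filter.2 ⟨S0W _ _ hg hz.1, Rinv g z u hg hz.2⟩
      · rw [mem_filter] at hz
        refine mem_filter.2 ⟨S0W _ _ (S0_inv g hg) hz.1, ?_⟩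
        rw [← Rinv' g (g⁻¹ • z) u hg, smul_inv_smul]; exact hz.2
    have hcnt : A'.card = A.card := by
      have h := sum_card_bipartiteAbove_eq_sum_card_bipartiteBelow (s := W) (t := W) R
      simp only [bipartiteAbove, bipartiteBelow] at h
      rw [sum_congr rfl hdeg, sum_congr rfl hin, sum_const, sum_const, smul_eq_mul, smul_eq_mul, hWcard] at h
      exact (Nat.eq_of_mul_eq_mul_left (by omega) h).symm
    have hsub : ∀ x ∈ A', x ∈ A ∪ B := fun x hx => by
      rw [hA', mem_filter, memW] at hx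
      exact hcover x hx.1.1 hx.1.2 (Rmem x u hx.2).2.2
    have hclosed : ∀ g x, Fix g → x ∈ A' → g • x ∈ A' := fun g x hg hx => by
      rw [hA', mem_filter] at hx ⊢
      refine ⟨S0W g x ⟨hg.1, hg.2.1⟩ hx.1, ?_⟩
      have := Rinv g x u ⟨hg.1, hg.2.1⟩ hx.2
      rwa [hg.2.2] at this
    have hA'A : A' = A := by
      by_cases hc' : c ∈ A'
      · refine (eq_of_subset_of_card_le (fun x hx => ?_) hcnt.le).symm
        obtain ⟨g, hg, rfl⟩ := (memA x).1 hx
        exact hclosed g c hg hc'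
      · exfalso
        have hA'B : A' ⊆ B := fun x hx => by
          rcases mem_union.1 (hsub x hx) with h | h
          · obtain ⟨g, hg, rfl⟩ := (memA x).1 h
            refine absurd ?_ hc'
            have := hclosed g⁻¹ _ (Fix_inv g hg) hx
            rwa [inv_smul_smul] at this
          · exact h
        obtain ⟨x, hx⟩ : A'.Nonempty := card_pos.1 (hcnt ▸ card_pos.2 ⟨c, hcA⟩)
        obtain ⟨g, hg, rfl⟩ := (memB x).1 (hA'B hx)
        have hd' : d ∈ A' := by
          have := hclosed g⁻¹ _ (Fix_inv g hg) hx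
          rwa [inv_smul_smul] at this
        have hBA' : B ⊆ A' := fun y hy => by
          obtain ⟨h, hh, rfl⟩ := (memB y).1 hy
          exact hclosed h d hh hd'
        exact hAneB (by rw [← hcnt, Subset.antisymm hA'B hBA'])
    intro y z hyz
    obtain ⟨hy, hz, -⟩ := Rmem y z hyz
    obtain ⟨g, hg, rfl⟩ := fromU y hy
    obtain ⟨z', rfl⟩ : ∃ z', g • z' = z := ⟨g⁻¹ • z, smul_inv_smul g z⟩
    rw [Rinv' g u z' hg] at hyz
    refine Rinv g z' u hg ?_
    have : z' ∈ A' := hA'A ▸ (Ru z').1 hyz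
    exact (mem_filter.1 this).2
  have Rw : ∀ w : X, w • o = z0 → w • z0 = o → ∀ y z, R y z → R (w • y) (w • z) := by
    rintro w w1 w2 y z ⟨g, ⟨g1, g2⟩, g3, g4⟩
    obtain ⟨h, k1, k2, k3⟩ := h3 o z0 u z0 o u hzo.symm huo.symm hzu hzo hzu huo.symm
    refine ⟨h * g * w⁻¹, ⟨?_, ?_⟩, ?_, ?_⟩
    · rw [mul_smul, mul_smul, inv_smul_eq_iff.2 w2.symm, g2, k2]
    · rw [mul_smul, mul_smul, inv_smul_eq_iff.2 w1.symm, g1, k1]
    · rw [mul_smul, mul_smul, inv_smul_smul, g3, k3]
    · rw [mul_smul, mul_smul, inv_smul_smul]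
      refine hperm h (fun x hx => ?_) _ g4
      simp only [hT3, Finset.mem_insert, Finset.mem_singleton] at hx ⊢
      rcases hx with rfl | rfl | rfl
      · rw [k1]; tauto
      · rw [k2]; tauto
      · rw [k3]; tauto
  set Cn : Ω → Ω → ℕ := fun y z => (W.filter fun x => R y x ∧ R z x).card with hCn
  have Cninv : ∀ g y z, S0 g → Cn (g • y) (g • z) = Cn y z := by
    intro g y z hg
    refine (card_bij (fun x _ => g • x) (fun x hx => ?_) (fun a _ b _ e => MulAction.injective g e)
      (fun x hx => ⟨g⁻¹ • x, ?_, smul_inv_smul g x⟩)).symm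
    · rw [mem_filter] at hx ⊢
      exact ⟨S0W _ _ hg hx.1, Rinv g _ _ hg hx.2.1, Rinv g _ _ hg hx.2.2⟩
    · rw [mem_filter] at hx ⊢
      refine ⟨S0W _ _ (S0_inv g hg) hx.1, ?_, ?_⟩
      · rw [← Rinv' g y _ hg, smul_inv_smul]; exact hx.2.1
      · rw [← Rinv' g z _ hg, smul_inv_smul]; exact hx.2.2
  set l := Cn u c with hl
  set μ := Cn u d with hμ
  have hCn' : ∀ y ∈ W, ∀ x ∈ W, y ≠ x → Cn y x = if R y x then l else μ := by
    intro y hy x hx hyx
    obtain ⟨g, hg, rfl⟩ := fromU y hy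
    obtain ⟨x', rfl⟩ : ∃ x', g • x' = x := ⟨g⁻¹ • x, smul_inv_smul g x⟩
    rw [Cninv g u x' hg, Rinv' g u x' hg, Ru]
    have hx' : x' ∈ W := by simpa using S0W _ _ (S0_inv g hg) hx
    by_cases hxA : x' ∈ A
    · rw [if_pos hxA]
      obtain ⟨f, hf, rfl⟩ := (memA x').1 hxA
      have := Cninv f u c ⟨hf.1, hf.2.1⟩
      rwa [hf.2.2] at this
    · rw [if_neg hxA]
      have hxB : x' ∈ B := (mem_union.1 (hcover x' ((memW x').1 hx').1 ((memW x').1 hx').2
        fun e => hyx (by rw [e]))).resolve_left hxA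
      obtain ⟨f, hf, rfl⟩ := (memB x').1 hxB
      have := Cninv f u d ⟨hf.1, hf.2.1⟩
      rwa [hf.2.2] at this
  have hcW : c ∈ W := (memW c).2 ⟨hco, hcz⟩
  have hdW : d ∈ W := (memW d).2 ⟨hdo, hdz⟩
  have hRuc : R u c := (Ru c).2 hcA
  have hRud : ¬ R u d := fun h => disjoint_left.1 hdisj ((Ru d).1 h) hdB
  have hirr : ∀ y, ¬ R y y := fun y h => (Rmem y y h).2.2 rfl
  -- primitivity forbids an invariant equivalence between the two orbits
  have hequiv : ∀ E : Ω → Ω → Prop, (∀ y ∈ W, E y y) → (∀ y ∈ W, ∀ z ∈ W, E y z → E z y) →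
      (∀ y ∈ W, ∀ z ∈ W, ∀ x ∈ W, E y z → E z x → E y x) →
      (∀ g y z, S0 g → E y z → E (g • y) (g • z)) →
      ∀ a ∈ W, ∀ b ∈ W, a ≠ u → E u a → ¬ E u b → False := by
    intro E hrefl hEs hEt hEi a ha b hb hau hEa hEb
    haveI := Cfsg.Agent.S3612.result p hp' hWc inferInstance hins P hN2 hp7 z1
    let Bk : Set ↥(SubMulAction.ofStabilizer Xo z1) := {y | E u ((y : Wo) : Ω)}
    have hmemW : ∀ y : ↥(SubMulAction.ofStabilizer Xo z1), ((y : Wo) : Ω) ∈ W := fun y =>
      (memW _).2 ⟨hmo y, fun e => y.2 (Subtype.ext e)⟩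
    have hblk : IsBlock (stabilizer Xo z1) Bk := by
      rw [isBlock_iff_smul_eq_of_mem]
      intro g y hy hgy
      have hg0 : S0 ((g : Xo) : X) := ⟨(g : Xo).2, congrArg Subtype.val g.2⟩
      have hyW := hmemW y
      have hgu := S0W _ _ hg0 huW
      have h1 : E u (((g : Xo) : X) • u) := by
        have e1 : E (((g : Xo) : X) • u) (((g : Xo) : X) • ((y : Wo) : Ω)) := hEi _ _ _ hg0 hy
        exact hEt u huW _ (S0W _ _ hg0 hyW) _ hgu hgy (hEs _ hgu _ (S0W _ _ hg0 hyW) e1)
      ext z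
      rw [Set.mem_smul_set_iff_inv_smul_mem]
      have hzW := hmemW z
      show E u ((((g : Xo) : X))⁻¹ • ((z : Wo) : Ω)) ↔ E u ((z : Wo) : Ω)
      constructor
      · intro h
        have h' := hEi _ _ _ hg0 h
        rw [smul_inv_smul] at h'
        exact hEt u huW _ hgu _ hzW h1 h'
      · intro h
        have h' := hEi _ _ _ (S0_inv _ hg0) (hEt _ hgu u huW _ hzW (hEs u huW _ hgu h1) h)
        rwa [inv_smul_smul] at h'
    have hu' : (⟨u1, fun e => hzu1 e.symm⟩ : ↥(SubMulAction.ofStabilizer Xo z1)) ∈ Bk := hrefl u huW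
    rcases IsPreprimitive.isTrivialBlock_of_isBlock hblk with h | h
    · have := h hu' (show (⟨⟨a, ((memW a).1 ha).1⟩, fun e => ((memW a).1 ha).2 (congrArg Subtype.val e)⟩ :
          ↥(SubMulAction.ofStabilizer Xo z1)) ∈ Bk from hEa)
      exact hau (congrArg (fun y : ↥(SubMulAction.ofStabilizer Xo z1) => ((y : Wo) : Ω)) this).symm
    · exact hEb (show (⟨⟨b, ((memW b).1 hb).1⟩, fun e => ((memW b).1 hb).2 (congrArg Subtype.val e)⟩ :
          ↥(SubMulAction.ofStabilizer Xo z1)) ∈ Bk from h ▸ Set.mem_univ _)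
  have hμpos : 0 < μ := by
    by_contra h0
    refine hequiv (fun y z => y = z ∨ R y z) (fun y _ => Or.inl rfl)
      (fun y _ z _ h => h.elim (fun e => Or.inl e.symm) fun h => Or.inr (Rsymm y z h))
      (fun y hy z hz x hx h1 h2 => ?_) (fun g y z hg h => h.elim (fun e => Or.inl (by rw [e])) fun h => Or.inr (Rinv g y z hg h))
      c hcW d hdW hcu (Or.inr hRuc) (fun h => h.elim (fun e => hdu e.symm) hRud)
    rcases h1 with rfl | h1
    · exact h2
    rcases h2 with rfl | h2
    · exact Or.inr h1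
    by_contra hcon
    simp only [not_or] at hcon
    have := hCn' y hy x hx hcon.1
    rw [if_neg hcon.2] at this
    have hpos : 0 < Cn y x := card_pos.2 ⟨z, mem_filter.2 ⟨hz, h1, Rsymm z x h2⟩⟩
    omega
  have hμlt : μ < A.card := by
    by_contra hge
    have hsame : ∀ y ∈ W, ∀ x ∈ W, y ≠ x → ¬ R y x → (W.filter fun z => R y z) = W.filter fun z => R x z := by
      intro y hy x hx hyx hnR
      have h1 := hCn' y hy x hx hyx
      rw [if_neg hnR] at h1
      change (W.filter fun z => R y z ∧ R x z).card = μ at h1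
      have e1 : (W.filter fun z => R y z ∧ R x z) = W.filter fun z => R y z :=
        eq_of_subset_of_card_le (monotone_filter_right W fun z _ h => h.1) (by rw [hdeg y hy]; omega)
      have e2 : (W.filter fun z => R y z ∧ R x z) = W.filter fun z => R x z :=
        eq_of_subset_of_card_le (monotone_filter_right W fun z _ h => h.2) (by rw [hdeg x hx]; omega)
      rw [← e1, e2]
    refine hequiv (fun y z => ∀ x ∈ W, R y x ↔ R z x) (fun y _ x _ => Iff.rfl) (fun y _ z _ h x hx => (h x hx).symm)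
      (fun y _ z _ w _ h1 h2 x hx => (h1 x hx).trans (h2 x hx)) (fun g y z hg h x hx => ?_) d hdW c hcW hdu ?_ ?_
    · have h' := h _ (S0W _ _ (S0_inv g hg) hx)
      rw [← Rinv' g y _ hg, ← Rinv' g z _ hg, smul_inv_smul] at h'
      exact h'
    · intro x hx
      have := Finset.ext_iff.1 (hsame u huW d hdW hdu.symm hRud) x
      simp only [mem_filter, and_iff_right hx] at this
      exact this
    · exact fun h => hirr c ((h c hcW).1 hRuc)
  have hcompl : 2 * A.card < 2 * m + l := by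
    by_contra hge
    have hall : ∀ y z, R y z → ∀ x ∈ W, R y x ∨ R z x := by
      intro y z hyz x hx
      obtain ⟨hy, hz, hne⟩ := Rmem y z hyz
      have h1 := hCn' y hy z hz hne
      rw [if_pos hyz] at h1
      have h2 := card_union_add_card_inter (W.filter fun x => R y x) (W.filter fun x => R z x)
      rw [hdeg y hy, hdeg z hz, ← filter_and] at h2
      have h3 : (W.filter fun x => R y x) ∪ (W.filter fun x => R z x) = W :=
        eq_of_subset_of_card_le (union_subset (filter_subset _ _) (filter_subset _ _))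
          (by rw [hWcard]; change _ + Cn y z = _ at h2; omega)
      rw [← h3, mem_union] at hx
      exact hx.imp (fun h => (mem_filter.1 h).2) (fun h => (mem_filter.1 h).2)
    refine hequiv (fun y z => y = z ∨ ¬ R y z) (fun y _ => Or.inl rfl)
      (fun y _ z _ h => h.elim (fun e => Or.inl e.symm) fun h => Or.inr fun h' => h (Rsymm z y h'))
      (fun y hy z hz x hx h1 h2 => ?_)
      (fun g y z hg h => h.elim (fun e => Or.inl (by rw [e])) fun h => Or.inr fun h' => h ((Rinv' g y z hg).1 h'))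
      d hdW c hcW hdu (Or.inr hRud) (fun h => h.elim (fun e => hcu e.symm) fun h => h hRuc)
    rcases h1 with rfl | h1
    · exact h2
    rcases h2 with rfl | h2
    · exact Or.inr h1
    by_contra hcon
    simp only [not_or, not_not] at hcon
    rcases hall y x hcon.2 z hz with h | h
    · exact h1 h
    · exact h2 (Rsymm x z h)
  -- the dihedral group
  obtain ⟨γ, hγ⟩ := IsCyclic.exists_generator (α := (ZMod p)ˣ)
  have hγo : orderOf γ = 2 * m := by
    rw [orderOf_eq_card_of_forall_mem_zpowers hγ, Nat.card_eq_fintype_card, ZMod.card_units]; omega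
  obtain ⟨tM, htM⟩ := Co.sq γ
  set tX : X := ((tM : Xo) : X) with htX
  have htpow : ∀ (i : ℕ) (y : Wo), Co.e (tM ^ i • y) = ((γ ^ (2 * i) : (ZMod p)ˣ) : ZMod p) * Co.e y := by
    intro i
    induction i with
    | zero => intro y; simp
    | succ i ih => intro y; rw [pow_succ', mul_smul, htM, ih]; push_cast; ring
  have htfix : ∀ i : ℕ, tM ^ i • z1 = z1 := fun i => Co.e.injective (by rw [htpow, hz1]; simp)
  have htpow_one : ∀ i : ℕ, tM ^ i = 1 ↔ γ ^ (2 * i) = 1 := by
    intro i
    constructor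
    · intro h
      have := htpow i u1
      rw [h, one_smul, hu1, Equiv.apply_symm_apply, mul_one] at this
      exact Units.ext this.symm
    · intro h
      refine FaithfulSMul.eq_of_smul_eq_smul (α := Wo) fun y => Co.e.injective ?_
      rw [htpow, h, one_smul, Units.val_one, one_mul]
  have hto : orderOf tM = m := by
    apply Nat.dvd_antisymm
    · refine orderOf_dvd_of_pow_eq_one ((htpow_one m).2 ?_)
      rw [← hγo, pow_orderOf_eq_one]
    · have h := orderOf_dvd_of_pow_eq_one ((htpow_one _).1 (pow_orderOf_eq_one tM))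
      rw [hγo] at h
      exact Nat.dvd_of_mul_dvd_mul_left (by norm_num) h
  have htXo : orderOf tX = m := by rw [htX, Subgroup.orderOf_coe, Subgroup.orderOf_coe, hto]
  set T := Subgroup.zpowers tX with hTdef
  have hTL : T ≤ L := by rw [hTdef, Subgroup.zpowers_le]; exact tM.2
  have memT : ∀ x : X, x ∈ T ↔ ∃ i : ℕ, ((tM ^ i : M) : Xo).1 = x := fun x => by
    rw [hTdef, ← mem_powers_iff_mem_zpowers]
    constructor
    · rintro ⟨i, hi⟩; exact ⟨i, by rw [← hi]; simp [htX]⟩
    · rintro ⟨i, hi⟩; exact ⟨i, by rw [← hi]; simp [htX]⟩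
  have hTS0 : ∀ x ∈ T, S0 x := fun x hx => by
    obtain ⟨i, rfl⟩ := (memT x).1 hx
    exact ⟨(tM ^ i).1.2, congrArg Subtype.val (htfix i)⟩
  have hTfree : ∀ x ∈ T, ∀ y ∈ W, x • y = y → x = 1 := by
    intro x hx y hy hxy
    obtain ⟨i, rfl⟩ := (memT x).1 hx
    have h1 := htpow i ⟨y, ((memW y).1 hy).1⟩
    rw [show tM ^ i • (⟨y, ((memW y).1 hy).1⟩ : Wo) = ⟨y, ((memW y).1 hy).1⟩ from Subtype.ext hxy] at h1
    have hne : Co.e (⟨y, ((memW y).1 hy).1⟩ : Wo) ≠ 0 := fun e0 =>
      ((memW y).1 hy).2 (congrArg Subtype.val ((Equiv.eq_symm_apply Co.e).2 e0))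
    have h2 : tM ^ i = 1 := (htpow_one i).2 (Units.ext (mul_right_cancel₀ hne (h1.symm.trans (one_mul _).symm)))
    rw [h2]; rfl
  have hTstab : ∀ g ∈ L, g • o = o → g • z0 = z0 → g ∈ T := by
    intro g hgL hgo hgz
    have hle : Subgroup.zpowers tM ≤ stabilizer M z1 := by
      rw [Subgroup.zpowers_le]; simpa using htfix 1
    have hcardst : Nat.card (stabilizer M z1) = m := by
      have h := (stabilizer M z1).card_mul_index
      rw [index_stabilizer, orbit_eq_univ, Set.ncard_univ, hWc, hMc, mul_comm] at h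
      exact Nat.eq_of_mul_eq_mul_left hp'.pos h
    have heq := Subgroup.eq_of_le_of_card_ge hle (by rw [hcardst, Nat.card_zpowers, hto])
    have hg' : (⟨⟨g, hgo⟩, hgL⟩ : M) ∈ stabilizer M z1 := Subtype.ext hgz
    rw [← heq, ← mem_powers_iff_mem_zpowers] at hg'
    obtain ⟨i, hi⟩ := hg'
    exact (memT g).2 ⟨i, congrArg (fun a : M => ((a : Xo) : X)) hi⟩
  have hTm : ∀ x ∈ T, x ^ m = 1 := fun x hx => by
    obtain ⟨i, rfl⟩ := (mem_powers_iff_mem_zpowers.2 hx : x ∈ Submonoid.powers tX)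
    rw [← pow_mul, mul_comm, pow_mul, ← htXo, pow_orderOf_eq_one, one_pow]
  obtain ⟨w0, hw0L, hw0o, hw0z⟩ := hL2 hzo.symm hzo
  have hw2T : w0 * w0 ∈ T := hTstab _ (L.mul_mem hw0L hw0L) (by rw [mul_smul, hw0o, hw0z]) (by rw [mul_smul, hw0z, hw0o])
  obtain ⟨k, hk⟩ := hm2
  set w := w0 ^ m with hwdef
  have hwL : w ∈ L := L.pow_mem hw0L m
  have hkfix : ∀ i : ℕ, S0 ((w0 * w0) ^ i) := fun i => hTS0 _ (T.pow_mem hw2T i)
  have hwk : w = (w0 * w0) ^ k * w0 := by rw [hwdef, hk, pow_succ, pow_mul, pow_two]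
  have hwo : w • o = z0 := by rw [hwk, mul_smul, hw0o, (hkfix k).2]
  have hwz : w • z0 = o := by rw [hwk, mul_smul, hw0z, (hkfix k).1]
  have hww : w * w = 1 := by
    rw [hwdef, ← pow_add, ← two_mul, pow_mul, pow_two]
    exact hTm _ hw2T
  have hwne : w ≠ 1 := fun h => hzo (by rw [← hwo, h, one_smul])
  have hword : orderOf w = 2 := orderOf_eq_prime (by rw [pow_two, hww]) hwne
  have hTcomm : ∀ x ∈ T, ∀ y ∈ T, x * y = y * x := fun x hx y hy => by
    obtain ⟨i, rfl⟩ := (mem_powers_iff_mem_zpowers.2 hx : x ∈ Submonoid.powers tX)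
    obtain ⟨j, rfl⟩ := (mem_powers_iff_mem_zpowers.2 hy : y ∈ Submonoid.powers tX)
    exact (Commute.refl tX).pow_pow i j |>.eq
  have hstabodd : ∀ y : Ω, ∀ g ∈ L, orderOf g = 2 → g • y ≠ y := by
    intro y g hgL hg2 hgy
    obtain ⟨a, haL, ha⟩ : ∃ a ∈ L, a • y = o := by
      by_cases hyo : y = o
      · exact ⟨1, L.one_mem, by rw [one_smul, hyo]⟩
      · obtain ⟨a, ha, h, -⟩ := hL2 hyo (Ne.symm hyo)
        exact ⟨a, ha, h⟩
    have hmem : (a * g * a⁻¹) • o = o := by
      rw [mul_smul, mul_smul, inv_smul_eq_iff.2 ha.symm, hgy, ha]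
    have h1 := orderOf_dvd_natCard (⟨⟨a * g * a⁻¹, hmem⟩, L.mul_mem (L.mul_mem haL hgL) (L.inv_mem haL)⟩ : M)
    rw [← Subgroup.orderOf_coe, ← Subgroup.orderOf_coe] at h1
    change orderOf (MulAut.conj a g) ∣ _ at h1
    rw [MulEquiv.orderOf_eq, hg2, hMc] at h1
    rcases Nat.prime_two.dvd_mul.1 h1 with h | h
    · have := (Nat.prime_dvd_prime_iff_eq Nat.prime_two hp').1 h; omega
    · obtain ⟨v, hv⟩ := h; omega
  have hcl : ∀ x ∈ L, (∀ g ∈ L, g * x = x * g) → x = 1 := by
    intro x hxL hx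
    have hxo : x • o = o := by
      by_contra hne
      obtain ⟨e, he1, he2, he3⟩ : ∃ e, e ≠ o ∧ e ≠ x • o ∧ (e : Ω) = e := by
        obtain ⟨e, -, he⟩ := exists_mem_notMem_of_card_lt_card (s := ({o, x • o} : Finset Ω)) (t := univ) (by
          refine lt_of_le_of_lt card_le_two ?_; rw [card_univ, hΩ]; omega)
        simp only [Finset.mem_insert, Finset.mem_singleton, not_or] at he
        exact ⟨e, he.1, he.2, rfl⟩
      obtain ⟨g, hgL, g1, g2⟩ := hL2 (Ne.symm hne) he1.symm
      apply he2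
      rw [← g2, ← mul_smul, hx g hgL, mul_smul, g1]
    refine FaithfulSMul.eq_of_smul_eq_smul (α := Ω) fun y => ?_
    rw [one_smul]
    by_cases hyo : y = o
    · rw [hyo, hxo]
    · obtain ⟨g, hgL, g1, -⟩ := hL2 (Ne.symm hyo) hyo
      rw [← g1, ← mul_smul, ← hx g hgL, mul_smul, hxo]
  have hinvw : ∀ x ∈ T, w * x * w = x⁻¹ := by
    intro x hx
    have hx' : w * x * w ∈ T := hTstab _ (L.mul_mem (L.mul_mem hwL (hTL hx)) hwL)
      (by rw [mul_smul, mul_smul, hwo, (hTS0 x hx).2, hwz]) (by rw [mul_smul, mul_smul, hwz, (hTS0 x hx).1, hwo])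
    have hcomm : w * (x * (w * x * w)) = (x * (w * x * w)) * w := by
      calc w * (x * (w * x * w)) = (w * x * w) * x * w := by simp only [mul_assoc]
        _ = (x * (w * x * w)) * w := by rw [hTcomm _ hx' x hx]
    exact (inv_eq_of_mul_eq_one_right (no_commuting hp7 L hL hcl hm ⟨k, hk⟩ (L.mul_mem (hTL hx) (hTL hx')) hwL
      (hTm _ (T.mul_mem hx hx')) hword hcomm)).symm
  haveI : IsCyclic T := (inferInstance : IsCyclic (Subgroup.zpowers tX))
  letI : CommGroup T := IsCyclic.commGroup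
  letI : Fintype T := Fintype.ofFinite _
  have hTcard : Fintype.card T = m := by rw [← Nat.card_eq_fintype_card, Nat.card_zpowers, htXo]
  have hfW : ∀ x : T, (x : X) • u ∈ W := fun x => S0W _ _ (hTS0 x x.2) huW
  have hwW : w • u ∈ W := (memW _).2
    ⟨fun e => hzu (MulAction.injective w (hwz.trans e.symm)), fun e => huo (MulAction.injective w (e.trans hwo.symm))⟩
  have hgW : ∀ x : T, (x : X) • w • u ∈ W := fun x => S0W _ _ (hTS0 x x.2) hwW
  have hinj1 : ∀ x y : T, ∀ z ∈ W, (x : X) • z = (y : X) • z → x = y := fun x y z hz e => by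
    have h1 : ((y⁻¹ * x : T) : X) • z = z := by
      rw [Subgroup.coe_mul, Subgroup.coe_inv, mul_smul, e, inv_smul_smul]
    exact (inv_mul_eq_one.1 (Subtype.ext (hTfree _ (y⁻¹ * x).2 z hz h1) : y⁻¹ * x = 1)).symm
  have hrefl2 : ∀ x : T, ∀ y : Ω, (x : X) • w • y ≠ y := by
    intro x y e
    rw [← mul_smul] at e
    refine hstabodd y _ (L.mul_mem (hTL x.2) hwL) (orderOf_eq_prime ?_ ?_) e
    · calc ((x : X) * w) ^ 2 = (x : X) * (w * (x : X) * w) := by rw [pow_two]; simp only [mul_assoc]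
        _ = 1 := by rw [hinvw _ x.2, mul_inv_cancel]
    · intro h
      have : ((x : X) * w) • o = o := by rw [h, one_smul]
      rw [mul_smul, hwo, (hTS0 x x.2).2] at this
      exact hzo this
  have hsum : ∀ Q : Ω → Prop, (W.filter Q).card =
      (univ.filter fun x : T => Q ((x : X) • u)).card + (univ.filter fun x : T => Q ((x : X) • w • u)).card := by
    intro Q
    set W1 := univ.image fun x : T => (x : X) • u
    set W2 := univ.image fun x : T => (x : X) • w • u
    have i1 : Function.Injective fun x : T => (x : X) • u := fun x y e => hinj1 x y u huW e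
    have i2 : Function.Injective fun x : T => (x : X) • w • u := fun x y e => hinj1 x y _ hwW e
    have hd : Disjoint W1 W2 := disjoint_left.2 fun a ha hb => by
      obtain ⟨x, -, rfl⟩ := mem_image.1 ha
      obtain ⟨y, -, e⟩ := mem_image.1 hb
      refine hrefl2 (x⁻¹ * y) u ?_
      rw [Subgroup.coe_mul, Subgroup.coe_inv, mul_smul, e, inv_smul_smul]
    have hW : W1 ∪ W2 = W := eq_of_subset_of_card_le
      (union_subset (image_subset_iff.2 fun x _ => hfW x) (image_subset_iff.2 fun x _ => hgW x))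
      (by rw [card_union_of_disjoint hd, card_image_of_injective _ i1, card_image_of_injective _ i2, card_univ,
        hTcard, hWcard]; omega)
    rw [← hW, filter_union, card_union_of_disjoint (disjoint_filter_filter hd), filter_image, filter_image,
      card_image_of_injective _ i1, card_image_of_injective _ i2]
  set a : Finset T := univ.filter fun x : T => R u ((x : X) • u) with ha
  set b : Finset T := univ.filter fun x : T => R u ((x : X) • w • u) with hb
  have hk' : a.card + b.card = A.card := by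
    rw [ha, hb, ← hsum (fun z => R u z)]; exact hdeg u huW
  have hshift : ∀ (x : T) (z : Ω), R ((x : X) • u) z ↔ R u (((x⁻¹ : T) : X) • z) := fun x z => by
    rw [← Rinv' ((x⁻¹ : T) : X) _ _ (hTS0 _ (x⁻¹).2), Subgroup.coe_inv, inv_smul_smul]
  have hswap : ∀ y z, R (w • y) (w • z) ↔ R y z := fun y z => by
    refine ⟨fun h => ?_, Rw w hwo hwz y z⟩
    have := Rw w hwo hwz _ _ h
    rwa [← mul_smul, ← mul_smul, hww, one_smul, one_smul] at this
  have hwx : ∀ (x : T) (z : Ω), w • (x : X) • w • z = ((x⁻¹ : T) : X) • z := fun x z => by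
    rw [← mul_smul, ← mul_smul, Subgroup.coe_inv, ← hinvw _ x.2]
  have hain : ∀ x ∈ a, x⁻¹ ∈ a := fun x hx => by
    rw [ha, mem_filter] at hx ⊢
    refine ⟨mem_univ _, ?_⟩
    have := Rsymm _ _ hx.2
    rwa [hshift] at this
  have hmema : ∀ x : T, x ∈ a ↔ R u ((x : X) • u) := fun x => by rw [ha, mem_filter, and_iff_right (mem_univ _)]
  have hmemb : ∀ x : T, x ∈ b ↔ R u ((x : X) • w • u) := fun x => by rw [hb, mem_filter, and_iff_right (mem_univ _)]
  have key1 : ∀ x y : T, R ((x : X) • u) ((y : X) • u) ↔ y⁻¹ * x ∈ a := fun x y => by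
    rw [hshift, ← mul_smul, ← Subgroup.coe_mul, ← hmema]
    constructor
    · intro h; have := hain _ h; rwa [mul_inv_rev, inv_inv] at this
    · intro h; have := hain _ h; rwa [mul_inv_rev, inv_inv] at this
  have key2 : ∀ x y : T, R ((x : X) • u) ((y : X) • w • u) ↔ x⁻¹ * y ∈ b := fun x y => by
    rw [hshift, ← mul_smul, ← Subgroup.coe_mul, ← hmemb]
  have key3 : ∀ x y : T, R ((x : X) • w • u) ((y : X) • u) ↔ y⁻¹ * x ∈ b := fun x y =>
    ⟨fun h => (key2 y x).1 (Rsymm _ _ h), fun h => Rsymm _ _ ((key2 y x).2 h)⟩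
  have key4 : ∀ x y : T, R ((x : X) • w • u) ((y : X) • w • u) ↔ y⁻¹ * x ∈ a := fun x y => by
    rw [← hswap, hwx, hwx, key1, inv_inv]
    have e : (y * x⁻¹)⁻¹ = y⁻¹ * x := by rw [mul_inv_rev, inv_inv, mul_comm]
    constructor
    · intro h; have := hain _ h; rwa [e] at this
    · intro h; rw [← e] at h; have := hain _ h; rwa [inv_inv] at this
  refine CfsgLib.PGroup.DihedralSRG.no_srg (C := T) (by rw [hTcard]; exact ⟨k, hk⟩) (by rw [hTcard]; omega) a b l μ
    (fun h => hirr u ?_) hain hμpos (by rw [hk']; exact hμlt) (by rw [hk', hTcard]; exact hcompl) ?_ ?_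
  · have := (hmema 1).1 h
    rwa [Subgroup.coe_one, one_smul] at this
  · intro x hx
    have hne : u ≠ (x : X) • u := fun e => hx (hinj1 x 1 u huW (by rw [Subgroup.coe_one, one_smul]; exact e.symm))
    have h := hCn' u huW _ (hfW x) hne
    refine Eq.trans ?_ (h.trans ?_)
    · show _ = (W.filter fun z => R u z ∧ R ((x : X) • u) z).card
      refine Eq.trans ?_ ((hsum (fun z => R u z ∧ R ((x : X) • u) z)).symm.trans (by congr!))
      congr 1
      · congr 1; ext y
        simp only [mem_filter, mem_univ, true_and, key1, hmema]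
      · congr 1; ext y
        simp only [mem_filter, mem_univ, true_and, key2, hmemb]
    · by_cases hxa : x ∈ a
      · rw [if_pos hxa, if_pos ((hmema x).1 hxa)]
      · rw [if_neg hxa, if_neg fun h' => hxa ((hmema x).2 h')]
  · intro x
    have hne : u ≠ (x : X) • w • u := fun e => hrefl2 x u e.symm
    have h := hCn' u huW _ (hgW x) hne
    refine Eq.trans ?_ (h.trans ?_)
    · show _ = (W.filter fun z => R u z ∧ R ((x : X) • w • u) z).card
      refine Eq.trans ?_ ((hsum (fun z => R u z ∧ R ((x : X) • w • u) z)).symm.trans (by congr!))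
      congr 1
      · congr 1; ext y
        simp only [mem_filter, mem_univ, true_and, key3, hmema]
      · congr 1; ext y
        simp only [mem_filter, mem_univ, true_and, key4, hmemb]
    · by_cases hxb : x ∈ b
      · rw [if_pos hxb, if_pos ((hmemb x).1 hxb)]
      · rw [if_neg hxb, if_neg fun h' => hxb ((hmemb x).2 h')]

end CfsgLib.PGroup.PSL2OverLine
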