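import Cfsg.Agent.S2508
import Cfsg.Agent.Lib.Classical.SLBasic
import Cfsg.Agent.Lib.PGroup.PSL2Column

/-!
# Sylow numbers of `PSL₂(17)`
-/

set_option autoImplicit false
set_option linter.style.haveILetI false

namespace CfsgLib.PGroup.PSL2Seventeen

open scoped MatrixGroups

local notation "L" => Matrix.ProjectiveSpecialLinearGroup (Fin 2) (ZMod 17)

instance : Fact (Nat.Prime 17) := ⟨by norm_num⟩

theorem card_eq : Nat.card L = 2448 := by
  have h := PSL2Column.card_psl_odd (F := ZMod 17) (by rw [ZMod.card]; decide)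
  rw [ZMod.card] at h
  omega

theorem simple : IsSimpleGroup L := CfsgLib.Classical.psl_fin_isSimpleGroup le_rfl fun _ => by rw [ZMod.card]; norm_num

/-- The image in `PSL₂(17)` has order `n` when the matrix power is a sign and a proper divisor power is not. -/
theorem pow_eq_one_iff (g : SL(2, ZMod 17)) (n : ℕ) :
    (QuotientGroup.mk' (Subgroup.center SL(2, ZMod 17)) g) ^ n = 1 ↔ g ^ n = 1 ∨ g ^ n = -1 := by
  rw [← map_pow, QuotientGroup.mk'_apply, QuotientGroup.eq_one_iff]
  refine ⟨CfsgLib.Classical.sl2_center_eq, ?_⟩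
  rintro (h | h) <;> rw [h]
  · exact one_mem _
  · exact Subgroup.mem_center_iff.2 fun x => by simp

theorem exists_nine : ∃ x : L, orderOf x = 9 := by
  let g : SL(2, ZMod 17) := ⟨!![14, 16; 1, 0], by decide⟩
  refine ⟨QuotientGroup.mk' _ g, ?_⟩
  refine orderOf_eq_prime_pow (p := 3) (n := 1) (hp := ⟨Nat.prime_three⟩) ?_ ?_
  · rw [pow_eq_one_iff]; decide +kernel
  · exact (pow_eq_one_iff g (3 ^ 2)).2 (by decide +kernel)

theorem exists_eight : ∃ x : L, orderOf x = 8 := by
  let g : SL(2, ZMod 17) := ⟨!![3, 0; 0, 6], by decide⟩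
  refine ⟨QuotientGroup.mk' _ g, ?_⟩
  refine orderOf_eq_prime_pow (p := 2) (n := 2) (hp := ⟨Nat.prime_two⟩) ?_ ?_
  · rw [pow_eq_one_iff]; decide +kernel
  · exact (pow_eq_one_iff g (2 ^ 3)).2 (by decide +kernel)

/-- Centralisers of nontrivial elements. -/
theorem card_centralizer {x : L} (hx : x ≠ 1) :
    Nat.card (Subgroup.centralizer ({x} : Set L)) ∈ ({17, 16, 9, 8} : Finset ℕ) := by
  classical
  haveI := simple
  have h := (Cfsg.Agent.S2508.result (F := ZMod 17) (by rw [ZMod.card]; decide) (by rw [ZMod.card]; decide)).1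
    (by rw [ZMod.card])
  have hm : (Subgroup.centralizer ({x} : Set L)).index ∈ ({1, 144, 153, 272, 306} : Set ℕ) := by
    have hh : (Subgroup.centralizer ({x} : Set L)).index ∈ Set.range (fun g : L => (Subgroup.centralizer ({g} : Set L)).index) := ⟨x, rfl⟩
    rw [h] at hh
    simpa [ZMod.card] using hh
  have hc := (Subgroup.centralizer ({x} : Set L)).card_mul_index
  rw [card_eq] at hc
  simp only [Set.mem_insert_iff, Set.mem_singleton_iff] at hm
  rcases hm with h | h | h | h | h <;> rw [h] at hc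
  · exfalso
    have hcen : x ∈ Subgroup.center L := by
      rw [Subgroup.index_eq_one] at h
      refine Subgroup.mem_center_iff.2 fun g => ?_
      exact Subgroup.mem_centralizer_singleton_iff.1 (h ▸ Subgroup.mem_top g)
    rcases Subgroup.Normal.eq_bot_or_eq_top (inferInstance : (Subgroup.center L).Normal) with hb | hb
    · rw [hb, Subgroup.mem_bot] at hcen; exact hx hcen
    · obtain ⟨y, hy⟩ := exists_nine
      have hc1 : Subgroup.centralizer ({y} : Set L) = ⊤ := by
        rw [eq_top_iff]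
        intro g _
        rw [Subgroup.mem_centralizer_singleton_iff]
        exact Subgroup.mem_center_iff.1 (hb ▸ Subgroup.mem_top y) g
      have h1 := Cfsg.Agent.S2508.result (F := ZMod 17) (by rw [ZMod.card]; decide) (by rw [ZMod.card]; decide)
      have h2 : (144 : ℕ) ∈ Set.range (fun g : L => (Subgroup.centralizer ({g} : Set L)).index) := by
        rw [h1.1 (by rw [ZMod.card])]
        simp [ZMod.card]
      obtain ⟨g, hg⟩ := h2
      have : Subgroup.centralizer ({g} : Set L) = ⊤ := by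
        rw [eq_top_iff]
        intro k _
        rw [Subgroup.mem_centralizer_singleton_iff]
        exact Subgroup.mem_center_iff.1 (hb ▸ Subgroup.mem_top g) k
      simp only [this, Subgroup.index_top] at hg
      omega
  all_goals (simp only [Finset.mem_insert, Finset.mem_singleton]; omega)

/-- An element of order three centralising a nontrivial element commutes only with a group of order nine. -/
theorem card_centralizer_of_dvd {x : L} (hx : x ≠ 1) {r : ℕ} (hr : r ∣ Nat.card (Subgroup.centralizer ({x} : Set L))) :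
    r ∣ 17 ∨ r ∣ 16 ∨ r ∣ 9 ∨ r ∣ 8 := by
  have := card_centralizer hx
  simp only [Finset.mem_insert, Finset.mem_singleton] at this
  rcases this with h | h | h | h <;> rw [h] at hr <;> tauto

theorem sylow_three : 136 ≤ Nat.card (Sylow 3 L) := by
  haveI : Fact (Nat.Prime 3) := ⟨Nat.prime_three⟩
  obtain ⟨x, hx⟩ := exists_nine
  have hfac : Nat.card L = 3 ^ 2 * 272 := card_eq
  have hPc : ∀ P : Sylow 3 L, Nat.card (P : Subgroup L) = 9 := fun P => by
    rw [P.card_eq_multiplicity, hfac, Nat.factorization_mul (by norm_num) (by norm_num), Finsupp.add_apply,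
      Nat.prime_three.factorization_pow, Nat.factorization_eq_zero_of_not_dvd (by norm_num)]
    simp
  obtain ⟨P, hP⟩ := (IsPGroup.of_card (n := 2) (by rw [Nat.card_zpowers, hx]; rfl) :
    IsPGroup 3 (Subgroup.zpowers x)).exists_le_sylow
  have hPe : (P : Subgroup L) = Subgroup.zpowers x :=
    (Subgroup.eq_of_le_of_card_ge hP (by rw [hPc, Nat.card_zpowers, hx])).symm
  set N := Subgroup.normalizer ((P : Subgroup L) : Set L) with hN
  have hidx : Nat.card (Sylow 3 L) = N.index := P.card_eq_index_normalizer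
  have hmul := N.card_mul_index
  rw [card_eq] at hmul
  have hx1 : x ≠ 1 := fun h => by rw [h, orderOf_one] at hx; omega
  have hC : Nat.card (Subgroup.centralizer ({x} : Set L)) = 9 := by
    have h9 : 9 ∣ Nat.card (Subgroup.centralizer ({x} : Set L)) := by
      rw [← hx, ← Nat.card_zpowers]
      exact Subgroup.card_dvd_of_le (Subgroup.zpowers_le.2 (Subgroup.mem_centralizer_singleton_iff.2 rfl))
    have := card_centralizer hx1
    simp only [Finset.mem_insert, Finset.mem_singleton] at this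
    omega
  have hN54 : Nat.card N ≤ 54 := by
    let f : N → Subgroup.zpowers x := fun g => ⟨(g : L) * x * (g : L)⁻¹, by
      rw [← hPe]; exact (Subgroup.mem_normalizer_iff.1 g.2 x).1 (hPe ▸ Subgroup.mem_zpowers x)⟩
    classical
    letI := Fintype.ofFinite N
    letI := Fintype.ofFinite (Subgroup.zpowers x)
    rw [Nat.card_eq_fintype_card, ← Finset.card_univ]
    have himg : (Finset.univ.image f).card ≤ 6 := by
      have hsub : Finset.univ.image f ⊆ Finset.univ.filter fun y => orderOf y = 9 := by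
        intro y hy
        obtain ⟨g, -, rfl⟩ := Finset.mem_image.1 hy
        refine Finset.mem_filter.2 ⟨Finset.mem_univ _, ?_⟩
        rw [← Subgroup.orderOf_coe, ← hx]
        exact orderOf_injective (MulAut.conj (g : L)).toMonoidHom (MulAut.conj (g : L)).injective x
      refine (Finset.card_le_card hsub).trans (le_of_eq ?_)
      rw [IsCyclic.card_orderOf_eq_totient (by rw [← Nat.card_eq_fintype_card, Nat.card_zpowers, hx])]
      decide
    refine (Finset.card_le_mul_card_image (f := f) Finset.univ 9 fun b hb => ?_).trans (Nat.mul_le_mul_left 9 himg)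
    obtain ⟨a, -, ha⟩ := Finset.mem_image.1 hb
    refine le_trans ?_ hC.le
    rw [← Nat.card_eq_finsetCard]
    refine Nat.card_le_card_of_injective
      (fun c => (⟨(a : L)⁻¹ * (c.1 : L), ?_⟩ : Subgroup.centralizer ({x} : Set L))) ?_
    · rw [Subgroup.mem_centralizer_singleton_iff]
      have e : (c.1 : L) * x * (c.1 : L)⁻¹ = (a : L) * x * (a : L)⁻¹ :=
        congrArg Subtype.val ((Finset.mem_filter.1 c.2).2.trans ha.symm)
      calc (a : L)⁻¹ * c.1 * x = (a : L)⁻¹ * ((c.1 : L) * x * (c.1 : L)⁻¹) * c.1 := by group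
        _ = x * ((a : L)⁻¹ * c.1) := by rw [e]; group
    · intro c c' h
      exact Subtype.ext (Subtype.ext (mul_left_cancel (congrArg Subtype.val h)))
  have h9 : 9 ∣ Nat.card N := hPc P ▸ Subgroup.card_dvd_of_le Subgroup.le_normalizer
  have hmod : N.index % 3 = 1 := by
    have := card_sylow_modEq_one 3 L
    rw [hidx] at this
    exact this
  rw [hidx]
  obtain ⟨c, hc⟩ := h9
  rw [hc] at hmul hN54
  have hc6 : c ≤ 6 := by omega
  interval_cases c <;> omega

theorem sylow_two : 153 ≤ Nat.card (Sylow 2 L) := by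
  classical
  haveI : Fact (Nat.Prime 2) := ⟨Nat.prime_two⟩
  obtain ⟨x, hx⟩ := exists_eight
  have hfac : Nat.card L = 2 ^ 4 * 153 := card_eq
  have hPc : ∀ P : Sylow 2 L, Nat.card (P : Subgroup L) = 16 := fun P => by
    rw [P.card_eq_multiplicity, hfac, Nat.factorization_mul (by norm_num) (by norm_num), Finsupp.add_apply,
      Nat.prime_two.factorization_pow, Nat.factorization_eq_zero_of_not_dvd (by norm_num)]
    simp
  obtain ⟨P, hP⟩ := (IsPGroup.of_card (n := 3) (by rw [Nat.card_zpowers, hx]; rfl) :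
    IsPGroup 2 (Subgroup.zpowers x)).exists_le_sylow
  have hxP : x ∈ (P : Subgroup L) := hP (Subgroup.mem_zpowers x)
  set N := Subgroup.normalizer ((P : Subgroup L) : Set L) with hN
  have hidx : Nat.card (Sylow 2 L) = N.index := P.card_eq_index_normalizer
  have hmul := N.card_mul_index
  rw [card_eq] at hmul
  by_contra hlt
  have hbig : 16 ∣ Nat.card N := hPc P ▸ Subgroup.card_dvd_of_le Subgroup.le_normalizer
  obtain ⟨c, hc⟩ := hbig
  have hc1 : c ≠ 1 := by rintro rfl; rw [hc] at hmul; omega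
  have hc153 : c ∣ 153 := ⟨N.index, by rw [hc] at hmul; linarith⟩
  obtain ⟨r, hr, hrc⟩ := Nat.exists_prime_and_dvd hc1
  have hr' : r = 3 ∨ r = 17 := by
    have h : r ∣ 3 * (3 * 17) := hrc.trans hc153
    rcases hr.dvd_mul.1 h with h | h
    · exact Or.inl ((Nat.prime_dvd_prime_iff_eq hr Nat.prime_three).1 h)
    rcases hr.dvd_mul.1 h with h | h
    · exact Or.inl ((Nat.prime_dvd_prime_iff_eq hr Nat.prime_three).1 h)
    · exact Or.inr ((Nat.prime_dvd_prime_iff_eq hr (by norm_num)).1 h)
  haveI := Fact.mk hr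
  obtain ⟨⟨u, huN⟩, hu⟩ := exists_prime_orderOf_dvd_card' (G := N) r (hc ▸ dvd_mul_of_dvd_right hrc 16)
  rw [Subgroup.orderOf_mk] at hu
  have hu1 : u ≠ 1 := fun h => by rw [h, orderOf_one] at hu; exact hr.one_lt.ne hu
  -- nothing nontrivial in `P` commutes with `u`
  have hfpf : ∀ y ∈ (P : Subgroup L), Commute u y → y = 1 := by
    intro y hy huy
    by_contra hy1
    have hc' := card_centralizer hu1
    have h1 : orderOf y ∣ Nat.card (Subgroup.centralizer ({u} : Set L)) := by
      rw [← Nat.card_zpowers]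
      exact Subgroup.card_dvd_of_le (Subgroup.zpowers_le.2 (Subgroup.mem_centralizer_singleton_iff.2 huy.eq.symm))
    have h2 : r ∣ Nat.card (Subgroup.centralizer ({u} : Set L)) := by
      rw [← hu, ← Nat.card_zpowers]
      exact Subgroup.card_dvd_of_le (Subgroup.zpowers_le.2 (Subgroup.mem_centralizer_singleton_iff.2 rfl))
    obtain ⟨k, hk⟩ := IsPGroup.iff_orderOf.1 P.isPGroup' ⟨y, hy⟩
    rw [Subgroup.orderOf_mk] at hk
    have h2' : 2 ∣ orderOf y := by
      rcases k with _ | k
      · exact absurd (orderOf_eq_one_iff.1 (by simpa using hk)) hy1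
      · exact hk ▸ dvd_pow_self 2 k.succ_ne_zero
    have h3 := h2'.trans h1
    simp only [Finset.mem_insert, Finset.mem_singleton] at hc'
    rcases hr' with rfl | rfl <;> rcases hc' with h | h | h | h <;> rw [h] at h2 h3 <;> omega
  have hconj : ∀ y ∈ (P : Subgroup L), u * y * u⁻¹ ∈ (P : Subgroup L) := fun y hy =>
    (Subgroup.mem_normalizer_iff.1 huN y).1 hy
  -- squares of elements of `P` lie in a cyclic group of order at most sixteen
  obtain ⟨z, hz, hsub⟩ : ∃ z ∈ (P : Subgroup L), z ≠ 1 ∧ ∀ y ∈ (P : Subgroup L), y * y ∈ Subgroup.zpowers z := by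
    by_cases hcyc : ∃ y ∈ (P : Subgroup L), orderOf y = 16
    · obtain ⟨y, hy, hy16⟩ := hcyc
      refine ⟨y, hy, fun h => by rw [h, orderOf_one] at hy16; omega, fun w hw => ?_⟩
      have e : Subgroup.zpowers y = (P : Subgroup L) :=
        Subgroup.eq_of_le_of_card_ge (Subgroup.zpowers_le.2 hy) (by rw [Nat.card_zpowers, hy16, hPc])
      rw [e]; exact Subgroup.mul_mem _ hw hw
    · push Not at hcyc
      let H := (Subgroup.zpowers x).subgroupOf (P : Subgroup L)
      have hH : H.index = 2 := by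
        have h := H.card_mul_index
        rw [Nat.card_congr (Subgroup.subgroupOfEquivOfLe hP).toEquiv, Nat.card_zpowers, hx, hPc] at h
        omega
      refine ⟨x ^ 2, Subgroup.pow_mem _ hxP 2, fun h => ?_, fun y hy => ?_⟩
      · have := Nat.le_of_dvd two_pos (orderOf_dvd_of_pow_eq_one h); omega
      have h2 := Subgroup.sq_mem_of_index_two hH ⟨y, hy⟩
      rw [Subgroup.mem_subgroupOf, SubmonoidClass.coe_pow, sq] at h2
      obtain ⟨k, hk⟩ := mem_powers_iff_mem_zpowers.2 h2
      replace hk : x ^ k = y * y := hk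
      obtain ⟨j, hj⟩ | ⟨j, hj⟩ := Nat.even_or_odd k
      · exact ⟨(j : ℤ), by show (x ^ 2) ^ (j : ℤ) = y * y; rw [zpow_natCast, ← pow_mul, ← hk, hj, ← two_mul]⟩
      exfalso
      obtain ⟨i, hi⟩ := IsPGroup.iff_orderOf.1 P.isPGroup' ⟨y, hy⟩
      rw [Subgroup.orderOf_mk] at hi
      have h8 : orderOf (y * y) = 8 := by
        rw [← hk, Nat.Coprime.orderOf_pow, hx]
        rw [hx]
        exact Nat.Coprime.pow_left 3 (Nat.coprime_two_left.2 (hj ▸ odd_two_mul_add_one j))
      have hi0 : i ≠ 0 := by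
        rintro rfl
        rw [show y = 1 from orderOf_eq_one_iff.1 (by simpa using hi), one_mul, orderOf_one] at h8
        omega
      have h16 : orderOf y = 16 := by
        have e := orderOf_pow_of_dvd (x := y) (n := 2) two_ne_zero (hi ▸ dvd_pow_self 2 hi0)
        rw [sq, h8] at e
        have := Nat.div_mul_cancel (hi ▸ dvd_pow_self 2 hi0 : 2 ∣ orderOf y)
        omega
      exact hcyc y hy h16
  obtain ⟨hz1, hsq⟩ := hsub
  -- a generator of the squares is centralised by `u`
  let S := Subgroup.closure {w : L | ∃ y ∈ (P : Subgroup L), y * y = w}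
  have hSz : S ≤ Subgroup.zpowers z := by
    rw [Subgroup.closure_le]
    rintro w ⟨y, hy, rfl⟩
    exact hsq y hy
  have hx2 : x * x ∈ S := Subgroup.subset_closure ⟨x, hxP, rfl⟩
  have hS1 : x * x ≠ 1 := fun h => by
    have := Nat.le_of_dvd two_pos (orderOf_dvd_of_pow_eq_one ((sq x).trans h))
    omega
  have hSu : ∀ w ∈ S, u * w * u⁻¹ ∈ S := by
    intro w hw
    refine (Subgroup.closure_le (K := S.comap (MulAut.conj u).toMonoidHom)).2 ?_ hw
    rintro w ⟨y, hy, rfl⟩
    show u * (y * y) * u⁻¹ ∈ S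
    exact Subgroup.subset_closure ⟨u * y * u⁻¹, hconj y hy, by group⟩
  have hScyc : IsCyclic S := isCyclic_of_injective (Subgroup.inclusion hSz) (Subgroup.inclusion_injective hSz)
  obtain ⟨⟨g, hg⟩, hgen⟩ := hScyc.exists_generator
  obtain ⟨e, he⟩ := hgen ⟨u * g * u⁻¹, hSu g hg⟩
  replace he : g ^ e = u * g * u⁻¹ := congrArg Subtype.val he
  have hgP : g ∈ (P : Subgroup L) := by
    have : S ≤ (P : Subgroup L) := by
      rw [Subgroup.closure_le]
      rintro w ⟨y, hy, rfl⟩
      exact Subgroup.mul_mem _ hy hy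
    exact this hg
  have hpow : ∀ n : ℕ, u ^ n * g * (u ^ n)⁻¹ = g ^ (e ^ n) := by
    intro n
    induction n with
    | zero => simp
    | succ n ih =>
      calc u ^ (n + 1) * g * (u ^ (n + 1))⁻¹ = u * (u ^ n * g * (u ^ n)⁻¹) * u⁻¹ := by rw [pow_succ']; group
        _ = u * g ^ (e ^ n) * u⁻¹ := by rw [ih]
        _ = (g ^ e) ^ (e ^ n) := by rw [he, ← conj_zpow]
        _ = g ^ (e ^ (n + 1)) := by rw [← zpow_mul, pow_succ', mul_comm]
  have her : g = g ^ (e ^ r) := by
    rw [← hpow r, ← hu, pow_orderOf_eq_one]; simp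
  -- the exponent is odd, so the generator and its conjugate agree modulo the order
  have hg1 : g ≠ 1 := by
    rintro rfl
    obtain ⟨k, hk⟩ := hgen ⟨x * x, hx2⟩
    exact hS1 (by simpa using (congrArg Subtype.val hk).symm)
  obtain ⟨i, hi⟩ := IsPGroup.iff_orderOf.1 P.isPGroup' ⟨g, hgP⟩
  rw [Subgroup.orderOf_mk] at hi
  have hd : ((orderOf g : ℕ) : ℤ) ∣ e ^ r - 1 := by
    rw [orderOf_dvd_iff_zpow_eq_one, zpow_sub_one, ← her, mul_inv_cancel]
  have hunit : IsUnit ((e : ℤ) : ZMod (orderOf g)) ∧ ((e : ℤ) : ZMod (orderOf g)) ^ r = 1 := by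
    have h1 : ((e : ℤ) : ZMod (orderOf g)) ^ r = 1 := by
      have := (ZMod.intCast_zmod_eq_zero_iff_dvd (e ^ r - 1) (orderOf g)).2 hd
      push_cast at this
      exact sub_eq_zero.1 this
    exact ⟨IsUnit.of_pow_eq_one h1 hr.ne_zero, h1⟩
  obtain ⟨⟨w, hw⟩, hwr⟩ := hunit
  rw [← hw] at hwr
  haveI : NeZero (orderOf g) := ⟨(orderOf_pos g).ne'⟩
  have hwo : orderOf w ∣ Nat.gcd r (Nat.card (ZMod (orderOf g))ˣ) :=
    Nat.dvd_gcd (orderOf_dvd_of_pow_eq_one (Units.ext (by simpa using hwr))) (orderOf_dvd_natCard w)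
  have hcop : Nat.gcd r (Nat.card (ZMod (orderOf g))ˣ) = 1 := by
    refine (Nat.Prime.coprime_iff_not_dvd hr).2 fun h => ?_
    rw [Nat.card_eq_fintype_card, ZMod.card_units_eq_totient, hi] at h
    rcases i with _ | i
    · simp at h; exact hr.ne_one h
    · rw [Nat.totient_prime_pow Nat.prime_two i.succ_pos] at h
      simp at h
      have := (Nat.prime_dvd_prime_iff_eq hr Nat.prime_two).1 (hr.dvd_of_dvd_pow h)
      omega
  rw [hcop, Nat.dvd_one, orderOf_eq_one_iff] at hwo
  have he1 : g ^ e = g := by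
    have h : ((e : ℤ) : ZMod (orderOf g)) = ((1 : ℤ) : ZMod (orderOf g)) := by rw [← hw, hwo]; simp
    rw [ZMod.intCast_eq_intCast_iff_dvd_sub, orderOf_dvd_iff_zpow_eq_one, zpow_sub, zpow_one, mul_inv_eq_one] at h
    exact h.symm
  exact hg1 (hfpf g hgP (mul_inv_eq_iff_eq_mul.1 (he.symm.trans he1)))

end CfsgLib.PGroup.PSL2Seventeen
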