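import Cfsg.Agent.Lib.PGroup.PSL2Column

/-!
# Perfect groups of the order of `PSL₂(p²)` with self-centralising Sylow `p`-subgroup
-/

set_option autoImplicit false
set_option linter.unusedSectionVars false
set_option linter.style.haveILetI false

namespace CfsgLib.PGroup.PSL2Column

open MulAction
open scoped Pointwise

variable {G : Type*} [Group G] [Finite G] {p : ℕ} [hp : Fact p.Prime]

/-- Recognition of `PSL₂(p²)`. -/
theorem recognise (h3 : 3 ≤ p) (hperf : commutator G = ⊤)
    (hcard : 2 * Nat.card G = p ^ 2 * ((p ^ 2 - 1) * (p ^ 2 + 1)))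
    (hC : ∀ x y : G, (∃ k, orderOf x = p ^ k) → x ≠ 1 → Commute x y →
      ∀ r : ℕ, r.Prime → orderOf y = r → r = p) :
    ∃ (K : Type) (_ : Field K) (_ : Fintype K), Fintype.card K = p ^ 2 ∧
      Nonempty (G ≃* Matrix.ProjectiveSpecialLinearGroup (Fin 2) K) := by
  classical
  have hodd : Odd p := hp.out.odd_of_ne_two (by omega)
  set q := p ^ 2 with hq
  have hq9 : 9 ≤ q := by rw [hq]; nlinarith
  have hq4 : q % 4 = 1 := by
    obtain ⟨a, ha⟩ := hodd
    rw [hq, ha, show (2 * a + 1) ^ 2 = 4 * (a * a + a) + 1 by ring]; omega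
  set M := (q - 1) * (q + 1) / 2 with hM
  have hM2 : 2 * M = (q - 1) * (q + 1) :=
    Nat.mul_div_cancel' (dvd_mul_of_dvd_left (by omega) _)
  have hG : Nat.card G = q * M := by
    have h : 2 * Nat.card G = 2 * (q * M) := by rw [hcard, ← hM2]; ring
    omega
  have hMp : ¬ p ∣ M := by
    intro h
    have h1 : p ∣ (q - 1) * (q + 1) := hM2 ▸ dvd_mul_of_dvd_right h 2
    have hpq : p ∣ q := dvd_pow_self p two_ne_zero
    rcases hp.out.dvd_mul.1 h1 with h2 | h2
    · have h4 := Nat.dvd_sub hpq h2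
      rw [Nat.sub_sub_self (by omega)] at h4
      exact hp.out.not_dvd_one h4
    · exact hp.out.not_dvd_one ((Nat.dvd_add_right hpq).1 h2)
  have hfac : (Nat.card G).factorization p = 2 := by
    rw [hG, Nat.factorization_mul (by omega) (by intro h; rw [h] at hMp; exact hMp (dvd_zero p)),
      Finsupp.add_apply, Nat.factorization_eq_zero_of_not_dvd hMp, hq, hp.out.factorization_pow]
    simp
  have hPc : ∀ P : Sylow p G, Nat.card (P : Subgroup G) = q := fun P => by
    rw [P.card_eq_multiplicity, hfac]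
  have hPab : ∀ P : Sylow p G, ∀ a ∈ (P : Subgroup G), ∀ b ∈ (P : Subgroup G), a * b = b * a :=
    fun P a ha b hb => congrArg Subtype.val
      (IsPGroup.commutative_of_card_eq_prime_sq (hPc P) (⟨a, ha⟩ : (P : Subgroup G)) ⟨b, hb⟩)
  -- centralisers of `p`-elements
  have hcent : ∀ (P : Sylow p G) (x : G), x ∈ (P : Subgroup G) → x ≠ 1 →
      Subgroup.centralizer ({x} : Set G) = (P : Subgroup G) := by
    intro P x hx hx1
    refine P.is_maximal' (fun c => ?_) fun a ha => Subgroup.mem_centralizer_singleton_iff.2 (hPab P a ha x hx)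
    obtain ⟨k, hk⟩ := IsPGroup.iff_orderOf.1 P.isPGroup' ⟨x, hx⟩
    rw [Subgroup.orderOf_mk] at hk
    refine ⟨(orderOf c).factorization p, orderOf_dvd_iff_pow_eq_one.1 ?_⟩
    have hall : ∀ r : ℕ, r.Prime → r ∣ orderOf c → r = p := by
      intro r hr hrd
      haveI := Fact.mk hr
      obtain ⟨y, hy⟩ := exists_prime_orderOf_dvd_card' (G := Subgroup.zpowers c) r (by rwa [Nat.card_zpowers])
      refine hC x (((y : Subgroup.centralizer ({x} : Set G)) : G)) ⟨k, hk⟩ hx1 ?_ r hr ?_
      · exact (Subgroup.mem_centralizer_singleton_iff.1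
          (y : Subgroup.centralizer ({x} : Set G)).2).symm
      · rw [Subgroup.orderOf_coe, Subgroup.orderOf_coe, hy]
    exact (Nat.eq_prime_pow_of_unique_prime_dvd (orderOf_pos c).ne' (fun {d} hd hdd => hall d hd hdd) ▸ by
      rw [hp.out.factorization_pow, Finsupp.single_eq_same])
  have hTI : ∀ (P Q : Sylow p G) (x : G), x ∈ (P : Subgroup G) → x ∈ (Q : Subgroup G) → x ≠ 1 → P = Q :=
    fun P Q x h1 h2 hx => Sylow.ext ((hcent P x h1 hx).symm.trans (hcent Q x h2 hx))
  -- `p`-elements normalising a Sylow subgroup lie in it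
  have hfix : ∀ (P Q : Sylow p G) (u : G), u ∈ (P : Subgroup G) → u • Q = Q → u ∈ (Q : Subgroup G) := by
    intro P Q u hu hQ
    have h1 : Subgroup.zpowers u ≤ Subgroup.normalizer ((Q : Subgroup G) : Set G) :=
      Subgroup.zpowers_le.2 (Sylow.smul_eq_iff_mem_normalizer.1 hQ)
    have h2 : IsPGroup p (Subgroup.zpowers u) := P.isPGroup'.to_le (Subgroup.zpowers_le.2 hu)
    exact Q.is_maximal' (h2.to_sup_of_normal_right' Q.isPGroup' h1) le_sup_right ▸
      (le_sup_left : Subgroup.zpowers u ≤ Subgroup.zpowers u ⊔ (Q : Subgroup G)) (Subgroup.mem_zpowers u)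
  have hfree : ∀ (P Q : Sylow p G) (u v : G), u ∈ (P : Subgroup G) → v ∈ (P : Subgroup G) → Q ≠ P →
      u • Q = v • Q → u = v := by
    intro P Q u v hu hv hQ h
    have h1 : (v⁻¹ * u) • Q = Q := by rw [mul_smul, h, inv_smul_smul]
    have hm := Subgroup.mul_mem _ ((P : Subgroup G).inv_mem hv) hu
    by_contra hne
    exact hQ (hTI Q P _ (hfix P Q _ hm h1) hm fun e => hne (inv_mul_eq_one.1 e).symm)
  obtain ⟨P⟩ : Nonempty (Sylow p G) := inferInstance
  set n := Nat.card (Sylow p G) with hn
  set m := Nat.card (Subgroup.normalizer ((P : Subgroup G) : Set G)) / q with hm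
  have hPN : (P : Subgroup G) ≤ Subgroup.normalizer ((P : Subgroup G) : Set G) := Subgroup.le_normalizer
  have hNc : Nat.card (Subgroup.normalizer ((P : Subgroup G) : Set G)) = q * m :=
    (Nat.mul_div_cancel' (hPc P ▸ Subgroup.card_dvd_of_le hPN)).symm
  have hnm : n * m = M := by
    have h := (Subgroup.normalizer ((P : Subgroup G) : Set G)).card_mul_index
    have e : n = (Subgroup.normalizer ((P : Subgroup G) : Set G)).index := P.card_eq_index_normalizer
    rw [← e, hNc, hG, mul_assoc] at h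
    rw [mul_comm]
    exact Nat.eq_of_mul_eq_mul_left (by omega) h
  -- the conjugates of a nontrivial element inside `P`
  obtain ⟨⟨x, hx⟩, hx1⟩ : ∃ x : (P : Subgroup G), x ≠ 1 := by
    haveI : Nontrivial (P : Subgroup G) := Finite.one_lt_card_iff_nontrivial.1 (by rw [hPc]; omega)
    exact exists_ne 1
  replace hx1 : x ≠ 1 := fun h => hx1 (Subtype.ext h)
  have hmq : m ≤ q - 1 := by
    let N := Subgroup.normalizer ((P : Subgroup G) : Set G)
    let f : N → {a : (P : Subgroup G) // a ≠ 1} := fun g =>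
      ⟨⟨g * x * (g : G)⁻¹, (Subgroup.mem_normalizer_iff.1 g.2 x).1 hx⟩, fun h => hx1 (by
        have := congrArg Subtype.val h
        simpa using this)⟩
    letI := Fintype.ofFinite N
    letI := Fintype.ofFinite (P : Subgroup G)
    have hle : Fintype.card N ≤ q * Fintype.card {a : (P : Subgroup G) // a ≠ 1} := by
      rw [← Finset.card_univ, ← Finset.card_univ]
      refine Finset.card_le_mul_card_image_of_maps_to (f := f) (fun a _ => Finset.mem_univ _) q fun b _ => ?_
      rcases (Finset.univ.filter fun a => f a = b).eq_empty_or_nonempty with h | ⟨a₀, ha₀⟩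
      · rw [h]; simp
      rw [← hPc P, Nat.card_eq_fintype_card, ← Finset.card_univ]
      refine Finset.card_le_card_of_injOn (fun a => if h : ((a₀ : G)⁻¹ * a) ∈ (P : Subgroup G) then ⟨_, h⟩ else 1)
        (fun a _ => Finset.mem_univ _) ?_
      intro a ha a' ha' he
      have key : ∀ a : N, f a = b → ((a₀ : G)⁻¹ * a) ∈ (P : Subgroup G) := by
        intro a ha
        rw [← hcent P x hx hx1, Subgroup.mem_centralizer_singleton_iff]
        have e : (a : G) * x * (a : G)⁻¹ = a₀ * x * (a₀ : G)⁻¹ :=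
          congrArg (fun z => ((z : (P : Subgroup G)) : G)) (congrArg Subtype.val (ha.trans (Finset.mem_filter.1 ha₀).2.symm))
        calc (a₀ : G)⁻¹ * a * x = (a₀ : G)⁻¹ * ((a : G) * x * (a : G)⁻¹) * a := by group
          _ = x * ((a₀ : G)⁻¹ * a) := by rw [e]; group
      have k1 := key a (Finset.mem_filter.1 (Finset.mem_coe.1 ha)).2
      have k2 := key a' (Finset.mem_filter.1 (Finset.mem_coe.1 ha')).2
      simp only [dif_pos k1, dif_pos k2] at he
      exact Subtype.ext (mul_left_cancel (congrArg Subtype.val he))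
    rw [← Nat.card_eq_fintype_card, ← Nat.card_eq_fintype_card, hNc] at hle
    have he : Nat.card {a : (P : Subgroup G) // a ≠ 1} = q - 1 := by
      rw [Nat.card_eq_fintype_card, Fintype.card_subtype_compl, Fintype.card_subtype_eq,
        ← Nat.card_eq_fintype_card, hPc]
    rw [he] at hle
    exact Nat.le_of_mul_le_mul_left hle (by omega)
  -- the number of Sylow subgroups is one modulo `q`
  have hne1 : n ≠ 1 := by
    intro h
    rw [h, one_mul] at hnm
    nlinarith [hM2, hmq, Nat.le_mul_of_pos_left (q + 1) (show 0 < q - 1 by omega), Nat.sub_add_cancel (show 1 ≤ q by omega)]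
  obtain ⟨Q₀, hQ₀⟩ : ∃ Q : Sylow p G, Q ≠ P := by
    by_contra h
    push Not at h
    exact hne1 (Nat.card_eq_one_iff_exists.2 ⟨P, h⟩)
  obtain ⟨j, hj⟩ : ∃ j, n = 1 + j * q := by
    letI := Fintype.ofFinite (Sylow p G)
    have hmem : ∀ (u : (P : Subgroup G)) (Q : {Q : Sylow p G // Q ≠ P}), (u : G) • Q.1 ≠ P := by
      intro u Q h
      apply Q.2
      calc Q.1 = (u : G)⁻¹ • (u : G) • Q.1 := (inv_smul_smul _ _).symm
        _ = P := by
          rw [h]
          exact Sylow.smul_eq_iff_mem_normalizer.2 (hPN ((P : Subgroup G).inv_mem u.2))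
    letI : MulAction (P : Subgroup G) {Q : Sylow p G // Q ≠ P} :=
      { smul := fun u Q => ⟨(u : G) • Q.1, hmem u Q⟩
        one_smul := fun Q => Subtype.ext (one_smul G Q.1)
        mul_smul := fun u v Q => Subtype.ext (mul_smul (u : G) v Q.1) }
    have hs : ∀ Q : {Q : Sylow p G // Q ≠ P}, MulAction.stabilizer (P : Subgroup G) Q = ⊥ := fun Q =>
      (Subgroup.eq_bot_iff_forall _).2 fun u hu => by
        have h : (u : G) • Q.1 = (1 : G) • Q.1 := (congrArg Subtype.val hu).trans (one_smul G Q.1).symm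
        exact Subtype.ext (hfree P Q.1 u 1 u.2 (one_mem _) Q.2 h)
    have hdiv := Nat.card_congr ((MulAction.selfEquivSigmaOrbitsQuotientStabilizer (P : Subgroup G)
      {Q : Sylow p G // Q ≠ P}))
    letI := Fintype.ofFinite (MulAction.orbitRel.Quotient (P : Subgroup G) {Q : Sylow p G // Q ≠ P})
    rw [Nat.card_sigma] at hdiv
    have hone : ∀ w : MulAction.orbitRel.Quotient (P : Subgroup G) {Q : Sylow p G // Q ≠ P},
        Nat.card ((P : Subgroup G) ⧸ MulAction.stabilizer (P : Subgroup G) w.out) = q := fun w => by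
      rw [hs, Nat.card_congr (QuotientGroup.quotientBot (G := (P : Subgroup G))).toEquiv, hPc]
    rw [Finset.sum_congr rfl fun w _ => hone w, Finset.sum_const, Finset.card_univ, smul_eq_mul] at hdiv
    refine ⟨Fintype.card (MulAction.orbitRel.Quotient (P : Subgroup G) {Q : Sylow p G // Q ≠ P}), ?_⟩
    rw [hn, ← hdiv, Nat.card_eq_fintype_card, Nat.card_eq_fintype_card, Fintype.card_subtype_compl,
      Fintype.card_subtype_eq]
    have : 0 < Fintype.card (Sylow p G) := Fintype.card_pos
    omega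
  have hm2 : 2 * m + 1 = q := by
    have e : 2 * (1 + j * q) * m + 1 = q * q := by
      rw [mul_assoc, ← hj, hnm, hM2]
      obtain ⟨q', hq'⟩ : ∃ q', q = q' + 1 := ⟨q - 1, by omega⟩
      rw [hq', Nat.add_sub_cancel]; ring
    have hd : q ∣ 2 * m + 1 := by
      have : q ∣ (2 * m + 1) + q * (2 * j * m) := ⟨q, by rw [← e]; ring⟩
      exact (Nat.dvd_add_left (dvd_mul_right _ _)).1 this
    obtain ⟨c, hc⟩ := hd
    have hc2 : c < 2 := by
      by_contra h
      have := Nat.mul_le_mul_left q (not_lt.1 h)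
      omega
    interval_cases c
    · omega
    · omega
  have hnq : n = q + 1 := by
    have h : n * (2 * m) = (q + 1) * (2 * m) := by
      rw [mul_comm 2 m, ← mul_assoc, hnm, mul_comm, hM2, show m * 2 = q - 1 by omega, mul_comm]
    exact Nat.eq_of_mul_eq_mul_right (by omega) h
  -- the action on the Sylow subgroups
  have hreg : ∀ (P : Sylow p G) (Q R : Sylow p G), Q ≠ P → R ≠ P →
      ∃! u : (P : Subgroup G), (u : G) • Q = R := by
    intro P Q R hQ hR
    have hmem : ∀ u : (P : Subgroup G), (u : G) • Q ≠ P := by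
      intro u h
      apply hQ
      calc Q = (u : G)⁻¹ • (u : G) • Q := (inv_smul_smul _ _).symm
        _ = P := by
          rw [h]
          exact Sylow.smul_eq_iff_mem_normalizer.2
            (Subgroup.le_normalizer ((P : Subgroup G).inv_mem u.2))
    have hb : Function.Bijective (fun u : (P : Subgroup G) => (⟨(u : G) • Q, hmem u⟩ : {R : Sylow p G // R ≠ P})) := by
      refine (Nat.bijective_iff_injective_and_card _).2 ⟨fun u v h => ?_, ?_⟩
      · exact Subtype.ext (hfree P Q u v u.2 v.2 hQ (congrArg Subtype.val h))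
      · letI := Fintype.ofFinite (Sylow p G)
        rw [hPc, Nat.card_eq_fintype_card, Fintype.card_subtype_compl, Fintype.card_subtype_eq,
          ← Nat.card_eq_fintype_card, ← hn, hnq]
        rfl
    obtain ⟨u, hu, huniq⟩ := hb.existsUnique ⟨R, hR⟩
    exact ⟨u, congrArg Subtype.val hu, fun v hv => huniq v (Subtype.ext hv)⟩
  have h2t : MulAction.IsMultiplyPretransitive G (Sylow p G) 2 := by
    rw [MulAction.is_two_pretransitive_iff]
    intro a b c d hab hcd
    obtain ⟨g, hg⟩ := MulAction.exists_smul_eq G a c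
    obtain ⟨u, hu, -⟩ := hreg c (g • b) d (fun h => hab ((MulAction.injective g (hg.trans h.symm)))) hcd.symm
    refine ⟨(u : G) * g, ?_, by rw [mul_smul, hu]⟩
    rw [mul_smul, hg]
    exact Sylow.smul_eq_iff_mem_normalizer.2 (Subgroup.le_normalizer u.2)
  have hfaith : FaithfulSMul G (Sylow p G) := by
    refine ⟨fun {g h} hgh => ?_⟩
    have hk : ∀ Q : Sylow p G, (h⁻¹ * g) • Q = Q := fun Q => by rw [mul_smul, hgh Q, inv_smul_smul]
    have hker : ∀ Q : Sylow p G, h⁻¹ * g ∈ Subgroup.normalizer ((Q : Subgroup G) : Set G) := fun Q =>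
      Sylow.smul_eq_iff_mem_normalizer.1 (hk Q)
    set k := h⁻¹ * g
    have hc : k * x * k⁻¹ * x⁻¹ ∈ (P : Subgroup G) :=
      Subgroup.mul_mem _ ((Subgroup.mem_normalizer_iff.1 (hker P) x).1 hx) ((P : Subgroup G).inv_mem hx)
    have hQ : (k * x * k⁻¹ * x⁻¹) • Q₀ = (1 : G) • Q₀ := by
      have hk' : k⁻¹ • x⁻¹ • Q₀ = x⁻¹ • Q₀ := by rw [inv_smul_eq_iff, hk]
      rw [mul_smul, mul_smul, mul_smul, hk', smul_inv_smul, hk, one_smul]
    have hkx : k * x = x * k := by
      have h1 := hfree P Q₀ _ 1 hc (one_mem _) hQ₀ hQ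
      have h2 := mul_inv_eq_one.1 h1
      exact mul_inv_eq_iff_eq_mul.1 h2
    have hkP : k ∈ (P : Subgroup G) := by
      rw [← hcent P x hx hx1, Subgroup.mem_centralizer_singleton_iff]; exact hkx
    have hk1 := hfree P Q₀ k 1 hkP (one_mem _) hQ₀ ((hk Q₀).trans (one_smul G Q₀).symm)
    exact (inv_mul_eq_one.1 hk1).symm
  have h3pt : ∀ g : G, ∀ a b c : Sylow p G, a ≠ b → b ≠ c → a ≠ c →
      g • a = a → g • b = b → g • c = c → g = 1 := by
    intro g a b c hab hbc hac ha hb hc
    obtain ⟨u, hu, -⟩ := hreg a b c hab.symm hac.symm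
    have hm : g * u * g⁻¹ ∈ (a : Subgroup G) :=
      (Subgroup.mem_normalizer_iff.1 (Sylow.smul_eq_iff_mem_normalizer.1 ha) u).1 u.2
    have hgb : g⁻¹ • b = b := by rw [inv_smul_eq_iff, hb]
    have he := hfree a b _ u hm u.2 hab.symm (by rw [mul_smul, mul_smul, hgb, hu, hc])
    have hu1 : (u : G) ≠ 1 := fun h => hbc (by rw [← hu, h, one_smul])
    have hga : g ∈ (a : Subgroup G) := by
      rw [← hcent a u u.2 hu1, Subgroup.mem_centralizer_singleton_iff]
      exact mul_inv_eq_iff_eq_mul.1 he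
    exact hfree a b g 1 hga (one_mem _) hab.symm (hb.trans (one_smul G b).symm)
  have hstab : MulAction.stabilizer G P = Subgroup.normalizer ((P : Subgroup G) : Set G) := by
    ext g; exact Sylow.smul_eq_iff_mem_normalizer
  have htwo : ∃ g : G, g ≠ 1 ∧ ∃ a b : Sylow p G, a ≠ b ∧ g • a = a ∧ g • b = b := by
    obtain ⟨g, hg, hgP⟩ : ∃ g ∈ Subgroup.normalizer ((P : Subgroup G) : Set G), g ∉ (P : Subgroup G) := by
      by_contra h
      push Not at h
      have := Subgroup.card_le_of_le (K := (P : Subgroup G)) h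
      rw [hNc, hPc] at this
      have hm0 : 2 ≤ m := by omega
      nlinarith
    have hgP' : g • P = P := Sylow.smul_eq_iff_mem_normalizer.2 hg
    have hne : g • Q₀ ≠ P := fun h => hQ₀ (MulAction.injective g (h.trans hgP'.symm))
    obtain ⟨u, hu, -⟩ := hreg P (g • Q₀) Q₀ hne hQ₀
    refine ⟨(u : G) * g, ?_, P, Q₀, hQ₀.symm, ?_, by rw [mul_smul, hu]⟩
    · exact fun h => hgP ((eq_inv_of_mul_eq_one_right h) ▸ (P : Subgroup G).inv_mem u.2)
    · rw [mul_smul, hgP']
      exact Sylow.smul_eq_iff_mem_normalizer.2 (hPN u.2)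
  have hnoreg : ∀ N : Subgroup G, N.Normal → MulAction.IsPretransitive N (Sylow p G) →
      ∃ a : Sylow p G, MulAction.stabilizer N a ≠ ⊥ := by
    intro N hN htr
    by_contra hall
    push Not at hall
    haveI := htr
    have hNcard : Nat.card N = q + 1 := by
      have := (MulAction.stabilizer N P).index_mul_card
      rw [MulAction.index_stabilizer_of_transitive, hall P, Subgroup.card_bot, mul_one, ← hn, hnq] at this
      exact this.symm
    haveI := Fact.mk Nat.prime_two
    obtain ⟨t, ht⟩ := exists_prime_orderOf_dvd_card' (G := N) 2 (by rw [hNcard]; omega)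
    have ht1 : (t : G) ≠ 1 := fun h => by
      rw [← Subgroup.orderOf_coe, h, orderOf_one] at ht; omega
    have hPN' : ∀ y : G, y ∈ (P : Subgroup G) → y ∈ N → y = 1 := by
      intro y hy hyN
      have hs : (⟨y, hyN⟩ : N) ∈ MulAction.stabilizer N P := Sylow.smul_eq_iff_mem_normalizer.2 (hPN hy)
      rw [hall P, Subgroup.mem_bot] at hs
      exact congrArg Subtype.val hs
    let f : ↥(P : Subgroup G) → {a : N // a ≠ 1} := fun u =>
      ⟨⟨(u : G) * t * (u : G)⁻¹, hN.conj_mem t t.2 u⟩, fun h => ht1 (by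
        have := congrArg Subtype.val h
        simpa using this)⟩
    have hinj : Function.Injective f := by
      intro u v h
      have e : (u : G) * t * (u : G)⁻¹ = (v : G) * t * (v : G)⁻¹ := congrArg (fun z => ((z : N) : G)) (congrArg Subtype.val h)
      by_contra hne
      set w := (v : G)⁻¹ * u with hw
      have hw1 : w ≠ 1 := fun h' => hne (Subtype.ext (inv_mul_eq_one.1 h').symm)
      have hwP : w ∈ (P : Subgroup G) := Subgroup.mul_mem _ ((P : Subgroup G).inv_mem v.2) u.2
      have hwt : (t : G) * w = w * t := by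
        calc (t : G) * w = (v : G)⁻¹ * ((v : G) * t * (v : G)⁻¹) * u := by rw [hw]; group
          _ = w * t := by rw [← e, hw]; group
      have : (t : G) ∈ (P : Subgroup G) := by
        rw [← hcent P w hwP hw1, Subgroup.mem_centralizer_singleton_iff]; exact hwt
      exact ht1 (hPN' _ this t.2)
    have hbij : Function.Bijective f := by
      refine (Nat.bijective_iff_injective_and_card _).2 ⟨hinj, ?_⟩
      letI := Fintype.ofFinite N
      rw [hPc, Nat.card_eq_fintype_card, Fintype.card_subtype_compl, Fintype.card_subtype_eq,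
        ← Nat.card_eq_fintype_card, hNcard]
      rfl
    have hexp : IsPGroup 2 N := by
      intro a
      refine ⟨1, ?_⟩
      by_cases ha : a = 1
      · rw [ha, one_pow]
      obtain ⟨u, hu⟩ := hbij.2 ⟨a, ha⟩
      have hu' : (u : G) * t * (u : G)⁻¹ = a := congrArg (fun z => ((z : N) : G)) (congrArg Subtype.val hu)
      refine Subtype.ext ?_
      rw [Subgroup.coe_pow, ← hu', conj_pow, ← Subgroup.coe_pow, pow_one, ← ht, pow_orderOf_eq_one]
      simp
    obtain ⟨k, hk⟩ := IsPGroup.iff_card.1 hexp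
    rw [hNcard] at hk
    rcases k with _ | _ | k
    · omega
    · omega
    · rw [pow_succ, pow_succ, mul_assoc] at hk
      omega
  have hZ : Cfsg.IsZassenhausGroup G (Sylow p G) := ⟨hfaith, h2t, h3pt, htwo, hnoreg⟩
  rcases Cfsg.Agent.S0731.result hZ P (P : Subgroup G) (hstab ▸ hPN)
      (by rw [hstab]; exact Subgroup.normal_in_normalizer)
      ⟨⟨fun a b => Subtype.ext (hPab P a a.2 b b.2)⟩⟩
      (fun y z hy hz => hreg P y z hy hz) with ⟨h3t, -⟩ | ⟨K, _, _, hchar, ⟨e⟩⟩
  · exfalso
    have hsurj : Nat.card (Fin 3 ↪ Sylow p G) ≤ Nat.card G := by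
      letI := Fintype.ofFinite (Sylow p G)
      obtain ⟨e0⟩ : Nonempty (Fin 3 ↪ Sylow p G) :=
        Function.Embedding.nonempty_of_card_le (by rw [Fintype.card_fin, ← Nat.card_eq_fintype_card, ← hn, hnq]; omega)
      exact Nat.card_le_card_of_surjective (fun g : G => g • e0) (MulAction.surjective_smul G e0)
    letI := Fintype.ofFinite (Sylow p G)
    rw [Nat.card_eq_fintype_card, Fintype.card_embedding_eq, Fintype.card_fin, ← Nat.card_eq_fintype_card,
      ← hn, hnq, hG, Nat.descFactorial_succ, Nat.descFactorial_succ, Nat.descFactorial_succ,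
      Nat.descFactorial_zero, Nat.add_sub_cancel, Nat.sub_zero, show q + 1 - 2 = q - 1 by omega] at hsurj
    have : 0 < q * M := hG ▸ Nat.card_pos
    nlinarith [hM2]
  · refine ⟨K, inferInstance, inferInstance, ?_, ⟨e⟩⟩
    have hKodd : Odd (Fintype.card K) := Nat.odd_iff.2 (FiniteField.odd_card_of_char_ne_two hchar)
    have h := card_psl_odd (F := K) hKodd
    rw [← Nat.card_congr e.toEquiv, hcard] at h
    have hmono : ∀ a b : ℕ, 2 ≤ a → a < b → a * ((a - 1) * (a + 1)) < b * ((b - 1) * (b + 1)) := fun a b h2 hab =>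
      Nat.mul_lt_mul_of_lt_of_le hab (Nat.mul_le_mul (by omega) (by omega)) (by
        exact Nat.mul_pos (by omega) (by omega))
    have hK2 : 2 ≤ Fintype.card K := Fintype.one_lt_card
    rcases lt_trichotomy (Fintype.card K) q with hlt | heq | hgt
    · exact absurd h.symm (hmono _ _ hK2 hlt).ne
    · exact heq
    · exact absurd h (hmono _ _ (by omega) hgt).ne

end CfsgLib.PGroup.PSL2Column
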