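import Mathlib.GroupTheory.GroupAction.Quotient
import Mathlib.Algebra.Group.Conj
import Mathlib.Data.Nat.Factorization.Basic
import Mathlib.GroupTheory.OrderOfElement
import Mathlib.GroupTheory.QuotientGroup.Basic
import Mathlib.Data.Nat.ChineseRemainder
import Mathlib.Tactic.NormNum.Prime
import Mathlib.Tactic.Group
import Mathlib.Algebra.BigOperators.Associated

/-!
Counting conjugacy classes of `π`-elements over a normal subgroup.
-/

set_option linter.style.haveILetI false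

namespace CfsgLib.PGroup.PiClassCount

/-- `π`-elements. -/
def IsPi (π : Set ℕ) {G : Type*} [Monoid G] (x : G) : Prop :=
  ∀ q : ℕ, q.Prime → q ∣ orderOf x → q ∈ π

/-- Classes of `π`-elements. -/
def IsPiClass (π : Set ℕ) {G : Type*} [Group G] (C : ConjClasses G) : Prop :=
  ∀ q : ℕ, q.Prime → (∃ g : G, ConjClasses.mk g = C ∧ q ∣ orderOf g) → q ∈ π

theorem isPiClass_mk {π : Set ℕ} {G : Type*} [Group G] (x : G) :
    IsPiClass π (ConjClasses.mk x) ↔ IsPi π x := by
  refine ⟨fun h q hq hd => h q hq ⟨x, rfl, hd⟩, fun h q hq ⟨g, hg, hd⟩ => h q hq ?_⟩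
  obtain ⟨c, rfl⟩ := isConj_iff.mp (ConjClasses.mk_eq_mk_iff_isConj.mp hg)
  rwa [← MulAut.conj_apply c g, MulEquiv.orderOf_eq]

/-- Splitting a positive number into its `π`- and `π'`-parts, as idempotent exponents. -/
theorem exists_exponents (π : Set ℕ) {M : ℕ} (hM : M ≠ 0) :
    ∃ A B e f : ℕ, A * B = M ∧ (∀ q : ℕ, q.Prime → q ∣ A → q ∈ π) ∧
      (∀ d : ℕ, d ∣ M → (∀ q : ℕ, q.Prime → q ∣ d → q ∈ π) → d ∣ A) ∧
      e ≡ 1 [MOD A] ∧ B ∣ e ∧ A ∣ f ∧ (e + f) ≡ 1 [MOD M] := by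
  classical
  let A := ∏ q ∈ M.primeFactors with q ∈ π, q ^ M.factorization q
  let B := ∏ q ∈ M.primeFactors with q ∉ π, q ^ M.factorization q
  have hAB : A * B = M := by
    rw [Finset.prod_filter_mul_prod_filter_not]
    exact Nat.prod_factorization_pow_eq_self hM
  have hcop : A.Coprime B := by
    refine Nat.Coprime.prod_left fun p hp => Nat.Coprime.prod_right fun q hq => ?_
    rw [Finset.mem_filter, Nat.mem_primeFactors] at hp hq
    exact ((Nat.coprime_primes hp.1.1 hq.1.1).mpr fun h => hq.2 (h ▸ hp.2)).pow _ _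
  have hA : ∀ q : ℕ, q.Prime → q ∣ A → q ∈ π := by
    intro q hq hd
    obtain ⟨p, hp, hpd⟩ := Prime.exists_mem_finset_dvd hq.prime hd
    rw [Finset.mem_filter, Nat.mem_primeFactors] at hp
    rw [(Nat.prime_dvd_prime_iff_eq hq hp.1.1).mp (hq.dvd_of_dvd_pow hpd)]
    exact hp.2
  have hB : ∀ q : ℕ, q.Prime → q ∣ B → q ∉ π := by
    intro q hq hd
    obtain ⟨p, hp, hpd⟩ := Prime.exists_mem_finset_dvd hq.prime hd
    rw [Finset.mem_filter, Nat.mem_primeFactors] at hp
    rw [(Nat.prime_dvd_prime_iff_eq hq hp.1.1).mp (hq.dvd_of_dvd_pow hpd)]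
    exact hp.2
  let e : {e : ℕ // e ≡ 1 [MOD A] ∧ e ≡ 0 [MOD B]} := Nat.chineseRemainder hcop 1 0
  let f : {f : ℕ // f ≡ 0 [MOD A] ∧ f ≡ 1 [MOD B]} := Nat.chineseRemainder hcop 0 1
  refine ⟨A, B, e, f, hAB, hA, fun d hd hp => ?_, e.2.1, Nat.modEq_zero_iff_dvd.mp e.2.2,
    Nat.modEq_zero_iff_dvd.mp f.2.1, ?_⟩
  · refine Nat.Coprime.dvd_of_dvd_mul_right (Nat.coprime_of_dvd fun q hq h1 h2 => ?_)
      (by rw [hAB]; exact hd)
    exact hB q hq h2 (hp q hq h1)
  · rw [← hAB, ← Nat.modEq_and_modEq_iff_modEq_mul hcop]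
    exact ⟨by simpa using e.2.1.add f.2.1, by simpa using e.2.2.add f.2.2⟩

variable {G : Type*} [Group G]

theorem finite_conjClasses [Finite G] : Finite (ConjClasses G) :=
  Finite.of_surjective _ ConjClasses.mk_surjective

/-- Commuting pairs (`π`-element of `gN`, element of `N`) inject into commuting pairs
(`π`-element of `N`, element of `gN`). -/
theorem card_pairs_le [Finite G] (N : Subgroup G) [N.Normal] (π : Set ℕ) (c : G ⧸ N) :
    Nat.card {p : G × G // IsPi π p.1 ∧ QuotientGroup.mk p.1 = c ∧ p.2 ∈ N ∧ Commute p.1 p.2} ≤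
      Nat.card {p : G × G // IsPi π p.1 ∧ p.1 ∈ N ∧ QuotientGroup.mk p.2 = c ∧ Commute p.1 p.2} := by
  obtain ⟨A, B, e, f, hAB, hA, hdvd, he, hBe, hAf, hef⟩ :=
    exists_exponents π (Nat.card_pos (α := G)).ne'
  have hcard : ∀ y : G, y ^ (A * B) = 1 := fun y => by rw [hAB]; exact pow_card_eq_one'
  have hx : ∀ x : G, IsPi π x → x ^ e = x := fun x hx => by
    conv_rhs => rw [← pow_one x]
    exact pow_eq_pow_iff_modEq.mpr (he.of_dvd (hdvd _ (orderOf_dvd_natCard x) hx))
  have hfe : ∀ y : G, (y ^ f) ^ e = 1 := fun y => by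
    rw [← pow_mul]
    exact orderOf_dvd_iff_pow_eq_one.mp
      (((orderOf_dvd_of_pow_eq_one (hcard y))).trans (mul_dvd_mul hAf hBe))
  refine Nat.card_le_card_of_injective (fun p => ⟨(p.1.2 ^ e, p.1.1 * p.1.2 ^ f), ?_, ?_, ?_, ?_⟩) ?_
  · intro q hq hd
    refine hA q hq (hd.trans (orderOf_dvd_of_pow_eq_one ?_))
    rw [← pow_mul]
    obtain ⟨k, hk⟩ := hBe
    rw [hk, mul_comm, ← mul_assoc, pow_mul, hcard, one_pow]
  · exact N.pow_mem p.2.2.2.1 _
  · exact (QuotientGroup.mk_mul_of_mem _ (N.pow_mem p.2.2.2.1 _)).trans p.2.2.1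
  · exact ((p.2.2.2.2.symm.pow_left e)).mul_right (Commute.pow_pow (Commute.refl _) e f)
  · intro a b h
    obtain ⟨⟨x, n⟩, h1, _, _, hc⟩ := a
    obtain ⟨⟨x', n'⟩, h1', _, _, hc'⟩ := b
    have h := congrArg Subtype.val h
    simp only [Prod.mk.injEq] at h
    have key : ∀ a b : G, IsPi π a → Commute a b → (a * b ^ f) ^ e = a := fun a b ha hab => by
      rw [(hab.pow_right f).mul_pow, hx a ha, hfe, mul_one]
    have hxx : x = x' := by rw [← key x n h1 hc, ← key x' n' h1' hc', h.2]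
    subst hxx
    have hn : ∀ y : G, y ^ e * y ^ f = y := fun y => by
      rw [← pow_add]
      conv_rhs => rw [← pow_one y]
      exact pow_eq_pow_iff_modEq.mpr (hef.of_dvd (orderOf_dvd_natCard y))
    simp only [Subtype.mk.injEq, Prod.mk.injEq, true_and]
    rw [← hn n, ← hn n', h.1, mul_left_cancel h.2]

/-- Conjugation by `N` on the `π`-elements of a coset. -/
@[reducible] def cosetAction (N : Subgroup G) [N.Normal] (π : Set ℕ) (c : G ⧸ N) :
    MulAction N {x : G // IsPi π x ∧ QuotientGroup.mk x = c} where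
  smul n x := ⟨(n : G) * x.1 * (n : G)⁻¹, by
    intro q hq hd
    exact x.2.1 q hq (by rwa [← MulAut.conj_apply (n : G) x.1, MulEquiv.orderOf_eq] at hd), by
    rw [QuotientGroup.mk_mul, QuotientGroup.mk_mul, QuotientGroup.mk_inv, x.2.2,
      (QuotientGroup.eq_one_iff (n : G)).mpr n.2, inv_one, one_mul, mul_one]⟩
  one_smul x := Subtype.ext (show (((1 : N) : G)) * x.1 * (((1 : N) : G))⁻¹ = x.1 by simp)
  mul_smul a b x := Subtype.ext (show ((a * b : N) : G) * x.1 * ((a * b : N) : G)⁻¹ =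
    (a : G) * ((b : G) * x.1 * (b : G)⁻¹) * (a : G)⁻¹ by rw [Subgroup.coe_mul]; group)

theorem card_orbits_mul [Finite G] (N : Subgroup G) [N.Normal] (π : Set ℕ) (c : G ⧸ N) :
    letI := cosetAction N π c
    Nat.card (MulAction.orbitRel.Quotient N {x : G // IsPi π x ∧ QuotientGroup.mk x = c}) *
        Nat.card N =
      Nat.card {p : G × G // IsPi π p.1 ∧ QuotientGroup.mk p.1 = c ∧ p.2 ∈ N ∧ Commute p.1 p.2} := by
  letI := cosetAction N π c
  rw [← Nat.card_prod]
  refine Nat.card_congr ((MulAction.sigmaFixedByEquivOrbitsProdGroup N _).symm.trans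
    ⟨fun z => ⟨(z.2.1.1, z.1), z.2.1.2.1, z.2.1.2.2, z.1.2, ?_⟩,
     fun p => ⟨⟨p.1.2, p.2.2.2.1⟩, ⟨⟨p.1.1, p.2.1, p.2.2.1⟩, ?_⟩⟩, fun _ => rfl, fun _ => rfl⟩)
  · have h : ((z.1 : N) : G) * z.2.1.1 * ((z.1 : N) : G)⁻¹ = z.2.1.1 := congrArg Subtype.val z.2.2
    exact (mul_inv_eq_iff_eq_mul.mp h).symm
  · exact Subtype.ext (show p.1.2 * p.1.1 * p.1.2⁻¹ = p.1.1 by
      rw [mul_inv_eq_iff_eq_mul]; exact p.2.2.2.2.symm)

theorem card_fibre_le [Finite G] (N : Subgroup G) [N.Normal] (π : Set ℕ) (c : G ⧸ N) :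
    Nat.card {C : ConjClasses G // IsPiClass π C ∧
        ConjClasses.map (QuotientGroup.mk' N) C = ConjClasses.mk c} ≤
      Nat.card {C : ConjClasses N // IsPiClass π C} := by
  haveI := finite_conjClasses (G := G)
  haveI := finite_conjClasses (G := N)
  letI := cosetAction N π c
  let Ω := MulAction.orbitRel.Quotient N {x : G // IsPi π x ∧ QuotientGroup.mk x = c}
  -- classes over `c` are images of orbits
  have h1 : Nat.card {C : ConjClasses G // IsPiClass π C ∧
      ConjClasses.map (QuotientGroup.mk' N) C = ConjClasses.mk c} ≤ Nat.card Ω := by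
    let φ : Ω → ConjClasses G := Quotient.lift (fun x => ConjClasses.mk x.1) (by
      rintro a b ⟨n, rfl⟩
      exact ConjClasses.mk_eq_mk_iff_isConj.mpr (IsConj.symm (isConj_iff.mpr ⟨(n : G), rfl⟩)))
    have hmem : ∀ C : ConjClasses G, IsPiClass π C →
        ConjClasses.map (QuotientGroup.mk' N) C = ConjClasses.mk c → ∃ ω : Ω, φ ω = C := by
      intro C hC hm
      obtain ⟨g, rfl⟩ := ConjClasses.mk_surjective C
      change ConjClasses.mk (QuotientGroup.mk' N g) = _ at hm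
      obtain ⟨d, hd⟩ := isConj_iff.mp (ConjClasses.mk_eq_mk_iff_isConj.mp hm)
      induction d using QuotientGroup.induction_on with | _ d =>
      refine ⟨Quotient.mk _ ⟨d * g * d⁻¹, ?_, ?_⟩, ?_⟩
      · intro q hq hdv
        exact ((isPiClass_mk g).mp hC) q hq
          (by rwa [← MulAut.conj_apply d g, MulEquiv.orderOf_eq] at hdv)
      · rw [← hd]; rfl
      · exact ConjClasses.mk_eq_mk_iff_isConj.mpr (IsConj.symm (isConj_iff.mpr ⟨d, rfl⟩))
    choose ψ hψ using hmem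
    refine Nat.card_le_card_of_injective (fun C => ψ C.1 C.2.1 C.2.2) fun C D h => Subtype.ext ?_
    rw [← hψ C.1 C.2.1 C.2.2, ← hψ D.1 D.2.1 D.2.2]
    exact congrArg φ h
  refine h1.trans (Nat.le_of_mul_le_mul_right ?_ (Nat.card_pos (α := N)))
  rw [card_orbits_mul N π c]
  refine (card_pairs_le N π c).trans ?_
  -- compare with the trivial coset
  letI act1 := cosetAction N π 1
  let Ω₁ := MulAction.orbitRel.Quotient N {x : G // IsPi π x ∧ QuotientGroup.mk x = (1 : G ⧸ N)}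
  have h2 : Nat.card {p : G × G //
        IsPi π p.1 ∧ p.1 ∈ N ∧ QuotientGroup.mk p.2 = c ∧ Commute p.1 p.2} ≤
      Nat.card {p : G × G //
        IsPi π p.1 ∧ QuotientGroup.mk p.1 = (1 : G ⧸ N) ∧ p.2 ∈ N ∧ Commute p.1 p.2} := by
    classical
    have hi : ∀ (u z : G), QuotientGroup.mk z = c → Commute u z →
        ∃ z₀ : G, QuotientGroup.mk z₀ = c ∧ Commute u z₀ := fun u z a b => ⟨z, a, b⟩
    let pick : G → G := fun u =>
      if h : ∃ z₀ : G, QuotientGroup.mk z₀ = c ∧ Commute u z₀ then h.choose else 1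
    have hp : ∀ (u z : G), QuotientGroup.mk z = c → Commute u z →
        QuotientGroup.mk (pick u) = c ∧ Commute u (pick u) := fun u z a b => by
      simp only [pick, dif_pos (hi u z a b)]
      exact (hi u z a b).choose_spec
    refine Nat.card_le_card_of_injective (fun p => ⟨(p.1.1, (pick p.1.1)⁻¹ * p.1.2), p.2.1,
      (QuotientGroup.eq_one_iff _).mpr p.2.2.1, ?_, ?_⟩) ?_
    · exact QuotientGroup.eq.mp ((hp _ _ p.2.2.2.1 p.2.2.2.2).1.trans p.2.2.2.1.symm)
    · exact (hp _ _ p.2.2.2.1 p.2.2.2.2).2.inv_right.mul_right p.2.2.2.2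
    · rintro ⟨⟨u, z⟩, _⟩ ⟨⟨u', z'⟩, _⟩ h
      simp only [Subtype.mk.injEq, Prod.mk.injEq] at h ⊢
      obtain ⟨rfl, h⟩ := h
      exact ⟨rfl, mul_left_cancel h⟩
  refine h2.trans ?_
  rw [← card_orbits_mul N π 1]
  refine Nat.mul_le_mul_right _ ?_
  let φ : Ω₁ → {C : ConjClasses N // IsPiClass π C} := Quotient.lift
    (fun x => ⟨ConjClasses.mk (⟨x.1, (QuotientGroup.eq_one_iff _).mp x.2.2⟩ : N),
      (isPiClass_mk _).mpr (fun q hq hd => x.2.1 q hq (by
        rwa [← Subgroup.orderOf_coe] at hd))⟩) (by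
      rintro a b ⟨n, rfl⟩
      exact Subtype.ext (ConjClasses.mk_eq_mk_iff_isConj.mpr
        (IsConj.symm (isConj_iff.mpr ⟨n, Subtype.ext rfl⟩))))
  refine Nat.card_le_card_of_injective φ ?_
  intro a b
  induction a using Quotient.inductionOn with | _ a =>
  induction b using Quotient.inductionOn with | _ b =>
  intro h
  obtain ⟨n, hn⟩ := isConj_iff.mp (ConjClasses.mk_eq_mk_iff_isConj.mp (congrArg Subtype.val h))
  refine Quotient.sound ((MulAction.orbitRel N _).symm ⟨n, ?_⟩)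
  have h2 := congrArg (fun y : N => (y : G)) hn
  exact Subtype.ext h2

theorem card_piClasses_le [Finite G] (N : Subgroup G) [N.Normal] (π : Set ℕ) :
    Nat.card {C : ConjClasses G // IsPiClass π C} ≤
      Nat.card {C : ConjClasses N // IsPiClass π C} *
        Nat.card {C : ConjClasses (G ⧸ N) // IsPiClass π C} := by
  haveI := finite_conjClasses (G := G)
  haveI := finite_conjClasses (G := N)
  haveI := finite_conjClasses (G := G ⧸ N)
  have hm : ∀ C : ConjClasses G, IsPiClass π C →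
      IsPiClass π (ConjClasses.map (QuotientGroup.mk' N) C) := by
    intro C
    obtain ⟨g, rfl⟩ := ConjClasses.mk_surjective C
    intro h
    refine (isPiClass_mk _).mpr fun q hq hd => (isPiClass_mk g).mp h q hq ?_
    exact hd.trans (orderOf_map_dvd (QuotientGroup.mk' N) g)
  let F : {C : ConjClasses G // IsPiClass π C} → {D : ConjClasses (G ⧸ N) // IsPiClass π D} :=
    fun C => ⟨_, hm C.1 C.2⟩
  haveI := Fintype.ofFinite {C : ConjClasses (G ⧸ N) // IsPiClass π C}
  rw [Nat.card_congr (Equiv.sigmaFiberEquiv F).symm, Nat.card_sigma, mul_comm]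
  refine (Finset.sum_le_card_nsmul _ _ (Nat.card {C : ConjClasses N // IsPiClass π C})
    fun D _ => ?_).trans (by rw [smul_eq_mul, Finset.card_univ, ← Nat.card_eq_fintype_card])
  obtain ⟨c, hc⟩ := ConjClasses.mk_surjective D.1
  have hmem : ∀ C : {C // F C = D},
      ConjClasses.map (QuotientGroup.mk' N) C.1.1 = ConjClasses.mk c := fun C => by
    rw [hc]; exact congrArg Subtype.val C.2
  refine le_trans (Nat.card_le_card_of_injective (fun C => ⟨C.1.1, C.1.2, hmem C⟩) ?_)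
    (card_fibre_le N π c)
  intro a b h
  exact Subtype.ext (Subtype.ext (Subtype.mk.inj h))

end CfsgLib.PGroup.PiClassCount
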