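import Cfsg.Agent.Lib.Coprime.PClassCount
import Cfsg.Agent.Lib.Coprime.Sylow
import Cfsg.Agent.Lib.Solvable.Schmidt
import Cfsg.Agent.Lib.OddOrder.Basic
import Cfsg.Agent.Lib.DegreeTools.Basic
import Mathlib

/-!
# Many classes of `π`-elements give a nilpotent Hall subgroup

If the number of classes of `σ`-elements exceeds `|G|_σ / p`, `p` at most every prime in `σ`,
then there is a nilpotent Hall `σ`-subgroup.
-/

set_option autoImplicit false
set_option linter.style.haveILetI false

universe u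

namespace CfsgLib.PGroup.PiClassHall

open Subgroup CfsgLib.Coprime.PClassCount
open scoped Pointwise

/-- The `σ`-part of the group order. -/
noncomputable def part (σ : Finset ℕ) (G : Type*) : ℕ :=
  σ.prod fun r => r ^ (Nat.card G).factorization r

variable {G : Type*} [Group G]

theorem card_conj_map_eq (H : Subgroup G) (g : G) :
    Nat.card (H.map (MulAut.conj g).toMonoidHom : Subgroup G) = Nat.card H :=
  CfsgLib.Coprime.card_conj_map H g

theorem part_pos {σ : Finset ℕ} (hσ : ∀ r ∈ σ, r.Prime) : 0 < part σ G :=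
  Finset.prod_pos fun r hr => pow_pos (hσ r hr).pos _

theorem factorization_part {σ : Finset ℕ} (hσ : ∀ r ∈ σ, r.Prime) (r : ℕ) :
    (part σ G).factorization r = if r ∈ σ then (Nat.card G).factorization r else 0 := by
  classical
  rw [part, Nat.factorization_prod_apply fun q hq => pow_ne_zero _ (hσ q hq).ne_zero]
  rw [Finset.sum_congr rfl fun q hq => by
    rw [(hσ q hq).factorization_pow, Finsupp.single_apply]]
  simp

theorem part_dvd [Finite G] {σ : Finset ℕ} (hσ : ∀ r ∈ σ, r.Prime) (C : Subgroup G) :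
    part σ C ∣ part σ G := by
  refine Finset.prod_dvd_prod_of_dvd _ _ fun r hr => pow_dvd_pow _ ?_
  exact (Nat.factorization_le_iff_dvd Nat.card_pos.ne' Nat.card_pos.ne').2
    (Subgroup.card_subgroup_dvd_card C) r

theorem mem_of_dvd_part {σ : Finset ℕ} (hσ : ∀ r ∈ σ, r.Prime) {r : ℕ} (hr : r.Prime)
    (h : r ∣ part σ G) : r ∈ σ := by
  by_contra hn
  have h1 := hr.factorization_pos_of_dvd (part_pos hσ).ne' h
  rw [factorization_part hσ, if_neg hn] at h1
  exact h1.ne' rfl

theorem dvd_part_of_forall [Finite G] {σ : Finset ℕ} (hσ : ∀ r ∈ σ, r.Prime) {K : Subgroup G}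
    (h : ∀ r : ℕ, r.Prime → r ∣ Nat.card K → r ∈ σ) : Nat.card K ∣ part σ G := by
  refine (Nat.factorization_le_iff_dvd Nat.card_pos.ne' (part_pos hσ).ne').1 fun r => ?_
  rw [factorization_part hσ]
  split_ifs with hr
  · exact (Nat.factorization_le_iff_dvd Nat.card_pos.ne' Nat.card_pos.ne').2
      (Subgroup.card_subgroup_dvd_card K) r
  · by_contra hne
    have hpos : (Nat.card K).factorization r ≠ 0 := by omega
    have hp : r.Prime := Nat.prime_of_mem_primeFactors
      (by rw [← Nat.support_factorization, Finsupp.mem_support_iff]; exact hpos)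
    exact hr (h r hp (Nat.dvd_of_factorization_pos hpos))

theorem coprime_index [Finite G] {σ : Finset ℕ} (hσ : ∀ r ∈ σ, r.Prime) {H : Subgroup G}
    (hH : Nat.card H = part σ G) : (Nat.card H).Coprime H.index := by
  refine Nat.coprime_of_dvd fun r hr h1 h2 => ?_
  rw [hH] at h1
  have hm := mem_of_dvd_part hσ hr h1
  have h3 : (Nat.card G).factorization r =
      (Nat.card H).factorization r + H.index.factorization r := by
    rw [← H.card_mul_index, Nat.factorization_mul Nat.card_pos.ne' index_ne_zero_of_finite,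
      Finsupp.add_apply]
  rw [hH, factorization_part hσ, if_pos hm] at h3
  have := hr.factorization_pos_of_dvd index_ne_zero_of_finite h2
  omega

theorem mul_le_of_dvd {a b p : ℕ} (hab : a ∣ b) (hb : 0 < b) (hne : a ≠ b)
    (h : ∀ r : ℕ, r.Prime → r ∣ b → p ≤ r) : p * a ≤ b := by
  obtain ⟨t, rfl⟩ := hab
  have ht : t ≠ 1 := fun h => hne (by rw [h, mul_one])
  have ht0 : 0 < t := Nat.pos_of_mul_pos_left hb
  rw [mul_comm p]
  refine Nat.mul_le_mul_left _ ((h _ (Nat.minFac_prime ht) ?_).trans (Nat.minFac_le ht0))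
  exact (Nat.minFac_dvd t).mul_left a

/-- A Hall subgroup meets every class of `σ`-elements. -/
def toPiClass {σ : Finset ℕ} (H : Subgroup G) (hH : ∀ r : ℕ, r.Prime → r ∣ Nat.card H → r ∈ σ)
    (h : H) : PiClasses σ G :=
  ⟨ConjClasses.mk (h : G), piClasses_mk fun r hr hd =>
    hH r hr (hd.trans (Subgroup.orderOf_coe h ▸ orderOf_dvd_natCard h))⟩

theorem toPiClass_surjective [Finite G] {σ : Finset ℕ} (hσ : ∀ r ∈ σ, r.Prime) {H : Subgroup G}
    (hH : Group.IsNilpotent H) (hc : Nat.card H = part σ G) :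
    Function.Surjective (toPiClass (σ := σ) H fun r hr hd => mem_of_dvd_part hσ hr (hc ▸ hd)) := by
  rintro ⟨c, hcls⟩
  obtain ⟨x, rfl⟩ := ConjClasses.mk_surjective c
  have hx := hcls x ConjClasses.mem_carrier_mk
  obtain ⟨g, hg⟩ := CfsgLib.Solvable.Schmidt.nilpotent_hall hH (coprime_index hσ hc)
    (zpowers x) fun r hr hd => by
      rw [Nat.card_zpowers] at hd
      refine hr.dvd_iff_one_le_factorization Nat.card_pos.ne' |>.2 ?_
      rw [hc, factorization_part hσ, if_pos (hx r hr hd)]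
      exact hr.factorization_pos_of_dvd Nat.card_pos.ne' (hd.trans (orderOf_dvd_natCard x))
  obtain ⟨h, hh, he⟩ := Subgroup.mem_smul_pointwise_iff_exists x (MulAut.conj g) H |>.1
    (hg (mem_zpowers x))
  exact ⟨⟨h, hh⟩, Subtype.ext (ConjClasses.mk_eq_mk_iff_isConj.2
    (isConj_iff.2 ⟨g, by simpa using he⟩))⟩

/-- A nilpotent Hall subgroup has at least as many classes. -/
theorem card_piClasses_le_conjClasses [Finite G] {σ : Finset ℕ} (hσ : ∀ r ∈ σ, r.Prime)
    {H : Subgroup G} (hH : Group.IsNilpotent H) (hc : Nat.card H = part σ G) :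
    Nat.card (PiClasses σ G) ≤ Nat.card (ConjClasses H) := by
  let t := toPiClass (σ := σ) H fun r hr hd => mem_of_dvd_part hσ hr (hc ▸ hd)
  refine Nat.card_le_card_of_surjective (Quotient.lift t fun a b h => Subtype.ext ?_)
    fun c => (toPiClass_surjective hσ hH hc c).elim fun x hx => ⟨Quotient.mk _ x, hx⟩
  obtain ⟨g, hg⟩ := isConj_iff.1 h
  exact ConjClasses.mk_eq_mk_iff_isConj.2 (isConj_iff.2 ⟨g, congrArg Subtype.val hg⟩)

/-- Nilpotent Hall subgroups of a normal subgroup are conjugate within it. -/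
theorem exists_conj_eq_hall [Finite G] {σ : Finset ℕ} (hσ : ∀ r ∈ σ, r.Prime) {H K : Subgroup G}
    (hH : Group.IsNilpotent H) (hc : Nat.card H = part σ G) (hK : Nat.card K = part σ G) :
    ∃ g : G, K = MulAut.conj g • H := by
  obtain ⟨g, hg⟩ := CfsgLib.Solvable.Schmidt.nilpotent_hall hH (coprime_index hσ hc) K
    fun r _ hd => by rw [hc, ← hK]; exact hd
  refine ⟨g, eq_of_le_of_card_ge hg ?_⟩
  rw [hK, ← hc]
  exact (Nat.card_congr (Subgroup.equivSMul (MulAut.conj g) H).toEquiv).ge

/-- An `r`-group normalising `Q` moves an element at least `r` ways. -/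
theorem le_card_orbit [Finite G] {r : ℕ} [Fact r.Prime] {U Q : Subgroup G} (hU : IsPGroup r U)
    (hUQ : U ≤ normalizer (Q : Set G)) (x : Q) (hx : ¬ ∀ v ∈ U, Commute v (x : G))
    {P : Q → Prop} (hP : ∀ y : Q, (∃ v ∈ U, v * (x : G) * v⁻¹ = y) → P y) :
    r ≤ Nat.card {y : Q // P y} := by
  let act : MulAction U G := MulAction.compHom G ((MulAut.conj (G := G)).comp U.subtype)
  have hsmul : ∀ (v : U) (y : G), v • y = (v : G) * y * (v : G)⁻¹ := fun v y => rfl
  obtain ⟨n, hn⟩ := hU.card_orbit (x : G)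
  have hn0 : n ≠ 0 := by
    rintro rfl
    rw [pow_zero] at hn
    have := (Nat.card_eq_one_iff_unique.1 hn).1
    refine hx fun v hv => ?_
    have h := congrArg Subtype.val (Subsingleton.elim
      (⟨(⟨v, hv⟩ : U) • (x : G), MulAction.mem_orbit _ _⟩ : MulAction.orbit U (x : G))
      ⟨(x : G), MulAction.mem_orbit_self _⟩)
    exact mul_inv_eq_iff_eq_mul.1 h
  refine le_trans (Nat.le_self_pow hn0 r) ?_
  rw [← hn]
  refine Nat.card_le_card_of_injective (fun y => ?_) ?_
  · refine ⟨⟨(y : G), ?_⟩, hP _ ?_⟩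
    · obtain ⟨v, hv⟩ := y.2
      rw [← hv]
      exact (mem_normalizer_iff.1 (hUQ v.2) x).1 x.2
    · obtain ⟨v, hv⟩ := y.2
      exact ⟨v, v.2, hv⟩
  · intro y z h
    exact Subtype.ext (congrArg (fun w : {y : Q // P y} => ((w : Q) : G)) h)

/-- A `q`-group acting nontrivially on a `q'`-group fixes at most a `q`-th of it. -/
theorem mul_card_centralizer_le [Finite G] {q : ℕ} [Fact q.Prime] {U H : Subgroup G}
    (hU : IsPGroup q U) (hUH : U ≤ normalizer (H : Set G)) (hq : ¬ q ∣ Nat.card H)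
    (hne : ¬ H ≤ centralizer (U : Set G)) :
    q * Nat.card (H ⊓ centralizer (U : Set G) : Subgroup G) ≤ Nat.card H := by
  set C := H ⊓ centralizer (U : Set G) with hC
  let act : MulAction U H :=
    MulAction.compHom H ((normalizerMonoidHom H).comp (Subgroup.inclusion hUH))
  have hsmul : ∀ (v : U) (h : H), ((v • h : H) : G) = (v : G) * h * (v : G)⁻¹ := fun v h => rfl
  have hmod := hU.card_modEq_card_fixedPoints H
  have hfix : Nat.card (MulAction.fixedPoints U H) = Nat.card C := by
    refine Nat.card_congr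
      { toFun := fun y => ⟨(y : H), mem_inf.2 ⟨(y : H).2, mem_centralizer_iff.2 fun v hv => ?_⟩⟩
        invFun := fun y => ⟨⟨y, (mem_inf.1 y.2).1⟩, fun v => Subtype.ext ?_⟩
        left_inv := fun y => rfl
        right_inv := fun y => rfl }
    · have h := congrArg Subtype.val (y.2 ⟨v, hv⟩)
      rw [hsmul] at h
      exact mul_inv_eq_iff_eq_mul.1 h
    · rw [hsmul]
      exact mul_inv_eq_iff_eq_mul.2 (mem_centralizer_iff.1 (mem_inf.1 y.2).2 v v.2)
  rw [hfix] at hmod
  obtain ⟨i, hi⟩ := Subgroup.card_dvd_of_le (inf_le_left : C ≤ H)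
  have hi1 : i ≠ 1 := by
    rintro rfl
    rw [mul_one] at hi
    exact hne (inf_eq_left.1 (eq_of_le_of_card_ge inf_le_left hi.le))
  have hi0 : i ≠ 0 := by
    rintro rfl
    exact (Nat.card_pos (α := H)).ne' (by rw [hi, mul_zero])
  have hqC : q.Coprime (Nat.card C) := (Fact.out : q.Prime).coprime_iff_not_dvd.2 fun h =>
    hq (h.trans (Subgroup.card_dvd_of_le inf_le_left))
  have h1 : q ∣ Nat.card C * (i - 1) := by
    rw [Nat.mul_sub, mul_one, ← hi]
    exact (Nat.modEq_iff_dvd' (Subgroup.card_le_of_le inf_le_left)).1 hmod.symm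
  have hqi := Nat.le_of_dvd (by omega) (hqC.dvd_of_dvd_mul_left h1)
  calc q * Nat.card C ≤ i * Nat.card C := Nat.mul_le_mul_right _ (by omega)
    _ = Nat.card H := by rw [hi, mul_comm]

/-- A nonabelian Sylow subgroup gives few classes. -/
theorem card_pclasses_of_noncomm [Finite G] {q : ℕ} [Fact q.Prime] (Q : Sylow q G)
    (hab : ¬ IsMulCommutative (Q : Subgroup G)) :
    q ^ 3 * Nat.card (PClasses q G) ≤ (q ^ 2 + q - 1) * Nat.card (Q : Subgroup G) := by
  have hq : q.Prime := Fact.out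
  set Z := Subgroup.center (Q : Subgroup G) with hZ
  have hQ : IsPGroup q (Q : Subgroup G) := Q.2
  have key := card_mul_le_of_fibres (fun x : (Q : Subgroup G) => ConjClasses.mk x)
    ConjClasses.mk_surjective (Z : Set (Q : Subgroup G)) q hq.one_le fun x hx => by
      refine le_card_orbit hQ le_normalizer x (fun h => hx (Subgroup.mem_center_iff.2 fun g =>
        Subtype.ext (h g g.2))) fun y hy => ?_
      obtain ⟨v, hv, e⟩ := hy
      exact (ConjClasses.mk_eq_mk_iff_isConj.2 (isConj_iff.2 ⟨⟨v, hv⟩, Subtype.ext e⟩)).symm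
  rw [show Nat.card (Z : Set (Q : Subgroup G)) = Nat.card Z from rfl] at key
  obtain ⟨j, hj⟩ := hQ.index Z
  have hj2 : 2 ≤ j := by
    by_contra hlt
    have hcyc : IsCyclic ((Q : Subgroup G) ⧸ Z) := by
      rcases Nat.le_one_iff_eq_zero_or_eq_one.1 (show j ≤ 1 by omega) with h | h
      · rw [h, pow_zero] at hj
        rw [Subgroup.index_eq_card] at hj
        have := (Nat.card_eq_one_iff_unique.1 hj).1
        infer_instance
      · exact isCyclic_of_prime_card (p := q) (by rw [← Subgroup.index_eq_card, hj, h, pow_one])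
    exact hab (MonoidHom.isMulCommutative_of_isCyclic_of_ker_le_center (QuotientGroup.mk' Z)
      (by rw [QuotientGroup.ker_mk']))
  have hZle : q ^ 2 * Nat.card Z ≤ Nat.card (Q : Subgroup G) := by
    rw [← Z.index_mul_card, hj]
    exact Nat.mul_le_mul_right _ (Nat.pow_le_pow_right hq.pos hj2)
  have hle := card_pclasses_le_classes Q
  calc q ^ 3 * Nat.card (PClasses q G) ≤ q ^ 2 * (q * Nat.card (ConjClasses (Q : Subgroup G))) := by
        rw [← mul_assoc, ← pow_succ]; exact Nat.mul_le_mul_left _ hle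
    _ ≤ q ^ 2 * (Nat.card (Q : Subgroup G) + (q - 1) * Nat.card Z) := Nat.mul_le_mul_left _ key
    _ = q ^ 2 * Nat.card (Q : Subgroup G) + (q - 1) * (q ^ 2 * Nat.card Z) := by ring
    _ ≤ q ^ 2 * Nat.card (Q : Subgroup G) + (q - 1) * Nat.card (Q : Subgroup G) :=
        Nat.add_le_add_left (Nat.mul_le_mul_left _ hZle) _
    _ = _ := by rw [← add_mul, Nat.add_sub_assoc hq.one_le]

/-- One step of the recursion, with chosen representatives. -/
theorem card_piClasses_insert_sum [Finite G] {r : ℕ} (hr : r.Prime) {σ : Finset ℕ}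
    [Fintype (PClasses r G)] (rep : PClasses r G → G) (hrep : ∀ c, ConjClasses.mk (rep c) = c.1) :
    Nat.card (PiClasses (insert r σ) G) ≤
      ∑ c : PClasses r G, Nat.card (PiClasses σ (Subgroup.centralizer ({rep c} : Set G))) := by
  classical
  have hrep' : ∀ c, ∃ k, orderOf (rep c) = r ^ k := fun c =>
    c.2 _ (ConjClasses.mem_carrier_iff_mk_eq.2 (hrep c))
  have hrepd : ∀ (c : PClasses r G) (d : PiClasses σ (Subgroup.centralizer ({rep c} : Set G))),
      ∃ v : Subgroup.centralizer ({rep c} : Set G), ConjClasses.mk v = d.1 := fun c d => ConjClasses.mk_surjective d.1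
  choose repd hrepd using hrepd
  have hord : ∀ (c : PClasses r G) (d : PiClasses σ (Subgroup.centralizer ({rep c} : Set G))) (q : ℕ), q.Prime →
      q ∣ orderOf (rep c * (repd c d : G)) → q ∈ insert r σ := by
    intro c d q hq hdvd
    have hcomm : Commute (rep c) (repd c d : G) :=
      (Subgroup.mem_centralizer_singleton_iff.1 (repd c d).2).symm
    rcases hq.dvd_mul.1 (hdvd.trans (hcomm.orderOf_mul_dvd_lcm.trans (Nat.lcm_dvd_mul _ _))) with h | h
    · obtain ⟨k, hk⟩ := hrep' c
      rw [hk] at h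
      exact Finset.mem_insert.2 (Or.inl ((Nat.prime_dvd_prime_iff_eq hq hr).1 (hq.dvd_of_dvd_pow h)))
    · rw [Subgroup.orderOf_coe] at h
      exact Finset.mem_insert_of_mem (d.2 _ (ConjClasses.mem_carrier_iff_mk_eq.2 (hrepd c d)) q hq h)
  let f : (Σ c : PClasses r G, PiClasses σ (Subgroup.centralizer ({rep c} : Set G))) → PiClasses (insert r σ) G :=
    fun z => ⟨ConjClasses.mk (rep z.1 * (repd z.1 z.2 : G)), piClasses_mk (hord z.1 z.2)⟩
  have hf : Function.Surjective f := by
    rintro ⟨c, hc⟩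
    obtain ⟨x, rfl⟩ := ConjClasses.mk_surjective c
    have hx := hc x ConjClasses.mem_carrier_mk
    obtain ⟨a, m, hm, ham⟩ := Nat.exists_eq_pow_mul_and_not_dvd (orderOf_pos x).ne' r hr.ne_one
    have hcop : (r ^ a).Coprime m := (hr.coprime_iff_not_dvd.2 hm).pow_left a
    obtain ⟨s, t, hst⟩ : IsCoprime ((r ^ a : ℕ) : ℤ) (m : ℤ) := Nat.isCoprime_iff_coprime.2 hcop
    set u := x ^ (t * m) with hu
    set v := x ^ (s * ((r ^ a : ℕ) : ℤ)) with hv
    have hxuv : x = u * v := by rw [hu, hv, ← zpow_add, add_comm, hst, zpow_one]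
    have hu1 : u ^ r ^ a = 1 := by
      rw [hu, ← zpow_natCast, ← zpow_mul, ← orderOf_dvd_iff_zpow_eq_one, ham]
      exact ⟨t, by push_cast; ring⟩
    have hv1 : v ^ m = 1 := by
      rw [hv, ← zpow_natCast, ← zpow_mul, ← orderOf_dvd_iff_zpow_eq_one, ham]
      exact ⟨s, by push_cast; ring⟩
    have hu2 : ∀ y ∈ (ConjClasses.mk u).carrier, ∃ k, orderOf y = r ^ k := fun y hy => by
      rw [ConjClasses.mem_carrier_iff_mk_eq, ConjClasses.mk_eq_mk_iff_isConj, isConj_iff] at hy
      obtain ⟨g, hg⟩ := hy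
      obtain ⟨k, -, hk⟩ := (Nat.dvd_prime_pow hr).1 (orderOf_dvd_of_pow_eq_one hu1)
      exact ⟨k, by rw [← hk, ← hg, orderOf_conj]⟩
    set c : PClasses r G := ⟨ConjClasses.mk u, hu2⟩ with hcdef
    obtain ⟨g, hg⟩ := isConj_iff.1 (ConjClasses.mk_eq_mk_iff_isConj.1 (hrep c).symm)
    have hvC : g * v * g⁻¹ ∈ Subgroup.centralizer ({rep c} : Set G) := by
      rw [Subgroup.mem_centralizer_singleton_iff, ← hg]
      have huv : v * u = u * v := by rw [hu, hv, ← zpow_add, ← zpow_add, add_comm]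
      calc g * v * g⁻¹ * (g * u * g⁻¹) = g * (v * u) * g⁻¹ := by group
        _ = g * u * g⁻¹ * (g * v * g⁻¹) := by rw [huv]; group
    have hvσ : ∀ q : ℕ, q.Prime → q ∣ orderOf (⟨_, hvC⟩ : Subgroup.centralizer ({rep c} : Set G)) → q ∈ σ := by
      intro q hq hd
      rw [Subgroup.orderOf_mk, orderOf_conj] at hd
      have hqm : q ∣ m := hd.trans (orderOf_dvd_of_pow_eq_one hv1)
      rcases Finset.mem_insert.1 (hx q hq (ham ▸ hqm.mul_left _)) with h | h
      · exact absurd (h ▸ hqm) hm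
      · exact h
    set d : PiClasses σ (Subgroup.centralizer ({rep c} : Set G)) := ⟨ConjClasses.mk ⟨_, hvC⟩, piClasses_mk hvσ⟩
    obtain ⟨w, hw⟩ := isConj_iff.1 (ConjClasses.mk_eq_mk_iff_isConj.1 (hrepd c d).symm)
    refine ⟨⟨c, d⟩, Subtype.ext (ConjClasses.mk_eq_mk_iff_isConj.2 (IsConj.symm ?_))⟩
    refine isConj_iff.2 ⟨(w : G) * g, ?_⟩
    have hw' : (w : G) * (g * v * g⁻¹) * (w : G)⁻¹ = (repd c d : G) := congrArg Subtype.val hw
    have hwu : (w : G) * rep c * (w : G)⁻¹ = rep c :=
      mul_inv_eq_iff_eq_mul.2 (Subgroup.mem_centralizer_singleton_iff.1 w.2)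
    conv_lhs => rw [hxuv]
    calc (w : G) * g * (u * v) * ((w : G) * g)⁻¹
        = ((w : G) * (g * u * g⁻¹) * (w : G)⁻¹) * ((w : G) * (g * v * g⁻¹) * (w : G)⁻¹) := by group
      _ = rep c * (repd c d : G) := by rw [hg, hwu, hw']
  calc Nat.card (PiClasses (insert r σ) G)
      ≤ Nat.card (Σ c : PClasses r G, PiClasses σ (Subgroup.centralizer ({rep c} : Set G))) :=
        Nat.card_le_card_of_surjective f hf
    _ = _ := Nat.card_sigma

/-- In a group with a normal `p`-complement, that complement contains the elements of order prime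
to `p`. -/
theorem exists_complement [Finite G] {p : ℕ} [Fact p.Prime] (h : Cfsg.HasNormalPComplement p G) :
    ∃ N : Subgroup G, N.Normal ∧ ¬ p ∣ Nat.card N ∧ ∀ y : G, ¬ p ∣ orderOf y → y ∈ N := by
  obtain ⟨P, N, hN, hc⟩ := h
  have hNi : N.index = Nat.card (P : Subgroup G) := hc.symm.index_eq_card
  refine ⟨N, hN, ?_, fun y hy => ?_⟩
  · rw [← hc.index_eq_card]
    exact P.not_dvd_index
  · rw [← QuotientGroup.eq_one_iff, ← orderOf_eq_one_iff]
    obtain ⟨n, hn⟩ := IsPGroup.iff_card.1 P.2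
    refine Nat.eq_one_of_dvd_coprimes
      ((((Fact.out : p.Prime).coprime_iff_not_dvd.2 hy).symm).pow_right n)
      (orderOf_map_dvd (QuotientGroup.mk' N) y) ?_
    rw [← hn, ← hNi, Subgroup.index_eq_card]
    exact orderOf_dvd_natCard _

theorem sum_indicator_le {ι : Type*} [Fintype ι] [Finite ι] (P : ι → Prop) (f : ι → ℕ) (a b : ℕ)
    (hT : ∀ c, P c → f c ≤ a + b) (hF : ∀ c, ¬ P c → f c ≤ a) :
    ∑ c, f c ≤ Nat.card ι * a + Nat.card {c // P c} * b := by
  classical
  calc ∑ c, f c ≤ ∑ c, (a + if P c then b else 0) := Finset.sum_le_sum fun c _ => by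
        split_ifs with h
        · exact hT c h
        · exact (hF c h).trans (Nat.le_add_right _ _)
    _ = _ := by
      rw [Finset.sum_add_distrib, Finset.sum_const, Finset.sum_ite, Finset.sum_const,
        Finset.sum_const_zero, add_zero, Finset.card_univ, smul_eq_mul, smul_eq_mul,
        Nat.card_eq_fintype_card, Nat.card_eq_fintype_card, Fintype.card_subtype]

/-- The statement proved by induction on `σ`. -/
def Good (p : ℕ) (σ : Finset ℕ) : Prop :=
  ∀ (G : Type u) [Group G] [Finite G], part σ G < p * Nat.card (PiClasses σ G) →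
    ∃ H : Subgroup G, Group.IsNilpotent H ∧ Nat.card H = part σ G

/-- A subgroup either has few classes of `σ`-elements or contains a nilpotent Hall subgroup. -/
theorem bound_or_hall {G : Type u} [Group G] [Finite G] {p : ℕ} {σ : Finset ℕ}
    (hσ : ∀ r ∈ σ, r.Prime ∧ p ≤ r) (ih : Good.{u} p σ) (C : Subgroup G) :
    p * Nat.card (PiClasses σ C) ≤ part σ G ∨
      ∃ K ≤ C, Group.IsNilpotent K ∧ Nat.card K = part σ G := by
  have hσ1 := fun r hr => (hσ r hr).1
  by_cases h : part σ C < p * Nat.card (PiClasses σ C)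
  · obtain ⟨H, hH, hHc⟩ := ih C h
    by_cases he : part σ C = part σ G
    · refine Or.inr ⟨H.map C.subtype, map_subtype_le _, ?_, ?_⟩
      · exact Group.nilpotent_of_mulEquiv (equivMapOfInjective _ _ C.subtype_injective)
      · rw [CfsgLib.Coprime.card_map_subtype, hHc, he]
    · refine Or.inl ((Nat.mul_le_mul_left _ (card_piClasses_le σ hσ1 C)).trans ?_)
      exact mul_le_of_dvd (part_dvd hσ1 C) (part_pos hσ1) he
        fun r hr hd => (hσ r (mem_of_dvd_part hσ1 hr hd)).2
  · exact Or.inl ((not_lt.1 h).trans (Nat.le_of_dvd (part_pos hσ1) (part_dvd hσ1 C)))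

theorem isNilpotent_part_sup [Finite G] {σ : Finset ℕ} (hσ : ∀ r ∈ σ, r.Prime) {q : ℕ}
    [Fact q.Prime] (hqσ : q ∉ σ) {K T : Subgroup G} (hK : Group.IsNilpotent K)
    (hKc : Nat.card K = part σ G) (hT : Nat.card T = q ^ (Nat.card G).factorization q)
    (hcomm : K ≤ centralizer (T : Set G)) :
    ∃ H : Subgroup G, Group.IsNilpotent H ∧ Nat.card H = part (insert q σ) G := by
  have hTn : Group.IsNilpotent T := (IsPGroup.of_card hT : IsPGroup q T).isNilpotent
  refine ⟨K ⊔ T, ?_, ?_⟩
  · exact CfsgLib.OddOrder.Basic.isNilpotent_sup_of_commute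
      fun a ha b hb => (mem_centralizer_iff.1 (hcomm ha) b hb).symm
  · have hcop : (Nat.card T).Coprime (Nat.card K) := by
      rw [hT, hKc]
      exact (((Fact.out : q.Prime).coprime_iff_not_dvd.2 fun h =>
        hqσ (mem_of_dvd_part hσ Fact.out h)).pow_left _)
    rw [sup_comm, CfsgLib.Coprime.card_sup_of_le_normalizer
      (hcomm.trans (Subgroup.centralizer_le_normalizer _)) (disjoint_of_coprime_natCard hcop),
      hT, hKc, part, part, Finset.prod_insert hqσ]

/-- The case of a normal `q`-complement and an abelian Sylow `q`-subgroup. -/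
theorem npc_case [Finite G] {σ : Finset ℕ} (hσ : ∀ r ∈ σ, r.Prime) {q : ℕ} [Fact q.Prime]
    (hqσ : q ∉ σ) (hnpc : Cfsg.HasNormalPComplement q G) (Q : Sylow q G) [IsMulCommutative (Q : Subgroup G)] {H₀ : Subgroup G}
    (hH₀ : Group.IsNilpotent H₀) (hH₀c : Nat.card H₀ = part σ G) :
    (∃ H : Subgroup G, Group.IsNilpotent H ∧ Nat.card H = part (insert q σ) G) ∨
      q ^ 3 * Nat.card (PiClasses (insert q σ) G) ≤
        (q ^ 2 + q - 1) * (Nat.card (Q : Subgroup G) * part σ G) := by
  classical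
  have hq : q.Prime := Fact.out
  obtain ⟨N, hN, hNq, hNy⟩ := exists_complement hnpc
  have hσN : ∀ {y : G}, (∀ r : ℕ, r.Prime → r ∣ orderOf y → r ∈ σ) → y ∈ N := fun {y} h =>
    hNy y fun hd => hqσ (h q hq hd)
  have hKN : ∀ {K : Subgroup G}, Nat.card K = part σ G → K ≤ N := fun {K} hK y hy => hσN fun r hr hd =>
    mem_of_dvd_part hσ hr (hK ▸ hd.trans (Subgroup.orderOf_dvd_natCard K hy))
  have hconj : ∀ (g : G) {K : Subgroup G}, Nat.card K = part σ G →
      Nat.card (MulAut.conj g • K : Subgroup G) = part σ G := fun g {K} hK =>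
    (Nat.card_congr (Subgroup.equivSMul (MulAut.conj g) K).toEquiv).symm.trans hK
  obtain ⟨n₀, hn₀⟩ := IsPGroup.iff_card.1 Q.2
  let act : MulAction G (Subgroup G) := MulAction.compHom _ (MulAut.conj (G := G))
  have hcop : (Nat.card (Q : Subgroup G)).Coprime (Nat.card N) := by
    rw [hn₀]
    exact (hq.coprime_iff_not_dvd.2 hNq).pow_left _
  obtain ⟨H, ⟨-, hHn, hHc⟩, hfix⟩ := CfsgLib.Coprime.exists_fixed_mem (A := (Q : Subgroup G)) (K := N)
    (Subgroup.le_normalizer_of_normal) hcop (Or.inl (by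
      have := Q.2.isNilpotent; infer_instance))
    (s := {K : Subgroup G | True ∧ Group.IsNilpotent K ∧ Nat.card K = part σ G})
    (x := H₀) ⟨trivial, hH₀, hH₀c⟩
    (fun a _ K hK => ⟨trivial, Group.nilpotent_of_mulEquiv (Subgroup.equivSMul (MulAut.conj a) K) (_h := hK.2.1),
      hconj a hK.2.2⟩)
    (fun a _ K hK => ⟨trivial, Group.nilpotent_of_mulEquiv (Subgroup.equivSMul (MulAut.conj a) K) (_h := hK.2.1),
      hconj a hK.2.2⟩)
    (fun K hK => by
      have e : ∀ {L : Subgroup G}, Nat.card L = part σ G → Nat.card (L.subgroupOf N) = part σ N ∧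
          part σ N = part σ G := fun {L} hL => by
        have h1 : Nat.card (L.subgroupOf N) = part σ G :=
          (Nat.card_congr (subgroupOfEquivOfLe (hKN hL)).toEquiv).trans hL
        have h2 : part σ N = part σ G := Nat.dvd_antisymm (part_dvd hσ N)
          (h1 ▸ dvd_part_of_forall hσ fun r hr hd => mem_of_dvd_part hσ hr (h1 ▸ hd))
        exact ⟨h1.trans h2.symm, h2⟩
      have : Group.IsNilpotent (H₀.subgroupOf N) :=
        Group.nilpotent_of_mulEquiv (subgroupOfEquivOfLe (hKN hH₀c)).symm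
      obtain ⟨g, hg⟩ := exists_conj_eq_hall (G := N) hσ this (e hH₀c).1 (e hK.2.2).1
      refine ⟨g, g.2, ?_⟩
      have h := congrArg (Subgroup.map N.subtype) hg
      rw [subgroupOf_map_subtype, inf_eq_left.2 (hKN hK.2.2)] at h
      rw [h]
      show H₀.map (MulAut.conj (g : G)).toMonoidHom =
        ((H₀.subgroupOf N).map (MulAut.conj g).toMonoidHom).map N.subtype
      conv_lhs => rw [← inf_eq_left.2 (hKN hH₀c), ← subgroupOf_map_subtype]
      rw [Subgroup.map_map, Subgroup.map_map]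
      rfl)
  have hQH : (Q : Subgroup G) ≤ normalizer (H : Set G) := fun a ha =>
    mem_normalizer_iff_map_conj_eq.2 (hfix a ha)
  by_cases hall : H ≤ centralizer ((Q : Subgroup G) : Set G)
  · exact Or.inl (isNilpotent_part_sup hσ hqσ hHn hHc Q.card_eq_multiplicity hall)
  refine Or.inr ?_
  have hqH : ¬ q ∣ Nat.card H := fun h => hqσ (mem_of_dvd_part hσ hq (hHc ▸ h))
  -- the centraliser of an element of `Q` has `σ`-part dividing that in `H`
  have hpart : ∀ x ∈ (Q : Subgroup G),
      part σ (centralizer ({x} : Set G)) ∣ Nat.card (H ⊓ centralizer ({x} : Set G) : Subgroup G) := by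
    intro x hx
    refine (Nat.factorization_le_iff_dvd (part_pos hσ).ne' Nat.card_pos.ne').1 fun r => ?_
    rw [factorization_part hσ]
    split_ifs with hr
    swap
    · exact Nat.zero_le _
    haveI := Fact.mk (hσ r hr)
    obtain ⟨S⟩ : Nonempty (Sylow r (centralizer ({x} : Set G))) := inferInstance
    set S' := (S : Subgroup _).map (centralizer ({x} : Set G)).subtype
    have hS'p : IsPGroup r S' := S.2.map _
    have hrq : r ≠ q := fun h => hqσ (h ▸ hr)
    have hS'N : S' ≤ N := fun y hy => hNy y fun hd => by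
      obtain ⟨k, hk⟩ := IsPGroup.iff_orderOf.1 hS'p ⟨y, hy⟩
      rw [Subgroup.orderOf_mk] at hk
      exact hrq ((Nat.prime_dvd_prime_iff_eq hq (hσ r hr)).1 (hq.dvd_of_dvd_pow (hk ▸ hd))).symm
    obtain ⟨R₀⟩ : Nonempty (Sylow r H) := inferInstance
    have hR₀n : (R₀ : Subgroup H).Normal := inferInstance
    set R := (R₀ : Subgroup H).map H.subtype
    have hRN : R ≤ N := (map_subtype_le _).trans (hKN hHc)
    have hvN : (Nat.card N).factorization r = (Nat.card G).factorization r := by
      refine le_antisymm ((Nat.factorization_le_iff_dvd Nat.card_pos.ne' Nat.card_pos.ne').2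
        (Subgroup.card_subgroup_dvd_card N) r) ?_
      have h1 := (Nat.factorization_le_iff_dvd Nat.card_pos.ne' Nat.card_pos.ne').2
        (Subgroup.card_dvd_of_le (hKN hHc)) r
      rwa [hHc, factorization_part hσ, if_pos hr] at h1
    have hRc : Nat.card R = r ^ (Nat.card N).factorization r := by
      rw [CfsgLib.Coprime.card_map_subtype, R₀.card_eq_multiplicity, hHc, factorization_part hσ,
        if_pos hr, hvN]
    obtain ⟨P₁, hP₁⟩ := CfsgLib.Coprime.exists_sylow_map_eq hRN hRc
    have hA : zpowers x ≤ normalizer (N : Set G) := Subgroup.le_normalizer_of_normal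
    have hAcop : (Nat.card (zpowers x)).Coprime (Nat.card N) :=
      hcop.coprime_dvd_left (Subgroup.card_dvd_of_le (zpowers_le.2 hx))
    have hRA : zpowers x ≤ normalizer (R : Set G) := by
      intro a ha
      rw [mem_normalizer_iff_map_conj_eq]
      have haH : a ∈ normalizer (H : Set G) := hQH (zpowers_le.2 hx ha)
      refine eq_of_le_of_card_ge ?_ (card_conj_map_eq R a).ge
      rintro _ ⟨y, ⟨w, hw, rfl⟩, rfl⟩
      let z : H := ⟨a * (w : G) * a⁻¹, (mem_normalizer_iff.1 haH w).1 w.2⟩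
      refine ⟨z, ?_, rfl⟩
      have hz : IsPGroup r (zpowers z) := by
        obtain ⟨k, hk⟩ := IsPGroup.iff_orderOf.1 R₀.2 ⟨w, hw⟩
        rw [Subgroup.orderOf_mk] at hk
        refine IsPGroup.of_card (n := k) ?_
        rw [Nat.card_zpowers, ← hk, ← Subgroup.orderOf_coe z, ← Subgroup.orderOf_coe w]
        exact orderOf_conj a (w : G)
      obtain ⟨T, hT⟩ := hz.exists_le_sylow
      have := Sylow.unique_of_normal R₀ hR₀n
      rw [Subsingleton.elim T R₀] at hT
      exact hT (mem_zpowers z)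
    have hS'A : zpowers x ≤ normalizer (S' : Set G) := by
      refine le_trans (zpowers_le.2 ?_) (Subgroup.centralizer_le_normalizer _)
      exact mem_centralizer_iff.2 fun y hy =>
        Subgroup.mem_centralizer_singleton_iff.1 (map_subtype_le _ hy)
    obtain ⟨P₂, hSP, hP₂⟩ := CfsgLib.Coprime.exists_le_invariant_sylow hA hAcop
      (Or.inl (CfsgLib.Coprime.isSolvable_zpowers x)) hS'N hS'p hS'A
    obtain ⟨c, hc, he⟩ := CfsgLib.Coprime.exists_centralizer_conj_sylow hA hAcop
      (Or.inl (CfsgLib.Coprime.isSolvable_zpowers x)) P₂ P₁ hP₂ (hP₁.symm ▸ hRA)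
    have hle : S'.map (MulAut.conj (c : G)).toMonoidHom ≤ H ⊓ centralizer ({x} : Set G) := by
      refine le_inf ((Subgroup.map_mono hSP).trans ?_) ?_
      · rw [← CfsgLib.Coprime.map_smul_sylow, he, hP₁]
        exact map_subtype_le _
      · rintro _ ⟨y, hy, rfl⟩
        have hcC : (c : G) ∈ centralizer ({x} : Set G) := Subgroup.mem_centralizer_singleton_iff.2
          (mem_centralizer_iff.1 hc x (mem_zpowers x)).symm
        exact mul_mem (mul_mem hcC (map_subtype_le _ hy)) (inv_mem hcC)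
    have hd := Subgroup.card_dvd_of_le hle
    rw [card_conj_map_eq, CfsgLib.Coprime.card_map_subtype, S.card_eq_multiplicity] at hd
    exact ((hσ r hr).pow_dvd_iff_le_factorization Nat.card_pos.ne').1 hd
  let rep : PClasses q G → G := fun c => ((toClass_surjective Q c).choose : G)
  have hrep : ∀ c, ConjClasses.mk (rep c) = c.1 := fun c =>
    congrArg Subtype.val (toClass_surjective Q c).choose_spec
  have hrepQ : ∀ c, rep c ∈ (Q : Subgroup G) := fun c => (toClass_surjective Q c).choose.2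
  let _ : Fintype (PClasses q G) := Fintype.ofFinite _
  set Q₁ := (Q : Subgroup G) ⊓ centralizer (H : Set G)
  have hQ₁ : Q₁ < (Q : Subgroup G) := lt_of_le_of_ne inf_le_left fun h => hall fun y hy =>
    mem_centralizer_iff.2 fun v hv => (mem_centralizer_iff.1 (h.ge hv).2 y hy).symm
  have hQQ := card_mul_le_of_lt Q.2 hQ₁
  have hF : Nat.card {c // rep c ∈ Q₁} ≤ Nat.card Q₁ :=
    Nat.card_le_card_of_injective (fun c => (⟨rep c.1, c.2⟩ : Q₁)) fun c d h => by
      refine Subtype.ext (Subtype.ext ?_)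
      rw [← hrep, ← hrep]
      exact congrArg ConjClasses.mk (congrArg Subtype.val h :)
  have hin : ∀ c, rep c ∈ Q₁ →
      q ^ 2 * Nat.card (PiClasses σ (centralizer ({rep c} : Set G))) ≤
        q * part σ G + (q - 1) * part σ G := by
    intro c hc
    set C := centralizer ({rep c} : Set G)
    have hHC : H ≤ C := fun y hy =>
      Subgroup.mem_centralizer_singleton_iff.2 (mem_centralizer_iff.1 hc.2 y hy)
    have hc1 : Nat.card (H.subgroupOf C) = part σ C := by
      have h1 : Nat.card (H.subgroupOf C) = part σ G :=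
        (Nat.card_congr (subgroupOfEquivOfLe hHC).toEquiv).trans hHc
      refine h1.trans (Nat.dvd_antisymm ?_ (part_dvd hσ C))
      exact h1 ▸ dvd_part_of_forall hσ fun r hr hd => mem_of_dvd_part hσ hr (h1 ▸ hd)
    let f : H → PiClasses σ C := fun h => toPiClass (H.subgroupOf C)
      (fun r hr hd => mem_of_dvd_part hσ hr (hc1 ▸ hd)) ((subgroupOfEquivOfLe hHC).symm h)
    have hf : Function.Surjective f :=
      (toPiClass_surjective hσ (Group.nilpotent_of_mulEquiv (subgroupOfEquivOfLe hHC).symm)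
        hc1).comp (subgroupOfEquivOfLe hHC).symm.surjective
    have key := card_mul_le_of_fibres f hf
      (((H ⊓ centralizer ((Q : Subgroup G) : Set G)).subgroupOf H : Subgroup H) : Set H) q
      hq.one_le fun h hh => by
        refine le_card_orbit Q.2 hQH h (fun hcomm => hh (mem_subgroupOf.2 ⟨h.2,
          mem_centralizer_iff.2 fun v hv => hcomm v hv⟩)) fun y hy => ?_
        obtain ⟨v, hv, e⟩ := hy
        have hvC : v ∈ C := Subgroup.mem_centralizer_singleton_iff.2 (congrArg Subtype.val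
          ((inferInstance : IsMulCommutative (Q : Subgroup G)).is_comm.comm
            (⟨v, hv⟩ : (Q : Subgroup G)) ⟨rep c, hrepQ c⟩) :)
        exact (Subtype.ext (ConjClasses.mk_eq_mk_iff_isConj.2
          (isConj_iff.2 ⟨⟨v, hvC⟩, Subtype.ext e⟩))).symm
    rw [show Nat.card (((H ⊓ centralizer ((Q : Subgroup G) : Set G)).subgroupOf H : Subgroup H) : Set H)
        = Nat.card (H ⊓ centralizer ((Q : Subgroup G) : Set G) : Subgroup G) from
      Nat.card_congr (subgroupOfEquivOfLe inf_le_left).toEquiv] at key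
    have hfixle := mul_card_centralizer_le Q.2 hQH hqH hall
    rw [← hHc]
    calc q ^ 2 * Nat.card (PiClasses σ C) = q * (q * Nat.card (PiClasses σ C)) := by ring
      _ ≤ q * (Nat.card H + (q - 1) * Nat.card (H ⊓ centralizer ((Q : Subgroup G) : Set G) : Subgroup G)) :=
          Nat.mul_le_mul_left _ key
      _ = q * Nat.card H + (q - 1) * (q * Nat.card (H ⊓ centralizer ((Q : Subgroup G) : Set G) : Subgroup G)) := by ring
      _ ≤ _ := Nat.add_le_add_left (Nat.mul_le_mul_left _ hfixle) _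
  have hout : ∀ c, rep c ∉ Q₁ →
      q ^ 2 * Nat.card (PiClasses σ (centralizer ({rep c} : Set G))) ≤ q * part σ G := by
    intro c hc
    rw [sq, mul_assoc]
    refine Nat.mul_le_mul_left _ ((Nat.mul_le_mul_left _ ((card_piClasses_le σ hσ _).trans
      (Nat.le_of_dvd Nat.card_pos (hpart _ (hrepQ c))))).trans ?_)
    rw [← hHc, show centralizer ({rep c} : Set G) = centralizer ((zpowers (rep c) : Subgroup G) : Set G) from
      le_antisymm (fun y hy => mem_centralizer_iff.2 fun v hv => by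
          obtain ⟨k, rfl⟩ := mem_zpowers_iff.1 hv
          exact (Commute.zpow_right (show Commute y (rep c) from Subgroup.mem_centralizer_singleton_iff.1 hy) k).eq.symm)
        (centralizer_le (Set.singleton_subset_iff.2 (mem_zpowers _)))]
    refine mul_card_centralizer_le (Q.2.to_le (zpowers_le.2 (hrepQ c)))
      ((zpowers_le.2 (hrepQ c)).trans hQH) hqH fun h => hc ⟨hrepQ c, mem_centralizer_iff.2 fun y hy =>
        (mem_centralizer_iff.1 (h hy) _ (mem_zpowers _)).symm⟩
  have hsum := sum_indicator_le (fun c => rep c ∈ Q₁)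
    (fun c => q ^ 2 * Nat.card (PiClasses σ (centralizer ({rep c} : Set G)))) (q * part σ G)
    ((q - 1) * part σ G) hin hout
  rw [← Finset.mul_sum] at hsum
  have hins := Nat.mul_le_mul_left (q ^ 2) (card_piClasses_insert_sum hq (σ := σ) rep hrep)
  have hc := card_pclasses_le Q
  calc q ^ 3 * Nat.card (PiClasses (insert q σ) G)
      = q * (q ^ 2 * Nat.card (PiClasses (insert q σ) G)) := by ring
    _ ≤ q * (Nat.card (Q : Subgroup G) * (q * part σ G) + Nat.card Q₁ * ((q - 1) * part σ G)) :=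
        Nat.mul_le_mul_left _ ((hins.trans hsum).trans
          (Nat.add_le_add (Nat.mul_le_mul_right _ hc) (Nat.mul_le_mul_right _ hF)))
    _ = q ^ 2 * (Nat.card (Q : Subgroup G) * part σ G) + (q - 1) * (q * Nat.card Q₁ * part σ G) := by ring
    _ ≤ q ^ 2 * (Nat.card (Q : Subgroup G) * part σ G) +
          (q - 1) * (Nat.card (Q : Subgroup G) * part σ G) :=
        Nat.add_le_add_left (Nat.mul_le_mul_left _ (Nat.mul_le_mul_right _ hQQ)) _
    _ = _ := by rw [← add_mul, Nat.add_sub_assoc hq.one_le]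

/-- A nilpotent Hall subgroup of a centraliser acting nontrivially on a Sylow `q`-subgroup cuts
down the classes of `q`-elements. -/
theorem orbit_case [Finite G] {σ : Finset ℕ} (hσ : ∀ r ∈ σ, r.Prime) {q : ℕ} [Fact q.Prime]
    (hqσ : q ∉ σ) (Q : Sylow q G) {C K : Subgroup G} (hQC : (Q : Subgroup G) ≤ C) (hKC : K ≤ C)
    (hK : Group.IsNilpotent K) (hKc : Nat.card K = part σ G)
    (hnpc : ∀ r ∈ σ, Cfsg.HasNormalPComplement r C) :
    (∃ H : Subgroup G, Group.IsNilpotent H ∧ Nat.card H = part (insert q σ) G) ∨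
      ∃ r ∈ σ, r * (q * Nat.card (PClasses q G)) ≤ (q + r - 1) * Nat.card (Q : Subgroup G) := by
  classical
  have hq : q.Prime := Fact.out
  set s : Set C := {y : C | ∃ k : ℕ, orderOf y = q ^ k}
  set M₀ := Subgroup.closure s
  have hM₀n : M₀.Normal := by
    refine ⟨fun y hy g => ?_⟩
    have h1 : M₀.map (MulAut.conj g).toMonoidHom ≤ M₀ := by
      rw [MonoidHom.map_closure, Subgroup.closure_le]
      rintro _ ⟨w, ⟨k, hk⟩, rfl⟩
      exact Subgroup.subset_closure ⟨k, (orderOf_conj g w).trans hk⟩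
    exact h1 ⟨y, hy, rfl⟩
  have hM₀r : ∀ r ∈ σ, ¬ r ∣ Nat.card M₀ := by
    intro r hr hd
    haveI := Fact.mk (hσ r hr)
    obtain ⟨Nr, -, hNr, hmem⟩ := exists_complement (hnpc r hr)
    refine hNr (hd.trans (Subgroup.card_dvd_of_le ((Subgroup.closure_le _).2 ?_)))
    rintro w ⟨k, hk⟩
    refine hmem w fun h => hqσ ?_
    rw [hk] at h
    exact (Nat.prime_dvd_prime_iff_eq (hσ r hr) hq).1 ((hσ r hr).dvd_of_dvd_pow h) ▸ hr
  set M := M₀.map C.subtype
  have hQM : (Q : Subgroup G) ≤ M := fun y hy => by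
    refine ⟨⟨y, hQC hy⟩, Subgroup.subset_closure ?_, rfl⟩
    obtain ⟨k, hk⟩ := IsPGroup.iff_orderOf.1 Q.2 ⟨y, hy⟩
    exact ⟨k, by rwa [Subgroup.orderOf_mk] at hk ⊢⟩
  have hKM : K ≤ normalizer (M : Set G) := fun a ha => by
    rw [mem_normalizer_iff_map_conj_eq]
    refine eq_of_le_of_card_ge ?_ (card_conj_map_eq M a).ge
    rintro _ ⟨_, ⟨w, hw, rfl⟩, rfl⟩
    exact ⟨_, hM₀n.conj_mem w hw ⟨a, hKC ha⟩, rfl⟩
  have hcop : (Nat.card K).Coprime (Nat.card M) := by
    rw [CfsgLib.Coprime.card_map_subtype]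
    refine Nat.coprime_of_dvd fun r hr h1 h2 => hM₀r r ?_ h2
    exact mem_of_dvd_part hσ hr (hKc ▸ h1)
  obtain ⟨P, hP⟩ := CfsgLib.Coprime.exists_invariant_sylow hKM hcop
    (Or.inl (by have := hK; infer_instance)) q
  set T := (P : Subgroup M).map M.subtype
  have hTc : Nat.card T = q ^ (Nat.card G).factorization q := by
    rw [CfsgLib.Coprime.card_map_subtype, P.card_eq_multiplicity]
    congr 1
    refine le_antisymm ((Nat.factorization_le_iff_dvd Nat.card_pos.ne' Nat.card_pos.ne').2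
      (Subgroup.card_subgroup_dvd_card M) q) ?_
    have h := (Nat.factorization_le_iff_dvd Nat.card_pos.ne' Nat.card_pos.ne').2
      (Subgroup.card_dvd_of_le hQM) q
    rwa [Q.card_eq_multiplicity, hq.factorization_pow, Finsupp.single_eq_same] at h
  by_cases hall : K ≤ centralizer (T : Set G)
  · exact Or.inl (isNilpotent_part_sup hσ hqσ hK hKc hTc hall)
  refine Or.inr ?_
  -- a Sylow subgroup of `K` moving `T`
  obtain ⟨r, hr, R, hR⟩ : ∃ r ∈ σ, ∃ R : Sylow r K,
      ¬ (R : Subgroup K).map K.subtype ≤ centralizer (T : Set G) := by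
    by_contra hno
    push Not at hno
    refine hall fun y hy => ?_
    have htop : (centralizer (T : Set G)).subgroupOf K = ⊤ := by
      refine eq_top_of_card_eq _ (Nat.dvd_antisymm (Subgroup.card_subgroup_dvd_card _) ?_)
      refine (Nat.factorization_le_iff_dvd Nat.card_pos.ne' Nat.card_pos.ne').1 fun r => ?_
      by_cases hr : r ∈ σ
      · haveI := Fact.mk (hσ r hr)
        obtain ⟨R⟩ : Nonempty (Sylow r K) := inferInstance
        refine (Nat.Prime.pow_dvd_iff_le_factorization Fact.out Nat.card_pos.ne').1 ?_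
        rw [← R.card_eq_multiplicity]
        exact Subgroup.card_dvd_of_le fun w hw => hno r hr R ⟨w, hw, rfl⟩
      · rw [hKc, factorization_part hσ, if_neg hr]
        exact Nat.zero_le _
    exact mem_subgroupOf.1 (htop ▸ mem_top (⟨y, hy⟩ : K))
  haveI := Fact.mk (hσ r hr)
  set U := (R : Subgroup K).map K.subtype
  have hUT : U ≤ normalizer (T : Set G) := (map_subtype_le _).trans hP
  have hTp : IsPGroup q T := IsPGroup.of_card hTc
  let P' : Sylow q G := Sylow.ofCard T hTc
  have hP' : (P' : Subgroup G) = T := Sylow.coe_ofCard T hTc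
  refine ⟨r, hr, ?_⟩
  set F := (P' : Subgroup G) ⊓ centralizer (U : Set G)
  have hF : F < (P' : Subgroup G) := lt_of_le_of_ne inf_le_left fun h => hR fun v hv =>
    mem_centralizer_iff.2 fun y hy =>
      (mem_centralizer_iff.1 (mem_inf.1 (h.ge (hP'.symm ▸ hy))).2 v hv).symm
  have hqF := card_mul_le_of_lt P'.2 hF
  have key := card_mul_le_of_fibres (toClass P') (toClass_surjective P')
    (F.subgroupOf (P' : Subgroup G) : Set (P' : Subgroup G)) r (hσ r hr).one_le fun x hx => by
      refine le_card_orbit (R.2.map _) (hP'.symm ▸ hUT) x (fun h => hx (mem_subgroupOf.2 ⟨x.2,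
        mem_centralizer_iff.2 fun v hv => h v hv⟩)) fun y hy => ?_
      obtain ⟨v, -, e⟩ := hy
      exact (Subtype.ext (ConjClasses.mk_eq_mk_iff_isConj.2 (isConj_iff.2 ⟨v, e⟩))).symm
  rw [show Nat.card ((F.subgroupOf (P' : Subgroup G) : Subgroup (P' : Subgroup G)) : Set (P' : Subgroup G))
      = Nat.card F from Nat.card_congr (subgroupOfEquivOfLe inf_le_left).toEquiv] at key
  have hQc : Nat.card (Q : Subgroup G) = Nat.card (P' : Subgroup G) := by
    rw [Q.card_eq_multiplicity, P'.card_eq_multiplicity]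
  rw [hQc]
  calc r * (q * Nat.card (PClasses q G)) = q * (r * Nat.card (PClasses q G)) := by ring
    _ ≤ q * (Nat.card (P' : Subgroup G) + (r - 1) * Nat.card F) := Nat.mul_le_mul_left _ key
    _ = q * Nat.card (P' : Subgroup G) + (r - 1) * (q * Nat.card F) := by ring
    _ ≤ q * Nat.card (P' : Subgroup G) + (r - 1) * Nat.card (P' : Subgroup G) :=
        Nat.add_le_add_left (Nat.mul_le_mul_left _ hqF) _
    _ = _ := by rw [← add_mul, Nat.add_sub_assoc (hσ r hr).one_le]

/-- The inductive step. -/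
theorem good_insert {p q : ℕ} (hp : p.Prime) [Fact q.Prime] {σ : Finset ℕ}
    (hσ : ∀ r ∈ σ, r.Prime ∧ p ≤ r) (hne : σ.Nonempty) (hlt : ∀ r ∈ σ, r < q) (ih : Good.{u} p σ) :
    Good.{u} p (insert q σ) := by
  classical
  intro G _ _ hmany
  have hq : q.Prime := Fact.out
  have hσ1 := fun r hr => (hσ r hr).1
  have hqσ : q ∉ σ := fun h => (hlt q h).false
  obtain ⟨r₀, hr₀⟩ := hne
  have hpq : p + 1 ≤ q := Nat.succ_le_of_lt (lt_of_le_of_lt (hσ r₀ hr₀).2 (hlt r₀ hr₀))
  have hp2 := hp.two_le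
  by_contra hno
  obtain ⟨Q⟩ : Nonempty (Sylow q G) := inferInstance
  set m := part σ G
  set a := Nat.card (Q : Subgroup G)
  set k := Nat.card (PiClasses (insert q σ) G)
  set n := Nat.card (PClasses q G)
  have hpart : part (insert q σ) G = a * m := by
    rw [part, Finset.prod_insert hqσ, ← Q.card_eq_multiplicity]; rfl
  rw [hpart] at hmany
  have hna : n ≤ a := card_pclasses_le Q
  have hm0 : 0 < m := part_pos hσ1
  have ha0 : 0 < a := Nat.card_pos
  let _ : Fintype (PClasses q G) := Fintype.ofFinite _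
  let rep : PClasses q G → G := fun c => ((toClass_surjective Q c).choose : G)
  have hrep : ∀ c, ConjClasses.mk (rep c) = c.1 := fun c =>
    congrArg Subtype.val (toClass_surjective Q c).choose_spec
  have hrepQ : ∀ c, rep c ∈ (Q : Subgroup G) := fun c => (toClass_surjective Q c).choose.2
  set κ : PClasses q G → ℕ := fun c => Nat.card (PiClasses σ (centralizer ({rep c} : Set G)))
  have hins : k ≤ ∑ c, κ c := card_piClasses_insert_sum hq rep hrep
  have hbh := fun c => bound_or_hall hσ ih (centralizer ({rep c} : Set G))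
  set F : PClasses q G → Prop := fun c =>
    ∃ K ≤ centralizer ({rep c} : Set G), Group.IsNilpotent K ∧ Nat.card K = m with hFdef
  have hout : ∀ c, ¬ F c → p * κ c ≤ m := fun c hc => (hbh c).resolve_right hc
  have hκ : ∀ c, κ c ≤ m := fun c => (card_piClasses_le σ hσ1 _).trans
    (Nat.le_of_dvd (part_pos hσ1) (part_dvd hσ1 _))
  obtain ⟨H₀, hH₀, hH₀c⟩ : ∃ H₀ : Subgroup G, Group.IsNilpotent H₀ ∧ Nat.card H₀ = m := by
    by_contra h0
    have h1 : p * ∑ c, κ c ≤ n * m := by
      have h2 := Finset.sum_le_card_nsmul Finset.univ (fun c => p * κ c) m fun c _ =>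
        hout c fun ⟨K, _, hK⟩ => h0 ⟨K, hK⟩
      rw [← Finset.mul_sum, Finset.card_univ, smul_eq_mul, ← Nat.card_eq_fintype_card] at h2
      exact h2
    nlinarith
  by_cases hab : IsMulCommutative (Q : Subgroup G)
  swap
  · have h1 := card_pclasses_of_noncomm Q hab
    have h2 : k ≤ n * m := hins.trans (by
      have h3 := Finset.sum_le_card_nsmul Finset.univ κ m fun c _ => hκ c
      rwa [Finset.card_univ, smul_eq_mul, ← Nat.card_eq_fintype_card] at h3)
    have h3 : p * (q ^ 2 + q - 1) ≤ q ^ 3 := by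
      have : q ^ 2 + q - 1 ≤ q ^ 2 + q := Nat.sub_le _ _
      nlinarith
    have h4 : q ^ 3 * (p * k) ≤ q ^ 3 * (a * m) :=
      calc q ^ 3 * (p * k) ≤ q ^ 3 * (p * (n * m)) := Nat.mul_le_mul_left _ (Nat.mul_le_mul_left _ h2)
        _ = p * m * (q ^ 3 * n) := by ring
        _ ≤ p * m * ((q ^ 2 + q - 1) * a) := Nat.mul_le_mul_left _ h1
        _ = p * (q ^ 2 + q - 1) * (a * m) := by ring
        _ ≤ _ := Nat.mul_le_mul_right _ h3
    exact (Nat.le_of_mul_le_mul_left h4 (pow_pos hq.pos 3)).not_gt hmany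
  haveI := hab
  rcases npc_or_few_classes Q with ⟨hnpc, -⟩ | hfew
  · rcases npc_case hσ1 hqσ hnpc Q hH₀ hH₀c with h | h
    · exact hno h
    have h3 : p * (q ^ 2 + q - 1) ≤ q ^ 3 := by
      have : q ^ 2 + q - 1 ≤ q ^ 2 + q := Nat.sub_le _ _
      nlinarith
    have h4 : q ^ 3 * (p * k) ≤ q ^ 3 * (a * m) :=
      calc q ^ 3 * (p * k) = p * (q ^ 3 * k) := by ring
        _ ≤ p * ((q ^ 2 + q - 1) * (a * m)) := Nat.mul_le_mul_left _ h
        _ = p * (q ^ 2 + q - 1) * (a * m) := by ring
        _ ≤ _ := Nat.mul_le_mul_right _ h3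
    exact (Nat.le_of_mul_le_mul_left h4 (pow_pos hq.pos 3)).not_gt hmany
  -- fusion in `Q`
  obtain ⟨S⟩ : Nonempty (Sylow q (centralizer (H₀ : Set G))) := inferInstance
  set Q₁ := (S : Subgroup _).map (centralizer (H₀ : Set G)).subtype
  have hQ₁p : IsPGroup q Q₁ := S.2.map _
  obtain ⟨S', hS'⟩ := hQ₁p.exists_le_sylow
  have hQ₁ : q * Nat.card Q₁ ≤ a := by
    rcases hS'.eq_or_lt with h | h
    · refine absurd (isNilpotent_part_sup hσ1 hqσ hH₀ hH₀c (T := Q₁)
        (by rw [h, S'.card_eq_multiplicity]) ?_) hno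
      exact fun y hy => mem_centralizer_iff.2 fun v hv =>
        (mem_centralizer_iff.1 (map_subtype_le _ hv) y hy).symm
    · have := card_mul_le_of_lt S'.2 h
      rw [S'.card_eq_multiplicity, ← Q.card_eq_multiplicity] at this
      exact this
  have hFc : Nat.card {c // F c} ≤ Nat.card Q₁ := by
    have hex : ∀ c : {c // F c}, ∃ y : Q₁, ConjClasses.mk (y : G) = c.1.1 := by
      rintro ⟨c, K, hKC, hK, hKc⟩
      obtain ⟨g, rfl⟩ := exists_conj_eq_hall hσ1 hH₀ hH₀c hKc
      set w := g⁻¹ * rep c * g with hw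
      have hwC : w ∈ centralizer (H₀ : Set G) := mem_centralizer_iff.2 fun y hy => by
        have h := Subgroup.mem_centralizer_singleton_iff.1
          (hKC (Subgroup.smul_mem_pointwise_smul y (MulAut.conj g) H₀ hy))
        rw [MulAut.smul_def, MulAut.conj_apply] at h
        calc y * w = g⁻¹ * (g * y * g⁻¹ * rep c) * g := by rw [hw]; group
          _ = g⁻¹ * (rep c * (g * y * g⁻¹)) * g := by rw [h]
          _ = w * y := by rw [hw]; group
      obtain ⟨j, hj⟩ := c.2 (rep c) (ConjClasses.mem_carrier_iff_mk_eq.2 (hrep c))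
      have hwp : IsPGroup q (zpowers (⟨w, hwC⟩ : centralizer (H₀ : Set G))) := by
        refine IsPGroup.of_card (n := j) ?_
        rw [Nat.card_zpowers, Subgroup.orderOf_mk, hw, ← hj]
        have := orderOf_conj g⁻¹ (rep c)
        rwa [inv_inv] at this
      obtain ⟨T, hT⟩ := hwp.exists_le_sylow
      obtain ⟨z, hz⟩ := MulAction.exists_smul_eq (centralizer (H₀ : Set G)) T S
      refine ⟨⟨(z : G) * w * (z : G)⁻¹, z * ⟨w, hwC⟩ * z⁻¹, ?_, rfl⟩, ?_⟩
      · rw [← hz]
        exact ⟨_, hT (mem_zpowers _), rfl⟩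
      · show ConjClasses.mk ((z : G) * w * (z : G)⁻¹) = c.1
        rw [← hrep c]
        exact ConjClasses.mk_eq_mk_iff_isConj.2 (isConj_iff.2 ⟨g * (z : G)⁻¹, by rw [hw]; group⟩)
    choose y hy using hex
    refine Nat.card_le_card_of_injective y fun c d h => Subtype.ext (Subtype.ext ?_)
    rw [← hy c, ← hy d, h]
  by_cases hI : ∃ c, F c ∧ ∀ r ∈ σ, Cfsg.HasNormalPComplement r (centralizer ({rep c} : Set G))
  · obtain ⟨c, ⟨K, hKC, hK, hKc⟩, hall⟩ := hI
    have hQC : (Q : Subgroup G) ≤ centralizer ({rep c} : Set G) := fun y hy =>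
      Subgroup.mem_centralizer_singleton_iff.2 (congrArg Subtype.val
        (hab.is_comm.comm (⟨y, hy⟩ : (Q : Subgroup G)) ⟨rep c, hrepQ c⟩) :)
    rcases orbit_case hσ1 hqσ Q hQC hKC hK hKc hall with h | ⟨r, hr, hrb⟩
    · exact hno h
    have hpr : p ≤ r := (hσ r hr).2
    have hsum := sum_indicator_le F (fun c => p * κ c) m ((p - 1) * m)
      (fun c _ => (Nat.mul_le_mul_left p (hκ c)).trans_eq (by
        obtain ⟨p', rfl⟩ := Nat.exists_eq_succ_of_ne_zero hp.ne_zero
        simp [add_mul, add_comm]))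
      hout
    rw [← Finset.mul_sum] at hsum
    have h5 : (q + r - 1) + (p - 1) * r ≤ r * q := by
      obtain ⟨p', rfl⟩ : ∃ p', p = p' + 1 := ⟨p - 1, by omega⟩
      obtain ⟨r', rfl⟩ : ∃ r', r = p' + 1 + r' := ⟨r - (p' + 1), by omega⟩
      obtain ⟨q', rfl⟩ : ∃ q', q = p' + 2 + q' := ⟨q - (p' + 2), by omega⟩
      simp only [Nat.add_sub_cancel]
      have : p' + 2 + q' + (p' + 1 + r') - 1 = p' + 1 + q' + (p' + 1 + r') := by omega
      rw [this]
      nlinarith
    have hk : p * k ≤ m * (n + (p - 1) * Nat.card Q₁) :=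
      calc p * k ≤ p * ∑ c, κ c := Nat.mul_le_mul_left _ hins
        _ ≤ n * m + Nat.card {c // F c} * ((p - 1) * m) := hsum
        _ ≤ n * m + Nat.card Q₁ * ((p - 1) * m) := Nat.add_le_add_left (Nat.mul_le_mul_right _ hFc) _
        _ = _ := by ring
    have h4 : r * q * (p * k) ≤ r * q * (a * m) :=
      calc r * q * (p * k) ≤ r * q * (m * (n + (p - 1) * Nat.card Q₁)) := Nat.mul_le_mul_left _ hk
        _ = m * (r * (q * n) + (p - 1) * r * (q * Nat.card Q₁)) := by ring
        _ ≤ m * ((q + r - 1) * a + (p - 1) * r * a) := Nat.mul_le_mul_left _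
            (Nat.add_le_add hrb (Nat.mul_le_mul_left _ hQ₁))
        _ = ((q + r - 1) + (p - 1) * r) * (a * m) := by ring
        _ ≤ _ := Nat.mul_le_mul_right _ h5
    exact (Nat.le_of_mul_le_mul_left h4 (Nat.mul_pos (hσ1 r hr).pos hq.pos)).not_gt hmany
  · push Not at hI
    have hin : ∀ c, F c → 2 * p * κ c ≤ 2 * m + (p - 1) * m := by
      intro c hc
      obtain ⟨r, hr, hrn⟩ := hI c hc
      haveI := Fact.mk (hσ1 r hr)
      obtain ⟨R⟩ : Nonempty (Sylow r (centralizer ({rep c} : Set G))) := inferInstance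
      rcases npc_or_few_classes R with ⟨h, -⟩ | h
      · exact absurd h hrn
      have h6 := card_piClasses_mul_le (G := centralizer ({rep c} : Set G)) σ hσ1 hr
      rw [← R.card_eq_multiplicity] at h6
      set Rc := Nat.card (R : Subgroup (centralizer ({rep c} : Set G)))
      set kr := Nat.card (PClasses r (centralizer ({rep c} : Set G)))
      have hRc : 0 < Rc := Nat.card_pos
      set mc := part σ (centralizer ({rep c} : Set G))
      have hmc : mc ≤ m := Nat.le_of_dvd (part_pos hσ1) (part_dvd hσ1 _)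
      have h7 : 2 * r * κ c * Rc ≤ (r + 1) * mc * Rc :=
        calc 2 * r * κ c * Rc = 2 * r * (κ c * Rc) := by ring
          _ ≤ 2 * r * (kr * mc) := Nat.mul_le_mul_left _ h6
          _ = 2 * r * kr * mc := by ring
          _ ≤ (r + 1) * Rc * mc := Nat.mul_le_mul_right _ h
          _ = _ := by ring
      have h8 : 2 * r * κ c ≤ (r + 1) * m :=
        (Nat.le_of_mul_le_mul_right h7 hRc).trans (Nat.mul_le_mul_left _ hmc)
      have hpr : p ≤ r := (hσ r hr).2
      have h9 : 2 * p * κ c ≤ (p + 1) * m := by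
        refine Nat.le_of_mul_le_mul_left ?_ (hσ1 r hr).pos
        calc r * (2 * p * κ c) = p * (2 * r * κ c) := by ring
          _ ≤ p * ((r + 1) * m) := Nat.mul_le_mul_left _ h8
          _ ≤ r * ((p + 1) * m) := by nlinarith
      calc 2 * p * κ c ≤ (p + 1) * m := h9
        _ = _ := by rw [← add_mul]; congr 1; omega
    have hsum := sum_indicator_le F (fun c => 2 * p * κ c) (2 * m) ((p - 1) * m) hin
      (fun c hc => by rw [mul_assoc]; exact Nat.mul_le_mul_left _ (hout c hc))
    rw [← Finset.mul_sum] at hsum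
    have hk : 2 * p * k ≤ m * (2 * n + (p - 1) * Nat.card Q₁) :=
      calc 2 * p * k ≤ 2 * p * ∑ c, κ c := Nat.mul_le_mul_left _ hins
        _ ≤ n * (2 * m) + Nat.card {c // F c} * ((p - 1) * m) := hsum
        _ ≤ n * (2 * m) + Nat.card Q₁ * ((p - 1) * m) := Nat.add_le_add_left (Nat.mul_le_mul_right _ hFc) _
        _ = _ := by ring
    have h4 : 2 * q * (p * k) ≤ 2 * q * (a * m) :=
      calc 2 * q * (p * k) = q * (2 * p * k) := by ring
        _ ≤ q * (m * (2 * n + (p - 1) * Nat.card Q₁)) := Nat.mul_le_mul_left _ hk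
        _ = m * (2 * q * n + (p - 1) * (q * Nat.card Q₁)) := by ring
        _ ≤ m * ((q + 1) * a + (p - 1) * a) := Nat.mul_le_mul_left _
            (Nat.add_le_add hfew (Nat.mul_le_mul_left _ hQ₁))
        _ = ((q + 1) + (p - 1)) * (a * m) := by ring
        _ ≤ _ := Nat.mul_le_mul_right _ (by omega)
    exact (Nat.le_of_mul_le_mul_left h4 (by have := hq.pos; omega)).not_gt hmany

/-- Many classes of `σ`-elements give a nilpotent Hall `σ`-subgroup. -/
theorem exists_nilpotent_hall {p : ℕ} (hp : p.Prime) (σ : Finset ℕ)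
    (hσ : ∀ r ∈ σ, r.Prime ∧ p ≤ r) : Good.{u} p σ := by
  classical
  induction σ using Finset.induction_on_max with
  | empty =>
    intro G _ _ _
    exact ⟨⊥, inferInstance, by simp [part]⟩
  | insert q σ hlt ih =>
    haveI := Fact.mk (hσ q (Finset.mem_insert_self q σ)).1
    have hσ' : ∀ r ∈ σ, r.Prime ∧ p ≤ r := fun r hr => hσ r (Finset.mem_insert_of_mem hr)
    rcases σ.eq_empty_or_nonempty with rfl | hne
    · intro G _ _ _
      obtain ⟨Q⟩ : Nonempty (Sylow q G) := inferInstance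
      exact ⟨Q, Q.2.isNilpotent, by simp [part, Q.card_eq_multiplicity]⟩
    · exact good_insert hp hσ' hne hlt (ih hσ')

/-- Groups with many classes have small derived subgroup. -/
theorem card_classes_mul_le {H : Type*} [Group H] [Finite H] {p : ℕ}
    (hH : ∀ r : ℕ, r.Prime → r ∣ Nat.card H → p ≤ r) (hp : 2 ≤ p) :
    p ^ 2 * Nat.card (ConjClasses H) * Nat.card (commutator H) ≤
      Nat.card H * (p ^ 2 - 1 + Nat.card (commutator H)) := by
  classical
  cases nonempty_fintype H
  let S := Finset.univ.filter fun χ : Cfsg.IrrCharacter H => Cfsg.charDegree (χ : H → ℂ) = 1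
  have hS : S.card = (commutator H).index := by
    rw [← CfsgLib.DegreeTools.card_linear_deg, Nat.card_eq_fintype_card, Fintype.card_subtype]
  have hk : Nat.card (ConjClasses H) = Fintype.card (Cfsg.IrrCharacter H) := by
    rw [← CfsgLib.Char.card_irrCharacter, Nat.card_eq_fintype_card]
  have hterm : ∀ χ : Cfsg.IrrCharacter H,
      p ^ 2 ≤ Cfsg.charDegree (χ : H → ℂ) ^ 2 + if χ ∈ S then p ^ 2 - 1 else 0 := by
    intro χ
    have hpos : Cfsg.charDegree (χ : H → ℂ) ≠ 0 := fun h => by
      have := CfsgLib.DegreeTools.deg_dvd_card χ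
      rw [h, zero_dvd_iff] at this
      exact Nat.card_pos.ne' this
    split_ifs with h
    · rw [(Finset.mem_filter.1 h).2, one_pow]
      omega
    · have h1 : Cfsg.charDegree (χ : H → ℂ) ≠ 1 := fun e => h (Finset.mem_filter.2 ⟨Finset.mem_univ _, e⟩)
      rw [add_zero]
      refine Nat.pow_le_pow_left ((hH _ (Nat.minFac_prime h1) ?_).trans (Nat.minFac_le (Nat.pos_of_ne_zero hpos))) 2
      exact (Nat.minFac_dvd _).trans (CfsgLib.DegreeTools.deg_dvd_card χ)
  have hsum : p ^ 2 * Fintype.card (Cfsg.IrrCharacter H) ≤ Nat.card H + (p ^ 2 - 1) * (commutator H).index := by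
    calc p ^ 2 * Fintype.card (Cfsg.IrrCharacter H) = ∑ _χ : Cfsg.IrrCharacter H, p ^ 2 := by
          simp [mul_comm]
      _ ≤ ∑ χ : Cfsg.IrrCharacter H,
          (Cfsg.charDegree (χ : H → ℂ) ^ 2 + if χ ∈ S then p ^ 2 - 1 else 0) :=
          Finset.sum_le_sum fun χ _ => hterm χ
      _ = _ := by
          rw [Finset.sum_add_distrib, CfsgLib.DegreeTools.sum_deg_sq, Finset.sum_ite_mem,
            Finset.univ_inter, Finset.sum_const, hS, smul_eq_mul, mul_comm _ (p ^ 2 - 1)]
  calc p ^ 2 * Nat.card (ConjClasses H) * Nat.card (commutator H)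
      ≤ (Nat.card H + (p ^ 2 - 1) * (commutator H).index) * Nat.card (commutator H) :=
        Nat.mul_le_mul_right _ (hk ▸ hsum)
    _ = Nat.card H * Nat.card (commutator H) + (p ^ 2 - 1) * ((commutator H).index * Nat.card (commutator H)) := by ring
    _ = _ := by rw [Subgroup.index_mul_card]; ring

/-- The form used by the statements: `σ` is the set of primes of `π` dividing the order. -/
theorem main [Finite G] {π : Set ℕ} {p m k : ℕ} (hπ : ∀ q ∈ π, q.Prime) (hp : p ∈ π)
    (hmin : ∀ q ∈ π, p ≤ q) (hm : m ∣ Nat.card G) (hmπ : ∀ q : ℕ, q.Prime → q ∣ m → q ∈ π)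
    (hm' : ∀ q ∈ π, ¬ q ∣ Nat.card G / m)
    (hk : k = Nat.card {C : ConjClasses G //
      ∀ q : ℕ, q.Prime → (∃ g : G, ConjClasses.mk g = C ∧ q ∣ orderOf g) → q ∈ π})
    (hmany : m < p * k) :
    ∃ H : Subgroup G, Group.IsNilpotent H ∧ Nat.card H = m ∧
      p ^ 2 * k * Nat.card (commutator H) ≤ m * (p ^ 2 - 1 + Nat.card (commutator H)) := by
  classical
  set σ := (Nat.card G).primeFactors.filter fun r => r ∈ π with hσdef
  have hσ : ∀ r ∈ σ, r.Prime ∧ p ≤ r := fun r hr =>
    ⟨Nat.prime_of_mem_primeFactors (Finset.mem_filter.1 hr).1, hmin r (Finset.mem_filter.1 hr).2⟩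
  have hσ1 := fun r hr => (hσ r hr).1
  have hm0 : m ≠ 0 := fun h => Nat.card_pos.ne' (zero_dvd_iff.1 (h ▸ hm))
  have hmp : m = part σ G := by
    refine Nat.eq_of_factorization_eq hm0 (part_pos hσ1).ne' fun r => ?_
    rw [factorization_part hσ1]
    by_cases hr : r ∈ π
    · have h0 : (Nat.card G / m).factorization r = 0 := Nat.factorization_eq_zero_of_not_dvd (hm' r hr)
      have h1 : (Nat.card G).factorization r = m.factorization r := by
        have h2 : m.factorization r ≤ (Nat.card G).factorization r :=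
          (Nat.factorization_le_iff_dvd hm0 Nat.card_pos.ne').2 hm r
        rw [Nat.factorization_div hm, Finsupp.tsub_apply] at h0
        omega
      split_ifs with h
      · exact h1.symm
      · rw [← h1]
        refine Nat.factorization_eq_zero_of_not_dvd fun hd => h ?_
        exact Finset.mem_filter.2 ⟨Nat.mem_primeFactors.2 ⟨hπ r hr, hd, Nat.card_pos.ne'⟩, hr⟩
    · rw [if_neg fun h => hr (Finset.mem_filter.1 h).2]
      by_cases hpr : r.Prime
      · exact Nat.factorization_eq_zero_of_not_dvd fun hd => hr (hmπ r hpr hd)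
      · exact Nat.factorization_eq_zero_of_not_prime _ hpr
  have hkσ : k = Nat.card (PiClasses σ G) := by
    rw [hk]
    refine Nat.card_congr (Equiv.subtypeEquivRight fun C => ⟨fun h x hx r hr hd => ?_, fun h r hr hg => ?_⟩)
    · refine Finset.mem_filter.2 ⟨Nat.mem_primeFactors.2
        ⟨hr, hd.trans (orderOf_dvd_natCard x), Nat.card_pos.ne'⟩, h r hr ⟨x, ?_, hd⟩⟩
      exact ConjClasses.mem_carrier_iff_mk_eq.1 hx
    · obtain ⟨g, hg, hd⟩ := hg
      exact (Finset.mem_filter.1 (h g (ConjClasses.mem_carrier_iff_mk_eq.2 hg) r hr hd)).2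
  rw [hmp, hkσ] at hmany
  obtain ⟨H, hH, hHc⟩ := exists_nilpotent_hall (hπ p hp) σ hσ G hmany
  refine ⟨H, hH, hHc.trans hmp.symm, ?_⟩
  rw [hkσ, hmp, ← hHc]
  refine le_trans ?_ (card_classes_mul_le (H := H)
    (fun r hr hd => (hσ r (mem_of_dvd_part hσ1 hr (hHc ▸ hd))).2) (hπ p hp).two_le)
  exact Nat.mul_le_mul_right _ (Nat.mul_le_mul_left _ (card_piClasses_le_conjClasses hσ1 hH hHc))

end CfsgLib.PGroup.PiClassHall
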