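import Cfsg.Agent.S4219
import Cfsg.Agent.S0989
import Cfsg.Agent.Lib.Perm.Marggraff

/-!
# An element of prime order with few cycles in a highly transitive group

If the fixed points of an element of prime order `r` with at most three cycles carry a doubly transitive
normaliser, then they form a Jordan set.
-/

set_option autoImplicit false
set_option linter.unusedSectionVars false
set_option linter.style.haveILetI false

open scoped Classical
open scoped commutatorElement Pointwise
open MulAction Finset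

namespace CfsgLib.PGroup.PrimeDegreeJordan

variable {G Ω : Type*} [Group G] [MulAction G Ω] [Fintype Ω]

/-- The points moved by `x`. -/
noncomputable def moved (Ω : Type*) [MulAction G Ω] [Fintype Ω] (x : G) : Finset Ω :=
  univ.filter fun a => x • a ≠ a

theorem mem_moved {x : G} {a : Ω} : a ∈ moved Ω x ↔ x • a ≠ a := by simp [moved]

/-- The cycle of `a` under `x`, as a finite set. -/
noncomputable def cyc (r : ℕ) (x : G) (a : Ω) : Finset Ω := (Finset.range r).image fun i => x ^ i • a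

variable {r : ℕ} {x : G}

theorem pow_smul_mem_cyc (hr : 0 < r) (hx : x ^ r = 1) (n : ℕ) (a : Ω) : x ^ n • a ∈ cyc r x a :=
  mem_image.2 ⟨n % r, mem_range.2 (Nat.mod_lt _ hr), by rw [← pow_eq_pow_mod n hx]⟩

theorem period_eq (hr : r.Prime) (hx : x ^ r = 1) {a : Ω} (ha : x • a ≠ a) : period x a = r := by
  have h1 : period x a ∣ r := pow_smul_eq_iff_period_dvd.1 (by rw [hx, one_smul])
  rcases (Nat.dvd_prime hr).1 h1 with h | h
  · refine absurd ?_ ha
    have h2 := pow_period_smul x a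
    rwa [h, pow_one] at h2
  · exact h

theorem card_cyc (hr : r.Prime) (hx : x ^ r = 1) {a : Ω} (ha : x • a ≠ a) : (cyc r x a).card = r := by
  rw [cyc, card_image_of_injOn, card_range]
  intro i hi j hj hij
  rw [coe_range, Set.mem_Iio] at hi hj
  by_contra hne
  wlog hlt : i < j generalizing i j
  · exact this hj hi hij.symm (Ne.symm hne) (by omega)
  have h : x ^ (j - i) • a = a := by
    apply MulAction.injective (x ^ i)
    show x ^ i • x ^ (j - i) • a = x ^ i • a
    rw [← mul_smul, ← pow_add, Nat.add_sub_cancel' hlt.le]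
    exact hij.symm
  rw [← period_eq hr hx ha] at hj
  have := Nat.le_of_dvd (by omega) (pow_smul_eq_iff_period_dvd.1 h)
  omega

theorem cyc_subset (hx : x ^ r = 1) {a : Ω} (ha : x • a ≠ a) : cyc r x a ⊆ moved Ω x := fun b hb => by
  obtain ⟨i, -, rfl⟩ := mem_image.1 hb
  rw [mem_moved, ← mul_smul, ← pow_succ', pow_succ, mul_smul]
  exact fun h => ha (MulAction.injective _ h)

theorem cyc_eq (hr : 0 < r) (hx : x ^ r = 1) {a b : Ω} (hb : b ∈ cyc r x a) : cyc r x b = cyc r x a := by
  obtain ⟨i, hi, rfl⟩ := mem_image.1 hb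
  rw [mem_range] at hi
  ext c
  constructor
  · intro hc
    obtain ⟨j, -, rfl⟩ := mem_image.1 hc
    rw [← mul_smul, ← pow_add]
    exact pow_smul_mem_cyc hr hx _ _
  · intro hc
    obtain ⟨j, -, rfl⟩ := mem_image.1 hc
    have h : x ^ j • a = x ^ (j + (r - i)) • x ^ i • a := by
      rw [← mul_smul, ← pow_add, show j + (r - i) + i = j + r by omega, pow_add, hx, mul_one]
    rw [h]
    exact pow_smul_mem_cyc hr hx _ _

/-- The cycles of `x`. -/
noncomputable def cycles (Ω : Type*) [MulAction G Ω] [Fintype Ω] (r : ℕ) (x : G) : Finset (Finset Ω) :=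
  (moved Ω x).image (cyc r x)

theorem card_moved (hr : r.Prime) (hx : x ^ r = 1) : (moved Ω x).card = (cycles Ω r x).card * r := by
  rw [cycles, card_eq_sum_card_image (cyc r x) (moved Ω x)]
  rw [sum_congr rfl fun b hb => ?_, sum_const, smul_eq_mul]
  obtain ⟨a, ha, rfl⟩ := mem_image.1 hb
  rw [show ((moved Ω x).filter fun c => cyc r x c = cyc r x a) = cyc r x a from ?_,
    card_cyc hr hx (mem_moved.1 ha)]
  ext c
  refine ⟨fun hc => ?_, fun hc => mem_filter.2 ⟨cyc_subset hx (mem_moved.1 ha) hc, cyc_eq hr.pos hx hc⟩⟩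
  rw [← (mem_filter.1 hc).2]
  simpa using pow_smul_mem_cyc hr.pos hx 0 c

/-- An element with a single cycle of prime length gives a Jordan set. -/
theorem jordan_of_one_cycle (hr : r.Prime) (hx : x ^ r = 1) (h : (moved Ω x).card = r) :
    CfsgLib.Perm.Marggraff.IsJordan G (moved Ω x) := by
  intro a ha b hb
  have he : cyc r x a = moved Ω x :=
    eq_of_subset_of_card_le (cyc_subset hx (mem_moved.1 ha)) (by rw [card_cyc hr hx (mem_moved.1 ha), h])
  rw [← he] at hb
  obtain ⟨i, -, rfl⟩ := mem_image.1 hb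
  refine ⟨x ^ i, rfl, fun z hz => ?_⟩
  have hz' : x • z = z := by simpa [mem_moved] using hz
  clear hb he
  induction i with
  | zero => rw [pow_zero, one_smul]
  | succ i ih => rw [pow_succ, mul_smul, hz', ih]

/-- A doubly transitive normalising group turns a set moved only by powers into a Jordan set. -/
theorem jordan_of_normal [Finite G] [FaithfulSMul G Ω] (hr : r.Prime) (Φ : Finset Ω) (hf : 2 ≤ Φ.card)
    (hrf : ¬ r ∣ Φ.card) (N : Subgroup G) (hNΦ : ∀ n ∈ N, ∀ a ∈ Φ, n • a ∈ Φ)
    (h2 : ∀ a ∈ Φ, ∀ b ∈ Φ, ∀ c ∈ Φ, ∀ d ∈ Φ, a ≠ b → c ≠ d → ∃ n ∈ N, n • a = c ∧ n • b = d)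
    (D : Subgroup G) (hDN : D ≤ N) (hnorm : ∀ n ∈ N, ∀ d ∈ D, n * d * n⁻¹ ∈ D)
    (hDr : ∀ d ∈ D, ∀ a, a ∉ Φ → d ^ r • a = a) (hD : ∃ d ∈ D, ∃ a ∈ Φ, d • a ≠ a) :
    CfsgLib.Perm.Marggraff.IsJordan G Φ := by
  have hconj : ∀ d ∈ D, ∀ a ∈ Φ, d • a ≠ a → ∀ u ∈ Φ, ∀ v ∈ Φ, u ≠ v →
      ∃ n ∈ N, (n * d * n⁻¹) • u = v := by
    intro d hd a ha hne u hu v hv huv
    obtain ⟨n, hn, hna, hnb⟩ := h2 a ha (d • a) (hNΦ d (hDN hd) a ha) u hu v hv hne.symm huv
    exact ⟨n, hn, by rw [mul_smul, mul_smul, inv_smul_eq_iff.2 hna.symm, hnb]⟩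
  by_cases hmove : ∃ d ∈ D, ∃ a ∈ Φ, d ^ r • a ≠ a
  · obtain ⟨d, hd, a, ha, hne⟩ := hmove
    intro u hu v hv
    by_cases huv : u = v
    · exact ⟨1, by rw [one_smul, huv], fun z _ => one_smul G z⟩
    obtain ⟨n, hn, hnv⟩ := hconj (d ^ r) (D.pow_mem hd r) a ha hne u hu v hv huv
    refine ⟨_, hnv, fun z hz => ?_⟩
    have hz' : n⁻¹ • z ∉ Φ := fun h => hz (by simpa using hNΦ n hn _ h)
    rw [mul_smul, mul_smul, hDr d hd _ hz', smul_inv_smul]
  · exfalso
    push Not at hmove
    have hp : IsPGroup r D := fun d => ⟨1, Subtype.ext (by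
      rw [pow_one, SubmonoidClass.coe_pow]
      refine FaithfulSMul.eq_of_smul_eq_smul (α := Ω) fun a => ?_
      rw [OneMemClass.coe_one, one_smul]
      by_cases ha : a ∈ Φ
      · exact hmove d d.2 a ha
      · exact hDr d d.2 a ha)⟩
    haveI : Fact r.Prime := ⟨hr⟩
    obtain ⟨d, hd, a, ha, hne⟩ := hD
    obtain ⟨k, hk⟩ := hp.card_orbit (α := Ω) a
    have horb : orbit D a = (Φ : Set Ω) := by
      ext b
      constructor
      · rintro ⟨e, rfl⟩
        exact hNΦ _ (hDN e.2) a ha
      · intro hb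
        by_cases hab : a = b
        · exact hab ▸ mem_orbit_self a
        · obtain ⟨n, hn, hnb⟩ := hconj d hd a ha hne a ha b hb hab
          exact ⟨⟨_, hnorm n hn d hd⟩, hnb⟩
    rw [horb, Nat.card_coe_set_eq, Set.ncard_coe_finset] at hk
    rcases Nat.eq_zero_or_pos k with rfl | hk0
    · rw [pow_zero] at hk; omega
    · exact hrf (hk ▸ dvd_pow_self r hk0.ne')

/-- An invariant set gives a homomorphism to its permutations. -/
def permOn (N : Subgroup G) {β : Type*} [MulAction G β] (S : Finset β) (h : ∀ n ∈ N, ∀ b ∈ S, n • b ∈ S) :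
    N →* Equiv.Perm S where
  toFun n :=
    { toFun := fun b => ⟨(n : G) • (b : β), h _ n.2 _ b.2⟩
      invFun := fun b => ⟨(n : G)⁻¹ • (b : β), h _ (N.inv_mem n.2) _ b.2⟩
      left_inv := fun b => Subtype.ext (inv_smul_smul _ _)
      right_inv := fun b => Subtype.ext (smul_inv_smul _ _) }
  map_one' := Equiv.ext fun b => Subtype.ext (one_smul G _)
  map_mul' n m := Equiv.ext fun b => Subtype.ext (mul_smul (n : G) (m : G) _)

theorem derived_perm_two : derivedSeries (Equiv.Perm (Fin 2)) 1 = ⊥ := by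
  rw [derivedSeries_one, commutator_def, Subgroup.commutator_eq_bot_iff_le_centralizer]
  exact fun a _ b _ => (by decide : ∀ a b : Equiv.Perm (Fin 2), b * a = a * b) a b

theorem derived_perm_three : derivedSeries (Equiv.Perm (Fin 3)) 2 = ⊥ := by
  have h : derivedSeries (Equiv.Perm (Fin 3)) 1 ≤ alternatingGroup (Fin 3) := by
    rw [derivedSeries_one]
    exact Abelianization.commutator_subset_ker _
  rw [derivedSeries_succ, Subgroup.commutator_eq_bot_iff_le_centralizer]
  exact fun a ha b hb => (by decide : ∀ a b : Equiv.Perm (Fin 3),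
    Equiv.Perm.sign a = 1 → Equiv.Perm.sign b = 1 → b * a = a * b) a b
    (Equiv.Perm.mem_alternatingGroup.1 (h ha)) (Equiv.Perm.mem_alternatingGroup.1 (h hb))

theorem derived_perm_four : ∃ σ ∈ derivedSeries (Equiv.Perm (Fin 4)) 2, σ ≠ 1 := by
  have h : ∀ i j k : Fin 4, ⁅Equiv.swap i j, Equiv.swap j k⁆ ∈ derivedSeries (Equiv.Perm (Fin 4)) 1 :=
    fun i j k => by
      rw [derivedSeries_one, commutator_def]
      exact Subgroup.commutator_mem_commutator (Subgroup.mem_top _) (Subgroup.mem_top _)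
  refine ⟨⁅⁅Equiv.swap (0 : Fin 4) 1, Equiv.swap (1 : Fin 4) 2⁆,
    ⁅Equiv.swap (0 : Fin 4) 1, Equiv.swap (1 : Fin 4) 3⁆⁆, ?_, by decide⟩
  rw [derivedSeries_succ]
  exact Subgroup.commutator_mem_commutator (h _ _ _) (h _ _ _)

/-- An element of order `r` with at most three cycles whose normaliser is highly transitive on its fixed
points makes them a Jordan set. -/
theorem jordan_of_few_cycles [Finite G] [FaithfulSMul G Ω] (hr : r.Prime) (hxo : orderOf x = r)
    (Φ : Finset Ω) (hΦ : ∀ a, a ∈ Φ ↔ x • a = a) (hf3 : 3 ≤ Φ.card) (hrf : ¬ r ∣ Φ.card)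
    (hm : (cycles Ω r x).card ≤ 3)
    (h2 : ∀ a ∈ Φ, ∀ b ∈ Φ, ∀ c ∈ Φ, ∀ d ∈ Φ, a ≠ b → c ≠ d →
      ∃ n ∈ Subgroup.normalizer ((Subgroup.zpowers x : Subgroup G) : Set G), n • a = c ∧ n • b = d)
    (hm3 : (cycles Ω r x).card = 3 → Φ.card = 4 ∧ ∀ σ : Equiv.Perm Φ,
      ∃ n ∈ Subgroup.normalizer ((Subgroup.zpowers x : Subgroup G) : Set G), ∀ a : Φ, n • (a : Ω) = ((σ a : Φ) : Ω)) :
    CfsgLib.Perm.Marggraff.IsJordan G Φ := by
  have hx : x ^ r = 1 := hxo ▸ pow_orderOf_eq_one x
  set N := Subgroup.normalizer ((Subgroup.zpowers x : Subgroup G) : Set G) with hN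
  have hpow : ∀ n ∈ N, ∃ i : ℕ, n * x * n⁻¹ = x ^ i := fun n hn => by
    obtain ⟨i, hi⟩ := mem_powers_iff_mem_zpowers.2
      ((Subgroup.mem_normalizer_iff.1 hn x).1 (Subgroup.mem_zpowers x))
    exact ⟨i, hi.symm⟩
  have hfixpow : ∀ (i : ℕ) (a : Ω), x • a = a → x ^ i • a = a := fun i a h => by
    induction i with
    | zero => rw [pow_zero, one_smul]
    | succ i ih => rw [pow_succ, mul_smul, h, ih]
  have hNΦ : ∀ n ∈ N, ∀ a ∈ Φ, n • a ∈ Φ := fun n hn a ha => by
    rw [hΦ] at ha ⊢
    obtain ⟨i, hi⟩ := hpow n⁻¹ (N.inv_mem hn)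
    calc x • n • a = n • (n⁻¹ * x * n⁻¹⁻¹) • a := by rw [← mul_smul, ← mul_smul]; group
      _ = n • a := by rw [hi, hfixpow i a ha]
  have hsw : ∀ g ∈ N, ∀ h ∈ N, g * h * x * (g * h)⁻¹ = h * g * x * (h * g)⁻¹ := by
    intro g hg h hh
    obtain ⟨i, hi⟩ := hpow g hg
    obtain ⟨j, hj⟩ := hpow h hh
    rw [show g * h * x * (g * h)⁻¹ = g * (h * x * h⁻¹) * g⁻¹ by group,
      show h * g * x * (h * g)⁻¹ = h * (g * x * g⁻¹) * h⁻¹ by group, hi, hj, ← conj_pow, ← conj_pow, hi, hj,
      ← pow_mul, ← pow_mul, mul_comm]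
  have hcomm : ⁅N, N⁆ ≤ Subgroup.centralizer {x} := Subgroup.commutator_le.2 fun g hg h hh => by
    rw [Subgroup.mem_centralizer_singleton_iff, commutatorElement_def]
    have h1 := hsw h⁻¹ (N.inv_mem hh) g⁻¹ (N.inv_mem hg)
    calc g * h * g⁻¹ * h⁻¹ * x = g * h * (g⁻¹ * h⁻¹ * x * (g⁻¹ * h⁻¹)⁻¹) * (g⁻¹ * h⁻¹) := by group
      _ = g * h * (h⁻¹ * g⁻¹ * x * (h⁻¹ * g⁻¹)⁻¹) * (g⁻¹ * h⁻¹) := by rw [h1]
      _ = x * (g * h * g⁻¹ * h⁻¹) := by group
  have hcyc : ∀ n ∈ N, ∀ a : Ω, x • a ≠ a → n • cyc r x a = cyc r x (n • a) := by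
    intro n hn a ha
    have hna : x • n • a ≠ n • a := fun h => ha (by
      have := hNΦ n⁻¹ (N.inv_mem hn) (n • a) ((hΦ _).2 h)
      rwa [inv_smul_smul, hΦ] at this)
    refine eq_of_subset_of_card_le (fun b hb => ?_) (by
      rw [Finset.card_smul_finset, card_cyc hr hx ha, card_cyc hr hx hna])
    obtain ⟨c, hc, rfl⟩ := Finset.mem_smul_finset.1 hb
    obtain ⟨i, -, rfl⟩ := mem_image.1 hc
    obtain ⟨j, hj⟩ := hpow n hn
    rw [← mul_smul, show n * x ^ i = (n * x * n⁻¹) ^ i * n by rw [conj_pow]; group, hj, ← pow_mul, mul_smul]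
    exact pow_smul_mem_cyc hr.pos hx _ _
  have hO : ∀ n ∈ N, ∀ S ∈ cycles Ω r x, n • S ∈ cycles Ω r x := by
    intro n hn S hS
    obtain ⟨a, ha, rfl⟩ := mem_image.1 hS
    refine mem_image.2 ⟨n • a, mem_moved.2 fun h => mem_moved.1 ha ?_, (hcyc n hn a (mem_moved.1 ha)).symm⟩
    have := hNΦ n⁻¹ (N.inv_mem hn) (n • a) ((hΦ _).2 h)
    rwa [inv_smul_smul, hΦ] at this
  let ρ := permOn N (cycles Ω r x) hO
  let ψ := permOn N Φ hNΦ
  -- a term of the derived series fixing every cycle and acting on the fixed points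
  obtain ⟨s, hs1, hsρ, hsψ⟩ : ∃ s, 1 ≤ s ∧ derivedSeries N s ≤ ρ.ker ∧ ∃ d ∈ derivedSeries N s, ψ d ≠ 1 := by
    by_cases h3 : (cycles Ω r x).card = 3
    · obtain ⟨h4, hperm⟩ := hm3 h3
      refine ⟨2, by norm_num, fun d hd => ?_, ?_⟩
      · let f : Equiv.Perm (cycles Ω r x) →* Equiv.Perm (Fin 3) :=
          (((cycles Ω r x).equivFinOfCardEq h3).permCongrHom).toMonoidHom
        have := map_derivedSeries_le_derivedSeries (f.comp ρ) 2 (Subgroup.mem_map_of_mem _ hd)
        rw [derived_perm_three, Subgroup.mem_bot] at this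
        exact (Equiv.permCongrHom _).injective (this.trans (map_one _).symm)
      · have hsurj : Function.Surjective ψ := fun σ => by
          obtain ⟨n, hn, hσ⟩ := hperm σ
          exact ⟨⟨n, hn⟩, Equiv.ext fun a => Subtype.ext (hσ a)⟩
        let f : Equiv.Perm Φ ≃* Equiv.Perm (Fin 4) := (Φ.equivFinOfCardEq h4).permCongrHom
        obtain ⟨σ, hσ, hσ1⟩ := derived_perm_four
        rw [← map_derivedSeries_eq (f := f.toMonoidHom.comp ψ) (f.surjective.comp hsurj) 2] at hσ
        obtain ⟨d, hd, rfl⟩ := hσ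
        exact ⟨d, hd, fun h => hσ1 (by simp [h])⟩
    · refine ⟨1, le_rfl, fun d hd => ?_, ?_⟩
      · let e : ↥(cycles Ω r x) ↪ Fin 2 := ⟨fun a => ⟨((cycles Ω r x).equivFin a).1, by
          have := ((cycles Ω r x).equivFin a).2; omega⟩,
          fun a b h => (cycles Ω r x).equivFin.injective (Fin.ext (by simpa [Fin.ext_iff] using h))⟩
        have := map_derivedSeries_le_derivedSeries ((Equiv.Perm.viaEmbeddingHom e).comp ρ) 1
          (Subgroup.mem_map_of_mem _ hd)
        rw [derived_perm_two, Subgroup.mem_bot] at this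
        exact Equiv.Perm.viaEmbeddingHom_injective e (this.trans (map_one _).symm)
      · obtain ⟨a, b, c, ha, hb, hc, hab, hac, hbc⟩ := Finset.two_lt_card_iff.1 hf3
        obtain ⟨g, hg, hga, hgb⟩ := h2 a ha b hb b hb a ha hab hab.symm
        obtain ⟨h, hh, hha, hhb⟩ := h2 a ha b hb a ha c hc hab hac
        refine ⟨⁅(⟨g, hg⟩ : N), ⟨h, hh⟩⁆, ?_, ?_⟩
        · rw [derivedSeries_one, commutator_def]
          exact Subgroup.commutator_mem_commutator (Subgroup.mem_top _) (Subgroup.mem_top _)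
        · intro he
          rw [map_commutatorElement, commutatorElement_eq_one_iff_mul_comm] at he
          have := congrArg Subtype.val (Equiv.congr_fun he ⟨a, ha⟩)
          change g • h • a = h • g • a at this
          rw [hha, hga, hhb] at this
          exact hbc this
  refine jordan_of_normal hr Φ (by omega) hrf N hNΦ h2 ((derivedSeries N s).map N.subtype)
    (Subgroup.map_subtype_le _) ?_ ?_ ?_
  · rintro n hn _ ⟨d, hd, rfl⟩
    exact ⟨⟨n, hn⟩ * d * ⟨n, hn⟩⁻¹, (derivedSeries_normal N s).conj_mem d hd _, rfl⟩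
  · rintro _ ⟨d, hd, rfl⟩ a ha
    rw [Subgroup.coe_subtype]
    have hxa : x • a ≠ a := fun h => ha ((hΦ a).2 h)
    have hc : (d : G) * x = x * d := by
      have h1 := derivedSeries_antitone N hs1 hd
      rw [derivedSeries_one, commutator_def] at h1
      have h2' := Subgroup.mem_map_of_mem N.subtype h1
      rw [Subgroup.map_commutator, ← MonoidHom.range_eq_map, Subgroup.range_subtype] at h2'
      exact Subgroup.mem_centralizer_singleton_iff.1 (hcomm h2')
    obtain ⟨i, hi⟩ : ∃ i : ℕ, (d : G) • a = x ^ i • a := by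
      have h1 : (d : G) • cyc r x a = cyc r x a :=
        congrArg Subtype.val (Equiv.congr_fun (MonoidHom.mem_ker.1 (hsρ hd))
          ⟨cyc r x a, mem_image_of_mem _ (mem_moved.2 hxa)⟩)
      have h2' : (d : G) • a ∈ cyc r x a := by
        rw [← h1]
        exact Finset.smul_mem_smul_finset (by simpa using pow_smul_mem_cyc hr.pos hx 0 a)
      obtain ⟨i, -, hi⟩ := mem_image.1 h2'
      exact ⟨i, hi.symm⟩
    have hpw : ∀ n : ℕ, (d : G) ^ n • a = x ^ (i * n) • a := fun n => by
      induction n with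
      | zero => simp
      | succ n ih =>
        rw [pow_succ', mul_smul, ih, ← mul_smul, (Commute.pow_right hc (i * n)).eq, mul_smul, hi,
          ← mul_smul, ← pow_add]
        congr 2
    rw [hpw, mul_comm, pow_mul, hx, one_pow, one_smul]
  · obtain ⟨d, hd, hne⟩ := hsψ
    by_contra hall
    push Not at hall
    exact hne (Equiv.ext fun a => Subtype.ext (hall d ⟨d, hd, rfl⟩ a a.2))


/-- Witt's lemma for a subgroup of prime order. -/
theorem witt_zpowers [Finite G] (hr : r.Prime) (hxo : orderOf x = r) {k : ℕ}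
    (hk : IsMultiplyPretransitive G Ω k) (t : Fin k ↪ Ω) (hxt : ∀ i, x • t i = t i)
    (hsq : ¬ r ^ 2 ∣ Nat.card (stabilizer G t)) (a b : Fin k ↪ Ω) (ha : ∀ i, x • a i = a i)
    (hb : ∀ i, x • b i = b i) :
    ∃ g ∈ Subgroup.normalizer ((Subgroup.zpowers x : Subgroup G) : Set G), ∀ i, g • a i = b i := by
  haveI : Fact r.Prime := ⟨hr⟩
  have hmem : x ∈ stabilizer G t := by
    rw [mem_stabilizer_iff]; ext i; exact hxt i
  have hc : Nat.card (Subgroup.zpowers (⟨x, hmem⟩ : stabilizer G t)) = r := by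
    rw [Nat.card_zpowers, ← Subgroup.orderOf_coe]; exact hxo
  obtain ⟨Q, hQ⟩ := (IsPGroup.of_card (n := 1) (hc.trans (pow_one r).symm) :
    IsPGroup r (Subgroup.zpowers (⟨x, hmem⟩ : stabilizer G t))).exists_le_sylow
  have hQe : Subgroup.zpowers (⟨x, hmem⟩ : stabilizer G t) = (Q : Subgroup _) :=
    Subgroup.eq_of_le_of_card_ge hQ (by
      rw [hc, Q.card_eq_multiplicity]
      refine (Nat.pow_le_pow_right hr.pos ?_).trans (pow_one r).le
      by_contra h
      exact hsq ((hr.pow_dvd_iff_le_factorization Nat.card_pos.ne').2 (by omega)))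
  have hmap : (Q : Subgroup (stabilizer G t)).map (stabilizer G t).subtype = Subgroup.zpowers x := by
    rw [← hQe, MonoidHom.map_zpowers]; rfl
  have hfix : ∀ w : Ω, x • w = w →
      w ∈ fixedPoints ((Q : Subgroup (stabilizer G t)).map (stabilizer G t).subtype) Ω := by
    rintro w hw ⟨g, hg⟩
    rw [hmap] at hg
    exact (Subgroup.zpowers_le.2 (show x ∈ stabilizer G w from hw)) hg
  obtain ⟨g, hg, hgab⟩ := Cfsg.Agent.S4219.result hk t Q a b (fun i => hfix _ (ha i)) (fun i => hfix _ (hb i))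
  rw [hmap] at hg
  exact ⟨g, hg, fun i => DFunLike.congr_fun hgab i⟩

/-- Transitivity on tuples gives transitivity on pairs. -/
theorem pairs_of_tuples (P : G → Prop) {k : ℕ} (hk : 2 ≤ k) (Φ : Finset Ω) (hkΦ : k ≤ Φ.card)
    (h : ∀ a b : Fin k ↪ Ω, (∀ i, a i ∈ Φ) → (∀ i, b i ∈ Φ) → ∃ g, P g ∧ ∀ i, g • a i = b i)
    {a b c d : Ω} (ha : a ∈ Φ) (hb : b ∈ Φ) (hc : c ∈ Φ) (hd : d ∈ Φ) (hab : a ≠ b) (hcd : c ≠ d) :
    ∃ g, P g ∧ g • a = c ∧ g • b = d := by
  obtain ⟨e⟩ := Function.Embedding.nonempty_of_card_le (α := Fin k) (β := Φ)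
    (by rw [Fintype.card_fin, Fintype.card_coe]; exact hkΦ)
  have hext : ∀ u v : Φ, u ≠ v → ∃ f : Fin k ↪ Ω,
      f ⟨0, by omega⟩ = u ∧ f ⟨1, by omega⟩ = v ∧ ∀ i, f i ∈ Φ := by
    intro u v huv
    let π₁ := Equiv.swap (e ⟨0, by omega⟩) u
    let π := Equiv.swap (π₁ (e ⟨1, by omega⟩)) v * π₁
    have h01 : π₁ (e ⟨1, by omega⟩) ≠ u := fun h' => by
      have := π₁.injective (h'.trans (Equiv.swap_apply_left _ _).symm)
      simp [Fin.ext_iff] at this
    refine ⟨(e.trans π.toEmbedding).trans (Function.Embedding.subtype _), ?_, ?_, fun i => (π (e i)).2⟩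
    · show ((π (e _) : Φ) : Ω) = u
      rw [Equiv.Perm.mul_apply, Equiv.swap_apply_left, Equiv.swap_apply_of_ne_of_ne h01.symm huv]
    · show ((π (e _) : Φ) : Ω) = v
      rw [Equiv.Perm.mul_apply, Equiv.swap_apply_left]
  obtain ⟨f, f0, f1, hf⟩ := hext ⟨a, ha⟩ ⟨b, hb⟩ fun h' => hab (congrArg Subtype.val h')
  obtain ⟨f', f0', f1', hf'⟩ := hext ⟨c, hc⟩ ⟨d, hd⟩ fun h' => hcd (congrArg Subtype.val h')
  obtain ⟨g, hg, hgi⟩ := h f f' hf hf'
  exact ⟨g, hg, by simpa [f0, f0'] using hgi ⟨0, by omega⟩, by simpa [f1, f1'] using hgi ⟨1, by omega⟩⟩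

/-- A five-fold transitive group of degree `2r + 3` or `3r + 4` contains a three-cycle. -/
theorem hasThreeCycle [Finite G] [FaithfulSMul G Ω] {p : ℕ} (hp : p.Prime) (hΩ : Nat.card Ω = p)
    (h5 : IsMultiplyPretransitive G Ω 5) (hr : r.Prime) (hr5 : 5 ≤ r) (k c : ℕ)
    (hkc : (k = 3 ∧ c = 2) ∨ (k = 4 ∧ c = 3)) (hp' : p = k + c * r) :
    CfsgLib.Perm.Marggraff.HasThreeCycle G Ω := by
  haveI : Fact r.Prime := ⟨hr⟩
  haveI : Fact p.Prime := ⟨hp⟩
  have hcard : Fintype.card Ω = p := by rw [← Nat.card_eq_fintype_card, hΩ]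
  have hkr : k + 1 ≤ 5 ∧ k < r ∧ c < r ∧ k + 1 ≤ p := by
    rcases hkc with ⟨rfl, rfl⟩ | ⟨rfl, rfl⟩ <;> omega
  have hpk : ∀ j, j ≤ 5 → IsMultiplyPretransitive G Ω j := fun j hj =>
    isMultiplyPretransitive_of_le' (n := 5) hj (by
      rw [ENat.card_eq_coe_natCard, hΩ]; exact_mod_cast (by rcases hkc with ⟨rfl, rfl⟩ | ⟨rfl, rfl⟩ <;> omega))
  haveI : IsPretransitive G Ω := MulAction.is_one_pretransitive_iff.1 (hpk 1 (by norm_num))
  have hprim : IsPreprimitive G Ω := IsPreprimitive.of_prime_card (hΩ ▸ hp)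
  have fromJordan : ∀ Φ : Finset Ω, CfsgLib.Perm.Marggraff.IsJordan G Φ → 2 ≤ Φ.card → 2 * Φ.card < p →
      CfsgLib.Perm.Marggraff.HasThreeCycle G Ω := fun Φ h1 h2 h3 =>
    CfsgLib.Perm.Marggraff.hasThreeCycle p G Ω hcard hprim Φ h1 h2 h3
  by_contra hno
  -- an element of order `r` has at least two cycles
  have hlow : ∀ y : G, orderOf y = r → 2 ≤ (cycles Ω r y).card := by
    intro y hy
    have hyr : y ^ r = 1 := hy ▸ pow_orderOf_eq_one y
    by_contra hlt
    have hm := card_moved (Ω := Ω) hr hyr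
    rcases (show (cycles Ω r y).card = 0 ∨ (cycles Ω r y).card = 1 by omega) with h | h
    · rw [h, zero_mul, Finset.card_eq_zero] at hm
      have : y = 1 := FaithfulSMul.eq_of_smul_eq_smul (α := Ω) fun a => by
        rw [one_smul]; by_contra ha; exact notMem_empty a (hm ▸ mem_moved.2 ha)
      rw [this, orderOf_one] at hy
      exact hr.one_lt.ne hy
    · rw [h, one_mul] at hm
      exact hno (fromJordan _ (jordan_of_one_cycle hr hyr hm) (by omega) (by
        rcases hkc with ⟨rfl, rfl⟩ | ⟨rfl, rfl⟩ <;> omega))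
  have hfixcard : ∀ y : G, (univ.filter fun a : Ω => y • a = a).card + (moved Ω y).card = p := fun y => by
    rw [moved, ← hcard, ← card_univ]
    exact card_filter_add_card_filter_not _
  -- a tuple and its stabiliser
  obtain ⟨t⟩ := Function.Embedding.nonempty_of_card_le (α := Fin k) (β := Ω) (by rw [Fintype.card_fin]; omega)
  set T := univ.map t with hT
  have hTc : T.card = k := by rw [hT, card_map, card_univ, Fintype.card_fin]
  have hfixT : ∀ g : stabilizer G t, ∀ a ∈ T, (g : G) • a = a := fun g a ha => by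
    obtain ⟨i, -, rfl⟩ := mem_map.1 ha
    exact DFunLike.congr_fun (mem_stabilizer_iff.1 g.2) i
  have hinT : ∀ g : stabilizer G t, ∀ a, (g : G) • a ∈ T → a ∈ T := fun g a ha => by
    have h1 := hfixT g _ ha
    rwa [← MulAction.injective (g : G) h1] 
  have horb : ∀ u, u ∉ T → orbit (stabilizer G t) u = ((Tᶜ : Finset Ω) : Set Ω) := by
    intro u hu
    have hu' : u ∉ Set.range t := fun ⟨i, hi⟩ => hu (mem_map.2 ⟨i, mem_univ _, hi⟩)
    ext v
    rw [Finset.coe_compl, Set.mem_compl_iff, Finset.mem_coe]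
    constructor
    · rintro ⟨g, rfl⟩ hv
      exact hu (hinT g u hv)
    · intro hv
      have hv' : v ∉ Set.range t := fun ⟨i, hi⟩ => hv (mem_map.2 ⟨i, mem_univ _, hi⟩)
      haveI := hpk (k + 1) hkr.1
      obtain ⟨g, hg⟩ := exists_smul_eq G
        (⟨Fin.cons u t, Fin.cons_injective_iff.2 ⟨hu', t.injective⟩⟩ : Fin (k + 1) ↪ Ω)
        ⟨Fin.cons v t, Fin.cons_injective_iff.2 ⟨hv', t.injective⟩⟩
      exact ⟨⟨g, by rw [mem_stabilizer_iff]; ext i; exact DFunLike.congr_fun hg i.succ⟩,
        DFunLike.congr_fun hg 0⟩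
  have hTcc : (Tᶜ : Finset Ω).card = c * r := by rw [card_compl, hTc, hcard]; omega
  have hindex : ∀ u, u ∉ T → (stabilizer (stabilizer G t) u).index = c * r := fun u hu => by
    rw [index_stabilizer, horb u hu, Set.ncard_coe_finset, hTcc]
  obtain ⟨u, hu⟩ : (Tᶜ : Finset Ω).Nonempty := card_pos.1 (by
    rw [hTcc]; exact Nat.mul_pos (by omega) hr.pos)
  rw [mem_compl] at hu
  obtain ⟨R⟩ : Nonempty (Sylow r (stabilizer G t)) := inferInstance
  -- orbits of the Sylow subgroup outside the tuple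
  have hRorb : ∀ v, v ∉ T → (orbit (R : Subgroup (stabilizer G t)) v).ncard = r := by
    intro v hv
    obtain ⟨n, hn⟩ := R.isPGroup'.card_orbit (α := Ω) v
    rw [Nat.card_coe_set_eq] at hn
    have hle : r ^ n ≤ c * r := by
      rw [← hn, ← hTcc, ← Set.ncard_coe_finset]
      refine Set.ncard_le_ncard ?_ (Finset.finite_toSet _)
      rw [← horb v hv]
      rintro _ ⟨g, rfl⟩
      exact ⟨g.1, rfl⟩
    rcases (show n = 0 ∨ n = 1 ∨ 2 ≤ n by omega) with rfl | rfl | h
    · exfalso
      have h1 : (R : Subgroup (stabilizer G t)) ≤ stabilizer (stabilizer G t) v := fun g hg => by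
        rw [pow_zero, Set.ncard_eq_one] at hn
        obtain ⟨w, hw⟩ := hn
        have e1 : (⟨g, hg⟩ : (R : Subgroup (stabilizer G t))) • v = w := by
          simpa [hw] using mem_orbit v (⟨g, hg⟩ : (R : Subgroup (stabilizer G t)))
        have e2 : v = w := by simpa [hw] using mem_orbit_self (M := (R : Subgroup (stabilizer G t))) v
        exact e1.trans e2.symm
      have := Subgroup.index_dvd_of_le h1
      rw [hindex v hv] at this
      exact R.not_dvd_index ((Dvd.intro_left c rfl).trans this)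
    · rw [hn, pow_one]
    · exact absurd hle (not_le.2 (lt_of_lt_of_le (Nat.mul_lt_mul_of_pos_right hkr.2.2.1 hr.pos)
        (le_of_eq_of_le (sq r).symm (Nat.pow_le_pow_right hr.pos h))))
  -- a point stabiliser in the Sylow subgroup fixes that orbit
  have hpt : ∀ v, v ∉ T → ∀ g : stabilizer (R : Subgroup (stabilizer G t)) v,
      ∀ w ∈ orbit (R : Subgroup (stabilizer G t)) v, ((g : (R : Subgroup (stabilizer G t))) : stabilizer G t) • w = w := by
    intro v hv g w hw
    obtain ⟨n, hn⟩ := ((R.isPGroup'.to_subgroup (stabilizer (R : Subgroup (stabilizer G t)) v))).card_orbit (α := Ω) w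
    rw [Nat.card_coe_set_eq] at hn
    by_cases hwv : w = v
    · rw [hwv]; exact g.2
    have hsub : orbit (stabilizer (R : Subgroup (stabilizer G t)) v) w ⊆
        orbit (R : Subgroup (stabilizer G t)) v \ {v} := by
      rintro _ ⟨a, rfl⟩
      refine ⟨?_, fun h => hwv ?_⟩
      · obtain ⟨b, rfl⟩ := hw
        exact ⟨(a : (R : Subgroup (stabilizer G t))) * b, mul_smul _ _ _⟩
      · exact MulAction.injective (a : (R : Subgroup (stabilizer G t))) (h.trans a.2.symm)
    have hlt : r ^ n < r := by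
      rw [← hn]
      refine lt_of_le_of_lt (Set.ncard_le_ncard hsub) ?_
      rw [Set.ncard_sdiff_singleton_of_mem (mem_orbit_self v), hRorb v hv]
      exact Nat.sub_lt hr.pos Nat.one_pos
    have hn0 : n = 0 := by
      by_contra h
      exact absurd hlt (not_lt.2 (le_self_pow₀ hr.one_lt.le h))
    rw [hn0, pow_zero, Set.ncard_eq_one] at hn
    obtain ⟨z, hz⟩ := hn
    have e1 : g • w = z := by simpa [hz] using mem_orbit w g
    have e2 : w = z := by simpa [hz] using mem_orbit_self (M := stabilizer (R : Subgroup (stabilizer G t)) v) w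
    exact e1.trans e2.symm
  have hstab : ∀ v, v ∉ T → Nat.card (R : Subgroup (stabilizer G t)) =
      Nat.card (stabilizer (R : Subgroup (stabilizer G t)) v) * r := fun v hv => by
    have h := hRorb v hv
    rw [← index_stabilizer] at h
    exact (Subgroup.card_mul_index _).symm.trans (congrArg _ h)
  by_cases hR1 : Nat.card (R : Subgroup (stabilizer G t)) = r
  · -- the fixed points are exactly the tuple
    obtain ⟨y, hy⟩ := exists_prime_orderOf_dvd_card' r (G := (R : Subgroup (stabilizer G t))) (by rw [hR1])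
    set x : G := ((y : stabilizer G t) : G) with hxdef
    have hxo : orderOf x = r := by rw [hxdef, Subgroup.orderOf_coe, Subgroup.orderOf_coe, hy]
    have hxr : x ^ r = 1 := hxo ▸ pow_orderOf_eq_one x
    have hfix : ∀ a, a ∈ T ↔ x • a = a := by
      refine fun a => ⟨hfixT _ a, fun ha => by_contra fun haT => ?_⟩
      have h1 := hstab a haT
      have h2 : y ∈ stabilizer (R : Subgroup (stabilizer G t)) a := ha
      have h3 : orderOf (⟨y, h2⟩ : stabilizer (R : Subgroup (stabilizer G t)) a) ∣ _ := orderOf_dvd_natCard _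
      rw [Subgroup.orderOf_mk, hy] at h3
      rw [hR1] at h1
      have h4 := Nat.le_of_dvd Nat.card_pos h3
      have h5' := Nat.mul_le_mul_right r h4
      rw [← h1] at h5'
      exact absurd h5' (not_le.2 (lt_mul_of_one_lt_left hr.pos hr.one_lt))
    have hm := card_moved (Ω := Ω) hr hxr
    have hmv : (moved Ω x).card = c * r := by
      rw [← hTcc]; congr 1; ext a
      rw [mem_moved, mem_compl, hfix]
    rw [hmv] at hm
    have hmc : c = (cycles Ω r x).card := Nat.eq_of_mul_eq_mul_right hr.pos hm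
    have hsq : ¬ r ^ 2 ∣ Nat.card (stabilizer G t) := fun h => by
      have := R.card_eq_multiplicity ▸ hR1
      have h2 := (hr.pow_dvd_iff_le_factorization Nat.card_pos.ne').1 h
      exact absurd this (ne_of_gt (lt_of_lt_of_le (lt_self_pow₀ hr.one_lt one_lt_two) (Nat.pow_le_pow_right hr.pos h2)))
    have hw := witt_zpowers hr hxo (hpk k (by omega)) t (fun i => (hfix _).1 (mem_map.2 ⟨i, mem_univ _, rfl⟩)) hsq
    refine hno (fromJordan T ?_ (by omega) (by
      rcases hkc with ⟨rfl, rfl⟩ | ⟨rfl, rfl⟩ <;> omega))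
    refine jordan_of_few_cycles hr hxo T hfix (by omega) (fun h => by
      rw [hTc] at h
      exact absurd (Nat.le_of_dvd (by omega) h) (by omega)) (by omega) (fun a ha b hb a' ha' b' hb' h h' => ?_) ?_
    · obtain ⟨g, hg, h1, h2⟩ := pairs_of_tuples _ (by omega) T (by omega)
        (fun f f' hf hf' => hw f f' (fun i => (hfix _).1 (hf i)) (fun i => (hfix _).1 (hf' i))) ha hb ha' hb' h h'
      exact ⟨g, hg, h1, h2⟩
    · intro h3
      obtain ⟨rfl, rfl⟩ : k = 4 ∧ c = 3 := by omega
      refine ⟨hTc, fun σ => ?_⟩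
      obtain ⟨g, hg, hgi⟩ := hw t ((⟨fun i => (⟨t i, mem_map.2 ⟨i, mem_univ _, rfl⟩⟩ : T),
          fun i j h => t.injective (congrArg Subtype.val h)⟩ : Fin 4 ↪ T).trans
            (σ.toEmbedding.trans (Function.Embedding.subtype _)))
        (fun i => (hfix _).1 (mem_map.2 ⟨i, mem_univ _, rfl⟩))
        (fun i => (hfix _).1 (σ ⟨t i, _⟩).2)
      refine ⟨g, hg, fun a => ?_⟩
      obtain ⟨a, ha⟩ := a
      obtain ⟨i, -, rfl⟩ := mem_map.1 ha
      exact hgi i
  · -- an element fixing a further orbit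
    set Ru := stabilizer (R : Subgroup (stabilizer G t)) u with hRu
    have hRu1 := hstab u hu
    have hRr : IsPGroup r Ru := R.isPGroup'.to_subgroup Ru
    obtain ⟨n, hn⟩ := IsPGroup.iff_card.1 hRr
    have hn0 : n ≠ 0 := fun h => hR1 (by rw [hRu1, hn, h, pow_zero, one_mul])
    obtain ⟨y, hy⟩ := exists_prime_orderOf_dvd_card' r (G := Ru) (hn ▸ dvd_pow_self r hn0)
    set x : G := (((y : (R : Subgroup (stabilizer G t))) : stabilizer G t) : G) with hxdef
    have hxo : orderOf x = r := by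
      rw [hxdef, Subgroup.orderOf_coe, Subgroup.orderOf_coe, Subgroup.orderOf_coe, hy]
    have hxr : x ^ r = 1 := hxo ▸ pow_orderOf_eq_one x
    have hOu : ∀ a ∈ orbit (R : Subgroup (stabilizer G t)) u, a ∉ T := by
      rintro _ ⟨g, rfl⟩ h
      exact hu (hinT g.1 u h)
    set O := (orbit (R : Subgroup (stabilizer G t)) u).toFinset with hO
    have hOc : O.card = r := by rw [hO, ← Set.ncard_eq_toFinset_card', hRorb u hu]
    have hxfix : ∀ a ∈ T ∪ O, x • a = a := fun a ha => by
      rcases mem_union.1 ha with h | h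
      · exact hfixT _ a h
      · exact hpt u hu y a (Set.mem_toFinset.1 h)
    have hdisj : Disjoint T O := Finset.disjoint_right.2 fun a ha => hOu a (Set.mem_toFinset.1 ha)
    have hup : k + r + (moved Ω x).card ≤ p := by
      rw [← hfixcard x, ← hTc, ← hOc, ← card_union_of_disjoint hdisj]
      exact Nat.add_le_add_right (card_le_card fun a ha => mem_filter.2 ⟨mem_univ _, hxfix a ha⟩) _
    have hm := card_moved (Ω := Ω) hr hxr
    have hx2 := hlow x hxo
    obtain ⟨rfl, rfl, hm2⟩ : k = 4 ∧ c = 3 ∧ (cycles Ω r x).card = 2 := by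
      rw [hm, hp'] at hup
      have h1 : (cycles Ω r x).card + 1 ≤ c := Nat.le_of_mul_le_mul_right
        (by rw [Nat.add_mul, one_mul]; omega) hr.pos
      omega
    have hn1 : n = 1 := by
      by_contra hne
      obtain ⟨v, hv⟩ : (moved Ω x).Nonempty := card_pos.1 (by rw [hm, hm2]; omega)
      have hvfix := mem_moved.1 hv
      have hvT : v ∉ T := fun h => hvfix (hxfix v (mem_union_left _ h))
      set Ruv := stabilizer Ru v
      have hidx : Ruv.index ≤ r := by
        rw [index_stabilizer]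
        refine (Set.ncard_le_ncard ?_).trans_eq (hRorb v hvT)
        rintro _ ⟨g, rfl⟩
        exact ⟨g.1, rfl⟩
      obtain ⟨i, hi⟩ := IsPGroup.iff_card.1 (hRr.to_subgroup Ruv)
      have hi0 : i ≠ 0 := fun h => by
        have h1 := Ruv.card_mul_index
        rw [hi, h, pow_zero, one_mul, hn] at h1
        rw [h1] at hidx
        exact absurd hidx (not_le.2 (lt_self_pow₀ hr.one_lt (by omega)))
      obtain ⟨z, hz⟩ := exists_prime_orderOf_dvd_card' r (G := Ruv) (hi ▸ dvd_pow_self r hi0)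
      set w : G := ((((z : Ru) : (R : Subgroup (stabilizer G t))) : stabilizer G t) : G) with hwdef
      have hwo : orderOf w = r := by
        rw [hwdef, Subgroup.orderOf_coe, Subgroup.orderOf_coe, Subgroup.orderOf_coe, Subgroup.orderOf_coe, hz]
      have hw2 := hlow w hwo
      have hwr : w ^ r = 1 := hwo ▸ pow_orderOf_eq_one w
      set O' := (orbit (R : Subgroup (stabilizer G t)) v).toFinset with hO'
      have hOc' : O'.card = r := by rw [hO', ← Set.ncard_eq_toFinset_card', hRorb v hvT]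
      have hd' : Disjoint (T ∪ O) O' := by
        refine Finset.disjoint_right.2 fun a ha ha' => ?_
        have ha := Set.mem_toFinset.1 ha
        rcases mem_union.1 ha' with h | h
        · obtain ⟨g, rfl⟩ := ha
          exact hvT (hinT g.1 v h)
        · have h := Set.mem_toFinset.1 h
          have : v ∈ O := Set.mem_toFinset.2 (by rw [← orbit_eq_iff.2 h, orbit_eq_iff.2 ha]; exact mem_orbit_self v)
          exact hvfix (hxfix v (mem_union_right _ this))
      have hfw : 4 + r + r + (moved Ω w).card ≤ p := by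
        rw [← hfixcard w, ← hTc]
        refine Nat.add_le_add_right (le_of_eq_of_le (b := (T ∪ O ∪ O').card) ?_ (card_le_card fun a ha => ?_)) _
        · rw [card_union_of_disjoint hd', card_union_of_disjoint hdisj, hOc, hOc']
        · refine mem_filter.2 ⟨mem_univ _, ?_⟩
          rcases mem_union.1 ha with h | h
          · rcases mem_union.1 h with h | h
            · exact hfixT _ a h
            · exact hpt u hu z.1 a (Set.mem_toFinset.1 h)
          · exact hpt v hvT ⟨_, z.2⟩ a (Set.mem_toFinset.1 h)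
      rw [card_moved hr hwr, hp'] at hfw
      have := Nat.mul_le_mul_right r hw2
      omega
    let t' : Fin 5 ↪ Ω := ⟨Fin.cons u t, Fin.cons_injective_iff.2
      ⟨fun ⟨i, hi⟩ => hu (mem_map.2 ⟨i, mem_univ _, hi⟩), t.injective⟩⟩
    have hmap : stabilizer G t' = (stabilizer (stabilizer G t) u).map (stabilizer G t).subtype := by
      ext g
      constructor
      · intro hg
        exact ⟨⟨g, by rw [mem_stabilizer_iff]; ext i; exact DFunLike.congr_fun (mem_stabilizer_iff.1 hg) i.succ⟩,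
          DFunLike.congr_fun (mem_stabilizer_iff.1 hg) 0, rfl⟩
      · rintro ⟨⟨g, hg⟩, hgu, rfl⟩
        rw [mem_stabilizer_iff]
        ext i
        refine Fin.cases ?_ ?_ i
        · exact hgu
        · exact fun j => DFunLike.congr_fun (mem_stabilizer_iff.1 hg) j
    have hsq : ¬ r ^ 2 ∣ Nat.card (stabilizer G t') := fun h => by
      rw [hmap, Subgroup.card_subtype] at h
      have h1 : r ^ 3 ∣ Nat.card (stabilizer G t) := by
        rw [← (stabilizer (stabilizer G t) u).card_mul_index, hindex u hu]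
        exact (Dvd.intro 3 (by ring)).trans (mul_dvd_mul_right h (3 * r))
      have h2 := R.card_eq_multiplicity
      rw [hRu1, hn, hn1, pow_one, ← sq] at h2
      have h3 := (hr.pow_dvd_iff_le_factorization Nat.card_pos.ne').1 h1
      rw [← Nat.pow_right_injective hr.two_le h2] at h3
      omega
    have hxt' : ∀ i, x • t' i = t' i := by
      intro i
      refine Fin.cases ?_ ?_ i
      · exact y.2
      · exact fun j => hxfix _ (mem_union_left _ (mem_map.2 ⟨j, mem_univ _, rfl⟩))
    have hw := witt_zpowers hr hxo (hpk 5 le_rfl) t' hxt' hsq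
    set Φ := univ.filter fun a : Ω => x • a = a with hΦdef
    have hΦ : ∀ a, a ∈ Φ ↔ x • a = a := fun a => by simp [hΦdef]
    have hΦc : Φ.card = r + 4 := by
      have := hfixcard x
      rw [← hΦdef, hm, hm2] at this
      omega
    refine hno (fromJordan Φ ?_ (by omega) (by omega))
    refine jordan_of_few_cycles hr hxo Φ hΦ (by omega) (fun h => by
      rw [hΦc, Nat.dvd_add_right (dvd_refl r)] at h
      exact absurd (Nat.le_of_dvd (by norm_num) h) (by omega)) (by omega)
      (fun a ha b hb a' ha' b' hb' h h' => ?_) (fun h3 => absurd h3 (by omega))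
    obtain ⟨g, hg, h1, h2⟩ := pairs_of_tuples _ (by norm_num) Φ (by omega)
      (fun f f' hf hf' => hw f f' (fun i => (hΦ _).1 (hf i)) (fun i => (hΦ _).1 (hf' i))) ha hb ha' hb' h h'
    exact ⟨g, hg, h1, h2⟩


/-- A group of prime degree with a three-cycle and half normaliser is the alternating group. -/
theorem iso_alternating [Finite G] [FaithfulSMul G Ω] {p : ℕ} [Fact p.Prime] (hΩ : Nat.card Ω = p)
    [IsPretransitive G Ω] (P : Sylow p G)
    (hN : 2 * Nat.card ↥(Subgroup.normalizer ((P : Subgroup G) : Set G)) = p * (p - 1))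
    (h3 : CfsgLib.Perm.Marggraff.HasThreeCycle G Ω) : Nonempty (G ≃* alternatingGroup (Fin p)) := by
  have hp : p.Prime := Fact.out
  have hcard : Fintype.card Ω = p := by rw [← Nat.card_eq_fintype_card, hΩ]
  let φ := MulAction.toPermHom G Ω
  have hφ : Function.Injective φ := MulAction.toPerm_injective
  haveI : IsPretransitive φ.range Ω := ⟨fun u v => by
    obtain ⟨g, hg⟩ := exists_smul_eq G u v
    exact ⟨⟨φ g, g, rfl⟩, hg⟩⟩
  obtain ⟨g, a, b, c, hab, hbc, hac, h1, h2, h3', hfix⟩ := h3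
  have hg3 : (φ g).IsThreeCycle := by
    rw [← card_support_eq_three_iff]
    have : (φ g).support = {a, b, c} := by
      ext z
      simp only [Equiv.Perm.mem_support, mem_insert, Finset.mem_singleton]
      show g • z ≠ z ↔ _
      constructor
      · intro hz
        by_contra hh
        simp only [not_or] at hh
        exact hz (hfix z hh.1 hh.2.1 hh.2.2)
      · rintro (rfl | rfl | rfl)
        · rw [h1]; exact hab.symm
        · rw [h2]; exact hbc.symm
        · rw [h3']; exact hac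
    rw [this, card_insert_of_notMem (by simp [hab, hac]), card_insert_of_notMem (by simp [hbc]), card_singleton]
  have hle : alternatingGroup Ω ≤ φ.range :=
    Equiv.Perm.alternatingGroup_le_of_isPreprimitive_of_isThreeCycle_mem
      (IsPreprimitive.of_prime_card (hΩ ▸ hp)) hg3 ⟨g, rfl⟩
  have hrange : φ.range = alternatingGroup Ω := by
    refine le_antisymm (fun σ hσ => ?_) hle
    by_contra hodd
    have htop : φ.range = ⊤ := eq_top_iff.2 fun τ _ => by
      by_cases hτ : τ ∈ alternatingGroup Ω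
      · exact hle hτ
      · have : τ * σ⁻¹ ∈ alternatingGroup Ω := by
          rw [Equiv.Perm.mem_alternatingGroup] at hodd hτ ⊢
          rw [map_mul, map_inv, (Int.units_eq_one_or _).resolve_left hτ,
            (Int.units_eq_one_or _).resolve_left hodd]
          rfl
        simpa using mul_mem (hle this) hσ
    let e : G ≃* Equiv.Perm Ω := MulEquiv.ofBijective φ ⟨hφ, MonoidHom.range_eq_top.1 htop⟩
    let P' : Sylow p (Equiv.Perm Ω) := P.mapSurjective (f := e.toMonoidHom) e.surjective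
    have h1 := Cfsg.Agent.S0989.result p (Or.inl hcard) P'
    have h2 : Nat.card (Subgroup.normalizer ((P' : Subgroup (Equiv.Perm Ω)) : Set (Equiv.Perm Ω))) =
        Nat.card (Subgroup.normalizer ((P : Subgroup G) : Set G)) := by
      have h3 := P'.card_eq_index_normalizer
      have h4 := P.card_eq_index_normalizer
      have h5 := (Subgroup.normalizer ((P : Subgroup G) : Set G)).card_mul_index
      have h6 := (Subgroup.normalizer ((P' : Subgroup (Equiv.Perm Ω)) : Set (Equiv.Perm Ω))).card_mul_index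
      have h7 : Nat.card (Sylow p G) = Nat.card (Sylow p (Equiv.Perm Ω)) :=
        Nat.card_congr (Equiv.ofBijective (fun Q => Q.mapSurjective (f := e.toMonoidHom) e.surjective)
          ⟨fun Q Q' h => Sylow.ext (Subgroup.map_injective e.injective (congrArg Sylow.toSubgroup h)),
            Sylow.mapSurjective_surjective e.surjective p⟩)
      rw [show (Subgroup.normalizer ((P' : Subgroup (Equiv.Perm Ω)) : Set (Equiv.Perm Ω))).index =
        Nat.card (Sylow p G) from h3.symm.trans h7.symm] at h6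
      rw [show (Subgroup.normalizer ((P : Subgroup G) : Set G)).index = Nat.card (Sylow p G) from h4.symm] at h5
      exact Nat.eq_of_mul_eq_mul_right Nat.card_pos (h6.trans ((Nat.card_congr e.toEquiv).symm.trans h5.symm))
    rw [h2] at h1
    rw [h1] at hN
    have : 0 < p * (p - 1) := Nat.mul_pos hp.pos (Nat.sub_pos_of_lt hp.one_lt)
    omega
  exact ⟨(MonoidHom.ofInjective hφ).trans ((MulEquiv.subgroupCongr hrange).trans
    (Equiv.altCongrHom (Fintype.equivFinOfCardEq hcard)))⟩

end CfsgLib.PGroup.PrimeDegreeJordan
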