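import Mathlib.GroupTheory.SemidirectProduct
import Mathlib.GroupTheory.OrderOfElement
import Mathlib.Algebra.Module.ZMod
import Mathlib.Algebra.Module.Card
import Mathlib.Data.ZMod.Basic
import Mathlib.LinearAlgebra.FreeModule.Finite.Basic
import Mathlib.FieldTheory.Finiteness
import Mathlib.Tactic

set_option autoImplicit false

/-!
Extending a group by many copies of a module without changing the set of orders `p * q`.
-/

namespace CfsgLib.PGroup.PrimeGraphExtension

variable {L : Type*} [Group L] [Finite L] {M : Type*} [AddCommGroup M] [Module (ZMod 5) M]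
  [Finite M] [Nontrivial M]

/-- A bare finite carrier. -/
def Carrier (n : ℕ) : Type := Fin n

theorem exists_group (act : L →* Module.End (ZMod 5) M)
    (hcard : Nat.card L = 2 ^ 6 * 975) (h2 : ∃ x : L, orderOf x = 5 * 2)
    (h3 : ∃ x : L, orderOf x = 5 * 3)
    (h13 : ∀ l : L, orderOf l = 13 → ∀ m, act l m = m → m = 0) (N : ℕ) :
    ∃ (H : Type) (_ : Group H) (_ : Finite H), N < Nat.card H ∧
      ((∀ p : ℕ, p.Prime → (p ∣ Nat.card L ↔ p ∣ Nat.card H)) ∧
      (∀ p q : ℕ, p.Prime → q.Prime → p ≠ q →
        ((∃ g : L, orderOf g = p * q) ↔ (∃ g : H, orderOf g = p * q)))) := by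
  have : Fact (Nat.Prime 5) := ⟨Nat.prime_five⟩
  let φ : L →* MulAut (Multiplicative (Fin N → M)) :=
    { toFun := fun l => AddEquiv.toMultiplicative
        { toFun := fun k i => act l (k i)
          invFun := fun k i => act l⁻¹ (k i)
          left_inv := fun k => funext fun i => by
            show act l⁻¹ (act l (k i)) = k i
            rw [← Module.End.mul_apply, ← map_mul, inv_mul_cancel, map_one, Module.End.one_apply]
          right_inv := fun k => funext fun i => by
            show act l (act l⁻¹ (k i)) = k i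
            rw [← Module.End.mul_apply, ← map_mul, mul_inv_cancel, map_one, Module.End.one_apply]
          map_add' := fun k k' => funext fun i => map_add (act l) _ _ }
      map_one' := MulEquiv.ext fun k => by
        refine Multiplicative.toAdd.injective (funext fun i => ?_)
        show act 1 _ = _
        rw [map_one]; rfl
      map_mul' := fun a b => MulEquiv.ext fun k => by
        refine Multiplicative.toAdd.injective (funext fun i => ?_)
        show act (a * b) _ = _
        rw [map_mul]; rfl }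
  let H' := Multiplicative (Fin N → M) ⋊[φ] L
  have : Finite H' := Finite.of_equiv _ SemidirectProduct.equivProd.symm
  obtain ⟨d, hd⟩ : ∃ d, Nat.card (Fin N → M) = 5 ^ d :=
    ⟨_, by rw [Module.natCard_eq_pow_finrank (K := ZMod 5) (V := Fin N → M), Nat.card_zmod]⟩
  have hH : Nat.card H' = 5 ^ d * Nat.card L := by
    rw [Nat.card_congr SemidirectProduct.equivProd, Nat.card_prod, ← hd]
    exact congrArg (· * _) (Nat.card_congr Multiplicative.toAdd)
  obtain ⟨n, ⟨e₀⟩⟩ := Finite.exists_equiv_fin H'
  let e : H' ≃ Carrier n := e₀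
  have : Finite (Carrier n) := Finite.of_equiv _ e
  letI : Group (Carrier n) := e.symm.group
  let E : Carrier n ≃* H' := e.symm.mulEquiv
  refine ⟨Carrier n, inferInstance, inferInstance, ?_, fun p hp => ?_, fun p q hp hq hpq => ?_⟩
  · rw [Nat.card_congr E.toEquiv, hH, ← hd, Nat.card_fun, Nat.card_fin]
    calc N < 2 ^ N := Nat.lt_two_pow_self
      _ ≤ Nat.card M ^ N := Nat.pow_le_pow_left Finite.one_lt_card N
      _ ≤ _ := Nat.le_mul_of_pos_right _ Nat.card_pos
  · rw [Nat.card_congr E.toEquiv, hH]
    refine ⟨fun h => h.mul_left _, fun h => (hp.dvd_mul.1 h).elim (fun h => ?_) id⟩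
    rw [(Nat.prime_dvd_prime_iff_eq hp Nat.prime_five).1 (hp.dvd_of_dvd_pow h), hcard]
    norm_num
  constructor
  · rintro ⟨g, hg⟩
    refine ⟨E.symm (SemidirectProduct.inr g), ?_⟩
    rw [MulEquiv.orderOf_eq, orderOf_injective SemidirectProduct.inr SemidirectProduct.inr_injective, hg]
  rintro ⟨g, hg⟩
  rw [← MulEquiv.orderOf_eq E] at hg
  generalize E g = h at hg
  have hker : ∀ k : H', k.right = 1 → k ^ 5 = 1 := fun k hk => by
    have hk' : k = SemidirectProduct.inl k.left := by ext <;> simp [hk]
    rw [hk', ← map_pow, ← ofAdd_toAdd k.left, ← ofAdd_nsmul,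
      ZModModule.char_nsmul_eq_zero, ofAdd_zero, map_one]
  have hright : ∀ m : ℕ, (h ^ m).right = h.right ^ m := fun m =>
    map_pow SemidirectProduct.rightHom h m
  have ho : orderOf h.right ∣ p * q := hg ▸ orderOf_map_dvd SemidirectProduct.rightHom h
  have hbig : p * q ∣ orderOf h.right * 5 := by
    rw [← hg]
    refine orderOf_dvd_of_pow_eq_one ?_
    rw [pow_mul]
    exact hker _ (by rw [hright, pow_orderOf_eq_one])
  have key : ∀ r : ℕ, r.Prime → r ≠ 5 → orderOf h.right = r → p * q = 5 * r →
      ∃ g : L, orderOf g = 5 * r := by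
    intro r hr hr5 hor hpq5
    have hdvd : r ∣ 2 ^ 6 * (3 * (5 ^ 2 * 13)) := by
      rw [show 2 ^ 6 * (3 * (5 ^ 2 * 13)) = 2 ^ 6 * 975 by norm_num, ← hcard, ← hor]
      exact orderOf_dvd_natCard _
    rcases hr.dvd_mul.1 hdvd with h' | h'
    · rw [(Nat.prime_dvd_prime_iff_eq hr Nat.prime_two).1 (hr.dvd_of_dvd_pow h')]; exact h2
    rcases hr.dvd_mul.1 h' with h' | h'
    · rw [(Nat.prime_dvd_prime_iff_eq hr Nat.prime_three).1 h']; exact h3
    rcases hr.dvd_mul.1 h' with h' | h'
    · exact absurd ((Nat.prime_dvd_prime_iff_eq hr Nat.prime_five).1 (hr.dvd_of_dvd_pow h')) hr5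
    obtain rfl := (Nat.prime_dvd_prime_iff_eq hr (by norm_num)).1 h'
    exfalso
    have hk1 : (h ^ 13).right = 1 := by rw [hright, ← hor, pow_orderOf_eq_one]
    have hc : (h * h ^ 13).left = (h ^ 13 * h).left := by rw [← pow_succ', ← pow_succ]
    rw [SemidirectProduct.mul_left, SemidirectProduct.mul_left, hk1, map_one, MulAut.one_apply,
      mul_comm (h ^ 13).left h.left] at hc
    have hfix := mul_left_cancel hc
    have h0 : (h ^ 13).left = 1 := by
      refine Multiplicative.toAdd.injective (funext fun i => ?_)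
      exact h13 h.right hor _ (congrFun (congrArg Multiplicative.toAdd hfix) i)
    have hone : h ^ 13 = 1 := by ext <;> simp [h0, hk1]
    have := Nat.le_of_dvd (by norm_num) (orderOf_dvd_of_pow_eq_one hone)
    omega
  obtain ⟨x, y, hx, hy, hxy⟩ := Nat.dvd_mul.1 ho
  rcases (Nat.dvd_prime hp).1 hx with rfl | rfl <;> rcases (Nat.dvd_prime hq).1 hy with rfl | rfl
  · rw [← hxy, one_mul, one_mul] at hbig
    exact absurd ((Nat.dvd_prime Nat.prime_five).1 hbig) (by
      rintro (h | h)
      · exact hp.ne_one (Nat.eq_one_of_mul_eq_one_right h)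
      · exact Nat.not_prime_mul hp.ne_one hq.ne_one (h ▸ Nat.prime_five))
  · rw [← hxy, one_mul, mul_comm p y] at hbig
    obtain rfl := (Nat.prime_dvd_prime_iff_eq hp Nat.prime_five).1
      ((Nat.mul_dvd_mul_iff_left hq.pos).1 hbig)
    exact key y hq hpq.symm (by rw [← hxy, one_mul]) rfl
  · rw [← hxy, mul_one] at hbig
    obtain rfl := (Nat.prime_dvd_prime_iff_eq hq Nat.prime_five).1
      ((Nat.mul_dvd_mul_iff_left hp.pos).1 hbig)
    rw [mul_comm x 5]
    exact key x hp hpq (by rw [← hxy, mul_one]) (mul_comm _ _)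
  · exact ⟨h.right, hxy.symm⟩

end CfsgLib.PGroup.PrimeGraphExtension
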