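import Cfsg.Agent.Lib.PGroup.PCentralPow
import Cfsg.Agent.Lib.PGroup.Frattini
import Mathlib

/-!
Generator bounds: `p`-groups of unitriangular matrices, and `p`-groups with central elements of order `p`.
-/

set_option autoImplicit false
set_option linter.style.haveILetI false

namespace CfsgLib.PGroup.RankBound

open scoped commutatorElement

variable {p : ℕ} [hp : Fact p.Prime]

/-- A subgroup of index at most `p ^ j` is completed by `j` elements. -/
theorem exists_gens {U : Type*} [Group U] [Finite U] (hU : IsPGroup p U) :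
    ∀ (j : ℕ) (K : Subgroup U), K.index ≤ p ^ j →
      ∃ S : Finset U, S.card ≤ j ∧ Subgroup.closure (S : Set U) ⊔ K = ⊤ := by
  classical
  intro j
  induction j with
  | zero =>
    intro K hK
    refine ⟨∅, le_rfl, ?_⟩
    rw [pow_zero] at hK
    rw [show K = ⊤ from Subgroup.index_eq_one.mp (le_antisymm hK (Nat.pos_of_ne_zero
      Subgroup.index_ne_zero_of_finite)), sup_top_eq]
  | succ j ih =>
    intro K hK
    by_cases htop : K = ⊤
    · exact ⟨∅, Nat.zero_le _, by rw [htop, sup_top_eq]⟩
    obtain ⟨x, -, hx⟩ := Set.exists_of_ssubset (show (K : Set U) ⊂ ((⊤ : Subgroup U) : Set U) from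
      SetLike.coe_ssubset_coe.mpr (lt_top_iff_ne_top.mpr htop))
    set K' := K ⊔ Subgroup.zpowers x
    have hle : K ≤ K' := le_sup_left
    have hmul := Subgroup.relIndex_mul_index hle
    have hne : K.relIndex K' ≠ 1 := fun e => hx ((Subgroup.relIndex_eq_one.mp e)
      (Subgroup.mem_sup_right (Subgroup.mem_zpowers x)))
    obtain ⟨a, ha⟩ := hU.index K
    obtain ⟨b, -, hb⟩ := (Nat.dvd_prime_pow hp.out).mp
      (show K.relIndex K' ∣ p ^ a from ⟨_, (hmul.trans ha).symm⟩)
    have hb0 : b ≠ 0 := fun e => hne (by rw [hb, e, pow_zero])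
    have hp2 : p ≤ K.relIndex K' := hb ▸ Nat.le_self_pow hb0 p
    have h1 : K'.index ≤ p ^ j := by
      have h2 : p * K'.index ≤ p * p ^ j := by
        rw [← pow_succ']
        exact (Nat.mul_le_mul_right _ hp2).trans (hmul.le.trans hK)
      exact Nat.le_of_mul_le_mul_left h2 hp.out.pos
    obtain ⟨S, hS, hgen⟩ := ih K' h1
    refine ⟨insert x S, (Finset.card_insert_le _ _).trans (by omega), ?_⟩
    rw [eq_top_iff, ← hgen]
    refine sup_le (le_sup_of_le_left (Subgroup.closure_mono (Finset.coe_subset.mpr (Finset.subset_insert _ _))))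
      (sup_le le_sup_right (Subgroup.zpowers_le.mpr (Subgroup.mem_sup_left (Subgroup.subset_closure ?_))))
    simp

/-- For odd `p`, if the elements of order `p` of `M` are central in `M` and lie in a subgroup of order at most
`p ^ k`, then `M` is generated by `k` elements. -/
theorem gens_of_central {G : Type*} [Group G] [Finite G] (hodd : p ≠ 2) (hG : IsPGroup p G) {M A : Subgroup G}
    (hc : ∀ u ∈ M, u ^ p = 1 → ∀ m ∈ M, Commute u m) (hA : ∀ u ∈ M, u ^ p = 1 → u ∈ A) {k : ℕ}
    (hk : Nat.card A ≤ p ^ k) : ∃ S : Finset M, S.card ≤ k ∧ Subgroup.closure (S : Set M) = ⊤ := by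
  have hM : IsPGroup p M := hG.to_subgroup M
  set L := Subgroup.closure {u : M | ∃ m : M, m ^ p = u}
  have hLΦ : L ≤ frattini M := by
    refine (Subgroup.closure_le _).mpr ?_
    rintro u ⟨m, rfl⟩
    exact Frattini.pow_mem_frattini hM m
  have hcard : Nat.card M ≤ Nat.card L * Nat.card A := by
    refine (PCentralPow.card_le_powers hodd hG hc hA).trans (le_of_eq ?_)
    congr 1
    have e : L.map M.subtype = Subgroup.closure {u : G | ∃ m ∈ M, m ^ p = u} := by
      rw [MonoidHom.map_closure]
      congr 1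
      ext u
      constructor
      · rintro ⟨v, ⟨m, rfl⟩, rfl⟩; exact ⟨m, m.2, by simp⟩
      · rintro ⟨m, hm, rfl⟩; exact ⟨(⟨m, hm⟩ : M) ^ p, ⟨_, rfl⟩, by simp⟩
    rw [← e]
    exact (Nat.card_congr (L.equivMapOfInjective _ M.subtype_injective).toEquiv).symm
  have hidx : (frattini M).index ≤ p ^ k := by
    refine le_trans (Nat.le_of_dvd ?_ (Subgroup.index_dvd_of_le hLΦ)) (le_trans ?_ hk)
    · exact Nat.pos_of_ne_zero Subgroup.index_ne_zero_of_finite
    · rw [← L.card_mul_index] at hcard
      exact Nat.le_of_mul_le_mul_left hcard Nat.card_pos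
  obtain ⟨S, hS, hgen⟩ := exists_gens hM k _ hidx
  exact ⟨S, hS, frattini_nongenerating hgen⟩

/-- A commutative group of exponent `p` generated by `j` elements has order at most `p ^ j`. -/
theorem card_closure_le {A : Type*} [CommGroup A] [Finite A] (hexp : ∀ a : A, a ^ p = 1) (S : Finset A) :
    Nat.card (Subgroup.closure (S : Set A)) ≤ p ^ S.card := by
  classical
  induction S using Finset.induction_on with
  | empty => simp
  | insert a S ha ih =>
    rw [Finset.card_insert_of_notMem ha, Finset.coe_insert, Set.insert_eq, Subgroup.closure_union,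
      ← Subgroup.zpowers_eq_closure, pow_succ']
    have h : ∀ u : ↥(Subgroup.zpowers a ⊔ Subgroup.closure (S : Set A)),
        ∃ x : Subgroup.zpowers a × Subgroup.closure (S : Set A), (x.1 : A) * x.2 = u := fun u => by
      obtain ⟨y, hy, z, hz, e⟩ := Subgroup.mem_sup.mp u.2
      exact ⟨(⟨y, hy⟩, ⟨z, hz⟩), e⟩
    choose f hf using h
    refine (Nat.card_le_card_of_injective f fun u v e => Subtype.ext (by rw [← hf u, ← hf v, e])).trans ?_
    rw [Nat.card_prod, Nat.card_zpowers]
    exact Nat.mul_le_mul (Nat.le_of_dvd hp.out.pos (orderOf_dvd_of_pow_eq_one (hexp a))) ih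

/-- A `p`-group of linear automorphisms is unitriangular in some basis. -/
theorem exists_unitriangular {U : Type*} [Group U] (hU : IsPGroup p U) {V : Type*} [AddCommGroup V]
    [Module (ZMod p) V] [Finite V] (ρ : Representation (ZMod p) U V) :
    ∀ i ≤ Module.finrank (ZMod p) V, ∃ v : Fin i → V, LinearIndependent (ZMod p) v ∧
      ∀ u j, ρ u (v j) - v j ∈ Submodule.span (ZMod p) (v '' {a | a < j}) := by
  intro i
  induction i with
  | zero => exact fun _ => ⟨Fin.elim0, linearIndependent_empty_type, fun _ j => j.elim0⟩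
  | succ i ih =>
    intro hi
    obtain ⟨v, hv, hstep⟩ := ih (by omega)
    set W := Submodule.span (ZMod p) (Set.range v) with hWdef
    have hW : ∀ u, W ≤ W.comap (ρ u) := fun u => by
      rw [hWdef, Submodule.span_le]
      rintro _ ⟨j, rfl⟩
      show ρ u (v j) ∈ W
      rw [← sub_add_cancel (ρ u (v j)) (v j)]
      exact W.add_mem (Submodule.span_mono (Set.image_subset_range _ _) (hstep u j))
        (Submodule.subset_span ⟨j, rfl⟩)
    let T : U → (V ⧸ W) →ₗ[ZMod p] (V ⧸ W) := fun u => W.mapQ W (ρ u) (hW u)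
    letI : MulAction U (V ⧸ W) :=
      { smul := fun u x => T u x
        one_smul := fun x => by
          obtain ⟨w, rfl⟩ := Submodule.Quotient.mk_surjective _ x
          show Submodule.Quotient.mk (ρ 1 w) = _
          simp
        mul_smul := fun a b x => by
          obtain ⟨w, rfl⟩ := Submodule.Quotient.mk_surjective _ x
          show Submodule.Quotient.mk (ρ (a * b) w) = Submodule.Quotient.mk (ρ a (ρ b w))
          simp }
    have hne : W ≠ ⊤ := fun e => by
      have h1 : Module.finrank (ZMod p) W = i := by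
        rw [hWdef, finrank_span_eq_card hv, Fintype.card_fin]
      rw [e, finrank_top] at h1
      omega
    haveI : Finite (V ⧸ W) := Quotient.finite _
    haveI : Module.Finite (ZMod p) V := Module.Finite.of_finite
    haveI : Nontrivial (V ⧸ W) := Submodule.Quotient.nontrivial_iff.2 hne
    have hdvd : p ∣ Nat.card (V ⧸ W) := by
      rw [Module.natCard_eq_pow_finrank (K := ZMod p), Nat.card_zmod]
      exact dvd_pow_self p Module.finrank_pos.ne'
    obtain ⟨b, hb, hb0⟩ := hU.exists_fixed_point_of_prime_dvd_card_of_fixed_point _ hdvd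
      (show (0 : V ⧸ W) ∈ MulAction.fixedPoints U (V ⧸ W) from fun u => map_zero (T u))
    obtain ⟨w, rfl⟩ := Submodule.Quotient.mk_surjective _ b
    have hw : w ∉ W := fun h => hb0 ((Submodule.Quotient.mk_eq_zero W).mpr h).symm
    refine ⟨Fin.snoc v w, linearIndependent_finSnoc.mpr ⟨hv, hw⟩, fun u j => ?_⟩
    refine Fin.lastCases ?_ (fun j => ?_) j
    · rw [Fin.snoc_last]
      have h := (Submodule.Quotient.eq W).mp (hb u)
      refine Submodule.span_mono ?_ h
      rintro _ ⟨a, rfl⟩
      exact ⟨a.castSucc, Fin.castSucc_lt_last a, Fin.snoc_castSucc ..⟩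
    · rw [Fin.snoc_castSucc]
      refine Submodule.span_mono ?_ (hstep u j)
      rintro _ ⟨a, ha, rfl⟩
      exact ⟨a.castSucc, Fin.castSucc_lt_castSucc_iff.mpr ha, Fin.snoc_castSucc ..⟩

section matrices

variable {e : ℕ}

/-- The order of the positions above the diagonal. -/
def key (i j : Fin e) : ℕ := ((j : ℕ) - i) * e + i

theorem key_lt {i j i' j' : Fin e}
    (h : (j : ℕ) - i < (j' : ℕ) - i' ∨ (j : ℕ) - i = (j' : ℕ) - i' ∧ (i : ℕ) < i') : key i j < key i' j' := by
  unfold key
  rcases h with h | ⟨h, h'⟩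
  · have := Nat.mul_le_mul_right e (Nat.succ_le_of_lt h)
    have := i.isLt
    rw [Nat.succ_mul] at *
    omega
  · rw [h]; omega

theorem key_inj {i j i' j' : Fin e} (hij : i < j) (hij' : i' < j') (h : key i j = key i' j') :
    i = i' ∧ j = j' := by
  rcases lt_trichotomy ((j : ℕ) - i) ((j' : ℕ) - i') with hd | hd | hd
  · exact absurd h (key_lt (Or.inl hd)).ne
  · have hi : (i : ℕ) = i' := by unfold key at h; rw [hd] at h; omega
    exact ⟨Fin.ext hi, Fin.ext (by omega)⟩
  · exact absurd h.symm (key_lt (Or.inl hd)).ne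

variable {U : Type*} [Group U] [Finite U] (M : U →* Matrix (Fin e) (Fin e) (ZMod p))

/-- The elements with no entries before position `c`. -/
def level (hM : ∀ g i j, j ≤ i → M g i j = (1 : Matrix (Fin e) (Fin e) (ZMod p)) i j) (c : ℕ) : Subgroup U where
  carrier := {g | ∀ i j, i < j → key i j < c → M g i j = 0}
  one_mem' := fun i j hij _ => by rw [map_one, Matrix.one_apply_ne hij.ne]
  mul_mem' := fun {a b} ha hb i j hij hk => by
    rw [map_mul, Matrix.mul_apply]
    refine Finset.sum_eq_zero fun l _ => ?_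
    rcases lt_trichotomy i l with h | h | h
    · rcases lt_or_ge j l with h' | h'
      · rw [hM b l j h'.le, Matrix.one_apply_ne h'.ne', mul_zero]
      · rcases eq_or_lt_of_le h' with h'' | h''
        · rw [← h'', ha i l h (h''.symm ▸ hk), zero_mul]
        · rw [ha i l h (lt_trans (key_lt (Or.inl (by omega))) hk), zero_mul]
    · subst h; rw [hb i j hij hk, mul_zero]
    · rw [hM a i l h.le, Matrix.one_apply_ne h.ne', zero_mul]
  inv_mem' := fun {a} ha => by
    rw [← one_mul a⁻¹, ← pow_orderOf_eq_one a, ← Nat.sub_add_cancel (orderOf_pos a), pow_succ,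
      mul_inv_cancel_right]
    intro i j hij hk
    induction orderOf a - 1 generalizing i j with
    | zero => rw [pow_zero, map_one, Matrix.one_apply_ne hij.ne]
    | succ n ih =>
      rw [pow_succ, map_mul, Matrix.mul_apply]
      refine Finset.sum_eq_zero fun l _ => ?_
      rcases lt_trichotomy i l with h | h | h
      · rcases lt_or_ge j l with h' | h'
        · rw [hM a l j h'.le, Matrix.one_apply_ne h'.ne', mul_zero]
        · rcases eq_or_lt_of_le h' with h'' | h''
          · rw [← h'', ih i l h (h''.symm ▸ hk), zero_mul]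
          · rw [ih i l h (lt_trans (key_lt (Or.inl (by omega))) hk), zero_mul]
      · subst h; rw [ha i j hij hk, mul_zero]
      · rw [hM _ i l h.le, Matrix.one_apply_ne h.ne', zero_mul]

variable (hM : ∀ g i j, j ≤ i → M g i j = (1 : Matrix (Fin e) (Fin e) (ZMod p)) i j)
include hM

theorem entry_mul {c : ℕ} {a b : U} (ha : a ∈ level M hM c) {i j : Fin e} (hij : i < j)
    (hk : key i j = c) : M (a * b) i j = M a i j + M b i j := by
  rw [map_mul, Matrix.mul_apply, ← Finset.sum_subset (Finset.subset_univ {i, j}),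
    Finset.sum_pair hij.ne, hM a i i le_rfl, hM b j j le_rfl, Matrix.one_apply_eq, Matrix.one_apply_eq,
    one_mul, mul_one, add_comm]
  intro l _ hl
  simp only [Finset.mem_insert, Finset.mem_singleton, not_or] at hl
  rcases lt_trichotomy i l with h | h | h
  · rcases lt_trichotomy l j with h' | h' | h'
    · rw [ha i l h (hk ▸ key_lt (Or.inl (by omega))), zero_mul]
    · exact absurd h' hl.2
    · rw [hM b l j h'.le, Matrix.one_apply_ne h'.ne', mul_zero]
  · exact absurd h.symm hl.1
  · rw [hM a i l h.le, Matrix.one_apply_ne h.ne', zero_mul]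

theorem entry_pow {c : ℕ} {a : U} (ha : a ∈ level M hM c) {i j : Fin e} (hij : i < j) (hk : key i j = c) :
    ∀ n : ℕ, M (a ^ n) i j = n * M a i j := by
  intro n
  induction n with
  | zero => rw [pow_zero, map_one, Matrix.one_apply_ne hij.ne]; simp
  | succ n ih =>
    rw [pow_succ, entry_mul M hM (pow_mem ha n) hij hk, ih]
    push_cast
    ring

theorem entry_commutator {a b : U} {i j l : Fin e} (hij : i < j) (hjl : j < l)
    (ha : a ∈ level M hM (key i j)) (hb : b ∈ level M hM (key j l)) :
    ⁅a, b⁆ ∈ level M hM (key i l) ∧ M ⁅a, b⁆ i l = M a i j * M b j l := by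
  set A := M a - 1 with hAdef
  set B := M b - 1 with hBdef
  have hA0 : ∀ x y, (y ≤ x ∨ key x y < key i j) → A x y = 0 := fun x y h => by
    rw [hAdef, Matrix.sub_apply]
    rcases h with h | h
    · rw [hM a x y h, sub_self]
    · rcases le_or_gt y x with h' | h'
      · rw [hM a x y h', sub_self]
      · rw [ha x y h' h, Matrix.one_apply_ne h'.ne, sub_self]
  have hB0 : ∀ x y, (y ≤ x ∨ key x y < key j l) → B x y = 0 := fun x y h => by
    rw [hBdef, Matrix.sub_apply]
    rcases h with h | h
    · rw [hM b x y h, sub_self]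
    · rcases le_or_gt y x with h' | h'
      · rw [hM b x y h', sub_self]
      · rw [hb x y h' h, Matrix.one_apply_ne h'.ne, sub_self]
  have hAl : ∀ x y, A x y ≠ 0 → (x : ℕ) < y ∧ ((j : ℕ) - i < (y : ℕ) - x ∨
      ((j : ℕ) - i = (y : ℕ) - x ∧ (i : ℕ) ≤ x)) := fun x y h => by
    refine ⟨Fin.lt_def.mp (lt_of_not_ge fun h' => h (hA0 x y (Or.inl h'))), ?_⟩
    by_contra hc
    exact h (hA0 x y (Or.inr (key_lt (by omega))))
  have hBl : ∀ x y, B x y ≠ 0 → (x : ℕ) < y ∧ ((l : ℕ) - j < (y : ℕ) - x ∨
      ((l : ℕ) - j = (y : ℕ) - x ∧ (j : ℕ) ≤ x)) := fun x y h => by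
    refine ⟨Fin.lt_def.mp (lt_of_not_ge fun h' => h (hB0 x y (Or.inl h'))), ?_⟩
    by_contra hc
    exact h (hB0 x y (Or.inr (key_lt (by omega))))
  have hij' : (i : ℕ) < j := hij
  have hjl' : (j : ℕ) < l := hjl
  set D := A * B - B * A with hDdef
  have hD : ∀ x y, (y ≤ x ∨ key x y < key i l) → D x y = 0 := fun x y h => by
    rw [hDdef, Matrix.sub_apply, Matrix.mul_apply, Matrix.mul_apply, Finset.sum_eq_zero, Finset.sum_eq_zero,
      sub_zero]
    · intro z _
      by_contra hne
      obtain ⟨h1, h1'⟩ := hBl x z (left_ne_zero_of_mul hne)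
      obtain ⟨h2, h2'⟩ := hAl z y (right_ne_zero_of_mul hne)
      rcases h with h | h
      · have : (y : ℕ) ≤ x := h
        omega
      · exact absurd (key_lt (i := i) (j := l) (i' := x) (j' := y) (by omega)) (Nat.lt_asymm h)
    · intro z _
      by_contra hne
      obtain ⟨h1, h1'⟩ := hAl x z (left_ne_zero_of_mul hne)
      obtain ⟨h2, h2'⟩ := hBl z y (right_ne_zero_of_mul hne)
      rcases h with h | h
      · have : (y : ℕ) ≤ x := h
        omega
      · rcases Nat.lt_or_ge ((l : ℕ) - i) ((y : ℕ) - x) with h3 | h3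
        · exact absurd (key_lt (i := i) (j := l) (i' := x) (j' := y) (Or.inl h3)) (Nat.lt_asymm h)
        · rcases Nat.lt_or_ge (i : ℕ) x with h4 | h4
          · exact absurd (key_lt (i := i) (j := l) (i' := x) (j' := y) (Or.inr ⟨by omega, h4⟩))
              (Nat.lt_asymm h)
          · obtain rfl : x = i := Fin.ext (by omega)
            obtain rfl : y = l := Fin.ext (by omega)
            exact lt_irrefl _ h
  have hDil : D i l = M a i j * M b j l := by
    rw [hDdef, Matrix.sub_apply, Matrix.mul_apply, Matrix.mul_apply, Finset.sum_eq_single j,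
      Finset.sum_eq_zero, sub_zero, hAdef, hBdef, Matrix.sub_apply, Matrix.sub_apply,
      Matrix.one_apply_ne hij.ne, Matrix.one_apply_ne hjl.ne, sub_zero, sub_zero]
    · intro z _
      by_contra hne
      obtain ⟨h1, h1'⟩ := hBl i z (left_ne_zero_of_mul hne)
      obtain ⟨h2, h2'⟩ := hAl z l (right_ne_zero_of_mul hne)
      omega
    · intro z _ hz
      by_contra hne
      obtain ⟨h1, h1'⟩ := hAl i z (left_ne_zero_of_mul hne)
      obtain ⟨h2, h2'⟩ := hBl z l (right_ne_zero_of_mul hne)
      exact hz (Fin.ext (by omega))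
    · simp
  have hC : M ⁅a, b⁆ = 1 + D * M (a⁻¹ * b⁻¹) := by
    have h1 : M (a * b) = M (b * a) + D := by
      rw [hDdef, hAdef, hBdef, map_mul, map_mul]
      noncomm_ring
    rw [commutatorElement_def, mul_assoc (a * b), map_mul, h1, add_mul, ← map_mul,
      show b * a * (a⁻¹ * b⁻¹) = 1 by group, map_one]
  have hCe : ∀ x z, x < z → key x z ≤ key i l → M ⁅a, b⁆ x z = D x z := fun x z hxz hk => by
    rw [hC, Matrix.add_apply, Matrix.one_apply_ne hxz.ne, zero_add, Matrix.mul_apply, Finset.sum_eq_single z,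
      hM _ z z le_rfl, Matrix.one_apply_eq, mul_one]
    · intro y _ hy
      rcases lt_or_gt_of_ne hy with h | h
      · rcases le_or_gt y x with h' | h'
        · rw [hD x y (Or.inl h'), zero_mul]
        · rw [hD x y (Or.inr (lt_of_lt_of_le (key_lt (Or.inl (by omega))) hk)), zero_mul]
      · rw [hM _ y z h.le, Matrix.one_apply_ne h.ne', mul_zero]
    · simp
  exact ⟨fun x z hxz hk => by rw [hCe x z hxz hk.le, hD x z (Or.inr hk)],
    by rw [hCe i l (hij.trans hjl) le_rfl, hDil]⟩

/-- A `p`-group of unitriangular `e × e` matrices is generated by `e² / 4` elements. -/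
theorem gens_unitriangular (hU : IsPGroup p U) :
    ∃ S : Finset U, S.card ≤ e * e / 4 ∧ Subgroup.closure (S : Set U) ⊔ M.ker = ⊤ := by
  classical
  let Lead : Fin e → Fin e → Prop := fun i j => i < j ∧ ∃ g ∈ level M hM (key i j), M g i j ≠ 0
  let Prim : Fin e → Fin e → Prop := fun i l => Lead i l ∧ ¬ ∃ j, Lead i j ∧ Lead j l
  let E0 : Finset (Fin e × Fin e) := Finset.univ.filter fun x => Prim x.1 x.2
  let rep : Fin e × Fin e → U := fun x => if h : Lead x.1 x.2 then h.2.choose else 1
  set X := E0.image rep with hX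
  let Y := (Subgroup.closure (X : Set U) ⊔ M.ker) ⊔ frattini U
  have main : ∀ n c : ℕ, e * e + e ≤ c + n → level M hM c ≤ Y := by
    intro n
    induction n with
    | zero =>
      intro c hc g hg
      refine Subgroup.mem_sup_left (Subgroup.mem_sup_right (MonoidHom.mem_ker.mpr ?_))
      ext i j
      rcases le_or_gt j i with h | h
      · exact hM g i j h
      · rw [Matrix.one_apply_ne h.ne]
        refine hg i j h (lt_of_lt_of_le ?_ hc)
        unfold key
        have := Nat.mul_le_mul_right e (show (j : ℕ) - i ≤ e by omega)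
        omega
    | succ n ih =>
      intro c hc g hg
      have hnext := ih (c + 1) (by omega)
      by_cases hpos : ∃ i j, i < j ∧ key i j = c ∧ M g i j ≠ 0
      · obtain ⟨i, j, hij, hk, hne⟩ := hpos
        have hL : Lead i j := ⟨hij, g, hk ▸ hg, hne⟩
        obtain ⟨r, hrY, hr, hr0⟩ : ∃ r ∈ Y, r ∈ level M hM c ∧ M r i j ≠ 0 := by
          by_cases hP : ∃ l, Lead i l ∧ Lead l j
          · obtain ⟨l, ⟨h1, a, ha, ha0⟩, ⟨h2, b, hb, hb0⟩⟩ := hP
            obtain ⟨hc1, hc2⟩ := entry_commutator M hM h1 h2 ha hb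
            exact ⟨⁅a, b⁆, Subgroup.mem_sup_right (Frattini.commutatorElement_mem_frattini hU a b), hk ▸ hc1,
              by rw [hc2]; exact mul_ne_zero ha0 hb0⟩
          · refine ⟨rep (i, j), Subgroup.mem_sup_left (Subgroup.mem_sup_left (Subgroup.subset_closure ?_)), ?_⟩
            · rw [hX, Finset.coe_image]
              exact ⟨(i, j), Finset.mem_coe.mpr (Finset.mem_filter.mpr ⟨Finset.mem_univ _, hL, hP⟩), rfl⟩
            · rw [show rep (i, j) = hL.2.choose from dif_pos hL]
              exact ⟨hk ▸ hL.2.choose_spec.1, hL.2.choose_spec.2⟩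
        set t := (-(M g i j) / M r i j).val
        have h1 : g * r ^ t ∈ level M hM (c + 1) := by
          intro x y hxy hxk
          rcases Nat.lt_or_ge (key x y) c with h | h
          · exact mul_mem hg (pow_mem hr t) x y hxy h
          · obtain ⟨rfl, rfl⟩ := key_inj hxy hij (show key x y = key i j by omega)
            rw [entry_mul M hM hg hxy hk, entry_pow M hM hr hxy hk, ZMod.natCast_zmod_val,
              div_mul_cancel₀ _ hr0, add_neg_cancel]
        have h2 := mul_mem (hnext h1) (inv_mem (pow_mem hrY t))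
        rwa [mul_inv_cancel_right] at h2
      · push Not at hpos
        refine hnext fun i j hij hk => ?_
        rcases Nat.lt_or_ge (key i j) c with h | h
        · exact hg i j hij h
        · exact hpos i j hij (by omega)
  have htop : Subgroup.closure (X : Set U) ⊔ M.ker = ⊤ := by
    refine frattini_nongenerating (eq_top_iff.mpr ?_)
    exact le_trans (fun g _ => fun i j _ h => absurd h (Nat.not_lt_zero _)) (main (e * e + e) 0 (by omega))
  refine ⟨X, Finset.card_image_le.trans ?_, htop⟩
  -- the primitive positions form a triangle-free graph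
  let Gr : SimpleGraph (Fin e) := SimpleGraph.fromRel Prim
  have htri : ∀ a b c : Fin e, Prim a b → Prim b c → Prim a c → False :=
    fun a b c h1 h2 h3 => h3.2 ⟨b, h1.1, h2.1⟩
  have hfree : Gr.CliqueFree 3 := by
    intro s hs
    obtain ⟨a, b, c, hab, hac, hbc, -⟩ := SimpleGraph.is3Clique_iff.mp hs
    rw [SimpleGraph.fromRel_adj] at hab hac hbc
    rcases hab.2 with h1 | h1 <;> rcases hac.2 with h2 | h2 <;> rcases hbc.2 with h3 | h3
    · exact htri a b c h1 h3 h2
    · exact htri a c b h2 h3 h1
    · exact absurd (h1.1.1.trans h3.1.1) h2.1.1.asymm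
    · exact htri c a b h2 h1 h3
    · exact htri b a c h1 h2 h3
    · exact absurd (h2.1.1.trans h3.1.1) h1.1.1.asymm
    · exact htri b c a h3 h2 h1
    · exact htri c b a h3 h1 h2
  have hcard : E0.card ≤ Gr.edgeFinset.card := by
    refine Finset.card_le_card_of_injOn (fun x => s(x.1, x.2)) (fun x hx => ?_) (fun x hx y hy hxy => ?_)
    · rw [Finset.mem_coe, Finset.mem_filter] at hx
      rw [Finset.mem_coe, SimpleGraph.mem_edgeFinset, SimpleGraph.mem_edgeSet, SimpleGraph.fromRel_adj]
      exact ⟨hx.2.1.1.ne, Or.inl hx.2⟩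
    · rw [Finset.mem_coe, Finset.mem_filter] at hx hy
      rcases Sym2.eq_iff.mp hxy with ⟨h1, h2⟩ | ⟨h1, h2⟩
      · exact Prod.ext h1 h2
      · exact absurd (show x.2 < x.1 from h1 ▸ h2 ▸ hy.2.1.1) hx.2.1.1.asymm
  have h := SimpleGraph.CliqueFree.card_edgeFinset_le (r := 2) hfree
  simp only [Fintype.card_fin] at h
  refine hcard.trans (h.trans ?_)
  have h2 : (e % 2).choose 2 = 0 := Nat.choose_eq_zero_of_lt (Nat.mod_lt _ (by norm_num))
  rw [h2, add_zero, pow_two e]
  refine (Nat.div_le_div_right ?_).trans_eq rfl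
  omega

end matrices

theorem exists_matrix_aux {A : Type*} [CommGroup A] [Finite A] [Module (ZMod p) (Additive A)] {k : ℕ}
    (hk : Nat.card A ≤ p ^ k) {U : Type*} [Group U] (hU : IsPGroup p U) (φ : U →* MulAut A) :
    ∃ (e : ℕ) (M : U →* Matrix (Fin e) (Fin e) (ZMod p)), e ≤ k ∧
      (∀ g i j, j ≤ i → M g i j = (1 : Matrix (Fin e) (Fin e) (ZMod p)) i j) ∧ M.ker ≤ φ.ker := by
  haveI : Finite (Additive A) := inferInstanceAs (Finite A)
  haveI hfin : Module.Finite (ZMod p) (Additive A) := Module.Finite.of_finite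
  let e : ℕ := Module.finrank (ZMod p) (Additive A)
  have hek : e ≤ k := by
    have h : Nat.card (Additive A) = p ^ e := by
      rw [@Module.natCard_eq_pow_finrank (ZMod p) (Additive A) _ _ _ hfin, Nat.card_zmod]
    rw [Nat.card_congr (Additive.toMul (α := A))] at h
    exact (Nat.pow_le_pow_iff_right hp.out.one_lt).mp (h ▸ hk)
  let ρ : Representation (ZMod p) U (Additive A) :=
    { toFun := fun g => AddMonoidHom.toZModLinearMap p (MonoidHom.toAdditive (φ g).toMonoidHom)
      map_one' := by
        refine LinearMap.ext fun a => ?_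
        simp
      map_mul' := fun g g' => by
        refine LinearMap.ext fun a => ?_
        simp }
  obtain ⟨v, hv, hstep⟩ := exists_unitriangular hU ρ e le_rfl
  have hcd : Fintype.card (Fin e) = Module.finrank (ZMod p) (Additive A) := Fintype.card_fin e
  let b : Module.Basis (Fin e) (ZMod p) (Additive A) :=
    Module.Basis.mk hv (hv.span_eq_top_of_card_eq_finrank' hcd).ge
  have hbv : (b : Fin e → Additive A) = v := funext fun j => Module.Basis.mk_apply hv _ j
  refine ⟨e, (LinearMap.toMatrixAlgEquiv b).toAlgHom.toRingHom.toMonoidHom.comp ρ, hek, fun g i j hji => ?_,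
    fun g hg => ?_⟩
  · show LinearMap.toMatrixAlgEquiv b (ρ g) i j = _
    rw [LinearMap.toMatrixAlgEquiv_apply]
    have h1 : ρ g (b j) = b j + (ρ g (v j) - v j) := by
      rw [hbv]; abel
    have h2 : ρ g (v j) - v j ∈ Submodule.span (ZMod p) (b '' {a | a < j}) := by
      rw [hbv]
      exact hstep g j
    have h3 : b.repr (ρ g (v j) - v j) i = 0 := by
      by_contra hne
      exact absurd ((Module.Basis.mem_span_image b).mp h2 (Finsupp.mem_support_iff.mpr hne))
        (show ¬ i < j from not_lt.mpr hji)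
    rw [h1, map_add, Finsupp.add_apply, h3, add_zero, Module.Basis.repr_self, Finsupp.single_apply,
      Matrix.one_apply]
    simp [eq_comm]
  · have h1 : ρ g = 1 := by
      refine (LinearMap.toMatrixAlgEquiv b).injective ?_
      rw [map_one]
      exact hg
    refine MulEquiv.ext fun a => ?_
    exact congrArg Additive.toMul (LinearMap.congr_fun h1 (Additive.ofMul a))

/-- A `p`-group of automorphisms of an elementary abelian group of order at most `p ^ k` acts by unitriangular
matrices of size at most `k`. -/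
theorem exists_matrix {A : Type*} [CommGroup A] [Finite A] (hexp : ∀ a : A, a ^ p = 1) {k : ℕ}
    (hk : Nat.card A ≤ p ^ k) {U : Type*} [Group U] (hU : IsPGroup p U) (φ : U →* MulAut A) :
    ∃ (e : ℕ) (M : U →* Matrix (Fin e) (Fin e) (ZMod p)), e ≤ k ∧
      (∀ g i j, j ≤ i → M g i j = (1 : Matrix (Fin e) (Fin e) (ZMod p)) i j) ∧ M.ker ≤ φ.ker :=
  @exists_matrix_aux p hp A _ _ (AddCommGroup.zmodModule (n := p) (fun a => by
    rw [← toMul_eq_one, toMul_nsmul]; exact hexp _)) k hk U _ hU φ

end CfsgLib.PGroup.RankBound
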