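import Cfsg.Agent.Lib.PGroup.PowerIndex
import Cfsg.Agent.Lib.PGroup.PCentralPow
import Cfsg.Agent.Lib.PGroup.SmallCentralizerRank
import Cfsg.Agent.Lib.MetacyclicOdd.Geom
import Cfsg.Agent.Lib.Fusion.NormalRankTwo
import Cfsg.Prelude.Def_OddOrderLocal
import Mathlib

/-!
`p`-groups, `p` odd, without elementary abelian subgroup of order `p³` (Blackburn): an elementary proof.
`A = ⟨z, a⟩` is a normal subgroup of order `p²`, `M` its centraliser; outside `M` conjugation is unipotent.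
-/

set_option autoImplicit false
set_option linter.style.haveILetI false
set_option linter.unusedSectionVars false

namespace CfsgLib.PGroup.RankTwoOdd

open Subgroup
open scoped commutatorElement

/-- A normal elementary abelian subgroup `⟨z, a⟩` with `z` central, containing all elements of order `p`
commuting with `a`. -/
structure Data (p : ℕ) (G : Type*) [Group G] where
  /-- the central element -/
  z : G
  /-- the other generator -/
  a : G
  z_center : z ∈ center G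
  z_ord : orderOf z = p
  a_pow : a ^ p = 1
  a_notMem : a ∉ zpowers z
  comm_mem : ∀ g : G, ⁅g, a⁆ ∈ zpowers z
  omega : ∀ u : G, u ^ p = 1 → Commute u a → u ∈ zpowers z ⊔ zpowers a

variable {G : Type*} [Group G] [Finite G] {p : ℕ} [hp : Fact p.Prime]

/-- An element of order dividing `p` is either trivial or generates each nontrivial subgroup it is in. -/
theorem zpowers_eq_of_mem {u z : G} (hz : orderOf z = p) (hu : u ∈ zpowers z) (hu1 : u ≠ 1) :
    zpowers u = zpowers z := by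
  refine eq_of_le_of_card_ge (zpowers_le.mpr hu) ?_
  have hd : Nat.card (zpowers u) ∣ Nat.card (zpowers z) := card_dvd_of_le (zpowers_le.mpr hu)
  rw [Nat.card_zpowers, Nat.card_zpowers, hz] at hd
  rcases hp.out.eq_one_or_self_of_dvd _ hd with h | h
  · exact absurd (orderOf_eq_one_iff.mp h) hu1
  · rw [Nat.card_zpowers, Nat.card_zpowers, hz, h]

theorem pow_prime_eq_one_of_mem {u z : G} (hz : orderOf z = p) (hu : u ∈ zpowers z) : u ^ p = 1 := by
  obtain ⟨i, rfl⟩ := hu
  show (z ^ i) ^ p = 1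
  rw [← zpow_natCast, ← zpow_mul, mul_comm, zpow_mul, zpow_natCast, ← hz, pow_orderOf_eq_one, one_zpow]

/-- `e ^ k = 1` with `e ≠ 1` of order dividing `p` forces `p ∣ k`. -/
theorem dvd_of_pow_eq_one {e : G} (hep : e ^ p = 1) (he : e ≠ 1) {k : ℕ} (h : e ^ k = 1) : p ∣ k :=
  orderOf_eq_prime hep he ▸ orderOf_dvd_of_pow_eq_one h

namespace Data

variable (D : Data p G)

/-- The subgroup `⟨z, a⟩`. -/
def A : Subgroup G := zpowers D.z ⊔ zpowers D.a

/-- The centraliser of `⟨z, a⟩`. -/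
def M : Subgroup G := centralizer {D.a}

theorem zpowers_normal : (zpowers D.z).Normal :=
  ⟨fun n hn g => by
    obtain ⟨i, rfl⟩ := hn
    show g * D.z ^ i * g⁻¹ ∈ _
    rw [Subgroup.mem_center_iff.mp (zpow_mem D.z_center i) g, mul_inv_cancel_right]
    exact ⟨i, rfl⟩⟩

theorem mem_M {g : G} : g ∈ D.M ↔ g * D.a = D.a * g := mem_centralizer_singleton_iff

theorem z_mem_A : D.z ∈ D.A := mem_sup_left (mem_zpowers _)

theorem a_mem_A : D.a ∈ D.A := mem_sup_right (mem_zpowers _)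

theorem a_mem_M : D.a ∈ D.M := D.mem_M.mpr rfl

theorem exists_rep {u : G} (hu : u ∈ D.A) : ∃ i j : ℤ, u = D.z ^ i * D.a ^ j := by
  haveI := D.zpowers_normal
  obtain ⟨y, ⟨i, rfl⟩, w, ⟨j, rfl⟩, h⟩ := mem_sup_of_normal_left.mp hu
  exact ⟨i, j, h.symm⟩

theorem A_le_M : D.A ≤ D.M :=
  sup_le (zpowers_le.mpr (D.mem_M.mpr (Subgroup.mem_center_iff.mp D.z_center D.a).symm))
    (zpowers_le.mpr D.a_mem_M)

theorem commute_of_mem_A {u m : G} (hu : u ∈ D.A) (hm : m ∈ D.M) : Commute u m := by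
  obtain ⟨i, j, rfl⟩ := D.exists_rep hu
  have h1 : Commute (D.z ^ i) m := (Subgroup.mem_center_iff.mp (zpow_mem D.z_center i) m).symm
  have h2 : Commute (D.a ^ j) m := (show Commute D.a m from (D.mem_M.mp hm).symm).zpow_left j
  exact h1.mul_left h2

theorem pow_of_mem_A {u : G} (hu : u ∈ D.A) : u ^ p = 1 := by
  obtain ⟨i, j, rfl⟩ := D.exists_rep hu
  have h1 : Commute (D.z ^ i) (D.a ^ j) := (Subgroup.mem_center_iff.mp (zpow_mem D.z_center i) _).symm
  rw [h1.mul_pow, pow_prime_eq_one_of_mem D.z_ord (zpow_mem (mem_zpowers _) i), ← zpow_natCast, ← zpow_mul,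
    mul_comm j, zpow_mul, zpow_natCast, D.a_pow, one_zpow, one_mul]

theorem mem_A_of_pow {u : G} (h : u ^ p = 1) (hu : u ∈ D.M) : u ∈ D.A := D.omega u h (D.mem_M.mp hu)

theorem central_in_M : ∀ u ∈ D.M, u ^ p = 1 → ∀ m ∈ D.M, Commute u m :=
  fun _ hu h _ hm => D.commute_of_mem_A (D.mem_A_of_pow h hu) hm

theorem A_normal : D.A.Normal := by
  haveI := D.zpowers_normal
  exact CfsgLib.Fusion.NormalRankTwo.sup_zpowers_normal D.comm_mem

theorem card_A : Nat.card D.A = p ^ 2 := by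
  haveI := D.zpowers_normal
  show Nat.card (zpowers D.z ⊔ zpowers D.a : Subgroup G) = p ^ 2
  rw [CfsgLib.Fusion.NormalRankTwo.sup_zpowers_card D.a_notMem (by rw [D.a_pow]; exact one_mem _),
    Nat.card_zpowers, D.z_ord, sq]

theorem M_normal : D.M.Normal := by
  refine ⟨fun m hm g => D.mem_M.mpr ?_⟩
  have h : g⁻¹ * D.a * g⁻¹⁻¹ ∈ D.A := D.A_normal.conj_mem _ D.a_mem_A _
  rw [inv_inv] at h
  calc g * m * g⁻¹ * D.a = g * (m * (g⁻¹ * D.a * g)) * g⁻¹ := by group
    _ = g * ((g⁻¹ * D.a * g) * m) * g⁻¹ := by rw [(D.commute_of_mem_A h hm).eq]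
    _ = D.a * (g * m * g⁻¹) := by group

theorem M_index : D.M = ⊤ ∨ D.M.index = p := by
  let f : G →* zpowers D.z := MonoidHom.mk' (fun g => ⟨⁅g, D.a⁆, D.comm_mem g⟩) fun g h => Subtype.ext (by
    show ⁅g * h, D.a⁆ = ⁅g, D.a⁆ * ⁅h, D.a⁆
    obtain ⟨i, hi⟩ := D.comm_mem h
    simp only at hi
    have hc := Subgroup.mem_center_iff.mp (zpow_mem D.z_center i)
    rw [hi] at hc
    calc ⁅g * h, D.a⁆ = g * ⁅h, D.a⁆ * g⁻¹ * ⁅g, D.a⁆ := by simp [commutatorElement_def, mul_assoc]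
      _ = ⁅h, D.a⁆ * ⁅g, D.a⁆ := by rw [hc g, mul_inv_cancel_right]
      _ = _ := (hc _).symm)
  have hker : f.ker = D.M := by
    ext g
    rw [MonoidHom.mem_ker, D.mem_M, ← commutatorElement_eq_one_iff_mul_comm]
    exact Subtype.ext_iff
  have hd : D.M.index ∣ p := by
    rw [← hker, Subgroup.index_ker]
    exact (card_subgroup_dvd_card _).trans (by rw [Nat.card_zpowers, D.z_ord])
  exact (hp.out.eq_one_or_self_of_dvd _ hd).imp index_eq_one.mp id

theorem z_mem_M : D.z ∈ D.M := D.A_le_M D.z_mem_A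

/-- Commutation with `x` maps `⟨z, a⟩` into `⟨z⟩`. -/
theorem delta_mem (x : G) {u : G} (hu : u ∈ D.A) : x * u * x⁻¹ * u⁻¹ ∈ zpowers D.z := by
  obtain ⟨i, j, rfl⟩ := D.exists_rep hu
  obtain ⟨k, hk⟩ := D.comm_mem x
  simp only at hk
  have hza := Subgroup.mem_center_iff.mp (zpow_mem D.z_center i)
  have e1 : x * D.a * x⁻¹ = D.z ^ k * D.a := by rw [hk, commutatorElement_def]; group
  have e2 : x * D.a ^ j * x⁻¹ = D.z ^ (k * j) * D.a ^ j := by
    rw [← conj_zpow, e1,
      (show Commute (D.z ^ k) D.a from (Subgroup.mem_center_iff.mp (zpow_mem D.z_center k) _).symm).mul_zpow,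
      ← zpow_mul]
  refine ⟨k * j, ?_⟩
  show D.z ^ (k * j) = _
  calc D.z ^ (k * j) = D.z ^ i * (D.z ^ (k * j) * D.a ^ j) * (D.z ^ i * D.a ^ j)⁻¹ := by
        rw [← mul_assoc, ← (Subgroup.mem_center_iff.mp (zpow_mem D.z_center i) (D.z ^ (k * j)))]
        group
    _ = D.z ^ i * (x * D.a ^ j * x⁻¹) * (D.z ^ i * D.a ^ j)⁻¹ := by rw [e2]
    _ = _ := by rw [show x * (D.z ^ i * D.a ^ j) = D.z ^ i * (x * D.a ^ j) by
          rw [← mul_assoc, hza x, mul_assoc]]; group

theorem fixed_of_mem_zpowers (x : G) {u : G} (hu : u ∈ zpowers D.z) : x * u * x⁻¹ = u := by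
  obtain ⟨i, rfl⟩ := hu
  show x * D.z ^ i * x⁻¹ = D.z ^ i
  rw [Subgroup.mem_center_iff.mp (zpow_mem D.z_center i) x, mul_inv_cancel_right]

/-- The fixed points in `⟨z, a⟩` of an element outside `M`. -/
theorem mem_zpowers_of_fixed {x u : G} (hx : x ∉ D.M) (hu : u ∈ D.A) (hfix : x * u * x⁻¹ = u) :
    u ∈ zpowers D.z := by
  by_contra hn
  haveI := D.zpowers_normal
  have hup : u ^ p ∈ zpowers D.z := by rw [D.pow_of_mem_A hu]; exact one_mem _
  have hA : zpowers D.z ⊔ zpowers u = D.A := eq_of_le_of_card_ge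
    (sup_le le_sup_left (zpowers_le.mpr hu))
    (by rw [D.card_A, CfsgLib.Fusion.NormalRankTwo.sup_zpowers_card hn hup, Nat.card_zpowers, D.z_ord, sq])
  have hle : D.A ≤ centralizer {x} := by
    rw [← hA]
    refine sup_le (zpowers_le.mpr ?_) (zpowers_le.mpr ?_)
    · exact mem_centralizer_singleton_iff.mpr (Subgroup.mem_center_iff.mp D.z_center x).symm
    · exact mem_centralizer_singleton_iff.mpr (mul_inv_eq_iff_eq_mul.mp hfix).symm
  exact hx (D.mem_M.mpr (mem_centralizer_singleton_iff.mp (hle D.a_mem_A)).symm)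

theorem pow_mem_M (hG : IsPGroup p G) (x : G) : x ^ p ∈ D.M := by
  haveI := D.M_normal
  rcases D.M_index with h | h
  · rw [h]; exact Subgroup.mem_top _
  · have := D.M.pow_index_mem x
    rwa [h] at this

/-- A generalised unipotent step: an element `d` of `M` whose `p`-th power is a noncentral element of `⟨z, a⟩`. -/
theorem alpha (hodd : p ≠ 2) (hG : IsPGroup p G) {x d : G} (hx : x ∉ D.M) (hd : d ∈ D.M) (hdA : d ^ p ∈ D.A)
    (hdz : d ^ p ∉ zpowers D.z) (hcomm : Commute (x ^ p) d) :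
    p = 3 ∧ ∀ v ∈ D.M, x * v * x⁻¹ = v → v ∈ zpowers D.z := by
  have hc := D.central_in_M
  have hcen : ∀ m ∈ D.M, Commute (d ^ p) m := fun m hm => D.commute_of_mem_A hdA hm
  have hM := D.M_normal
  set c := x * d * x⁻¹ * d⁻¹ with hcdef
  have hcM : c ∈ D.M := mul_mem (hM.conj_mem d hd x) (inv_mem hd)
  have hcd : x * d * x⁻¹ = c * d := by rw [hcdef]; group
  have hcp' : x * d ^ p * x⁻¹ = c ^ p * d ^ p := by
    rw [← conj_pow, hcd, PCentralPow.mul_pow_of_central hodd hG hc hcM hd hcen]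
  have hcpz : c ^ p ∈ zpowers D.z := by
    have := D.delta_mem x hdA
    rwa [hcp', mul_inv_cancel_right] at this
  have hcp1 : c ^ p ≠ 1 := fun h => hdz (D.mem_zpowers_of_fixed hx hdA (by rw [hcp', h, one_mul]))
  set e := x * c * x⁻¹ * c⁻¹ with hedef
  have hec : x * c * x⁻¹ = e * c := by rw [hedef]; group
  have hxcM : x * c * x⁻¹ ∈ D.M := hM.conj_mem c hcM x
  have hecp : (x * c * x⁻¹) ^ p = c ^ p := by rw [conj_pow, D.fixed_of_mem_zpowers x hcpz]
  have he0 : c⁻¹ * (x * c * x⁻¹) ∈ D.A := D.mem_A_of_pow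
    (PCentralPow.inv_mul_pow_eq_one hodd hG hc hxcM hcM hecp) (mul_mem (inv_mem hcM) hxcM)
  have heA : e ∈ D.A := by
    have h2 : e = c⁻¹ * (x * c * x⁻¹) := by
      calc e = c * (c⁻¹ * (x * c * x⁻¹)) * c⁻¹ := by rw [hedef]; group
        _ = c⁻¹ * (x * c * x⁻¹) * c * c⁻¹ := by rw [← (D.commute_of_mem_A he0 hcM).eq]
        _ = _ := mul_inv_cancel_right _ _
    rwa [h2]
  set f := x * e * x⁻¹ * e⁻¹ with hfdef
  have hfe : x * e * x⁻¹ = f * e := by rw [hfdef]; group
  have hfz : f ∈ zpowers D.z := D.delta_mem x heA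
  have hff := D.fixed_of_mem_zpowers x hfz
  have hfA : f ∈ D.A := (le_sup_left : zpowers D.z ≤ D.A) hfz
  have hit := PCentralPow.conj_pow_iter hcd hec hfe hff (D.commute_of_mem_A heA hcM).symm
    (D.commute_of_mem_A hfA hcM).symm (D.commute_of_mem_A heA (D.A_le_M hfA)) p
  rw [hcomm.eq, mul_inv_cancel_right, PCentralPow.pow_choose_two hodd (D.pow_of_mem_A heA), mul_one] at hit
  have hcf : c ^ p * f ^ p.choose 3 = 1 := by simpa using hit.symm
  have hp3 : p = 3 := by
    by_contra h3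
    have := hp.out.two_le
    rw [PCentralPow.pow_choose_three (by omega) (D.pow_of_mem_A hfA), mul_one] at hcf
    exact hcp1 hcf
  refine ⟨hp3, ?_⟩
  have hf1 : f ≠ 1 := fun h => hcp1 (by rw [h, one_pow, mul_one] at hcf; exact hcf)
  intro v
  induction hn : orderOf v using Nat.strong_induction_on generalizing v with
  | _ n ih =>
    subst hn
    intro hv hfix
    by_cases hvp : v ^ p = 1
    · exact D.mem_zpowers_of_fixed hx (D.mem_A_of_pow hvp hv) hfix
    have hlt : orderOf (v ^ p) < orderOf v := by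
      obtain ⟨s, hs⟩ := IsPGroup.iff_orderOf.mp hG v
      have hs1 : 1 ≤ s := Nat.one_le_iff_ne_zero.mpr fun h => hvp (by
        rw [h, pow_zero, orderOf_eq_one_iff] at hs; rw [hs, one_pow])
      rw [orderOf_pow' v hp.out.ne_zero, hs, Nat.gcd_eq_right (dvd_pow_self p (by omega))]
      exact Nat.div_lt_self (pow_pos hp.out.pos s) hp.out.one_lt
    have hvz : v ^ p ∈ zpowers D.z := ih _ hlt (v ^ p) rfl (pow_mem hv p) (by rw [← conj_pow, hfix])
    rw [← zpowers_eq_of_mem D.z_ord hcpz hcp1] at hvz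
    obtain ⟨k, hk⟩ := Submonoid.mem_powers_iff _ _ |>.mp (mem_powers_iff_mem_zpowers.mpr hvz)
    have hα0 : (c ^ k)⁻¹ * v ∈ D.A := D.mem_A_of_pow
      (PCentralPow.inv_mul_pow_eq_one hodd hG hc hv (pow_mem hcM k)
        (by rw [← hk, ← pow_mul, ← pow_mul, mul_comm])) (mul_mem (inv_mem (pow_mem hcM k)) hv)
    obtain ⟨α, hα, rfl⟩ : ∃ α ∈ D.A, v = c ^ k * α := ⟨_, hα0, by group⟩
    have hxα := D.delta_mem x hα
    have hkey : e ^ k * (x * α * x⁻¹ * α⁻¹) = 1 := by
      have h1 : x * (c ^ k * α) * x⁻¹ = e ^ k * c ^ k * (x * α * x⁻¹) := by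
        rw [← (D.commute_of_mem_A heA hcM).mul_pow, ← hec, conj_pow]; group
      rw [hfix] at h1
      have h2 : c ^ k * α = c ^ k * (e ^ k * (x * α * x⁻¹)) := by
        rw [← mul_assoc, ← ((D.commute_of_mem_A heA hcM).pow_pow k k).eq]; exact h1
      have h3 := mul_left_cancel h2
      rw [← mul_assoc, ← h3, mul_inv_cancel]
    have hek : x * e ^ k * x⁻¹ = e ^ k := D.fixed_of_mem_zpowers x (by
      rw [mul_eq_one_iff_eq_inv.mp hkey]; exact inv_mem hxα)
    rw [← conj_pow, hfe, (D.commute_of_mem_A hfA (D.A_le_M heA)).mul_pow, mul_eq_right] at hek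
    obtain ⟨l, rfl⟩ := dvd_of_pow_eq_one (D.pow_of_mem_A hfA) hf1 hek
    refine D.mem_zpowers_of_fixed hx ?_ hfix
    refine mul_mem ?_ hα
    rw [pow_mul]
    exact pow_mem ((le_sup_left : zpowers D.z ≤ D.A) hcpz) l

/-- With only central fixed points in `M` the centraliser of `x` has order `p ^ 2`. -/
theorem card_centralizer (hG : IsPGroup p G) {x : G} (hx : x ∉ D.M) (hidx : D.M.index = p)
    (hfix : ∀ v ∈ D.M, x * v * x⁻¹ = v → v ∈ zpowers D.z) :
    Nat.card (centralizer ({x} : Set G)) = p ^ 2 := by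
  haveI := D.M_normal
  have hinf : D.M ⊓ centralizer ({x} : Set G) = zpowers D.z := by
    refine le_antisymm (fun v hv => ?_) (zpowers_le.mpr (mem_inf.mpr ⟨D.z_mem_M, ?_⟩))
    · refine hfix v (mem_inf.mp hv).1 ?_
      rw [← mem_centralizer_singleton_iff.mp (mem_inf.mp hv).2, mul_inv_cancel_right]
    · exact mem_centralizer_singleton_iff.mpr (Subgroup.mem_center_iff.mp D.z_center x).symm
  have hrel : D.M.relIndex (centralizer ({x} : Set G)) = p := by
    have hd := Subgroup.relIndex_dvd_index_of_normal D.M (centralizer ({x} : Set G))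
    rw [hidx] at hd
    refine (hp.out.eq_one_or_self_of_dvd _ hd).resolve_left fun h => ?_
    exact hx (Subgroup.relIndex_eq_one.mp h (mem_centralizer_singleton_iff.mpr rfl))
  have h := Subgroup.relIndex_mul_relIndex ⊥ (D.M ⊓ centralizer ({x} : Set G)) (centralizer ({x} : Set G))
    bot_le inf_le_right
  rw [Subgroup.relIndex_bot_left, Subgroup.relIndex_bot_left, Subgroup.inf_relIndex_right, hrel, hinf,
    Nat.card_zpowers, D.z_ord] at h
  rw [← h, sq]

/-- Either some `p`-th power in `M` is a noncentral element of `⟨z, a⟩`, or `M/⟨z, a⟩` is cyclic. -/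
theorem dichotomy (hodd : p ≠ 2) (hG : IsPGroup p G) :
    (∃ d ∈ D.M, d ^ p ∈ D.A ∧ d ^ p ∉ zpowers D.z) ∨
      ∃ w ∈ D.M, ∀ m ∈ D.M, ∃ i : ℕ, ∃ α ∈ D.A, m = w ^ i * α := by
  haveI := D.A_normal
  haveI := D.M_normal
  set π := QuotientGroup.mk' D.A with hπ
  set S := D.M.map π with hS
  haveI : S.Normal := Subgroup.Normal.map inferInstance π (QuotientGroup.mk'_surjective D.A)
  by_cases hcyc : IsCyclic S
  · right
    obtain ⟨⟨q, hq⟩, hgen⟩ := hcyc.exists_generator
    obtain ⟨w, hw, rfl⟩ := mem_map.mp hq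
    refine ⟨w, hw, fun m hm => ?_⟩
    obtain ⟨i, hi⟩ := Submonoid.mem_powers_iff _ _ |>.mp
      (mem_powers_iff_mem_zpowers.mpr (hgen ⟨π m, mem_map_of_mem π hm⟩))
    refine ⟨i, (w ^ i)⁻¹ * m, ?_, by group⟩
    rw [← QuotientGroup.eq_one_iff]
    show π ((w ^ i)⁻¹ * m) = 1
    rw [map_mul, map_inv, map_pow, inv_mul_eq_one]
    exact congrArg Subtype.val hi
  left
  by_contra hcon
  push Not at hcon
  obtain ⟨E, hES, -, hE, hEc⟩ := CfsgLib.Fusion.NormalRankTwo.exists_normal_rankTwo (hG.to_quotient D.A) hodd hcyc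
  set T := E.comap π
  have hTM : T ≤ D.M := by
    intro t ht
    have h1 : t ∈ S.comap π := comap_mono hES ht
    rw [hS, comap_map_eq_self (by rw [hπ, QuotientGroup.ker_mk']; exact D.A_le_M)] at h1
    exact h1
  have hTA : ∀ t ∈ T, t ^ p ∈ D.A := fun t ht => by
    rw [← QuotientGroup.eq_one_iff]
    show π (t ^ p) = 1
    rw [map_pow]
    exact hE.2 _ ht
  have hTz : ∀ t ∈ T, t ^ p ∈ zpowers D.z := fun t ht => hcon t (hTM ht) (hTA t ht)
  have hAT : D.A ≤ T := fun u hu => by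
    show π u ∈ E
    rw [show π u = 1 from (QuotientGroup.eq_one_iff u).mpr hu]
    exact one_mem E
  have hcardT : Nat.card T = p ^ 4 := by
    have h := Subgroup.relIndex_mul_relIndex ⊥ D.A T bot_le hAT
    rw [Subgroup.relIndex_bot_left, Subgroup.relIndex_bot_left, D.card_A,
      show D.A = (⊥ : Subgroup (G ⧸ D.A)).comap π by rw [MonoidHom.comap_bot, hπ, QuotientGroup.ker_mk'],
      Subgroup.relIndex_comap, map_comap_eq_self_of_surjective (QuotientGroup.mk'_surjective D.A),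
      Subgroup.relIndex_bot_left, hEc] at h
    rw [← h]; ring
  let P : Set G := {u | ∃ t ∈ T, t ^ p = u}
  have hex : ∀ u : P, ∃ r : T, (r : G) ^ p = u := fun u => ⟨⟨u.2.choose, u.2.choose_spec.1⟩, u.2.choose_spec.2⟩
  choose sec hsecp using hex
  let key : T → P := fun t => ⟨(t : G) ^ p, t, t.2, rfl⟩
  have hmem : ∀ t : T, ((sec (key t) : G))⁻¹ * t ∈ D.A := fun t =>
    D.mem_A_of_pow (PCentralPow.inv_mul_pow_eq_one hodd hG D.central_in_M (hTM t.2) (hTM (sec (key t)).2)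
      (hsecp (key t)).symm) (mul_mem (inv_mem (hTM (sec (key t)).2)) (hTM t.2))
  have hle : Nat.card T ≤ Nat.card (zpowers D.z × D.A) := Nat.card_le_card_of_injective
    (fun t : T => ((⟨(key t : G), hTz t t.2⟩ : zpowers D.z), (⟨_, hmem t⟩ : D.A))) fun t t' h => by
      have e1 : key t = key t' := Subtype.ext (congrArg (fun q : zpowers D.z × D.A => (q.1 : G)) h)
      have e2 : ((sec (key t) : G))⁻¹ * t = ((sec (key t') : G))⁻¹ * t' :=
        congrArg (fun q : zpowers D.z × D.A => (q.2 : G)) h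
      rw [e1] at e2
      exact Subtype.ext (mul_left_cancel e2)
  rw [Nat.card_prod, Nat.card_zpowers, D.z_ord, D.card_A, hcardT, ← pow_succ'] at hle
  exact absurd ((Nat.pow_le_pow_iff_right hp.out.one_lt).mp hle) (by norm_num)

end Data

end CfsgLib.PGroup.RankTwoOdd
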