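import Cfsg.Agent.Lib.PGroup.SLMinorCount
import Cfsg.Agent.Lib.PGroup.SteinbergSL
import Cfsg.Agent.Lib.PGroup.SplitBruhat

/-!
The big cell `U A U` of `SL_n` (`A` the determinant one antidiagonal matrices): it is cut out by the
corner minors, its elements decompose uniquely, and outside it two conjugates of `U` meet nontrivially.
-/

set_option autoImplicit false
set_option linter.unusedSectionVars false

namespace CfsgLib.PGroup.SLBigCell

open CfsgLib.PGroup.UnitriangularSL CfsgLib.PGroup.SLMinorCount CfsgLib.PGroup.SplitMonomial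
open CfsgLib.PGroup.SteinbergSL

variable {F : Type*} [Field F] [Fintype F] {n : ℕ}

local notation "SLn" => Matrix.SpecialLinearGroup (Fin n) F

/-- The antidiagonal matrices of determinant one. -/
abbrev Anti (F : Type*) [Field F] (n : ℕ) : Type _ :=
  {a : Matrix.SpecialLinearGroup (Fin n) F // Monom a.1 (Fin.revPerm : Equiv.Perm (Fin n))}

/-- The big cell. -/
def InCell (g : SLn) : Prop := ∃ r ∈ U F n, ∃ a : Anti F n, ∃ s ∈ U F n, g = r * a.1 * s

theorem Monom.inv' {m : SLn} {σ : Equiv.Perm (Fin n)} (hm : Monom m.1 σ) : Monom (m⁻¹ : SLn).1 σ⁻¹ :=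
  hm.of_inv (det_ne m) (by rw [← Matrix.SpecialLinearGroup.coe_mul, mul_inv_cancel, Matrix.SpecialLinearGroup.coe_one])

theorem exists_decomp (g : SLn) :
    ∃ r ∈ U F n, ∃ σ : Equiv.Perm (Fin n), ∃ m : SLn, Monom m.1 σ ∧ ∃ s ∈ U F n, g = r * m * s := by
  classical
  haveI : Fintype (N F n) := Fintype.ofFinite _
  obtain ⟨b, hb, m, b', hb', rfl⟩ := SplitBruhat.bruhat splitData g
  obtain ⟨d, hd, v, hv, rfl⟩ := upper_eq (mem_B.1 hb)
  obtain ⟨d', hd', v', hv', rfl⟩ := upper_eq (mem_B.1 hb')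
  have hD : ∀ (e : Fin n → Fˣ) (he : ∏ a, e a = 1), Monom (D e he).1 1 :=
    fun e he i j h => Matrix.diagonal_apply_ne _ (by simpa using h)
  refine ⟨D d hd * v * (D d hd)⁻¹, D_conj_U d hd hv, 1 * m.1.1 * 1, D d hd * ν m * D d' hd', ?_, v', hv', ?_⟩
  · rw [Matrix.SpecialLinearGroup.coe_mul, Matrix.SpecialLinearGroup.coe_mul]
    exact ((hD d hd).mul m.2).mul (hD d' hd')
  · group

theorem exists_lt_lt {σ : Equiv.Perm (Fin n)} (h : σ ≠ Fin.revPerm) : ∃ i j, i < j ∧ σ i < σ j := by
  by_contra hc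
  push Not at hc
  refine h (Equiv.ext fun c => ?_)
  have hmono : StrictMono fun c => Fin.rev (σ c) := fun i j hij =>
    Fin.rev_lt_rev.2 (lt_of_le_of_ne (hc i j hij) fun e => hij.ne (σ.injective e).symm)
  have h1 : Fin.rev (σ c) = c := le_antisymm (hmono.le_id c) (hmono.id_le c)
  rw [Fin.revPerm_apply]
  exact Fin.rev_eq_iff.1 h1

theorem inter_ne_bot {g : SLn} (hg : ¬ InCell g) : ∃ z, z ∈ U F n ∧ g⁻¹ * z * g ∈ U F n ∧ z ≠ 1 := by
  obtain ⟨r, hr, σ, m, hm, s, hs, rfl⟩ := exists_decomp g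
  have hσ : σ ≠ Fin.revPerm := by
    rintro rfl
    exact hg ⟨r, hr, ⟨m, hm⟩, s, hs, rfl⟩
  obtain ⟨i, j, hij, hσij⟩ := exists_lt_lt hσ
  set c := m.1 (σ i) i * 1 / m.1 (σ j) j
  have h1 : m * X hij.ne (1 : F) = X hσij.ne c * m := by
    refine Subtype.ext ?_
    rw [Matrix.SpecialLinearGroup.coe_mul, Matrix.SpecialLinearGroup.coe_mul, X_coe, X_coe, mul_add, add_mul,
      mul_one, one_mul, hm.mul_single (det_ne _)]
  refine ⟨r * X hσij.ne c * r⁻¹, mul_mem (mul_mem hr (X_mem_U hσij c)) (inv_mem hr), ?_, ?_⟩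
  · have e : (r * m * s)⁻¹ * (r * X hσij.ne c * r⁻¹) * (r * m * s) = s⁻¹ * X hij.ne (1 : F) * s := by
      have h2 : m⁻¹ * X hσij.ne c * m = X hij.ne (1 : F) := by rw [mul_assoc, ← h1, inv_mul_cancel_left]
      rw [← h2]; group
    rw [e]
    exact mul_mem (mul_mem (inv_mem hs) (X_mem_U hij 1)) hs
  · intro h
    have h2 : X hσij.ne c = (1 : SLn) := conj_eq_one_iff.1 h
    have h3 : c ≠ 0 := div_ne_zero (mul_ne_zero (hm.entry_ne_zero (det_ne _) i) one_ne_zero)
      (hm.entry_ne_zero (det_ne _) j)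
    have h4 := congrArg (fun x : SLn => x.1 (σ i) (σ j)) h2
    simp only [X_coe, Matrix.SpecialLinearGroup.coe_one, Matrix.add_apply, Matrix.one_apply_ne hσij.ne,
      Matrix.single_apply_same, zero_add] at h4
    exact h3 h4

/-! ### Minors -/

theorem submatrix_mul_left {α β γ : Type*} [Fintype α] [Fintype β] {A B : Matrix α α F} (f : β → α) (g : γ → α)
    (hf : Function.Injective f) (h : ∀ r l, l ∉ Set.range f → A (f r) l = 0) :
    (A * B).submatrix f g = A.submatrix f f * B.submatrix f g := by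
  classical
  ext r c
  simp only [Matrix.submatrix_apply, Matrix.mul_apply]
  rw [← Finset.sum_subset (Finset.subset_univ (Finset.univ.image f))
    (fun l _ hl => by rw [h r l (by simpa using hl), zero_mul]), Finset.sum_image hf.injOn]

theorem submatrix_mul_right {α β γ : Type*} [Fintype α] [Fintype γ] {A B : Matrix α α F} (f : β → α) (g : γ → α)
    (hg : Function.Injective g) (h : ∀ l c, l ∉ Set.range g → B l (g c) = 0) :
    (A * B).submatrix f g = A.submatrix f g * B.submatrix g g := by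
  classical
  ext r c
  simp only [Matrix.submatrix_apply, Matrix.mul_apply]
  rw [← Finset.sum_subset (Finset.subset_univ (Finset.univ.image g))
    (fun l _ hl => by rw [h l c (by simpa using hl), mul_zero]), Finset.sum_image hg.injOn]

theorem lead_inj (k : Fin n) : Function.Injective (lead k) := Fin.castLE_injective _

theorem mem_range_lead {k : Fin n} {l : Fin n} (h : l ≤ k) : l ∈ Set.range (lead k) :=
  ⟨⟨l, Nat.lt_succ_of_le (Fin.le_def.1 h)⟩, Fin.ext rfl⟩

theorem lead_le (k : Fin n) (c : Fin ((k : ℕ) + 1)) : lead k c ≤ k :=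
  Fin.le_def.2 (by simp only [Fin.val_castLE]; have := c.isLt; omega)

theorem delta_left {u : SLn} (hu : u ∈ U F n) (M : Matrix (Fin n) (Fin n) F) (k : Fin n) :
    delta k (u.1 * M) = delta k M := by
  have hinj : Function.Injective (Fin.rev ∘ lead k) := Fin.rev_injective.comp (lead_inj k)
  rw [delta, submatrix_mul_left _ _ hinj, Matrix.det_mul, delta]
  · have h1 : (u.1.submatrix (Fin.rev ∘ lead k) (Fin.rev ∘ lead k)).det = 1 := by
      have hT : (u.1.submatrix (Fin.rev ∘ lead k) (Fin.rev ∘ lead k)).IsLowerTriangular := fun i j (h : i < j) =>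
        U_below hu (Fin.rev_lt_rev.2 (Fin.lt_def.2 (by simpa using h)))
      rw [Matrix.det_of_isLowerTriangular _ hT]
      simp [U_diag hu]
    rw [h1, one_mul]
  · intro r l hl
    refine U_below hu (lt_of_not_ge fun h => hl ?_)
    obtain ⟨t, ht⟩ := mem_range_lead (k := k) (l := Fin.rev l)
      (le_trans (Fin.rev_le_iff.1 h) (lead_le k r))
    exact ⟨t, by simp [ht]⟩

theorem delta_right {u : SLn} (hu : u ∈ U F n) (M : Matrix (Fin n) (Fin n) F) (k : Fin n) :
    delta k (M * u.1) = delta k M := by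
  rw [delta, submatrix_mul_right _ _ (lead_inj k), Matrix.det_mul, delta]
  · have h1 : (u.1.submatrix (lead k) (lead k)).det = 1 := by
      have hT : (u.1.submatrix (lead k) (lead k)).IsUpperTriangular := fun i j (h : j < i) =>
        U_below hu (Fin.lt_def.2 (by simpa using h))
      rw [Matrix.det_of_isUpperTriangular hT]
      simp [U_diag hu]
    rw [h1, mul_one]
  · intro l c hl
    exact U_below hu (lt_of_not_ge fun h => hl (mem_range_lead (h.trans (lead_le k c))))

theorem delta_cell {r s : SLn} (hr : r ∈ U F n) (hs : s ∈ U F n) (m : SLn) (k : Fin n) :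
    delta k (r * m * s : SLn).1 = delta k m.1 := by
  rw [Matrix.SpecialLinearGroup.coe_mul, Matrix.SpecialLinearGroup.coe_mul, delta_right hs, delta_left hr]

/-- The entries of an antidiagonal matrix. -/
def entry (a : Anti F n) (c : Fin n) : F := a.1.1 (Fin.rev c) c

theorem entry_ne (a : Anti F n) (c : Fin n) : entry a c ≠ 0 := a.2.entry_ne_zero (det_ne _) c

theorem anti_entry (a : Anti F n) (i j : Fin n) : a.1.1 i j = if i = Fin.rev j then entry a j else 0 := by
  split_ifs with h
  · subst h; rfl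
  · exact a.2 i j (by simpa using h)

theorem delta_anti (a : Anti F n) (k : Fin n) :
    delta k a.1.1 = ∏ c : Fin ((k : ℕ) + 1), entry a (lead k c) := by
  have h : a.1.1.submatrix (Fin.rev ∘ lead k) (lead k) = Matrix.diagonal fun c => entry a (lead k c) := by
    ext r c
    rw [Matrix.submatrix_apply, Function.comp_apply, anti_entry, Matrix.diagonal_apply]
    by_cases hrc : r = c
    · subst hrc; simp
    · simp [hrc]
  rw [delta, h, Matrix.det_diagonal]

theorem delta_anti_ne (a : Anti F n) (k : Fin n) : delta k a.1.1 ≠ 0 := by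
  rw [delta_anti]
  exact Finset.prod_ne_zero_iff.2 fun c _ => entry_ne a _

theorem exists_delta_zero {g : SLn} (hg : ¬ InCell g) : ∃ k : Fin n, (k : ℕ) + 1 < n ∧ delta k g.1 = 0 := by
  obtain ⟨r, hr, σ, m, hm, s, hs, rfl⟩ := exists_decomp g
  have hσ : σ ≠ Fin.revPerm := by
    rintro rfl
    exact hg ⟨r, hr, ⟨m, hm⟩, s, hs, rfl⟩
  classical
  have hex : (Finset.univ.filter fun c => σ c ≠ Fin.rev c).Nonempty := by
    by_contra h
    refine hσ (Equiv.ext fun c => ?_)
    by_contra hc
    exact h ⟨c, by simpa using hc⟩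
  set c := (Finset.univ.filter fun c => σ c ≠ Fin.rev c).min' hex
  have hc : σ c ≠ Fin.rev c := (Finset.mem_filter.1 (Finset.min'_mem _ hex)).2
  have hlow : ∀ d, d < c → σ d = Fin.rev d := by
    intro d hd
    by_contra h
    exact absurd (Finset.min'_le _ d (Finset.mem_filter.2 ⟨Finset.mem_univ _, h⟩)) (not_le.2 hd)
  have hlt : σ c < Fin.rev c := by
    refine lt_of_le_of_ne (le_of_not_gt fun h => ?_) hc
    have hd : Fin.rev (σ c) < c := Fin.rev_lt_iff.2 h
    have := hlow _ hd
    rw [Fin.rev_rev] at this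
    exact hd.ne (σ.injective this)
  refine ⟨c, ?_, ?_⟩
  · have := Fin.lt_def.1 hlt
    simp only [Fin.val_rev] at this
    omega
  rw [delta_cell hr hs, delta]
  refine Matrix.det_eq_zero_of_column_eq_zero ⟨c, by omega⟩ fun i => ?_
  rw [Matrix.submatrix_apply, Function.comp_apply, show lead c ⟨(c : ℕ), by omega⟩ = c from Fin.ext rfl]
  refine hm _ _ fun h => ?_
  exact absurd (Fin.rev_le_rev.2 (lead_le c i)) (not_le.2 (h ▸ hlt))

theorem anti_ext {a b : Anti F n} (h : ∀ k : Fin n, (k : ℕ) + 1 < n → delta k a.1.1 = delta k b.1.1) :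
    a = b := by
  classical
  have hlow : ∀ (j : ℕ) (hj : j + 1 < n), entry a ⟨j, by omega⟩ = entry b ⟨j, by omega⟩ := by
    intro j hj
    have hk := h ⟨j, by omega⟩ hj
    rw [delta_anti, delta_anti, Fin.prod_univ_castSucc, Fin.prod_univ_castSucc] at hk
    have hl : lead (⟨j, by omega⟩ : Fin n) (Fin.last j) = ⟨j, by omega⟩ := Fin.ext rfl
    rw [hl] at hk
    rcases j with _ | i
    · simpa using hk
    · have hk' := h ⟨i, by omega⟩ (by simp only; omega)
      rw [delta_anti, delta_anti] at hk'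
      have e : ∀ (x : Anti F n), (∏ t : Fin (i + 1), entry x (lead (⟨i + 1, by omega⟩ : Fin n) t.castSucc)) =
          ∏ t : Fin (i + 1), entry x (lead (⟨i, by omega⟩ : Fin n) t) := fun x =>
        Finset.prod_congr rfl fun t _ => congrArg (entry x) (Fin.ext rfl)
      rw [e, e, ← hk'] at hk
      exact mul_left_cancel₀ (Finset.prod_ne_zero_iff.2 fun t _ => entry_ne a _) hk
  have hdet : ∀ x : Anti F n, ∏ c, entry x c = ((Equiv.Perm.sign (Fin.revPerm : Equiv.Perm (Fin n)) : ℤ) : F) := by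
    intro x
    have h1 := Matrix.det_permute (Fin.revPerm : Equiv.Perm (Fin n)) x.1.1
    rw [x.1.2, mul_one] at h1
    rw [← h1]
    have h2 : x.1.1.submatrix (Fin.revPerm : Equiv.Perm (Fin n)) id = Matrix.diagonal (entry x) := by
      ext r c
      rw [Matrix.submatrix_apply, id, anti_entry, Matrix.diagonal_apply]
      by_cases hrc : r = c
      · subst hrc; simp
      · simp [hrc]
    rw [h2, Matrix.det_diagonal]
  have hall : ∀ c, entry a c = entry b c := by
    intro c
    by_cases hcn : (c : ℕ) + 1 < n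
    · exact hlow c hcn
    have h1 : ∏ t, entry a t = ∏ t, entry b t := (hdet a).trans (hdet b).symm
    rw [← Finset.mul_prod_erase _ _ (Finset.mem_univ c), ← Finset.mul_prod_erase _ _ (Finset.mem_univ c),
      Finset.prod_congr rfl (g := fun t => entry b t) fun t ht => ?_] at h1
    · exact mul_right_cancel₀ (Finset.prod_ne_zero_iff.2 fun t _ => entry_ne b t) h1
    · have := Fin.val_ne_of_ne (Finset.ne_of_mem_erase ht)
      have := c.isLt
      exact hlow t (by have := t.isLt; omega)
  refine Subtype.ext (Subtype.ext (Matrix.ext fun i j => ?_))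
  rw [anti_entry, anti_entry, hall]

theorem cell_iff (y : SLn) (a : Anti F n) :
    (∃ r ∈ U F n, ∃ s ∈ U F n, y = r * a.1 * s) ↔ ∀ k : Fin n, (k : ℕ) + 1 < n → delta k y.1 = delta k a.1.1 := by
  constructor
  · rintro ⟨r, hr, s, hs, rfl⟩ k _
    exact delta_cell hr hs a.1 k
  · intro h
    by_cases hy : InCell y
    · obtain ⟨r, hr, b, s, hs, rfl⟩ := hy
      have : b = a := anti_ext fun k hk => by rw [← h k hk, delta_cell hr hs]
      exact ⟨r, hr, s, hs, by rw [this]⟩
    · obtain ⟨k, hk, h0⟩ := exists_delta_zero hy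
      exact absurd (h0 ▸ h k hk).symm (delta_anti_ne a k)

theorem decomp_unique {r r' s s' : SLn} (hr : r ∈ U F n) (hr' : r' ∈ U F n) (hs : s ∈ U F n) (hs' : s' ∈ U F n)
    {a a' : Anti F n} (h : r * a.1 * s = r' * a'.1 * s') : r = r' ∧ a = a' ∧ s = s' := by
  have ha : a = a' := anti_ext fun k _ => by rw [← delta_cell hr hs, h, delta_cell hr' hs']
  subst ha
  have h1 : (r'⁻¹ * r) * a.1 = a.1 * (s' * s⁻¹) := by
    calc (r'⁻¹ * r) * a.1 = r'⁻¹ * (r * a.1 * s) * s⁻¹ := by group
      _ = _ := by rw [h]; group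
  set u := r'⁻¹ * r
  have hu : u ∈ U F n := mul_mem (inv_mem hr') hr
  have hw : s' * s⁻¹ ∈ U F n := mul_mem hs' (inv_mem hs)
  have hu1 : u = 1 := by
    refine Subtype.ext (Matrix.ext fun i j => ?_)
    rw [Matrix.SpecialLinearGroup.coe_one]
    rcases lt_trichotomy j i with hji | rfl | hij
    · rw [U_below hu hji, Matrix.one_apply_ne hji.ne']
    · rw [U_diag hu, Matrix.one_apply_eq]
    · rw [Matrix.one_apply_ne hij.ne]
      have h2 := congrArg (fun x : SLn => x.1 i (Fin.rev j)) h1
      simp only [Matrix.SpecialLinearGroup.coe_mul u a.1, Matrix.SpecialLinearGroup.coe_mul a.1 (s' * s⁻¹)] at h2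
      rw [a.2.apply_mul_perm, show i = Fin.revPerm (Fin.rev i) by simp, a.2.mul_apply_perm, U_below hw
        (Fin.rev_lt_rev.2 hij), mul_zero] at h2
      simp only [Fin.revPerm_apply, Fin.rev_rev] at h2
      exact (mul_eq_zero.1 h2).resolve_right (by simpa [Fin.revPerm_apply] using a.2.entry_ne_zero (det_ne _) (Fin.rev j))
  rw [hu1, one_mul] at h1
  exact ⟨(inv_mul_eq_one.1 hu1).symm, rfl, (mul_inv_eq_one.1 (mul_left_cancel (a := a.1) (by rw [mul_one]; exact h1.symm))).symm⟩

theorem delta_sandwich (g a : Anti F n) (s : SLn) (k : Fin n) :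
    delta k (g.1 * s * a.1).1 = (∏ c : Fin ((k : ℕ) + 1), g.1.1 (Fin.rev (lead k c)) (lead k c)) *
      corner k s.1 * ∏ c : Fin ((k : ℕ) + 1), entry a (lead k c) := by
  have h : (g.1 * s * a.1).1.submatrix (Fin.rev ∘ lead k) (lead k) =
      Matrix.diagonal (fun c => g.1.1 (Fin.rev (lead k c)) (lead k c)) *
        s.1.submatrix (lead k) (Fin.rev ∘ lead k) * Matrix.diagonal (fun c => entry a (lead k c)) := by
    ext r c
    rw [Matrix.submatrix_apply, Function.comp_apply, Matrix.SpecialLinearGroup.coe_mul,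
      Matrix.SpecialLinearGroup.coe_mul, a.2.apply_mul_perm,
      show Fin.rev (lead k r) = (Fin.revPerm : Equiv.Perm (Fin n)) (lead k r) from rfl, g.2.mul_apply_perm,
      Matrix.mul_diagonal, Matrix.diagonal_mul]
    rfl
  rw [delta, h, Matrix.det_mul, Matrix.det_mul, Matrix.det_diagonal, Matrix.det_diagonal, corner]

/-- The number of `s` with `g s a` in a given piece of the big cell does not depend on the three
antidiagonal matrices, modulo the characteristic. -/
theorem card_piece (g a b : Anti F n) :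
    (Nat.card {s : U F n // ∃ r ∈ U F n, ∃ t ∈ U F n, g.1 * s.1 * a.1 = r * b.1 * t} : F) =
      (Nat.card {u : U F n // ∀ k : Fin n, (k : ℕ) + 1 < n → corner k u.1.1 = 0} : F) := by
  refine Eq.trans ?_ (card_corner_congr (fun k => delta k b.1.1 /
    ((∏ c : Fin ((k : ℕ) + 1), g.1.1 (Fin.rev (lead k c)) (lead k c)) *
      ∏ c : Fin ((k : ℕ) + 1), entry a (lead k c))) fun _ => 0)
  refine congrArg Nat.cast (Nat.card_congr (Equiv.subtypeEquivRight fun s => ?_))
  rw [cell_iff]
  refine forall₂_congr fun k _ => ?_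
  have h1 : (∏ c : Fin ((k : ℕ) + 1), g.1.1 (Fin.rev (lead k c)) (lead k c)) ≠ 0 :=
    Finset.prod_ne_zero_iff.2 fun c _ => entry_ne g _
  have h2 : (∏ c : Fin ((k : ℕ) + 1), entry a (lead k c)) ≠ 0 := Finset.prod_ne_zero_iff.2 fun c _ => entry_ne a _
  rw [delta_sandwich, eq_div_iff (mul_ne_zero h1 h2)]
  constructor <;> intro h <;> rw [← h] <;> ring

end CfsgLib.PGroup.SLBigCell
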