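import Cfsg.Agent.Lib.PGroup.SLDefectZero
import Cfsg.Agent.Lib.Blocks.FirstMain
import Cfsg.Agent.Lib.Blocks.NormalSylow

/-!
The blocks of `SL_n` over a finite field in the defining characteristic: one of defect zero, the others of
full defect and in bijection with the centre.
-/

set_option autoImplicit false
set_option linter.unusedSectionVars false
set_option linter.style.haveILetI false

namespace CfsgLib.PGroup.SLBlocks

open Cfsg CfsgLib.Blocks CfsgLib.PGroup.UnitriangularSL CfsgLib.PGroup.SLDefectZero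
open scoped Classical

variable {F : Type*} [Field F] [Fintype F] {n p : ℕ} [Fact p.Prime] [CharP F p]

local notation "SLn" => Matrix.SpecialLinearGroup (Fin n) F
local notation "Vn" => (Fin n → F)

/-- The unipotent elements acting trivially on `W` and on the quotient by `W`. -/
def rad (W : Submodule F Vn) : Subgroup SLn :=
  let S : Submonoid SLn :=
    { carrier := {u | (∀ x : Vn, (u.1 - 1).mulVec x ∈ W) ∧ ∀ w ∈ W, (u.1 - 1).mulVec w = 0}
      one_mem' := ⟨fun x => by simp, fun w _ => by simp⟩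
      mul_mem' := fun {u v} hu hv => by
        have e : ∀ x : Vn, ((u * v).1 - 1).mulVec x =
            (u.1 - 1).mulVec ((v.1 - 1).mulVec x) + (u.1 - 1).mulVec x + (v.1 - 1).mulVec x := by
          intro x
          rw [Matrix.SpecialLinearGroup.coe_mul, Matrix.mulVec_mulVec, ← Matrix.add_mulVec, ← Matrix.add_mulVec]
          congr 1
          noncomm_ring
        refine ⟨fun x => ?_, fun w hw => ?_⟩
        · rw [e, hu.2 _ (hv.1 x), zero_add]
          exact add_mem (hu.1 x) (hv.1 x)
        · rw [e, hu.2 _ (hv.1 w), hu.2 w hw, hv.2 w hw, add_zero, add_zero] }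
  { S with
    inv_mem' := fun {u} hu => by
      have hf : IsOfFinOrder u := isOfFinOrder_of_finite u
      have e : u⁻¹ = u ^ (orderOf u - 1) := by
        rw [inv_eq_iff_mul_eq_one, ← pow_succ', Nat.sub_add_cancel hf.orderOf_pos, pow_orderOf_eq_one]
      rw [e]
      exact pow_mem (show u ∈ S from hu) _ }

theorem mem_rad {W : Submodule F Vn} {u : SLn} :
    u ∈ rad W ↔ (∀ x : Vn, (u.1 - 1).mulVec x ∈ W) ∧ ∀ w ∈ W, (u.1 - 1).mulVec w = 0 := Iff.rfl

theorem rad_sq {W : Submodule F Vn} {u : SLn} (hu : u ∈ rad W) : (u.1 - 1) * (u.1 - 1) = 0 :=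
  Matrix.toLin'.injective (LinearMap.ext fun x => by
    simp only [Matrix.toLin'_apply, ← Matrix.mulVec_mulVec, hu.2 _ (hu.1 x), map_zero, LinearMap.zero_apply])

theorem isPGroup_rad (W : Submodule F Vn) : IsPGroup p (rad W) := by
  rintro ⟨u, hu⟩
  refine ⟨1, Subtype.ext (Subtype.ext ?_)⟩
  rcases Nat.eq_zero_or_pos n with rfl | hn
  · exact Matrix.ext fun i => i.elim0
  haveI : Nonempty (Fin n) := ⟨⟨0, hn⟩⟩
  have h := rad_sq hu
  rw [pow_one]
  show (u ^ p : SLn).1 = (1 : SLn).1
  rw [Matrix.SpecialLinearGroup.coe_pow, Matrix.SpecialLinearGroup.coe_one,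
    show u.1 = 1 + (u.1 - 1) by abel, add_pow_char_of_commute (p := p) (Commute.one_left _),
    one_pow, add_eq_left]
  obtain ⟨c, hc⟩ := Nat.exists_eq_add_of_le (Fact.out : p.Prime).two_le
  rw [hc, pow_add, sq, h, zero_mul]

theorem conj_rad {W : Submodule F Vn} {h u : SLn} (hu : u ∈ rad W) (h1 : ∀ w ∈ W, h.1.mulVec w ∈ W)
    (h2 : ∀ w ∈ W, (h⁻¹ : SLn).1.mulVec w ∈ W) : h * u * h⁻¹ ∈ rad W := by
  have e : ∀ x : Vn, ((h * u * h⁻¹ : SLn).1 - 1).mulVec x = h.1.mulVec ((u.1 - 1).mulVec ((h⁻¹ : SLn).1.mulVec x)) := by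
    intro x
    have hh : h.1 * (h⁻¹ : SLn).1 = 1 := by
      rw [← Matrix.SpecialLinearGroup.coe_mul, mul_inv_cancel, Matrix.SpecialLinearGroup.coe_one]
    rw [Matrix.mulVec_mulVec, Matrix.mulVec_mulVec, Matrix.SpecialLinearGroup.coe_mul,
      Matrix.SpecialLinearGroup.coe_mul, mul_sub, mul_one, sub_mul, hh]
  exact mem_rad.2 ⟨fun x => by rw [e]; exact h1 _ (hu.1 _),
    fun w hw => by rw [e, hu.2 _ (h2 w hw), Matrix.mulVec_zero]⟩

/-- The element `1 + a bᵗ`. -/
noncomputable def mkRad {W : Submodule F Vn} {a b : Vn} (ha : a ∈ W) (hb : ∀ w ∈ W, dotProduct b w = 0) : SLn :=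
  ⟨1 + Matrix.vecMulVec a b, by
    rw [Matrix.vecMulVec_eq Unit, Matrix.det_one_add_replicateCol_mul_replicateRow, hb a ha, add_zero]⟩

theorem mkRad_mem {W : Submodule F Vn} {a b : Vn} (ha : a ∈ W) (hb : ∀ w ∈ W, dotProduct b w = 0) :
    mkRad ha hb ∈ rad W := by
  refine mem_rad.2 ⟨fun x => ?_, fun w hw => ?_⟩
  · show ((1 + Matrix.vecMulVec a b) - 1).mulVec x ∈ W
    rw [add_sub_cancel_left, Matrix.vecMulVec_mulVec, op_smul_eq_smul]
    exact W.smul_mem _ ha
  · show ((1 + Matrix.vecMulVec a b) - 1).mulVec w = 0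
    rw [add_sub_cancel_left, Matrix.vecMulVec_mulVec, hb w hw, MulOpposite.op_zero, zero_smul]

theorem not_dvd_card_sub_one : ¬ p ∣ Fintype.card F - 1 := by
  intro h
  have hq : p ∣ Fintype.card F := (CharP.cast_eq_zero_iff F p _).1 (FiniteField.cast_card_eq_zero F)
  have := Nat.dvd_sub hq h
  rw [Nat.sub_sub_self Fintype.card_pos] at this
  exact (Fact.out : p.Prime).not_dvd_one this

theorem not_dvd_orderOf_center {z : SLn} (hz : z ∈ Subgroup.center SLn) : ¬ p ∣ orderOf z := by
  obtain ⟨r, hr, hrz⟩ := Matrix.SpecialLinearGroup.mem_center_iff.1 hz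
  intro h
  refine not_dvd_card_sub_one (F := F) (p := p) (h.trans (orderOf_dvd_of_pow_eq_one (Subtype.ext ?_)))
  rcases Nat.eq_zero_or_pos n with rfl | hn
  · exact Matrix.ext fun i => i.elim0
  have hr0 : r ≠ 0 := fun h0 => by
    rw [h0, Fintype.card_fin, zero_pow (by omega)] at hr
    exact zero_ne_one hr
  rw [Matrix.SpecialLinearGroup.coe_pow, ← hrz, ← map_pow, FiniteField.pow_card_sub_one_eq_one r hr0, map_one,
    Matrix.SpecialLinearGroup.coe_one]

/-- A regular element commuting with the radical of a proper nonzero subspace is a scalar. -/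
theorem mem_center_of_commute {g : SLn} (hg : ¬ p ∣ orderOf g) {W : Submodule F Vn} (hW0 : W ≠ ⊥) (hW1 : W ≠ ⊤)
    (hc : ∀ u ∈ rad W, Commute g u) : g ∈ Subgroup.center SLn := by
  obtain ⟨a₀, ha₀, ha₀0⟩ := Submodule.exists_mem_ne_zero_of_ne_bot hW0
  have hsep : ∀ z : Vn, z ∉ W → ∃ b : Vn, (∀ w ∈ W, dotProduct b w = 0) ∧ dotProduct b z ≠ 0 := by
    intro z hz
    obtain ⟨φ, hφ, hW⟩ := Submodule.exists_dual_map_eq_bot_of_notMem hz inferInstance
    have e : ∀ x : Vn, dotProduct (fun i => φ (Pi.single i 1)) x = φ x := by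
      intro x
      conv_rhs => rw [pi_eq_sum_univ' x, map_sum]
      exact Finset.sum_congr rfl fun i _ => by rw [map_smul, smul_eq_mul, mul_comm]
    refine ⟨fun i => φ (Pi.single i 1), fun w hw => ?_, by rwa [e]⟩
    rw [e]
    exact (Submodule.mem_bot F).1 (hW ▸ Submodule.mem_map_of_mem hw)
  obtain ⟨z, hz⟩ : ∃ z, z ∉ W := by
    by_contra h
    push Not at h
    exact hW1 (eq_top_iff.2 fun x _ => h x)
  obtain ⟨b₀, hb₀, hb₀z⟩ := hsep z hz
  obtain ⟨j₀, hj₀⟩ : ∃ j, b₀ j ≠ 0 := by
    by_contra h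
    push Not at h
    exact hb₀z (Finset.sum_eq_zero fun i _ => by rw [h i, zero_mul])
  obtain ⟨i₀, hi₀⟩ : ∃ i, a₀ i ≠ 0 := Function.ne_iff.1 ha₀0
  have key : ∀ a ∈ W, ∀ b : Vn, (∀ w ∈ W, dotProduct b w = 0) → ∀ i j,
      g.1.mulVec a i * b j = a i * Matrix.vecMul b g.1 j := by
    intro a ha b hb i j
    have h1 := congrArg (fun x : SLn => x.1 i j) (hc _ (mkRad_mem ha hb)).eq
    simp only [Matrix.SpecialLinearGroup.coe_mul] at h1
    rw [show (mkRad ha hb).1 = 1 + Matrix.vecMulVec a b from rfl, Matrix.mul_add, Matrix.add_mul, mul_one, one_mul,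
      Matrix.mul_vecMulVec, Matrix.vecMulVec_mul] at h1
    simpa [Matrix.vecMulVec_apply] using h1
  set lam := Matrix.vecMul b₀ g.1 j₀ / b₀ j₀
  have hW : ∀ a ∈ W, g.1.mulVec a = lam • a := by
    intro a ha
    funext i
    have := key a ha b₀ hb₀ i j₀
    simp only [Pi.smul_apply, smul_eq_mul, lam]
    field_simp
    linear_combination this
  have hWd : ∀ b : Vn, (∀ w ∈ W, dotProduct b w = 0) → Matrix.vecMul b g.1 = lam • b := by
    intro b hb
    funext j
    have := key a₀ ha₀ b hb i₀ j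
    rw [hW a₀ ha₀, Pi.smul_apply, smul_eq_mul] at this
    rw [Pi.smul_apply, smul_eq_mul]
    exact mul_left_cancel₀ hi₀ (by linear_combination -this)
  set N := g.1 - lam • (1 : Matrix (Fin n) (Fin n) F)
  have hNW : ∀ w ∈ W, N.mulVec w = 0 := fun w hw => by
    simp only [N, Matrix.sub_mulVec, Matrix.smul_mulVec, Matrix.one_mulVec, hW w hw, sub_self]
  have hNV : ∀ x, N.mulVec x ∈ W := by
    intro x
    by_contra h
    obtain ⟨b, hb, hbx⟩ := hsep _ h
    refine hbx ?_
    simp only [N, Matrix.dotProduct_mulVec, Matrix.vecMul_sub, Matrix.vecMul_smul, Matrix.vecMul_one, hWd b hb,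
      sub_self, zero_dotProduct]
  have hN2 : N * N = 0 := Matrix.toLin'.injective (LinearMap.ext fun x => by
    simp only [Matrix.toLin'_apply, ← Matrix.mulVec_mulVec, hNW _ (hNV x), map_zero, LinearMap.zero_apply])
  haveI : Nonempty (Fin n) := ⟨i₀⟩
  have hgp : g.1 ^ p = Matrix.scalar (Fin n) (lam ^ p) := by
    have h1 : N ^ p = 0 := by
      obtain ⟨c, hc⟩ := Nat.exists_eq_add_of_le (Fact.out : p.Prime).two_le
      rw [hc, pow_add, sq, hN2, zero_mul]
    rw [sub_pow_char_of_commute (p := p) ((Commute.one_right _).smul_right lam), sub_eq_zero,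
      smul_pow, one_pow] at h1
    rw [h1, Matrix.scalar_apply, Matrix.smul_one_eq_diagonal]
  have hz : g ^ p ∈ Subgroup.center SLn := by
    refine Subgroup.mem_center_iff.2 fun x => Subtype.ext ?_
    rw [Matrix.SpecialLinearGroup.coe_mul, Matrix.SpecialLinearGroup.coe_mul, Matrix.SpecialLinearGroup.coe_pow, hgp]
    exact (Matrix.scalar_commute (lam ^ p) (fun r => Commute.all _ r) x.1).eq.symm
  obtain ⟨k, hk⟩ := exists_pow_eq_self_of_coprime ((Fact.out : p.Prime).coprime_iff_not_dvd.2 hg)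
  rw [← hk]
  exact pow_mem hz k

theorem centExp_center {X : Type*} [Group X] [Finite X] {z : X} (hz : z ∈ Subgroup.center X) :
    centExp p z = (Nat.card X).factorization p := by
  have h : Subgroup.centralizer ({z} : Set X) = ⊤ := eq_top_iff.2 fun x _ =>
    Subgroup.mem_centralizer_singleton_iff.2 (Subgroup.mem_center_iff.1 hz x)
  rw [centExp, h, Subgroup.card_top]

variable [Fintype (Matrix.SpecialLinearGroup (Fin n) F)] {M : Ideal AlgInt}

noncomputable local instance instFintypeUB : Fintype (U F n) := Fintype.ofFinite _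

/-- A block of positive defect has full defect. -/
theorem full_defect (hM : IsPModular p M) {B : Set (IrrCharacter SLn)} (hB : IsPBlock M B)
    (h0 : blockDefect p B ≠ 0) : blockDefect p B = (Nat.card SLn).factorization p := by
  obtain ⟨D, hD⟩ := exists_isDefectGroup hM hB
  have hDp : IsPGroup p D := isPGroup_defectGroup hD
  have hcardD := card_defectGroup hM hB hD
  obtain ⟨c, hcD, hcl⟩ := exists_unit_coeff_centralizer hM hD
  have hreg := isPRegular_of_not_LI hM hB hcl.2.1
  rw [← centExp_eq_of_isDefectClass hM hB hcl]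
  refine centExp_center (mem_center_of_commute hreg (W := ?_) ?_ ?_ ?_)
  · exact { carrier := {v | ∀ d ∈ D, d.1.mulVec v = v}
            add_mem' := fun {a b} ha hb d hd => by rw [Matrix.mulVec_add, ha d hd, hb d hd]
            zero_mem' := fun d _ => Matrix.mulVec_zero _
            smul_mem' := fun c v hv d hd => by rw [Matrix.mulVec_smul, hv d hd] }
  · -- fixed points of a `p`-group
    intro hbot
    letI : MulAction D Vn :=
      { smul := fun d v => d.1.1.mulVec v
        one_smul := fun v => by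
          show ((1 : D) : SLn).1.mulVec v = v
          rw [Subgroup.coe_one, Matrix.SpecialLinearGroup.coe_one, Matrix.one_mulVec]
        mul_smul := fun d e v => by
          show ((d * e : D) : SLn).1.mulVec v = d.1.1.mulVec (e.1.1.mulVec v)
          rw [Subgroup.coe_mul, Matrix.SpecialLinearGroup.coe_mul, Matrix.mulVec_mulVec] }
    have hn : 0 < n := by
      by_contra h
      have hn0 : n = 0 := by omega
      subst hn0
      haveI : Subsingleton (Matrix.SpecialLinearGroup (Fin 0) F) :=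
        ⟨fun a b => Subtype.ext (Matrix.ext fun i => i.elim0)⟩
      rw [Subgroup.card_eq_one.2 (Subsingleton.elim D ⊥)] at hcardD
      exact h0 (Nat.pow_right_injective (Fact.out : p.Prime).two_le (by simpa using hcardD.symm))
    have hdvd : p ∣ Nat.card Vn := by
      rw [Nat.card_eq_fintype_card, Fintype.card_fun, Fintype.card_fin]
      exact dvd_pow ((CharP.cast_eq_zero_iff F p _).1 (FiniteField.cast_card_eq_zero F)) (by omega)
    obtain ⟨v, hv, hne⟩ := hDp.exists_fixed_point_of_prime_dvd_card_of_fixed_point Vn hdvd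
      (a := 0) (fun d => Matrix.mulVec_zero _)
    exact hne ((Submodule.mem_bot F).1 (hbot ▸ (fun d hd => hv ⟨d, hd⟩ : _))).symm
  · intro htop
    refine h0 (Nat.pow_right_injective (Fact.out : p.Prime).two_le ?_)
    show p ^ blockDefect p B = p ^ 0
    rw [← hcardD, pow_zero, Subgroup.card_eq_one, Subgroup.eq_bot_iff_forall]
    intro d hd
    refine Subtype.ext (Matrix.toLin'.injective (LinearMap.ext fun x => ?_))
    simp only [Matrix.toLin'_apply, Matrix.SpecialLinearGroup.coe_one, Matrix.one_mulVec]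
    have hx := Submodule.mem_top (R := F) (x := x)
    rw [← htop] at hx
    exact hx d hd
  · intro u hu
    refine (Subgroup.mem_centralizer_iff.1 hcD u ?_).symm
    -- the radical lies in the defect group
    set W : Submodule F Vn :=
      { carrier := {v | ∀ d ∈ D, d.1.mulVec v = v}
        add_mem' := fun {a b} ha hb d hd => by rw [Matrix.mulVec_add, ha d hd, hb d hd]
        zero_mem' := fun d _ => Matrix.mulVec_zero _
        smul_mem' := fun c v hv d hd => by rw [Matrix.mulVec_smul, hv d hd] }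
    have hinvW : ∀ h ∈ Subgroup.normalizer (D : Set SLn), ∀ w ∈ W, h.1.mulVec w ∈ W := by
      intro h hh w hw d hd
      have h1 : h⁻¹ * d * h ∈ D := by
        have := (Subgroup.mem_normalizer_iff.1 (inv_mem hh) d).1 hd
        rwa [inv_inv] at this
      calc d.1.mulVec (h.1.mulVec w) = (h * (h⁻¹ * d * h) : SLn).1.mulVec w := by
            rw [Matrix.mulVec_mulVec, ← Matrix.SpecialLinearGroup.coe_mul, show h * (h⁻¹ * d * h) = d * h by group]
        _ = h.1.mulVec w := by rw [Matrix.SpecialLinearGroup.coe_mul, ← Matrix.mulVec_mulVec, hw _ h1]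
    have hradN : ∀ h ∈ Subgroup.normalizer (D : Set SLn), ∀ x ∈ rad W, h * x * h⁻¹ ∈ rad W :=
      fun h hh x hx => conj_rad hx (hinvW h hh) (hinvW h⁻¹ (inv_mem hh))
    set T : Subgroup SLn := D ⊔ rad W
    have hT : IsPGroup p T := by
      refine hDp.to_sup_of_normal_right' (isPGroup_rad W) fun d hd => ?_
      refine Subgroup.mem_normalizer_iff.2 fun x => ⟨hradN d (Subgroup.le_normalizer hd) x, fun hx => ?_⟩
      have := hradN d⁻¹ (inv_mem (Subgroup.le_normalizer hd)) _ hx
      simpa [mul_assoc] using this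
    have hTN : ∀ h ∈ Subgroup.normalizer (D : Set SLn), ∀ x ∈ T, h * x * h⁻¹ ∈ T := by
      intro h hh
      have : T ≤ T.comap (MulAut.conj h).toMonoidHom := sup_le
        (fun x hx => Subgroup.mem_sup_left ((Subgroup.mem_normalizer_iff.1 hh x).1 hx))
        (fun x hx => Subgroup.mem_sup_right (hradN h hh x hx))
      exact fun x hx => this hx
    have hQ : T ⊓ Subgroup.normalizer (D : Set SLn) = D := by
      refine le_defectGroup_of_normalizer hM hB hD (hT.to_le inf_le_left) (le_inf le_sup_left Subgroup.le_normalizer)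
        inf_le_right fun h hh => Subgroup.mem_normalizer_iff.2 fun x => ⟨fun hx => ?_, fun hx => ?_⟩
      · exact ⟨hTN h hh x hx.1,
          (Subgroup.normalizer (D : Set SLn)).mul_mem ((Subgroup.normalizer (D : Set SLn)).mul_mem hh hx.2)
            ((Subgroup.normalizer (D : Set SLn)).inv_mem hh)⟩
      · have h1 := hTN h⁻¹ (inv_mem hh) _ hx.1
        have h2 := (Subgroup.normalizer (D : Set SLn)).mul_mem
          ((Subgroup.normalizer (D : Set SLn)).mul_mem ((Subgroup.normalizer (D : Set SLn)).inv_mem hh) hx.2) hh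
        simp only [mul_assoc, inv_inv, inv_mul_cancel_left, inv_mul_cancel, mul_one] at h1 h2
        exact ⟨h1, h2⟩
    have hTD : T ≤ D := by
      by_contra hne
      haveI : Group.IsNilpotent T := hT.isNilpotent
      have hlt : D.subgroupOf T < ⊤ := lt_top_iff_ne_top.2 fun h => hne (Subgroup.subgroupOf_eq_top.1 h)
      obtain ⟨x, hxN, hxD⟩ := SetLike.exists_of_lt (Group.normalizerCondition_of_isNilpotent _ hlt)
      refine hxD (show (x : SLn) ∈ D from ?_)
      rw [← hQ]
      refine ⟨x.2, Subgroup.mem_normalizer_iff.2 fun d => ⟨fun hd => ?_, fun hd => ?_⟩⟩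
      · exact (Subgroup.mem_normalizer_iff.1 hxN ⟨d, le_sup_left (b := rad W) hd⟩).1 hd
      · have hdT : d ∈ T := by
          have h := mul_mem (mul_mem (inv_mem x.2) (le_sup_left (b := rad W) hd)) x.2
          simpa [mul_assoc] using h
        exact (Subgroup.mem_normalizer_iff.1 hxN ⟨d, hdT⟩).2 hd
    exact hTD (Subgroup.mem_sup_right hu)

theorem exists_defectZero (hn : 2 ≤ n) : ∃ χ : IrrCharacter SLn, DZ (p := p) χ := by
  haveI : Fintype (SteinbergSL.N F n) := Fintype.ofFinite _
  obtain ⟨P, hP⟩ := CfsgLib.PGroup.FusionPSL.exists_sylow (F := F) (n := n) (p := p) (π := MonoidHom.id SLn)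
    Function.surjective_id
  obtain ⟨χ, hχ, hP'⟩ := SteinbergModule.exists_char SteinbergSL.splitData (π := MonoidHom.id SLn)
    Function.surjective_id (fun z hz g => by
      rw [MonoidHom.mem_ker, MonoidHom.id_apply] at hz
      rw [hz, mul_one, inv_mul_cancel]
      exact one_mem _) P hP
  refine ⟨⟨χ, hχ⟩, ?_⟩
  have h1 := (hP' P).1
  have h2 : charDegree χ = p ^ (Nat.card SLn).factorization p := by
    rw [charDegree, h1, Complex.natCast_re, Nat.floor_natCast]
    exact P.card_eq_multiplicity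
  show (charDegree χ).factorization p = _
  rw [h2, Nat.Prime.factorization_pow Fact.out, Finsupp.single_eq_same]

theorem card_zero (hM : IsPModular p M) (hn : 2 ≤ n) :
    Nat.card {B : Set (IrrCharacter SLn) // IsPBlock M B ∧ blockDefect p B = 0} = 1 := by
  obtain ⟨χ, hχ⟩ := exists_defectZero (F := F) (p := p) hn
  have hmem : ∀ B : Set (IrrCharacter SLn), IsPBlock M B → blockDefect p B = 0 → B = {χ} := by
    intro B hB h0
    obtain ⟨ψ, hψ⟩ := IsPBlock.nonempty hM hB
    have h1 := blockDefect_add_min (p := p) (IsPBlock.nonempty hM hB)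
    have h2 := minDegVal_le (p := p) hψ
    have h3 := degVal_le (p := p) ψ
    have hψ0 : DZ (p := p) ψ := by show degVal p ψ = _; omega
    rw [IsPBlock.eq_blockOf hM hB hψ, (blockOf_eq_singleton_iff hM ψ).2 hψ0, defectZero_unique hM hψ0 hχ]
  rw [Nat.card_eq_one_iff_exists]
  refine ⟨⟨{χ}, isPBlock_single hM hχ, ?_⟩, fun B => Subtype.ext (hmem B.1 B.2.1 B.2.2)⟩
  rw [blockDefect_eq, minDegVal, Set.image_singleton, csInf_singleton]
  exact Nat.sub_eq_zero_of_le (le_of_eq hχ.symm)

theorem card_full (hM : IsPModular p M) (hn : 2 ≤ n) :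
    Nat.card {B : Set (IrrCharacter SLn) // IsPBlock M B ∧ blockDefect p B = (Nat.card SLn).factorization p}
      = Nat.card (Subgroup.center SLn) := by
  set a := (Nat.card SLn).factorization p
  set N := Subgroup.normalizer ((U F n : Subgroup SLn) : Set SLn)
  haveI : Fintype N := Fintype.ofFinite _
  have hU : IsPGroup p (U F n) := U_isPGroup p
  have hUN : U F n ≤ N := Subgroup.le_normalizer
  set U' := (U F n).subgroupOf N
  have hU' : IsPGroup p U' := hU.of_injective (Subgroup.subgroupOfEquivOfLe hUN).toMonoidHom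
    (Subgroup.subgroupOfEquivOfLe hUN).injective
  haveI : U'.Normal := CfsgLib.Blocks.normal_subgroupOf_of_le_normalizer hUN le_rfl
  have hcardU' : Nat.card U' = p ^ a :=
    (Nat.card_congr (Subgroup.subgroupOfEquivOfLe hUN).toEquiv).trans card_U
  have hNa : (Nat.card N).factorization p ≤ a :=
    (Nat.factorization_le_iff_dvd Nat.card_pos.ne' Nat.card_pos.ne').2 (Subgroup.card_subgroup_dvd_card N) p
  have hidx : ¬ p ∣ U'.index := by
    intro h
    have h1 : p ^ (a + 1) ∣ Nat.card N := by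
      rw [← Subgroup.card_mul_index U', hcardU', pow_succ]
      exact Nat.mul_dvd_mul_left _ h
    have := (hM.1.pow_dvd_iff_le_factorization Nat.card_pos.ne').1 h1
    omega
  have hbD : ∀ b : Set (IrrCharacter N), IsPBlock M b → IsDefectGroup p M b U' := by
    intro b hb
    obtain ⟨E, hE⟩ := exists_isDefectGroup hM hb
    have hle := le_defectGroup_of_normal hM hb hU' hE
    rwa [Subgroup.eq_of_le_of_card_ge hle ?_]
    obtain ⟨j, hj⟩ := IsPGroup.iff_card.1 (isPGroup_defectGroup hE)
    rw [hcardU', hj]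
    refine Nat.pow_le_pow_right hM.1.pos (le_trans ?_ hNa)
    exact (hM.1.pow_dvd_iff_le_factorization Nat.card_pos.ne').1 (hj ▸ Subgroup.card_subgroup_dvd_card E)
  have hexB : ∀ b : {b : Set (IrrCharacter N) // IsPBlock M b}, ∃ B : Set (IrrCharacter SLn),
      IsPBlock M B ∧ blockDefect p B = a ∧ IsInducedBlock M N b.1 B := by
    intro b
    obtain ⟨B, hind⟩ := exists_isInducedBlock_local hM hU hUN (centralizer_le_normalizer _) le_rfl b.2
    have hD := isDefectGroup_of_induced_normalizer hM hU (hbD b.1 b.2) hind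
    refine ⟨B, hind.2.1, ?_, hind⟩
    exact Nat.pow_right_injective hM.1.two_le ((card_defectGroup hM hind.2.1 hD).symm.trans card_U)
  choose f hf1 hf2 hf3 using hexB
  have hBU : ∀ B : Set (IrrCharacter SLn), IsPBlock M B → blockDefect p B = a → IsDefectGroup p M B (U F n) := by
    intro B hB hBa
    obtain ⟨D, hD⟩ := exists_isDefectGroup hM hB
    obtain ⟨P, hP⟩ := CfsgLib.PGroup.FusionPSL.exists_sylow (F := F) (n := n) (p := p) (π := MonoidHom.id SLn)
      Function.surjective_id
    rw [Subgroup.map_id] at hP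
    obtain ⟨Q, hQ⟩ := (isPGroup_defectGroup hD).exists_le_sylow
    have hQD : D = (Q : Subgroup SLn) := Subgroup.eq_of_le_of_card_ge hQ (by
      rw [card_defectGroup hM hB hD, hBa, Q.card_eq_multiplicity])
    obtain ⟨y, hy⟩ := MulAction.exists_smul_eq SLn Q P
    rw [← hP, ← hy, Sylow.coe_subgroup_smul, ← hQD]
    exact isDefectGroup_conj hD y
  have e1 : Nat.card {B : Set (IrrCharacter SLn) // IsPBlock M B ∧ blockDefect p B = a} =
      Nat.card {b : Set (IrrCharacter N) // IsPBlock M b} := by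
    refine (Nat.card_eq_of_bijective (fun b => ⟨f b, hf1 b, hf2 b⟩) ⟨fun b b' h => ?_, fun B => ?_⟩).symm
    · have h' : f b = f b' := congrArg Subtype.val h
      exact Subtype.ext ((existsUnique_correspondent hM (hf1 b) (hBU _ (hf1 b) (hf2 b))).unique
        ⟨b.2, hbD _ b.2, hf3 b⟩ ⟨b'.2, hbD _ b'.2, h' ▸ hf3 b'⟩)
    · obtain ⟨b, ⟨hb, -, hind⟩, -⟩ := existsUnique_correspondent hM B.2.1 (hBU _ B.2.1 B.2.2)
      exact ⟨⟨b, hb⟩, Subtype.ext (IsInducedBlock.unique hM (hf3 ⟨b, hb⟩) hind)⟩
  rw [e1, card_blocks_of_normal_sylow hM hU' hidx]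
  have hzN : ∀ z : Subgroup.center SLn, (z : SLn) ∈ N := fun z => Subgroup.mem_normalizer_iff.2 fun u => by
    rw [← Subgroup.mem_center_iff.1 z.2 u, mul_inv_cancel_right]
  have hzc : ∀ (z : Subgroup.center SLn) (m : N), Commute m ⟨z, hzN z⟩ := fun z m =>
    Subtype.ext (Subgroup.mem_center_iff.1 z.2 m)
  refine (Nat.card_eq_of_bijective (fun z : Subgroup.center SLn => (⟨ConjClasses.mk ⟨z, hzN z⟩, fun m hm => ?_⟩ :
    {C : ConjClasses N // ∀ m : N, ConjClasses.mk m = C → ¬ p ∣ orderOf m ∧
      m ∈ Subgroup.centralizer (U' : Set N)})) ⟨fun z z' h => ?_, fun C => ?_⟩).symm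
  · obtain ⟨w, hw⟩ := isConj_iff.1 (ConjClasses.mk_eq_mk_iff_isConj.1 hm.symm)
    rw [(hzc z w).eq, mul_inv_cancel_right] at hw
    subst hw
    refine ⟨?_, Subgroup.mem_centralizer_iff.2 fun u _ => hzc z u⟩
    rw [Subgroup.orderOf_mk]
    exact not_dvd_orderOf_center z.2
  · obtain ⟨w, hw⟩ := isConj_iff.1 (ConjClasses.mk_eq_mk_iff_isConj.1 (congrArg Subtype.val h))
    rw [(hzc z w).eq, mul_inv_cancel_right] at hw
    exact Subtype.ext (congrArg Subtype.val hw :)
  · obtain ⟨m, hm⟩ := ConjClasses.mk_surjective C.1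
    obtain ⟨hreg, hcent⟩ := C.2 m hm
    let o : Fin n := ⟨0, by omega⟩
    let o' : Fin n := ⟨1, by omega⟩
    refine ⟨⟨m, mem_center_of_commute (p := p) (by rwa [Subgroup.orderOf_coe])
      (W := Submodule.span F {(Pi.single o 1 : Vn)}) (by simp) (fun h => ?_) fun u hu => ?_⟩, Subtype.ext hm⟩
    · obtain ⟨c, hc⟩ := Submodule.mem_span_singleton.1 (h ▸ Submodule.mem_top : (Pi.single o' 1 : Vn) ∈ _)
      have := congrFun hc o'
      simp [o, o', Fin.ext_iff] at this
    · have huU : u ∈ U F n := by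
        refine mem_U.2 fun i j hij => ?_
        have hcol := mem_rad.1 hu
        obtain ⟨c, hc⟩ := Submodule.mem_span_singleton.1 (hcol.1 (Pi.single j 1))
        have h1 := congrFun hc i
        rw [Matrix.mulVec_single_one, Matrix.col_apply] at h1
        rw [← h1]
        by_cases hi : i = o
        · subst hi
          have hj : j = o := Fin.ext (by simp only [o] at hij ⊢; omega)
          subst hj
          have h2 := congrFun (hcol.2 _ (Submodule.mem_span_singleton_self _)) o
          rw [Matrix.mulVec_single_one, Matrix.col_apply, Pi.zero_apply] at h2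
          rw [h1, h2]
        · simp [hi]
      exact congrArg Subtype.val (Subgroup.mem_centralizer_iff.1 hcent ⟨u, hUN huU⟩ huU).symm

theorem card_center_zmod (q : ℕ) [Fact q.Prime] (m : ℕ) (hm : 0 < m) :
    Nat.card (Subgroup.center (Matrix.SpecialLinearGroup (Fin m) (ZMod q))) = Nat.gcd m (q - 1) := by
  rw [Nat.card_congr (Matrix.SpecialLinearGroup.center_equiv_rootsOfUnity' (⟨0, hm⟩ : Fin m)).toEquiv,
    Fintype.card_fin]
  have h : rootsOfUnity m (ZMod q) = (powMonoidHom m : (ZMod q)ˣ →* (ZMod q)ˣ).ker := by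
    ext x; simp [mem_rootsOfUnity]
  rw [h, IsCyclic.card_powMonoidHom_ker, Nat.card_units, Nat.card_zmod, Nat.gcd_comm]

end CfsgLib.PGroup.SLBlocks
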