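import Cfsg.Agent.Lib.PGroup.SLBigCell
import Cfsg.Agent.Lib.Blocks.DefectCount
import Cfsg.Agent.Lib.PGroup.FusionPSL

/-!
`SL_n` over a finite field has at most one character of defect zero in its defining characteristic.
-/

set_option autoImplicit false
set_option linter.unusedSectionVars false
set_option linter.style.haveILetI false

namespace CfsgLib.PGroup.SLDefectZero

open Cfsg CfsgLib.Blocks

section Orbit

/-- An invariant function divisible by the stabilizer orders sums to a multiple of the group order. -/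
theorem sum_eq_card_mul {D α : Type*} [Group D] [Fintype D] [Fintype α] [MulAction D α] (φ v : α → ℂ)
    (hinv : ∀ (d : D) (c : α), φ (d • c) = φ c)
    (hv : ∀ c, φ c = (Nat.card (MulAction.stabilizer D c) : ℂ) * v c)
    [Fintype (MulAction.orbitRel.Quotient D α)] :
    ∑ c, φ c = (Nat.card D : ℂ) * ∑ ω : MulAction.orbitRel.Quotient D α, v ω.out := by
  classical
  rw [← Finset.sum_fiberwise Finset.univ (fun c => (Quotient.mk'' c : MulAction.orbitRel.Quotient D α)) φ,
    Finset.mul_sum]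
  refine Finset.sum_congr rfl fun ω _ => ?_
  have hmem : ∀ c : α, (Quotient.mk'' c : MulAction.orbitRel.Quotient D α) = ω ↔ c ∈ MulAction.orbit D ω.out := by
    intro c
    conv_lhs => rw [← Quotient.out_eq' ω]
    rw [Quotient.eq'', MulAction.orbitRel_apply]
  rw [Finset.sum_congr rfl (g := fun _ => φ ω.out) fun c hc => ?_]
  · have hcard : (Finset.univ.filter fun c : α => (Quotient.mk'' c : MulAction.orbitRel.Quotient D α) = ω).card =
        Nat.card (MulAction.orbit D ω.out) := by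
      rw [← Fintype.card_subtype, ← Nat.card_eq_fintype_card]
      exact Nat.card_congr (Equiv.subtypeEquivRight hmem)
    rw [Finset.sum_const, nsmul_eq_mul, hcard, hv, ← mul_assoc, ← Nat.cast_mul]
    congr 2
    rw [Nat.card_eq_fintype_card, Nat.card_eq_fintype_card, Nat.card_eq_fintype_card,
      MulAction.card_orbit_mul_card_stabilizer_eq_card_group]
  · obtain ⟨d, rfl⟩ := (hmem c).1 (Finset.mem_filter.1 hc).2
    exact hinv d _

end Orbit

open CfsgLib.PGroup.UnitriangularSL CfsgLib.PGroup.SLBigCell CfsgLib.PGroup.SLMinorCount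
open CfsgLib.PGroup.SplitMonomial
open scoped Classical

variable {F : Type*} [Field F] [Fintype F] {n p : ℕ} [Fact p.Prime] [CharP F p]
  [Fintype (Matrix.SpecialLinearGroup (Fin n) F)] {M : Ideal AlgInt}

local notation "SLn" => Matrix.SpecialLinearGroup (Fin n) F

noncomputable local instance instFintypeU : Fintype (U F n) := Fintype.ofFinite _

theorem card_U : Nat.card (U F n) = p ^ (Nat.card SLn).factorization p := by
  obtain ⟨P, hP⟩ := CfsgLib.PGroup.FusionPSL.exists_sylow (F := F) (n := n) (p := p) (π := MonoidHom.id SLn)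
    Function.surjective_id
  rw [Subgroup.map_id] at hP
  rw [← hP]
  exact P.card_eq_multiplicity

/-- The sum of the block idempotent of `χ` over a coset of `U`. -/
noncomputable def Fsum (χ : IrrCharacter SLn) (y : SLn) : ℂ :=
  ∑ z : U F n, blockCoeff ({χ} : Set (IrrCharacter SLn)) ((z : SLn) * y)

/-- A character of defect zero. -/
def DZ (χ : IrrCharacter SLn) : Prop := degVal p χ = (Nat.card SLn).factorization p

theorem isPBlock_single (hM : IsPModular p M) {χ : IrrCharacter SLn} (hχ : DZ (p := p) χ) :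
    IsPBlock M ({χ} : Set (IrrCharacter SLn)) := by
  have := isPBlock_blockOf (M := M) χ
  rwa [(blockOf_eq_singleton_iff hM χ).2 hχ] at this

theorem bc_comm (χ : IrrCharacter SLn) (x y : SLn) :
    blockCoeff ({χ} : Set (IrrCharacter SLn)) (x * y) = blockCoeff ({χ} : Set (IrrCharacter SLn)) (y * x) := by
  have h := blockCoeff_isClassFunction ({χ} : Set (IrrCharacter SLn)) (y * x) x
  simp only at h
  rw [← h]
  congr 1
  group

theorem Fsum_left (χ : IrrCharacter SLn) {u : SLn} (hu : u ∈ U F n) (y : SLn) :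
    Fsum χ (u * y) = Fsum χ y :=
  Fintype.sum_equiv (Equiv.mulRight (⟨u, hu⟩ : U F n)) _ _ fun z => by simp [mul_assoc]

theorem Fsum_right (χ : IrrCharacter SLn) {u : SLn} (hu : u ∈ U F n) (y : SLn) :
    Fsum χ (y * u) = Fsum χ y :=
  Fintype.sum_equiv (Equiv.mulLeft (⟨u, hu⟩ : U F n)) _ _ fun z => by
    rw [← mul_assoc, bc_comm]; simp [mul_assoc]

theorem Fsum_cell (χ : IrrCharacter SLn) {r s : SLn} (hr : r ∈ U F n) (hs : s ∈ U F n) (a : SLn) :
    Fsum χ (r * a * s) = Fsum χ a := by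
  rw [Fsum_right χ hs, Fsum_left χ hr]

/-- The elements of `U` that `y` conjugates into `U`. -/
noncomputable def stabU (y : SLn) : Subgroup SLn := U F n ⊓ (U F n).comap (MulAut.conj y).toMonoidHom

theorem mem_stabU {y d : SLn} : d ∈ stabU y ↔ d ∈ U F n ∧ y * d * y⁻¹ ∈ U F n := Iff.rfl

theorem card_stabU_inv (y : SLn) : Nat.card (stabU y⁻¹) = Nat.card (stabU y) := by
  refine Nat.card_congr
    { toFun := fun d => ⟨y⁻¹ * d * y, ?_⟩
      invFun := fun d => ⟨y * d * y⁻¹, ?_⟩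
      left_inv := fun d => Subtype.ext (by simp [mul_assoc])
      right_inv := fun d => Subtype.ext (by simp [mul_assoc]) }
  · obtain ⟨h1, h2⟩ := mem_stabU.1 d.2
    rw [inv_inv] at h2
    refine mem_stabU.2 ⟨h2, ?_⟩
    simpa [mul_assoc] using h1
  · obtain ⟨h1, h2⟩ := mem_stabU.1 d.2
    refine mem_stabU.2 ⟨h2, ?_⟩
    simpa [mul_assoc] using h1

theorem stabU_cell {y : SLn} (hy : InCell y) : Nat.card (stabU y) = 1 := by
  obtain ⟨r, hr, a, s, hs, rfl⟩ := hy
  rw [Subgroup.card_eq_one, Subgroup.eq_bot_iff_forall]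
  intro d hd
  obtain ⟨h1, h2⟩ := mem_stabU.1 hd
  have h : r * a.1 * (s * d) = (r * a.1 * s * d * (r * a.1 * s)⁻¹) * r * a.1 * s := by group
  exact mul_eq_left.1 (decomp_unique hr (mul_mem h2 hr) (mul_mem hs h1) hs h).2.2

theorem dvd_stabU {y : SLn} (hy : ¬ InCell y) : p ∣ Nat.card (stabU y) := by
  obtain ⟨z, hz, hz', hne⟩ := inter_ne_bot hy
  have hmem : y⁻¹ * z * y ∈ stabU y := mem_stabU.2 ⟨hz', by simpa [mul_assoc] using hz⟩
  have hp : IsPGroup p (stabU y) := (U_isPGroup p).to_le inf_le_left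
  obtain ⟨k, hk⟩ := IsPGroup.iff_card.1 hp
  rw [hk]
  refine dvd_pow_self p fun h0 => hne ?_
  rw [h0, pow_zero, Subgroup.card_eq_one] at hk
  rw [hk, Subgroup.mem_bot] at hmem
  exact conj_eq_one_iff.1 (show y⁻¹ * z * y⁻¹⁻¹ = 1 by rw [inv_inv]; exact hmem)

/-- `Fsum` is divisible by the order of `stabU`. -/
theorem exists_Fsum_eq (hM : IsPModular p M) {χ : IrrCharacter SLn} (hχ : DZ (p := p) χ) (y : SLn) :
    ∃ v, MemLocalRing M v ∧ Fsum χ y = (Nat.card (stabU y) : ℂ) * v := by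
  classical
  have hB := isPBlock_single hM hχ
  letI : MulAction (stabU y) (U F n) :=
    { smul := fun d z => ⟨(d : SLn) * z * (y * (d : SLn)⁻¹ * y⁻¹), mul_mem (mul_mem (mem_stabU.1 d.2).1 z.2)
        (by have := inv_mem (mem_stabU.1 d.2).2; simpa [mul_assoc] using this)⟩
      one_smul := fun z => Subtype.ext (show (1 : SLn) * z * (y * (1 : SLn)⁻¹ * y⁻¹) = z by simp)
      mul_smul := fun d e z => Subtype.ext (show ((d : SLn) * e) * z * (y * ((d : SLn) * e)⁻¹ * y⁻¹) =
        (d : SLn) * ((e : SLn) * z * (y * (e : SLn)⁻¹ * y⁻¹)) * (y * (d : SLn)⁻¹ * y⁻¹) by group) }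
  have hsmul : ∀ (d : stabU y) (z : U F n), ((d • z : U F n) : SLn) = (d : SLn) * z * (y * (d : SLn)⁻¹ * y⁻¹) :=
    fun _ _ => rfl
  set f : U F n → ℂ := fun z => blockCoeff ({χ} : Set (IrrCharacter SLn)) ((z : SLn) * y)
  have hinv : ∀ (d : stabU y) (z : U F n), f (d • z) = f z := fun d z => by
    have h := blockCoeff_isClassFunction ({χ} : Set (IrrCharacter SLn)) ((z : SLn) * y) (d : SLn)
    simp only at h
    simp only [f, hsmul]
    rw [← h]
    congr 1
    group
  have hw : ∀ z : U F n, ∃ w, MemLocalRing M w ∧ f z = (Nat.card (MulAction.stabilizer (stabU y) z) : ℂ) * w := by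
    intro z
    obtain ⟨j, hj⟩ := IsPGroup.iff_card.1 (((U_isPGroup p).to_le inf_le_left : IsPGroup p (stabU y)).to_subgroup
      (MulAction.stabilizer (stabU y) z))
    have hle : j ≤ centExp p ((z : SLn) * y) := by
      refine (hM.1.pow_dvd_iff_le_factorization Nat.card_pos.ne').1 (hj ▸ ?_)
      refine Subgroup.card_dvd_of_injective
        (MonoidHom.codRestrict ((stabU y).subtype.comp (MulAction.stabilizer (stabU y) z).subtype)
          (Subgroup.centralizer ({(z : SLn) * y} : Set SLn)) fun d => ?_) fun a b hab => ?_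
      · refine Subgroup.mem_centralizer_singleton_iff.2 ?_
        have h := congrArg Subtype.val (MulAction.mem_stabilizer_iff.1 d.2)
        rw [hsmul] at h
        show (d.1 : SLn) * ((z : SLn) * y) = ((z : SLn) * y) * d.1
        calc (d.1 : SLn) * ((z : SLn) * y)
            = ((d.1 : SLn) * z * (y * (d.1 : SLn)⁻¹ * y⁻¹)) * (y * d.1) := by group
          _ = _ := by rw [h, mul_assoc]
      · exact Subtype.ext (Subtype.ext (congrArg Subtype.val hab :))
    obtain ⟨w, hw, he⟩ := blockCoeff_eq_mul_LR hM hB ((z : SLn) * y)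
    have hmin : minDegVal p ({χ} : Set (IrrCharacter SLn)) = (Nat.card SLn).factorization p := by
      rw [← hχ, minDegVal, Set.image_singleton, csInf_singleton]
      rfl
    rw [hmin] at he
    obtain ⟨c, hc⟩ := Nat.exists_eq_add_of_le hle
    refine ⟨(p : ℂ) ^ c * (((p ^ (Nat.card SLn).factorization p : ℕ) : ℂ) / (Nat.card SLn : ℂ)) * w,
      LR.mul hM (LR.mul hM (LR.pow hM (LR.natCast hM p) c) (natCast_div_LR hM Nat.card_pos.ne' dvd_rfl)) hw, ?_⟩
    have hG : (Nat.card SLn : ℂ) ≠ 0 := Nat.cast_ne_zero.2 Nat.card_pos.ne'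
    simp only [f]
    rw [hj]
    refine mul_left_cancel₀ hG ?_
    rw [he, hc]
    push_cast
    rw [pow_add, pow_add]
    field_simp
  choose w hwR hw using hw
  haveI : Fintype (MulAction.orbitRel.Quotient (stabU y) (U F n)) := Fintype.ofFinite _
  exact ⟨∑ ω : MulAction.orbitRel.Quotient (stabU y) (U F n), w ω.out, LR.sum hM fun ω _ => hwR _,
    sum_eq_card_mul f w hinv hw⟩

theorem Fsum_LI_of_notInCell (hM : IsPModular p M) {χ : IrrCharacter SLn} (hχ : DZ (p := p) χ) {y : SLn}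
    (hy : ¬ InCell y) : MemLocalIdeal M (Fsum χ y) := by
  obtain ⟨v, hv, he⟩ := exists_Fsum_eq hM hχ y
  rw [he]
  exact LI.mul_right hM ((LI.natCast_iff hM _).2 (dvd_stabU hy)) hv

theorem Fsum_LR (hM : IsPModular p M) {χ : IrrCharacter SLn} (hχ : DZ (p := p) χ) (y : SLn) :
    MemLocalRing M (Fsum χ y) :=
  LR.sum hM fun _ _ => blockCoeff_LR hM (isPBlock_single hM hχ) _

theorem sum_bc_mul_Fsum (χ : IrrCharacter SLn) (g : SLn) :
    ∑ y : SLn, blockCoeff ({χ} : Set (IrrCharacter SLn)) (g * y⁻¹) * Fsum χ y = Fsum χ g := by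
  have h : ∀ z : U F n, ∑ y : SLn, blockCoeff ({χ} : Set (IrrCharacter SLn)) (g * y⁻¹) *
      blockCoeff ({χ} : Set (IrrCharacter SLn)) ((z : SLn) * y) =
      blockCoeff ({χ} : Set (IrrCharacter SLn)) ((z : SLn) * g) := by
    intro z
    have h1 := blockCoeff_conv ({χ} : Set (IrrCharacter SLn)) {χ} ((z : SLn) * g)
    rw [Set.inter_self] at h1
    rw [← h1]
    refine Fintype.sum_equiv (Equiv.mulLeft (z : SLn)) _ _ fun y => ?_
    rw [Equiv.coe_mulLeft, mul_comm, bc_comm χ g]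
    congr 2
    group
  simp only [Fsum, Finset.mul_sum]
  rw [Finset.sum_comm]
  exact Finset.sum_congr rfl fun z _ => h z

/-- The inverse of an antidiagonal matrix. -/
def antiInv (a : Anti F n) : Anti F n :=
  ⟨a.1⁻¹, by
    have h := SLBigCell.Monom.inv' a.2
    rwa [show (Fin.revPerm : Equiv.Perm (Fin n))⁻¹ = Fin.revPerm from Equiv.ext fun c => rfl] at h⟩

theorem inCell_anti (a : Anti F n) : InCell a.1 := ⟨1, one_mem _, a, 1, one_mem _, by simp⟩

theorem natCast_LI_of_eq (hM : IsPModular p M) {N K : ℕ} (h : (N : F) = (K : F)) :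
    MemLocalIdeal M ((N : ℂ) - (K : ℂ)) := by
  have h1 : ((((N : ℤ) - K : ℤ)) : F) = 0 := by push_cast; rw [h, sub_self]
  have h2 := (LI.intCast_iff hM _).2 ((CharP.intCast_eq_zero_iff F p _).1 h1)
  push_cast at h2
  exact h2

/-- `Fsum` is constant on the antidiagonal matrices, modulo `M`. -/
theorem exists_const (hM : IsPModular p M) {χ : IrrCharacter SLn} (hχ : DZ (p := p) χ) :
    ∃ α : ℂ, MemLocalRing M α ∧ ∀ g : Anti F n, MemLocalIdeal M (Fsum χ g.1 - α) := by
  classical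
  haveI : Fintype (Anti F n) := Fintype.ofFinite _
  set K := Nat.card {u : U F n // ∀ k : Fin n, (k : ℕ) + 1 < n → corner k u.1.1 = 0}
  refine ⟨(K : ℂ) * (∑ a : Anti F n, Fsum χ a.1) * (∑ a : Anti F n, Fsum χ a.1), ?_, fun g => ?_⟩
  · exact LR.mul hM (LR.mul hM (LR.natCast hM _) (LR.sum hM fun _ _ => Fsum_LR hM hχ _))
      (LR.sum hM fun _ _ => Fsum_LR hM hχ _)
  set e : SLn → ℂ := fun x => blockCoeff ({χ} : Set (IrrCharacter SLn)) x
  let mulMap : U F n × Anti F n × U F n → SLn := fun q => (q.1 : SLn) * q.2.1.1 * q.2.2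
  have hinj : Function.Injective mulMap := fun q q' h => by
    obtain ⟨h1, h2, h3⟩ := decomp_unique q.1.2 q'.1.2 q.2.2.2 q'.2.2.2 h
    exact Prod.ext (Subtype.ext h1) (Prod.ext h2 (Subtype.ext h3))
  -- discard the complement of the big cell
  have h1 : MemLocalIdeal M (Fsum χ g.1 - ∑ q, e (g.1 * (mulMap q)⁻¹) * Fsum χ (mulMap q)) := by
    rw [← sum_bc_mul_Fsum χ g.1, ← Finset.sum_add_sum_compl (Finset.univ.image mulMap),
      Finset.sum_image hinj.injOn, add_sub_cancel_left]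
    refine LI.sum hM fun y hy => LI.mul_left hM (blockCoeff_LR hM (isPBlock_single hM hχ) _)
      (Fsum_LI_of_notInCell hM hχ fun ⟨r, hr, a, s, hs, hrs⟩ => ?_)
    simp only [Finset.mem_compl, Finset.mem_image, Finset.mem_univ, true_and, not_exists] at hy
    exact hy (⟨r, hr⟩, a, ⟨s, hs⟩) hrs.symm
  have h2 : ∑ q, e (g.1 * (mulMap q)⁻¹) * Fsum χ (mulMap q) =
      ∑ a : Anti F n, Fsum χ a.1 * ∑ s : U F n, Fsum χ (g.1 * (s : SLn) * a.1⁻¹) := by
    rw [Fintype.sum_prod_type_right, Fintype.sum_prod_type]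
    refine Finset.sum_congr rfl fun a _ => ?_
    rw [Finset.mul_sum]
    refine Fintype.sum_equiv (Equiv.inv (U F n)) _ _ fun s => ?_
    conv_rhs => arg 2; rw [Fsum]
    rw [Finset.mul_sum]
    refine Fintype.sum_equiv (Equiv.inv (U F n)) _ _ fun r => ?_
    simp only [mulMap, e, Equiv.inv_apply, Fsum_cell χ r.2 s.2]
    rw [mul_comm]
    congr 1
    have h := bc_comm χ ((s : SLn)⁻¹ * a.1⁻¹) ((r : SLn)⁻¹ * g.1)
    rw [bc_comm χ g.1]
    simpa [mul_assoc] using h
  rw [h2] at h1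
  refine LI.trans hM h1 ?_
  rw [mul_assoc, Finset.sum_mul, Finset.mul_sum, ← Finset.sum_sub_distrib]
  refine LI.sum hM fun a _ => ?_
  rw [show (K : ℂ) * (Fsum χ a.1 * ∑ b : Anti F n, Fsum χ b.1) = Fsum χ a.1 * ((K : ℂ) * ∑ b : Anti F n, Fsum χ b.1)
    by ring, ← mul_sub]
  refine LI.mul_left hM (Fsum_LR hM hχ _) ?_
  let P : U F n → Anti F n → Prop := fun s b =>
    ∃ r ∈ U F n, ∃ t ∈ U F n, g.1 * (s : SLn) * (antiInv a).1 = r * b.1 * t
  refine LI.trans hM (y := ∑ s : U F n, ∑ b : Anti F n, if P s b then Fsum χ b.1 else 0) ?_ ?_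
  · rw [← Finset.sum_sub_distrib]
    refine LI.sum hM fun s _ => ?_
    by_cases hs : InCell (g.1 * (s : SLn) * a.1⁻¹)
    · obtain ⟨r, hr, b, t, ht, hrt⟩ := hs
      rw [Finset.sum_eq_single b (fun b' _ hb' => if_neg fun ⟨r', hr', t', ht', h'⟩ =>
        hb' (decomp_unique hr' hr ht' ht (h'.symm.trans hrt)).2.1) (by simp),
        if_pos ⟨r, hr, t, ht, hrt⟩, hrt, Fsum_cell χ hr ht, sub_self]
      exact LI.zero hM
    · rw [Finset.sum_eq_zero fun b _ => if_neg fun ⟨r', hr', t', ht', h'⟩ => hs ⟨r', hr', b, t', ht', h'⟩, sub_zero]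
      exact Fsum_LI_of_notInCell hM hχ hs
  · rw [Finset.sum_comm, Finset.mul_sum, ← Finset.sum_sub_distrib]
    refine LI.sum hM fun b _ => ?_
    have h3 : (∑ s : U F n, if P s b then Fsum χ b.1 else 0) =
        (Nat.card {s : U F n // P s b} : ℂ) * Fsum χ b.1 := by
      rw [← Finset.sum_filter, Finset.sum_const, nsmul_eq_mul, Nat.card_eq_fintype_card, Fintype.card_subtype]
    rw [h3, ← sub_mul]
    exact LI.mul_right hM (natCast_LI_of_eq hM (card_piece g (antiInv a) b)) (Fsum_LR hM hχ _)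

theorem sum_Fsum_mul (χ ψ : IrrCharacter SLn) :
    ∑ y : SLn, Fsum χ y * Fsum ψ y⁻¹ = (Nat.card (U F n) : ℂ) *
      ∑ u : U F n, blockCoeff (({χ} : Set (IrrCharacter SLn)) ∩ {ψ}) (u : SLn) := by
  have h1 : ∀ v : U F n, ∑ y : SLn, Fsum χ y * blockCoeff ({ψ} : Set (IrrCharacter SLn)) ((v : SLn) * y⁻¹) =
      ∑ y : SLn, Fsum χ y * blockCoeff ({ψ} : Set (IrrCharacter SLn)) y⁻¹ := by
    intro v
    refine Fintype.sum_equiv (Equiv.mulRight (v : SLn)⁻¹) _ _ fun y => ?_
    rw [Equiv.coe_mulRight, Fsum_right χ (inv_mem v.2), mul_inv_rev, inv_inv]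
  have h2 : ∀ v : U F n, ∑ y : SLn, blockCoeff ({χ} : Set (IrrCharacter SLn)) ((v : SLn) * y) *
      blockCoeff ({ψ} : Set (IrrCharacter SLn)) y⁻¹ =
      blockCoeff (({χ} : Set (IrrCharacter SLn)) ∩ {ψ}) (v : SLn) := by
    intro v
    rw [← blockCoeff_conv]
    refine Fintype.sum_equiv (Equiv.mulLeft (v : SLn)) _ _ fun y => ?_
    rw [Equiv.coe_mulLeft]
    congr 2
    group
  calc ∑ y : SLn, Fsum χ y * Fsum ψ y⁻¹
      = ∑ v : U F n, ∑ y : SLn, Fsum χ y * blockCoeff ({ψ} : Set (IrrCharacter SLn)) ((v : SLn) * y⁻¹) := by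
        rw [Finset.sum_comm]
        exact Finset.sum_congr rfl fun y _ => by
          rw [show Fsum ψ y⁻¹ = ∑ v : U F n, blockCoeff ({ψ} : Set (IrrCharacter SLn)) ((v : SLn) * y⁻¹) from rfl,
            Finset.mul_sum]
    _ = _ := by
        rw [Finset.sum_congr rfl fun v _ => h1 v, Finset.sum_const, nsmul_eq_mul, Finset.card_univ,
          Nat.card_eq_fintype_card]
        simp only [Fsum, Finset.sum_mul]
        rw [Finset.sum_comm]
        exact congrArg _ (Finset.sum_congr rfl fun v _ => h2 v)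

/-- The pairing of two characters of defect zero reduces to their values on the antidiagonal matrices. -/
theorem exists_pairing (hM : IsPModular p M) {χ ψ : IrrCharacter SLn} (hχ : DZ (p := p) χ)
    (hψ : DZ (p := p) ψ) {α β : ℂ} (hαR : MemLocalRing M α) (hβR : MemLocalRing M β)
    (hα : ∀ g : Anti F n, MemLocalIdeal M (Fsum χ g.1 - α))
    (hβ : ∀ g : Anti F n, MemLocalIdeal M (Fsum ψ g.1 - β)) :
    ∃ T, MemLocalIdeal M (T - (Nat.card (Anti F n) : ℂ) * (α * β)) ∧
      (Nat.card (U F n) : ℂ) * ∑ u : U F n, blockCoeff (({χ} : Set (IrrCharacter SLn)) ∩ {ψ}) (u : SLn) =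
        (Nat.card (U F n) : ℂ) * (Nat.card (U F n) : ℂ) * T := by
  classical
  letI : MulAction (U F n × U F n) SLn :=
    { smul := fun d y => (d.1 : SLn) * y * (d.2 : SLn)⁻¹
      one_smul := fun y => show (1 : SLn) * y * (1 : SLn)⁻¹ = y by simp
      mul_smul := fun d e y => show ((d.1 : SLn) * e.1) * y * ((d.2 : SLn) * e.2)⁻¹ =
        (d.1 : SLn) * ((e.1 : SLn) * y * (e.2 : SLn)⁻¹) * (d.2 : SLn)⁻¹ by group }
  have hsmul : ∀ (d : U F n × U F n) (y : SLn), d • y = (d.1 : SLn) * y * (d.2 : SLn)⁻¹ := fun _ _ => rfl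
  have hstab : ∀ y : SLn, Nat.card (MulAction.stabilizer (U F n × U F n) y) = Nat.card (stabU y) := by
    intro y
    refine Nat.card_congr
      { toFun := fun d => ⟨(d.1.2 : SLn), ?_⟩
        invFun := fun d => ⟨(⟨y * d * y⁻¹, (mem_stabU.1 d.2).2⟩, ⟨d, (mem_stabU.1 d.2).1⟩), ?_⟩
        left_inv := fun d => ?_
        right_inv := fun d => rfl }
    · refine mem_stabU.2 ⟨d.1.2.2, ?_⟩
      have h := MulAction.mem_stabilizer_iff.1 d.2
      rw [hsmul] at h
      have : y * (d.1.2 : SLn) * y⁻¹ = (d.1.1 : SLn) := by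
        calc y * (d.1.2 : SLn) * y⁻¹ = ((d.1.1 : SLn) * y * (d.1.2 : SLn)⁻¹) * (d.1.2 : SLn) * y⁻¹ := by rw [h]
          _ = _ := by group
      rw [this]
      exact d.1.1.2
    · rw [MulAction.mem_stabilizer_iff, hsmul]
      group
    · refine Subtype.ext (Prod.ext (Subtype.ext ?_) rfl)
      have h := MulAction.mem_stabilizer_iff.1 d.2
      rw [hsmul] at h
      show y * (d.1.2 : SLn) * y⁻¹ = (d.1.1 : SLn)
      calc y * (d.1.2 : SLn) * y⁻¹ = ((d.1.1 : SLn) * y * (d.1.2 : SLn)⁻¹) * (d.1.2 : SLn) * y⁻¹ := by rw [h]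
        _ = _ := by group
  choose vχ hvχR hvχ using exists_Fsum_eq hM hχ
  choose vψ hvψR hvψ using exists_Fsum_eq hM hψ
  set φ : SLn → ℂ := fun y => Fsum χ y * Fsum ψ y⁻¹
  set v : SLn → ℂ := fun y => (Nat.card (stabU y) : ℂ) * (vχ y * vψ y⁻¹)
  have hφ : ∀ y, φ y = (Nat.card (MulAction.stabilizer (U F n × U F n) y) : ℂ) * v y := fun y => by
    simp only [φ, v]
    rw [hvχ y, hvψ y⁻¹, card_stabU_inv, hstab]
    ring
  have hinv : ∀ (d : U F n × U F n) y, φ (d • y) = φ y := fun d y => by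
    simp only [φ, hsmul]
    rw [Fsum_cell χ d.1.2 (inv_mem d.2.2), mul_inv_rev, mul_inv_rev, inv_inv, ← mul_assoc,
      Fsum_cell ψ d.2.2 (inv_mem d.1.2)]
  haveI : Fintype (MulAction.orbitRel.Quotient (U F n × U F n) SLn) := Fintype.ofFinite _
  haveI : Fintype (Anti F n) := Fintype.ofFinite _
  refine ⟨∑ ω : MulAction.orbitRel.Quotient (U F n × U F n) SLn, v ω.out, ?_, ?_⟩
  · let ι : Anti F n → MulAction.orbitRel.Quotient (U F n × U F n) SLn := fun a => Quotient.mk'' a.1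
    have hrep : ∀ a : Anti F n, ∃ r ∈ U F n, ∃ s ∈ U F n, (ι a).out = r * a.1 * s := fun a => by
      obtain ⟨d, hd⟩ := MulAction.orbitRel_apply.1 (Quotient.eq''.1 (Quotient.out_eq' (ι a)))
      exact ⟨_, d.1.2, _, inv_mem d.2.2, hd.symm⟩
    have hι : Function.Injective ι := fun a b h => by
      obtain ⟨r, hr, s, hs, h1⟩ := hrep a
      obtain ⟨r', hr', s', hs', h2⟩ := hrep b
      rw [h, h2] at h1
      exact (decomp_unique hr' hr hs' hs h1).2.1.symm
    rw [← Finset.sum_add_sum_compl (Finset.univ.image ι), Finset.sum_image hι.injOn, Nat.card_eq_fintype_card,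
      ← Finset.card_univ, ← nsmul_eq_mul, ← Finset.sum_const, add_sub_right_comm, ← Finset.sum_sub_distrib]
    refine LI.add hM (LI.sum hM fun a _ => ?_) (LI.sum hM fun ω hω => ?_)
    · obtain ⟨r, hr, s, hs, h1⟩ := hrep a
      have hc : Nat.card (stabU (ι a).out) = 1 := stabU_cell ⟨r, hr, a, s, hs, h1⟩
      have e : v (ι a).out = Fsum χ a.1 * Fsum ψ (antiInv a).1 := by
        simp only [v]
        rw [hc, Nat.cast_one, one_mul]
        have e1 := hvχ (ι a).out
        have e2 := hvψ (ι a).out⁻¹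
        rw [card_stabU_inv, hc, Nat.cast_one, one_mul] at e2
        rw [hc, Nat.cast_one, one_mul] at e1
        rw [← e1, ← e2, h1, Fsum_cell χ hr hs, mul_inv_rev, mul_inv_rev, ← mul_assoc,
          Fsum_cell ψ (inv_mem hs) (inv_mem hr)]
        rfl
      rw [e, show Fsum χ a.1 * Fsum ψ (antiInv a).1 - α * β =
        (Fsum χ a.1 - α) * Fsum ψ (antiInv a).1 + α * (Fsum ψ (antiInv a).1 - β) by ring]
      exact LI.add hM (LI.mul_right hM (hα a) (Fsum_LR hM hψ _)) (LI.mul_left hM hαR (hβ _))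
    · refine LI.mul_right hM ((LI.natCast_iff hM _).2 (dvd_stabU fun ⟨r, hr, a, s, hs, h⟩ => ?_))
        (LR.mul hM (hvχR _) (hvψR _))
      simp only [Finset.mem_compl, Finset.mem_image, Finset.mem_univ, true_and, not_exists] at hω
      refine hω a ?_
      rw [← Quotient.out_eq' ω]
      refine Quotient.sound' (MulAction.orbitRel_apply.2 ⟨(⟨r⁻¹, inv_mem hr⟩, ⟨s, hs⟩), ?_⟩)
      show r⁻¹ * ω.out * s⁻¹ = a.1
      rw [h]; group
  · rw [← sum_Fsum_mul, sum_eq_card_mul φ v hinv hφ, Nat.card_prod, Nat.cast_mul]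

theorem sum_bc_self (hM : IsPModular p M) {χ : IrrCharacter SLn} (hχ : DZ (p := p) χ) :
    ∃ c, MemLocalRing M c ∧ ¬ MemLocalIdeal M c ∧
      ∑ u : U F n, blockCoeff ({χ} : Set (IrrCharacter SLn)) (u : SLn) = (Nat.card (U F n) : ℂ) * c := by
  classical
  set a := (Nat.card SLn).factorization p
  have hp := hM.1
  obtain ⟨m, hm⟩ : p ^ a ∣ charDegree (χ : SLn → ℂ) :=
    (hp.pow_dvd_iff_le_factorization (charDegree_pos χ).ne').2 (le_of_eq hχ.symm)
  have hmp : ¬ p ∣ m := fun ⟨k, hk⟩ => by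
    have h1 : p ^ (a + 1) ∣ charDegree (χ : SLn → ℂ) := ⟨k, by rw [hm, hk, pow_succ]; ring⟩
    have h2 : a + 1 ≤ degVal p χ := (hp.pow_dvd_iff_le_factorization (charDegree_pos χ).ne').1 h1
    rw [hχ] at h2
    omega
  obtain ⟨h, hh⟩ : p ^ a ∣ Nat.card SLn := Nat.ordProj_dvd _ _
  have hhp : ¬ p ∣ h := fun ⟨k, hk⟩ => Nat.pow_succ_factorization_not_dvd Nat.card_pos.ne' hp
    ⟨k, hh.trans (by rw [hk]; simp only [a, pow_succ]; ring)⟩
  have hh0 : h ≠ 0 := fun h0 => hhp (h0 ▸ dvd_zero p)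
  refine ⟨((m * m : ℕ) : ℂ) / (h : ℂ), ?_, ?_, ?_⟩
  · refine natCast_div_LR hM hh0 ?_
    rw [Nat.factorization_eq_zero_of_not_dvd hhp, pow_zero]
    exact one_dvd _
  · intro hLI
    have h2 := LI.mul_right hM hLI (LR.natCast hM h)
    rw [div_mul_cancel₀ _ (Nat.cast_ne_zero.2 hh0)] at h2
    exact (hp.dvd_mul.1 ((LI.natCast_iff hM _).1 h2)).elim hmp hmp
  · rw [Finset.sum_eq_single (1 : U F n) (fun u _ hu => ?_) (by simp)]
    · have hone : blockCoeff ({χ} : Set (IrrCharacter SLn)) (1 : SLn) =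
          (Nat.card SLn : ℂ)⁻¹ * ((charDegree (χ : SLn → ℂ) : ℂ) * (charDegree (χ : SLn → ℂ) : ℂ)) := by
        rw [blockCoeff, finsum_mem_singleton, irr_one_eq]
        simp
      rw [Subgroup.coe_one, hone, hm, card_U (p := p),
        show (Nat.card SLn : ℂ) = (p : ℂ) ^ a * (h : ℂ) by exact_mod_cast hh]
      push_cast
      have : (p : ℂ) ≠ 0 := Nat.cast_ne_zero.2 hp.ne_zero
      have : (h : ℂ) ≠ 0 := Nat.cast_ne_zero.2 hh0
      field_simp
      simp only [a]
      ring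
    · refine IsPBlock.blockCoeff_eq_zero hM (isPBlock_single hM hχ) ?_
      rw [Subgroup.orderOf_coe]
      obtain ⟨k, hk⟩ := IsPGroup.iff_orderOf.1 (U_isPGroup (F := F) (n := n) p) u
      rw [hk]
      exact dvd_pow_self p fun hk0 => hu (orderOf_eq_one_iff.1 (by rw [hk, hk0, pow_zero]))

/-- At most one character of defect zero. -/
theorem defectZero_unique (hM : IsPModular p M) {χ ψ : IrrCharacter SLn} (hχ : DZ (p := p) χ)
    (hψ : DZ (p := p) ψ) : χ = ψ := by
  have key : ∀ {θ : IrrCharacter SLn}, DZ (p := p) θ → ∀ {α : ℂ}, MemLocalRing M α →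
      (∀ g : Anti F n, MemLocalIdeal M (Fsum θ g.1 - α)) →
      ¬ MemLocalIdeal M ((Nat.card (Anti F n) : ℂ) * (α * α)) := by
    intro θ hθ α hαR hα hLI
    obtain ⟨c, hcR, hc, hsum⟩ := sum_bc_self hM hθ
    obtain ⟨T, hT, he⟩ := exists_pairing hM hθ hθ hαR hαR hα hα
    rw [Set.inter_self, hsum, ← mul_assoc] at he
    have hU : (Nat.card (U F n) : ℂ) * (Nat.card (U F n) : ℂ) ≠ 0 :=
      mul_ne_zero (Nat.cast_ne_zero.2 Nat.card_pos.ne') (Nat.cast_ne_zero.2 Nat.card_pos.ne')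
    rw [← mul_left_cancel₀ hU he] at hT
    have := LI.add hM hT hLI
    rw [sub_add_cancel] at this
    exact hc this
  by_contra hne
  obtain ⟨α, hαR, hα⟩ := exists_const hM hχ
  obtain ⟨β, hβR, hβ⟩ := exists_const hM hψ
  obtain ⟨T, hT, he⟩ := exists_pairing hM hχ hψ hαR hβR hα hβ
  rw [Set.singleton_inter_eq_empty.2 (by simpa using hne)] at he
  have h0 : ∀ x : SLn, blockCoeff (∅ : Set (IrrCharacter SLn)) x = 0 := fun x => by
    rw [blockCoeff, finsum_mem_empty, mul_zero]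
  simp only [h0, Finset.sum_const_zero, mul_zero] at he
  have hU : (Nat.card (U F n) : ℂ) * (Nat.card (U F n) : ℂ) ≠ 0 :=
    mul_ne_zero (Nat.cast_ne_zero.2 Nat.card_pos.ne') (Nat.cast_ne_zero.2 Nat.card_pos.ne')
  rw [(mul_eq_zero.1 he.symm).resolve_left hU, zero_sub] at hT
  have hab : MemLocalIdeal M ((Nat.card (Anti F n) : ℂ) * (α * β)) := by simpa using LI.neg hT
  rcases LI.mem_or_mem hM (LR.natCast hM _) (LR.mul hM hαR hβR) hab with h | h
  · exact key hχ hαR hα (LI.mul_right hM h (LR.mul hM hαR hαR))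
  · rcases LI.mem_or_mem hM hαR hβR h with h | h
    · exact key hχ hαR hα (LI.mul_left hM (LR.natCast hM _) (LI.mul_right hM h hαR))
    · exact key hψ hβR hβ (LI.mul_left hM (LR.natCast hM _) (LI.mul_right hM h hβR))

end CfsgLib.PGroup.SLDefectZero
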