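import Cfsg.Agent.Lib.PGroup.UnitriangularSL

/-!
Corner minors on the upper unitriangular subgroup of `SL_n` over a finite field, and the weighted
Chevalley-Warning argument showing that the number of unitriangular matrices with prescribed corner
minors does not depend, modulo the characteristic, on the prescribed values.
-/

set_option autoImplicit false
set_option linter.unusedSectionVars false

namespace CfsgLib.PGroup.SLMinorCount

open CfsgLib.PGroup.UnitriangularSL

section Weighted

variable (F : Type*) [Field F] [Fintype F] {V : Type*} [Fintype V]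

/-- Functions on `V → F` that are combinations of monomials of weight at most `W`. -/
def S (w : V → ℕ) (W : ℕ) : Submodule F ((V → F) → F) :=
  Submodule.span F {f | ∃ e : V → ℕ, ∑ v, e v * w v ≤ W ∧ f = fun x => ∏ v, x v ^ e v}

variable {F} {w : V → ℕ}

theorem S_mono {W W' : ℕ} (h : W ≤ W') : S F w W ≤ S F w W' :=
  Submodule.span_mono fun _ ⟨e, he, hf⟩ => ⟨e, he.trans h, hf⟩

theorem one_mem_S : (1 : (V → F) → F) ∈ S F w 0 :=
  Submodule.subset_span ⟨0, by simp, funext fun x => by simp⟩

theorem var_mem_S (v : V) : (fun x : V → F => x v) ∈ S F w (w v) := by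
  classical
  refine Submodule.subset_span ⟨Pi.single v 1, ?_, funext fun x => ?_⟩
  · rw [Finset.sum_eq_single v (fun u _ hu => by simp [hu]) (by simp)]
    simp
  · rw [Finset.prod_eq_single v (fun u _ hu => by simp [hu]) (by simp)]
    simp

theorem mul_mem_S {A B : ℕ} {f g : (V → F) → F} (hf : f ∈ S F w A) (hg : g ∈ S F w B) :
    f * g ∈ S F w (A + B) := by
  induction hf using Submodule.span_induction with
  | mem f hf =>
    induction hg using Submodule.span_induction with
    | mem g hg =>
      obtain ⟨e, he, rfl⟩ := hf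
      obtain ⟨e', he', rfl⟩ := hg
      refine Submodule.subset_span ⟨e + e', ?_, funext fun x => ?_⟩
      · simp only [Pi.add_apply, add_mul, Finset.sum_add_distrib]
        exact add_le_add he he'
      · simp only [Pi.mul_apply, Pi.add_apply, pow_add, Finset.prod_mul_distrib]
    | zero => rw [mul_zero]; exact zero_mem _
    | add a b _ _ ha hb => rw [mul_add]; exact add_mem ha hb
    | smul c a _ ha => rw [mul_smul_comm]; exact Submodule.smul_mem _ c ha
  | zero => rw [zero_mul]; exact zero_mem _
  | add a b _ _ ha hb => rw [add_mul]; exact add_mem ha hb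
  | smul c a _ ha => rw [smul_mul_assoc]; exact Submodule.smul_mem _ c ha

theorem pow_mem_S {A : ℕ} {f : (V → F) → F} (hf : f ∈ S F w A) (m : ℕ) : f ^ m ∈ S F w (m * A) := by
  induction m with
  | zero => rw [pow_zero, zero_mul]; exact one_mem_S
  | succ m ih => rw [pow_succ, Nat.succ_mul]; exact mul_mem_S ih hf

theorem prod_mem_S {ι : Type*} (s : Finset ι) {f : ι → (V → F) → F} {W : ι → ℕ}
    (h : ∀ i ∈ s, f i ∈ S F w (W i)) : ∏ i ∈ s, f i ∈ S F w (∑ i ∈ s, W i) := by
  classical
  induction s using Finset.induction_on with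
  | empty => simpa using (one_mem_S (F := F) (w := w))
  | insert a t ha ih =>
    rw [Finset.prod_insert ha, Finset.sum_insert ha]
    exact mul_mem_S (h a (Finset.mem_insert_self a t)) (ih fun i hi => h i (Finset.mem_insert_of_mem hi))

theorem prod_sub_prod_mem_S {ι : Type*} (s : Finset ι) {f g : ι → (V → F) → F} {W : ι → ℕ}
    (hW : ∀ i ∈ s, 1 ≤ W i) (hf : ∀ i ∈ s, f i ∈ S F w (W i)) (hg : ∀ i ∈ s, g i ∈ S F w (W i))
    (hd : ∀ i ∈ s, f i - g i ∈ S F w (W i - 1)) :
    ∏ i ∈ s, f i - ∏ i ∈ s, g i ∈ S F w ((∑ i ∈ s, W i) - 1) := by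
  classical
  induction s using Finset.induction_on with
  | empty => simp
  | insert a t ha ih =>
    rw [Finset.prod_insert ha, Finset.prod_insert ha, Finset.sum_insert ha]
    have e : f a * ∏ i ∈ t, f i - g a * ∏ i ∈ t, g i =
        (f a - g a) * ∏ i ∈ t, f i + g a * (∏ i ∈ t, f i - ∏ i ∈ t, g i) := by ring
    rw [e]
    have hWa := hW a (Finset.mem_insert_self a t)
    refine add_mem (S_mono (by omega) (mul_mem_S (hd a (Finset.mem_insert_self a t))
      (prod_mem_S t fun i hi => hf i (Finset.mem_insert_of_mem hi)))) ?_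
    rcases t.eq_empty_or_nonempty with rfl | ⟨b, hb⟩
    · simp
    have hWt : 1 ≤ ∑ i ∈ t, W i :=
      (hW b (Finset.mem_insert_of_mem hb)).trans (Finset.single_le_sum (fun i _ => Nat.zero_le _) hb)
    exact S_mono (by omega) (mul_mem_S (hg a (Finset.mem_insert_self a t))
      (ih (fun i hi => hW i (Finset.mem_insert_of_mem hi)) (fun i hi => hf i (Finset.mem_insert_of_mem hi))
        (fun i hi => hg i (Finset.mem_insert_of_mem hi)) (fun i hi => hd i (Finset.mem_insert_of_mem hi))))

theorem sum_eq_zero_of_mem_S [DecidableEq V] {W : ℕ}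
    (hW : W < (Fintype.card F - 1) * ∑ v, w v) {f : (V → F) → F} (hf : f ∈ S F w W) : ∑ x, f x = 0 := by
  induction hf using Submodule.span_induction with
  | mem f hf =>
    obtain ⟨e, he, rfl⟩ := hf
    obtain ⟨v, hv⟩ : ∃ v, e v < Fintype.card F - 1 := by
      by_contra h
      push Not at h
      have : (Fintype.card F - 1) * ∑ v, w v ≤ ∑ v, e v * w v := by
        rw [Finset.mul_sum]
        exact Finset.sum_le_sum fun v _ => Nat.mul_le_mul_right _ (h v)
      omega
    rw [← Fintype.prod_sum (fun v (a : F) => a ^ e v)]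
    exact Finset.prod_eq_zero (Finset.mem_univ v) (FiniteField.sum_pow_lt_card_sub_one F (e v) hv)
  | zero => simp
  | add a b _ _ ha hb => simp [Finset.sum_add_distrib, ha, hb]
  | smul c a _ ha => simp [← Finset.mul_sum, ha]

/-- The number of common solutions of `P i = d i` is constant modulo the characteristic if the weights
of the `P i` add up to the total weight of the variables. -/
theorem card_solutions_congr [DecidableEq V] [DecidableEq F] {ι : Type*} (s : Finset ι) (P : ι → (V → F) → F)
    (W : ι → ℕ) (hW : ∀ i ∈ s, 1 ≤ W i) (hP : ∀ i ∈ s, P i ∈ S F w (W i)) (htot : ∑ i ∈ s, W i ≤ ∑ v, w v)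
    (d d' : ι → F) :
    ((Finset.univ.filter fun x : V → F => ∀ i ∈ s, P i x = d i).card : F) =
      ((Finset.univ.filter fun x : V → F => ∀ i ∈ s, P i x = d' i).card : F) := by
  set m := Fintype.card F - 1 with hm
  have hm1 : 1 ≤ m := by have := Fintype.one_lt_card (α := F); omega
  rcases s.eq_empty_or_nonempty with rfl | hs
  · simp
  let f : (ι → F) → ι → (V → F) → F := fun e i => 1 - (P i - Function.const _ (e i)) ^ m
  have hcount : ∀ e : ι → F, ((Finset.univ.filter fun x : V → F => ∀ i ∈ s, P i x = e i).card : F) =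
      ∑ x : V → F, (∏ i ∈ s, f e i) x := by
    intro e
    rw [Finset.natCast_card_filter]
    refine Finset.sum_congr rfl fun x _ => ?_
    rw [Finset.prod_apply]
    have hv : ∀ i, f e i x = if P i x = e i then 1 else 0 := by
      intro i
      simp only [f, Pi.sub_apply, Pi.one_apply, Pi.pow_apply, Function.const_apply]
      split_ifs with h
      · rw [h, sub_self, zero_pow (by omega), sub_zero]
      · rw [hm, FiniteField.pow_card_sub_one_eq_one _ (sub_ne_zero.2 h), sub_self]
    simp only [hv]
    split_ifs with h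
    · exact (Finset.prod_eq_one fun i hi => if_pos (h i hi)).symm
    · push Not at h
      obtain ⟨i, hi, hne⟩ := h
      exact (Finset.prod_eq_zero hi (if_neg hne)).symm
  have hc : ∀ (c : F) (A : ℕ), (Function.const _ c : (V → F) → F) ∈ S F w A := by
    intro c A
    have e : (Function.const _ c : (V → F) → F) = c • 1 := funext fun x => by simp
    rw [e]
    exact Submodule.smul_mem _ _ (S_mono (Nat.zero_le A) one_mem_S)
  have hf : ∀ (e : ι → F), ∀ i ∈ s, f e i ∈ S F w (m * W i) := fun e i hi =>
    sub_mem (S_mono (Nat.zero_le _) one_mem_S) (pow_mem_S (sub_mem (hP i hi) (hc _ _)) m)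
  have hdiff : ∀ i ∈ s, f d i - f d' i ∈ S F w (m * W i - 1) := by
    intro i hi
    have e : f d i - f d' i =
        (P i - Function.const _ (d' i)) ^ m - (P i - Function.const _ (d i)) ^ m := by
      simp only [f]; ring
    rw [e, ← geom_sum₂_mul]
    have h2 : (P i - Function.const _ (d' i)) - (P i - Function.const _ (d i)) =
        (d i - d' i) • (1 : (V → F) → F) := funext fun x => by simp
    rw [h2, mul_smul_comm, mul_one]
    refine Submodule.smul_mem _ _ (sum_mem fun j hj => ?_)
    have hj' := Finset.mem_range.1 hj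
    refine S_mono ?_ (mul_mem_S (pow_mem_S (sub_mem (hP i hi) (hc _ _)) j)
      (pow_mem_S (sub_mem (hP i hi) (hc _ _)) (m - 1 - j)))
    rw [← add_mul, show j + (m - 1 - j) = m - 1 by omega, Nat.sub_mul, one_mul]
    have := hW i hi
    omega
  have hmem := prod_sub_prod_mem_S s (fun i hi => Nat.one_le_iff_ne_zero.2 (Nat.mul_ne_zero (by omega)
    (by have := hW i hi; omega))) (hf d) (hf d') hdiff
  have hpos : 1 ≤ m * ∑ i ∈ s, W i := by
    obtain ⟨b, hb⟩ := hs
    exact Nat.one_le_iff_ne_zero.2 (Nat.mul_ne_zero (by omega) (by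
      have := (hW b hb).trans (Finset.single_le_sum (f := W) (fun i _ => Nat.zero_le _) hb)
      omega))
  have hlt : (∑ i ∈ s, m * W i) - 1 < m * ∑ v, w v := by
    rw [← Finset.mul_sum]
    have := Nat.mul_le_mul_left m htot
    omega
  have := sum_eq_zero_of_mem_S hlt hmem
  rw [hcount, hcount]
  simpa [Finset.sum_sub_distrib, sub_eq_zero] using this

end Weighted

section Minors

variable {F : Type*} [Field F] {n : ℕ}

/-- The first `k + 1` indices. -/
abbrev lead (k : Fin n) : Fin ((k : ℕ) + 1) → Fin n := Fin.castLE k.isLt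

/-- The determinant of the last `k + 1` rows, in reverse order, and the first `k + 1` columns. -/
def delta (k : Fin n) (M : Matrix (Fin n) (Fin n) F) : F :=
  (M.submatrix (Fin.rev ∘ lead k) (lead k)).det

/-- The determinant of the first `k + 1` rows and the last `k + 1` columns, in reverse order. -/
def corner (k : Fin n) (M : Matrix (Fin n) (Fin n) F) : F :=
  (M.submatrix (lead k) (Fin.rev ∘ lead k)).det

/-- The positions above the diagonal. -/
abbrev Pos (n : ℕ) : Type := {p : Fin n × Fin n // p.1 < p.2}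

/-- The weight of a position. -/
def wt (v : Pos n) : ℕ := (v.1.2 : ℕ) - v.1.1

/-- The unitriangular matrix with given entries. -/
def mat (x : Pos n → F) : Matrix (Fin n) (Fin n) F := Matrix.of fun i j =>
  if h : i < j then x ⟨(i, j), h⟩ else if i = j then 1 else 0

variable [Fintype F]

theorem entry_mem_S (i j : Fin n) : (fun x : Pos n → F => mat x i j) ∈ S F wt ((j : ℕ) - i) := by
  by_cases h : i < j
  · simpa [mat, h, wt] using var_mem_S (F := F) (w := wt) (⟨(i, j), h⟩ : Pos n)
  by_cases h' : i = j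
  · subst h'
    simp only [mat, Matrix.of_apply, lt_irrefl, dite_false, if_true, Nat.sub_self]
    exact one_mem_S
  · simp only [mat, Matrix.of_apply, dif_neg h, if_neg h']
    exact zero_mem _

theorem corner_mem_S (k : Fin n) :
    (fun x : Pos n → F => corner k (mat x)) ∈ S F wt (((k : ℕ) + 1) * (n - ((k : ℕ) + 1))) := by
  have e : (fun x : Pos n → F => corner k (mat x)) = ∑ σ : Equiv.Perm (Fin ((k : ℕ) + 1)),
      ((Equiv.Perm.sign σ : ℤ) : F) • ∏ c : Fin ((k : ℕ) + 1), fun x : Pos n → F =>
        mat x (lead k (σ c)) (Fin.rev (lead k c)) := by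
    funext x
    rw [corner, Matrix.det_apply']
    simp [Finset.sum_apply, Finset.prod_apply]
  rw [e]
  refine sum_mem fun σ _ => Submodule.smul_mem _ _ ?_
  by_cases hbad : ∃ c, Fin.rev (lead k c) < lead k (σ c)
  · obtain ⟨c, hc⟩ := hbad
    rw [Finset.prod_eq_zero (Finset.mem_univ c) (funext fun x => by simp [mat, hc.le.not_gt, ne_of_gt hc])]
    exact zero_mem _
  push Not at hbad
  refine S_mono (le_of_eq ?_) (prod_mem_S Finset.univ fun c _ => entry_mem_S _ _)
  have hk : (k : ℕ) + 1 ≤ n := k.isLt
  have h1 : (∑ c : Fin ((k : ℕ) + 1), (((Fin.rev (lead k c) : Fin n) : ℕ) - (lead k (σ c) : ℕ))) + ∑ c : Fin ((k : ℕ) + 1), (c : ℕ) =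
      ∑ c : Fin ((k : ℕ) + 1), ((Fin.rev (lead k c) : Fin n) : ℕ) := by
    conv_lhs => arg 2; rw [← Equiv.sum_comp σ (fun c : Fin ((k : ℕ) + 1) => (c : ℕ))]
    rw [← Finset.sum_add_distrib]
    refine Finset.sum_congr rfl fun c _ => ?_
    have := Fin.le_def.1 (hbad c)
    have h0 := c.isLt
    simp only [Fin.val_castLE] at this ⊢
    omega
  have h2 : (∑ c : Fin ((k : ℕ) + 1), ((Fin.rev (lead k c) : Fin n) : ℕ)) + ∑ c : Fin ((k : ℕ) + 1), (c : ℕ) = ((k : ℕ) + 1) * (n - 1) := by
    rw [← Finset.sum_add_distrib]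
    rw [Finset.sum_congr rfl (g := fun _ => n - 1) fun c _ => ?_]
    · simp
    · simp only [Fin.val_rev, Fin.val_castLE]
      have := c.isLt
      omega
  have h3 : (∑ c : Fin ((k : ℕ) + 1), (c : ℕ)) * 2 = ((k : ℕ) + 1) * k := by
    rw [Fin.sum_univ_eq_sum_range (fun i => i), Finset.sum_range_id_mul_two, Nat.add_sub_cancel]
  have h4 : ((k : ℕ) + 1) * (n - 1) = ((k : ℕ) + 1) * k + ((k : ℕ) + 1) * (n - ((k : ℕ) + 1)) := by
    rw [← Nat.mul_add]; congr 1; omega
  omega

theorem sum_weights : ∑ k : Fin n, ((k : ℕ) + 1) * (n - ((k : ℕ) + 1)) = ∑ v : Pos n, wt v := by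
  have h1 : ∀ v : Pos n, wt v = ∑ m : Fin n, if v.1.1 ≤ m ∧ m < v.1.2 then 1 else 0 := by
    intro v
    rw [← Finset.sum_filter, Finset.sum_const, smul_eq_mul, mul_one]
    have : (Finset.univ.filter fun m : Fin n => v.1.1 ≤ m ∧ m < v.1.2) = Finset.Ico v.1.1 v.1.2 := by
      ext m; simp
    rw [this, Fin.card_Ico]
    rfl
  simp only [h1]
  rw [Finset.sum_comm]
  refine Finset.sum_congr rfl fun m _ => ?_
  rw [← Finset.sum_filter, Finset.sum_const, smul_eq_mul, mul_one]
  have hc : (Finset.univ.filter fun v : Pos n => v.1.1 ≤ m ∧ m < v.1.2).card =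
      (Finset.Iic m ×ˢ Finset.Ioi m).card := by
    refine Finset.card_bij (fun v _ => v.1) (fun v hv => ?_) (fun a _ b _ h => Subtype.ext h) fun q hq => ?_
    · simpa using hv
    · simp only [Finset.mem_product, Finset.mem_Iic, Finset.mem_Ioi] at hq
      exact ⟨⟨q, lt_of_le_of_lt hq.1 hq.2⟩, by simpa using hq, rfl⟩
  rw [hc, Finset.card_product, Fin.card_Iic, Fin.card_Ioi]
  congr 1
  omega

theorem mat_mem (u : Matrix.SpecialLinearGroup (Fin n) F) (hu : u ∈ U F n) :
    mat (fun v : Pos n => u.1 v.1.1 v.1.2) = u.1 := by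
  ext i j
  by_cases h : i < j
  · simp [mat, h]
  by_cases h' : i = j
  · subst h'; simp [mat, U_diag hu]
  · simp [mat, h, h', U_below hu (lt_of_le_of_ne (not_lt.1 h) (Ne.symm h'))]

theorem mat_det (x : Pos n → F) : (mat x).det = 1 := by
  rw [Matrix.det_of_upperTriangular fun i j (h : j < i) => by simp [mat, h.le.not_gt, ne_of_gt h]]
  simp [mat]

theorem mat_mem_U (x : Pos n → F) : (⟨mat x, mat_det x⟩ : Matrix.SpecialLinearGroup (Fin n) F) ∈ U F n := by
  intro a b hab
  show mat x a b - (1 : Matrix (Fin n) (Fin n) F) a b = 0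
  by_cases h' : a = b
  · subst h'; simp [mat]
  · have h : ¬ a < b := fun h => by have := Fin.lt_def.1 h; omega
    simp [mat, h, h', Matrix.one_apply_ne h']

/-- The coordinates of the unitriangular subgroup. -/
def coord : U F n ≃ (Pos n → F) where
  toFun u v := u.1.1 v.1.1 v.1.2
  invFun x := ⟨⟨mat x, mat_det x⟩, mat_mem_U x⟩
  left_inv u := Subtype.ext (Subtype.ext (mat_mem u.1 u.2))
  right_inv x := funext fun v => by simp [mat, v.2]

/-- The number of elements of `U` with prescribed corner minors is constant modulo the characteristic. -/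
theorem card_corner_congr (d d' : Fin n → F) :
    (Nat.card {u : U F n // ∀ k : Fin n, (k : ℕ) + 1 < n → corner k u.1.1 = d k} : F) =
      (Nat.card {u : U F n // ∀ k : Fin n, (k : ℕ) + 1 < n → corner k u.1.1 = d' k} : F) := by
  classical
  set s := Finset.univ.filter fun k : Fin n => (k : ℕ) + 1 < n
  have htot : ∑ k ∈ s, ((k : ℕ) + 1) * (n - ((k : ℕ) + 1)) ≤ ∑ v : Pos n, wt v := by
    rw [← sum_weights]
    exact Finset.sum_le_univ_sum_of_nonneg fun _ => Nat.zero_le _
  have key : ∀ e : Fin n → F,
      Nat.card {u : U F n // ∀ k : Fin n, (k : ℕ) + 1 < n → corner k u.1.1 = e k} =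
        (Finset.univ.filter fun x : Pos n → F => ∀ k ∈ s, corner k (mat x) = e k).card := by
    intro e
    rw [← Fintype.card_subtype, ← Nat.card_eq_fintype_card]
    refine Nat.card_congr (coord.subtypeEquiv fun u => ?_)
    simp only [s, Finset.mem_filter, Finset.mem_univ, true_and, coord, Equiv.coe_fn_mk, mat_mem u.1 u.2]
  rw [key, key]
  have hW : ∀ k ∈ s, 1 ≤ ((k : ℕ) + 1) * (n - ((k : ℕ) + 1)) := fun k hk => by
    simp only [s, Finset.mem_filter] at hk
    exact Nat.one_le_iff_ne_zero.2 (Nat.mul_ne_zero (by omega) (by omega))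
  convert card_solutions_congr s (fun k x => corner k (mat x)) _ hW (fun k _ => corner_mem_S k) htot d d' using 3 <;>
    exact Finset.ext fun x => by simp

end Minors

end CfsgLib.PGroup.SLMinorCount
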