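import Cfsg.Agent.Lib.PGroup.SUElements

/-!
Centralisers of the radicals of the minimal parabolic subgroups of `SU_n`, and the centre of the unitriangular
subgroup.
-/

set_option autoImplicit false
set_option linter.unusedSectionVars false

namespace CfsgLib.PGroup.SUCentral

open Matrix CfsgLib.Classical CfsgLib.PGroup.UnitriangularSL CfsgLib.PGroup.SplitMonomial CfsgLib.PGroup.SUModel
  CfsgLib.PGroup.SURoots CfsgLib.PGroup.SteinbergSU CfsgLib.PGroup.SUElements

variable {F : Type*} [Field F] [Fintype F] {σ : F →+* F} {n : ℕ} (D : Datum σ)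

theorem rev_ne_of_low {j : Fin n} (h : 2 * ((j : ℕ) + 1) ≤ n) : j ≠ Fin.rev j := fun e => by
  have := congrArg Fin.val e
  rw [Fin.val_rev] at this
  omega

theorem mem_U_of_support {y : SUJ σ n} (hd : ∀ a, y.1.1 a a = 1)
    (hs : ∀ a b, a ≠ b → y.1.1 a b ≠ 0 → a < b) : y ∈ U σ n :=
  mem_U_iff.2 ⟨hd, fun a b hab => by_contra fun h => lt_asymm hab (hs a b hab.ne' h)⟩

theorem elS_diag {p q : Fin n} (h1 : p ≠ q) (h2 : p ≠ Fin.rev q) (h3 : p ≠ Fin.rev p) (h4 : q ≠ Fin.rev q) (c : F)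
    (a : Fin n) : (elS D h1 h2 h3 h4 c).1.1 a a = 1 := by
  have hne : Fin.rev q ≠ Fin.rev p := Fin.rev_injective.ne h1.symm
  rw [elS_coe, Matrix.add_apply, Matrix.add_apply, Matrix.one_apply_eq, Matrix.single_apply, Matrix.single_apply,
    if_neg (fun e => h1 (e.1.trans e.2.symm)), if_neg (fun e => hne (e.1.trans e.2.symm)), add_zero, add_zero]

theorem elS_support {p q : Fin n} (h1 : p ≠ q) (h2 : p ≠ Fin.rev q) (h3 : p ≠ Fin.rev p) (h4 : q ≠ Fin.rev q)
    (c : F) {a b : Fin n} (hab : a ≠ b) (h : (elS D h1 h2 h3 h4 c).1.1 a b ≠ 0) :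
    (a = p ∧ b = q) ∨ (a = Fin.rev q ∧ b = Fin.rev p) := by
  rw [elS_coe, Matrix.add_apply, Matrix.add_apply, Matrix.one_apply_ne hab, Matrix.single_apply,
    Matrix.single_apply] at h
  by_cases e1 : p = a ∧ q = b
  · exact Or.inl ⟨e1.1.symm, e1.2.symm⟩
  by_cases e2 : Fin.rev q = a ∧ Fin.rev p = b
  · exact Or.inr ⟨e2.1.symm, e2.2.symm⟩
  simp [e1, e2] at h

theorem elS_mem_U {p q : Fin n} (h1 : p < q) (h2 : p ≠ Fin.rev q) (h3 : p ≠ Fin.rev p) (h4 : q ≠ Fin.rev q)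
    (c : F) : elS D h1.ne h2 h3 h4 c ∈ U σ n :=
  mem_U_of_support (elS_diag D _ _ _ _ c) fun a b hab h => by
    rcases elS_support D _ _ _ _ c hab h with ⟨rfl, rfl⟩ | ⟨rfl, rfl⟩
    exacts [h1, Fin.rev_lt_rev.2 h1]

theorem elS_mem_Y {i : ι n} {p q : Fin n} (h1 : p < q) (h2 : p ≠ Fin.rev q) (h3 : p ≠ Fin.rev p)
    (h4 : q ≠ Fin.rev q) (hi : ¬ Inv i p q) (hi' : ¬ Inv i (Fin.rev q) (Fin.rev p)) (c : F) :
    elS D h1.ne h2 h3 h4 c ∈ Y D i :=
  (mem_Y D).2 ⟨elS_mem_U D h1 h2 h3 h4 c, fun a b hab => by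
    by_contra h
    rcases elS_support D _ _ _ _ c hab.1.ne h with ⟨rfl, rfl⟩ | ⟨rfl, rfl⟩
    exacts [hi hab, hi' hab]⟩

theorem elT_diag {j : Fin n} (h : j ≠ Fin.rev j) (b : F) (hb : b + σ b = 0) (a : Fin n) :
    (elT h b hb).1.1 a a = 1 := by
  rw [elT_coe, Matrix.add_apply, Matrix.one_apply_eq, Matrix.single_apply,
    if_neg (fun e => h (e.1.trans e.2.symm)), add_zero]

theorem elT_support {j : Fin n} (h : j ≠ Fin.rev j) (b : F) (hb : b + σ b = 0) {x y : Fin n} (hxy : x ≠ y)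
    (h0 : (elT h b hb).1.1 x y ≠ 0) : x = j ∧ y = Fin.rev j := by
  rw [elT_coe, Matrix.add_apply, Matrix.one_apply_ne hxy, Matrix.single_apply] at h0
  by_cases e : j = x ∧ Fin.rev j = y
  · exact ⟨e.1.symm, e.2.symm⟩
  · simp [e] at h0

theorem elT_mem_U {j : Fin n} (h : j < Fin.rev j) (b : F) (hb : b + σ b = 0) : elT h.ne b hb ∈ U σ n :=
  mem_U_of_support (elT_diag _ b hb) fun x y hxy h0 => by
    obtain ⟨rfl, rfl⟩ := elT_support _ b hb hxy h0
    exact h

theorem elT_mem_Y {i : ι n} {j : Fin n} (h : j < Fin.rev j) (hi : ¬ Inv i j (Fin.rev j)) (b : F) (hb : b + σ b = 0) :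
    elT h.ne b hb ∈ Y D i :=
  (mem_Y D).2 ⟨elT_mem_U h b hb, fun x y hxy => by
    by_contra h0
    obtain ⟨rfl, rfl⟩ := elT_support _ b hb hxy.1.ne h0
    exact hi hxy⟩

theorem elM_support (hσ : IsConjugation σ) {j M : Fin n} (h : j ≠ Fin.rev j) (hM : Fin.rev M = M) (a b : F)
    (hab : b + σ b + a * σ a = 0) {x y : Fin n} (hxy : x ≠ y) (h0 : (elM hσ h hM a b hab).1.1 x y ≠ 0) :
    (x = j ∧ y = M) ∨ (x = M ∧ y = Fin.rev j) ∨ (x = j ∧ y = Fin.rev j) := by
  rw [elM_coe] at h0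
  simp only [Matrix.add_apply, Matrix.one_apply_ne hxy, Matrix.single_apply] at h0
  by_cases e1 : j = x ∧ M = y
  · exact Or.inl ⟨e1.1.symm, e1.2.symm⟩
  by_cases e2 : M = x ∧ Fin.rev j = y
  · exact Or.inr (Or.inl ⟨e2.1.symm, e2.2.symm⟩)
  by_cases e3 : j = x ∧ Fin.rev j = y
  · exact Or.inr (Or.inr ⟨e3.1.symm, e3.2.symm⟩)
  simp [e1, e2, e3] at h0

theorem elM_diag (hσ : IsConjugation σ) {j M : Fin n} (h : j ≠ Fin.rev j) (hM : Fin.rev M = M) (a b : F)
    (hab : b + σ b + a * σ a = 0) (x : Fin n) : (elM hσ h hM a b hab).1.1 x x = 1 := by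
  have h1 : j ≠ M := fun e => h (by rw [e, hM])
  have h2 : Fin.rev j ≠ M := fun e => h1 (Fin.rev_injective (e.trans hM.symm))
  rw [elM_coe]
  simp only [Matrix.add_apply, Matrix.one_apply_eq, Matrix.single_apply]
  rw [if_neg (fun e => h1 (e.1.trans e.2.symm)), if_neg (fun e => h2 (e.2.trans e.1.symm)),
    if_neg (fun e => h (e.1.trans e.2.symm))]
  simp

theorem elM_mem_U (hσ : IsConjugation σ) {j M : Fin n} (h : j < Fin.rev j) (hM : Fin.rev M = M) (a b : F)
    (hab : b + σ b + a * σ a = 0) : elM hσ h.ne hM a b hab ∈ U σ n :=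
  mem_U_of_support (elM_diag hσ _ hM a b hab) fun x y hxy h0 => by
    have h1 := congrArg Fin.val hM
    rw [Fin.lt_def, Fin.val_rev] at h
    rw [Fin.val_rev] at h1
    rcases elM_support hσ _ hM a b hab hxy h0 with ⟨rfl, rfl⟩ | ⟨rfl, rfl⟩ | ⟨rfl, rfl⟩ <;>
      simp only [Fin.lt_def, Fin.val_rev] <;> omega

theorem of_commute_single {A : Matrix (Fin n) (Fin n) F} {i j : Fin n} {t : F} (ht : t ≠ 0)
    (h : A * Matrix.single i j t = Matrix.single i j t * A) :
    (∀ a, a ≠ i → A a i = 0) ∧ (∀ b, b ≠ j → A j b = 0) ∧ A i i = A j j := by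
  have h2 : ∀ a b, (if b = j then A a i * t else 0) = (if a = i then t * A j b else 0) := fun a b => by
    have := congrArg (fun M : Matrix (Fin n) (Fin n) F => M a b) h
    simpa [mul_single', single_mul'] using this
  refine ⟨fun a ha => ?_, fun b hb => ?_, ?_⟩
  · have := h2 a j
    rw [if_pos rfl, if_neg ha] at this
    exact (mul_eq_zero.1 this).resolve_right ht
  · have := h2 i b
    rw [if_neg hb, if_pos rfl] at this
    exact (mul_eq_zero.1 this.symm).resolve_left ht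
  · have := h2 i j
    rw [if_pos rfl, if_pos rfl, mul_comm] at this
    exact mul_left_cancel₀ ht this

include D in
theorem scaling {x y : F} (h : ∀ t : F, t * x = -σ t * y) : x = 0 ∧ y = 0 := by
  obtain ⟨t, ht⟩ := D.conj.exists_not_fixed
  have h1 := h 1
  rw [one_mul, map_one, neg_one_mul] at h1
  have h2 := h t
  rw [h1] at h2
  have hy : y = 0 := by
    have : (σ t - t) * y = 0 := by linear_combination h2
    exact (mul_eq_zero.1 this).resolve_left (sub_ne_zero.2 ht)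
  exact ⟨by rw [h1, hy, neg_zero], hy⟩

theorem commute_elT {c : SUJ σ n} {j : Fin n} (h : j ≠ Fin.rev j) (hc : Commute c (elT h D.δ D.δ_skew)) :
    (∀ x, x ≠ j → c.1.1 x j = 0) ∧ (∀ y, y ≠ Fin.rev j → c.1.1 (Fin.rev j) y = 0) ∧
      c.1.1 j j = c.1.1 (Fin.rev j) (Fin.rev j) := by
  have e : (c * elT h D.δ D.δ_skew).1.1 = (elT h D.δ D.δ_skew * c).1.1 := by rw [hc.eq]
  rw [coe_mul, coe_mul, elT_coe, Matrix.mul_add, Matrix.add_mul, Matrix.mul_one, Matrix.one_mul, add_right_inj] at e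
  exact of_commute_single D.δ_ne e

theorem commute_elS {c : SUJ σ n} {p q : Fin n} (h1 : p ≠ q) (h2 : p ≠ Fin.rev q) (h3 : p ≠ Fin.rev p)
    (h4 : q ≠ Fin.rev q) (hc : ∀ t, Commute c (elS D h1 h2 h3 h4 t)) :
    (∀ y, y ≠ q → y ≠ Fin.rev p → c.1.1 q y = 0) ∧ (∀ x, x ≠ p → x ≠ Fin.rev q → c.1.1 x (Fin.rev q) = 0) ∧
      c.1.1 p p = c.1.1 q q ∧ c.1.1 q (Fin.rev p) = 0 ∧ c.1.1 p (Fin.rev q) = 0 := by
  have hrel : ∀ (t : F) (x y : Fin n),
      (if y = q then c.1.1 x p * t else 0) + (if y = Fin.rev p then c.1.1 x (Fin.rev q) * -σ t else 0) =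
        (if x = p then t * c.1.1 q y else 0) + (if x = Fin.rev q then -σ t * c.1.1 (Fin.rev p) y else 0) := by
    intro t x y
    have e : (c * elS D h1 h2 h3 h4 t).1.1 = (elS D h1 h2 h3 h4 t * c).1.1 := by rw [(hc t).eq]
    rw [coe_mul, coe_mul, elS_coe, Matrix.mul_add, Matrix.mul_add, Matrix.add_mul, Matrix.add_mul, Matrix.mul_one,
      Matrix.one_mul, add_assoc, add_assoc, add_right_inj] at e
    have e' := congrArg (fun M : Matrix (Fin n) (Fin n) F => M x y) e
    simpa only [Matrix.add_apply, mul_single', single_mul'] using e'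
  have hqp : q ≠ Fin.rev p := fun e => h2 (by rw [e, Fin.rev_rev])
  refine ⟨fun y hy1 hy2 => ?_, fun x hx1 hx2 => ?_, ?_, ?_⟩
  · have := hrel 1 p y
    simpa [hy1, hy2, h2] using this.symm
  · have := hrel 1 x (Fin.rev p)
    simpa [hx1, hx2, hqp.symm] using this
  · have := hrel 1 p q
    simpa [hqp, h2] using this
  · refine scaling D fun t => ?_
    have := hrel t p (Fin.rev p)
    simp only [if_true, if_neg hqp.symm, if_neg h2, zero_add, add_zero] at this
    rw [← this, mul_comm]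

theorem commute_elM {c : SUJ σ n} {o M : Fin n} (h : o ≠ Fin.rev o) (hM : Fin.rev M = M)
    (hc : ∀ (a b : F) (hab : b + σ b + a * σ a = 0), Commute c (elM D.conj h hM a b hab))
    (hoo : c.1.1 o o = c.1.1 (Fin.rev o) (Fin.rev o)) (hrow : ∀ y, y ≠ Fin.rev o → c.1.1 (Fin.rev o) y = 0) :
    c.1.1 o o = c.1.1 M M ∧ c.1.1 M (Fin.rev o) = 0 ∧
      ∀ y, y ≠ M → y ≠ Fin.rev o → c.1.1 M y = 0 := by
  have h1 : o ≠ M := fun e => h (by rw [e, hM])
  have h2 : Fin.rev o ≠ M := fun e => h1 (Fin.rev_injective (e.trans hM.symm))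
  obtain ⟨b₁, hb₁⟩ := D.conj.exists_trace_eq (a := -1) (by simp)
  have hb : ∀ a : F, ∃ b, b + σ b + a * σ a = 0 := fun a => by
    obtain ⟨b, hb⟩ := D.conj.exists_trace_eq (a := -(a * σ a)) (by rw [map_neg, D.conj.norm_fixed])
    exact ⟨b, by rw [hb, neg_add_cancel]⟩
  have hrel : ∀ (a b : F), b + σ b + a * σ a = 0 → ∀ (x y : Fin n),
      (if y = M then c.1.1 x o * a else 0) + (if y = Fin.rev o then c.1.1 x M * -σ a else 0) +
          (if y = Fin.rev o then c.1.1 x o * b else 0) =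
        (if x = o then a * c.1.1 M y else 0) + (if x = M then -σ a * c.1.1 (Fin.rev o) y else 0) +
          (if x = o then b * c.1.1 (Fin.rev o) y else 0) := by
    intro a b hab x y
    have e : (c * elM D.conj h hM a b hab).1.1 = (elM D.conj h hM a b hab * c).1.1 := by rw [(hc a b hab).eq]
    rw [coe_mul, coe_mul, elM_coe] at e
    simp only [Matrix.mul_add, Matrix.add_mul, Matrix.mul_one, Matrix.one_mul, add_assoc, add_right_inj] at e
    have e' := congrArg (fun M : Matrix (Fin n) (Fin n) F => M x y) e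
    simpa only [Matrix.add_apply, mul_single', single_mul', add_assoc] using e'
  refine ⟨?_, ?_, fun y hy1 hy2 => ?_⟩
  · have := hrel 1 b₁ (by rw [map_one, one_mul, hb₁, neg_add_cancel]) o M
    simpa [h1, h2.symm, hrow M h2.symm] using this
  · refine (scaling D (x := c.1.1 M (Fin.rev o)) (y := c.1.1 o M) fun a => ?_).1
    obtain ⟨b, hab⟩ := hb a
    have := hrel a b hab o (Fin.rev o)
    simp only [if_true, if_neg h1, if_neg h2, add_zero, zero_add, ← hoo] at this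
    linear_combination -this
  · have := hrel 1 b₁ (by rw [map_one, one_mul, hb₁, neg_add_cancel]) o y
    simpa [h1, hy1, hy2, hrow y hy2] using this.symm

theorem exists_center_mul {c : SUJ σ n} (hcB : c ∈ B σ n) (hn : 0 < n) {i : ι n} {r : F}
    (hd : ∀ a, c.1.1 a a = r) (h0 : ∀ a b, Inv i a b → c.1.1 a b = 0) :
    ∃ z ∈ Subgroup.center (SUJ σ n), ∃ u ∈ Y D i, c = z * u := by
  obtain ⟨d, hdm, -, u, hu, rfl⟩ := exists_decomp hcB
  have hentry : ∀ a b, (d * u).1.1 a b = d.1.1 a a * u.1.1 a b := fun a b => by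
    rw [coe_mul]
    exact hdm.mul_apply_perm u.1.1 a b
  have hdr : ∀ a, d.1.1 a a = r := fun a => by rw [← hd a, hentry, (mem_U_iff.1 hu).1, mul_one]
  have hds : d.1.1 = r • (1 : Matrix (Fin n) (Fin n) F) := by
    ext a b
    rcases eq_or_ne a b with rfl | hab
    · simp [hdr]
    · simp [hdm a b (by simpa using hab), Matrix.one_apply_ne hab]
  have hr : r ≠ 0 := by
    rw [← hdr ⟨0, hn⟩]
    exact hdm.entry_ne_zero (det_ne d) ⟨0, hn⟩
  refine ⟨d, Subgroup.mem_center_iff.2 fun g => ext' (by rw [coe_mul, coe_mul, hds]; simp), u,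
    (mem_Y D).2 ⟨hu, fun a b hab => ?_⟩, rfl⟩
  have := h0 a b hab
  rw [hentry, hdr] at this
  exact (mul_eq_zero.1 this).resolve_left hr

/-- What commutes with a radical. -/
theorem commute_Y (hn : 4 ≤ n) {i : ι n} {c : SUJ σ n} (hc : ∀ u ∈ Y D i, Commute c u) :
    ∃ z ∈ Subgroup.center (SUJ σ n), ∃ u ∈ Y D i, c = z * u := by
  classical
  set o : Fin n := ⟨0, by omega⟩
  have ho : (o : ℕ) = 0 := rfl
  -- long elements
  have hT : ∀ j : Fin n, 2 * ((j : ℕ) + 1) ≤ n → ¬ Inv i j (Fin.rev j) →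
      (∀ x, x ≠ j → c.1.1 x j = 0) ∧ (∀ y, y ≠ Fin.rev j → c.1.1 (Fin.rev j) y = 0) ∧
        c.1.1 j j = c.1.1 (Fin.rev j) (Fin.rev j) := fun j hj hi => by
    have hlt : j < Fin.rev j := by rw [Fin.lt_def, Fin.val_rev]; omega
    exact commute_elT D hlt.ne (hc _ (elT_mem_Y D hlt hi D.δ D.δ_skew))
  have hTo : (∀ x, x ≠ o → c.1.1 x o = 0) ∧ (∀ y, y ≠ Fin.rev o → c.1.1 (Fin.rev o) y = 0) ∧
      c.1.1 o o = c.1.1 (Fin.rev o) (Fin.rev o) := by
    refine hT o (by omega) fun h => ?_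
    rcases i with k | e
    · rcases h.cases_short with ⟨h1, h2⟩ | ⟨h1, h2⟩ <;>
        · have := congrArg Fin.val h2; have := congrArg Fin.val h1; have := k.2
          simp only [Fin.val_rev, k1_val] at *; omega
    · obtain ⟨h1, -, -⟩ := h.cases_mid
      rcases e with e | e <;> simp only [posI] at h1 <;> have := e.2 <;> omega
  -- short elements through the first index
  have hS : ∀ q : Fin n, (q : ℕ) ≠ 0 → (q : ℕ) + 1 ≠ n → 2 * (q : ℕ) + 1 ≠ n → ¬ Inv i o q →
      ¬ Inv i (Fin.rev q) (Fin.rev o) →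
      (∀ y, y ≠ q → y ≠ Fin.rev o → c.1.1 q y = 0) ∧ (∀ x, x ≠ o → x ≠ Fin.rev q → c.1.1 x (Fin.rev q) = 0) ∧
        c.1.1 o o = c.1.1 q q := fun q h1 h2 h3 hi hi' => by
    have e1 : o < q := Fin.lt_def.2 (by omega)
    have e2 : o ≠ Fin.rev q := Fin.ne_of_val_ne (by rw [Fin.val_rev]; omega)
    have e3 : o ≠ Fin.rev o := Fin.ne_of_val_ne (by rw [Fin.val_rev]; omega)
    have e4 : q ≠ Fin.rev q := Fin.ne_of_val_ne (by rw [Fin.val_rev]; omega)
    obtain ⟨a, b, d, -, -⟩ := commute_elS D e1.ne e2 e3 e4 (fun t => hc _ (elS_mem_Y D e1 e2 e3 e4 hi hi' t))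
    exact ⟨a, b, d⟩
  have hupper : ∀ j : Fin n, (j : ℕ) ≠ 0 → 2 * ((j : ℕ) + 1) ≤ n →
      c.1.1 o o = c.1.1 (Fin.rev j) (Fin.rev j) := fun j h1 h2 => by
    refine (hS (Fin.rev j) (by rw [Fin.val_rev]; omega) (by rw [Fin.val_rev]; omega) (by rw [Fin.val_rev]; omega)
      (fun h => ?_) (fun h => ?_)).2.2
    all_goals
      rcases i with k | e
      · have := k.2
        rcases h.cases_short with ⟨e1, e2⟩ | ⟨e1, e2⟩ <;>
          · have := congrArg Fin.val e1; have := congrArg Fin.val e2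
            simp only [Fin.val_rev, k1_val] at *; omega
      · obtain ⟨e1, -, e3⟩ := h.cases_mid
        rcases e with e | e <;> simp only [posI, Fin.val_rev] at e1 e3 <;> have := e.2 <;> omega
  have hmid : ∀ M : Fin n, Fin.rev M = M → c.1.1 o o = c.1.1 M M := fun M hM => by
    have hv := congrArg Fin.val hM
    rw [Fin.val_rev] at hv
    have hlt : o < Fin.rev o := by rw [Fin.lt_def, Fin.val_rev]; omega
    refine (commute_elM D hlt.ne hM (fun a b hab => hc _ ((mem_Y D).2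
      ⟨elM_mem_U D.conj hlt hM a b hab, fun x y hxy => ?_⟩)) hTo.2.2 hTo.2.1).1
    by_contra h0
    have hsupp := elM_support D.conj _ hM a b hab hxy.1.ne h0
    rcases i with k | e
    · have := k.2
      rcases hsupp with ⟨rfl, rfl⟩ | ⟨rfl, rfl⟩ | ⟨rfl, rfl⟩ <;>
        rcases hxy.cases_short with ⟨e1, e2⟩ | ⟨e1, e2⟩ <;>
        · have := congrArg Fin.val e1; have := congrArg Fin.val e2
          simp only [Fin.val_rev, k1_val] at *; omega
    · obtain ⟨e1, -, e3⟩ := hxy.cases_mid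
      rcases hsupp with ⟨rfl, rfl⟩ | ⟨rfl, rfl⟩ | ⟨rfl, rfl⟩ <;>
        rcases e with e | e <;> simp only [posI, Fin.val_rev] at e1 e3 <;> have := e.2 <;> omega
  have hdiag : (∀ j : Fin n, (j : ℕ) ≠ 0 → 2 * ((j : ℕ) + 1) ≤ n → c.1.1 o o = c.1.1 j j) →
      ∀ a, c.1.1 a a = c.1.1 o o := fun hlow a => by
    by_cases h1 : 2 * ((a : ℕ) + 1) ≤ n
    · by_cases h2 : (a : ℕ) = 0
      · rw [show a = o from Fin.ext h2]
      · exact (hlow a h2 h1).symm
    by_cases h3 : 2 * (a : ℕ) + 1 = n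
    · exact (hmid a (Fin.ext (by rw [Fin.val_rev]; omega))).symm
    by_cases h4 : (a : ℕ) + 1 = n
    · rw [show a = Fin.rev o from Fin.ext (by rw [Fin.val_rev]; omega)]
      exact hTo.2.2.symm
    · have := hupper (Fin.rev a) (by rw [Fin.val_rev]; omega) (by rw [Fin.val_rev]; omega)
      rw [Fin.rev_rev] at this
      exact this.symm
  rcases i with k | e
  · have hT' : ∀ j : Fin n, 2 * ((j : ℕ) + 1) ≤ n → _ := fun j hj => hT j hj fun h => by
      have := k.2
      rcases h.cases_short with ⟨e1, e2⟩ | ⟨e1, e2⟩ <;>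
        · have := congrArg Fin.val e1; have := congrArg Fin.val e2
          simp only [Fin.val_rev, k1_val] at *; omega
    refine exists_center_mul D (mem_B.2 fun x y hxy => ?_) (by omega)
      (hdiag fun j h1 h2 => (hupper j h1 h2).trans (hT' j h2).2.2.symm) fun x y hxy => ?_
    · rw [Fin.lt_def] at hxy
      by_cases hy : 2 * ((y : ℕ) + 1) ≤ n
      · exact (hT' y hy).1 x (Fin.ne_of_gt hxy)
      · have := (hT' (Fin.rev x) (by rw [Fin.val_rev]; omega)).2.1 y
          (by rw [Fin.rev_rev]; exact Fin.ne_of_lt hxy)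
        rwa [Fin.rev_rev] at this
    · have := k.2
      rcases hxy.cases_short with ⟨rfl, rfl⟩ | ⟨rfl, rfl⟩
      · exact (hT' (k1 k) (by rw [k1_val]; omega)).1 _ hxy.1.ne
      · exact (hT' (k1 k) (by rw [k1_val]; omega)).2.1 _ hxy.1.ne'
  · set A := posI (.inr e : ι n) with hA
    have hA' : 2 * ((A : ℕ) + 1) = n ∨ 2 * ((A : ℕ) + 1) + 1 = n := by
      rcases e with e | e
      exacts [Or.inl e.2, Or.inr e.2]
    have hT' : ∀ j : Fin n, (j : ℕ) < A → _ := fun j hj => hT j (by omega) fun h => by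
      obtain ⟨h1, -, -⟩ := h.cases_mid
      rw [← hA] at h1
      omega
    have hSA := hS A (by omega) (by omega) (by omega)
      (fun h => by obtain ⟨h1, -, -⟩ := h.cases_mid; rw [← hA] at h1; omega)
      (fun h => by obtain ⟨-, -, h3⟩ := h.cases_mid; rw [← hA, Fin.val_rev] at h3; omega)
    have hSA' := hS (Fin.rev A) (by rw [Fin.val_rev]; omega) (by rw [Fin.val_rev]; omega)
      (by rw [Fin.val_rev]; omega)
      (fun h => by obtain ⟨h1, -, -⟩ := h.cases_mid; rw [← hA] at h1; omega)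
      (fun h => by obtain ⟨-, -, h3⟩ := h.cases_mid; rw [← hA, Fin.val_rev] at h3; omega)
    rw [Fin.rev_rev] at hSA'
    refine exists_center_mul D (mem_B.2 fun x y hxy => ?_) (by omega) (hdiag fun j h1 h2 => ?_) fun x y hxy => ?_
    · rw [Fin.lt_def] at hxy
      by_cases hy : 2 * ((y : ℕ) + 1) ≤ n
      · rcases Nat.lt_or_ge (y : ℕ) A with h | h
        · exact (hT' y h).1 x (Fin.ne_of_gt hxy)
        · obtain rfl : y = A := Fin.ext (by omega)
          exact hSA'.2.1 x (Fin.ne_of_val_ne (by omega)) (Fin.ne_of_gt hxy)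
      · rcases Nat.lt_or_ge (Fin.rev x : ℕ) A with h | h
        · have := (hT' _ h).2.1 y (by rw [Fin.rev_rev]; exact Fin.ne_of_lt hxy)
          rwa [Fin.rev_rev] at this
        · rw [Fin.val_rev] at h
          obtain rfl : x = Fin.rev A := Fin.ext (by rw [Fin.val_rev]; omega)
          exact hSA'.1 y (Fin.ne_of_lt hxy) (Fin.ne_of_val_ne (by simp only [Fin.val_rev] at hxy ⊢; omega))
    · rcases Nat.lt_or_ge (j : ℕ) A with h | h
      · exact (hupper j h1 h2).trans (hT' j h).2.2.symm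
      · obtain rfl : j = A := Fin.ext (by omega)
        exact hSA.2.2
    · obtain ⟨h1, h2, h3⟩ := hxy.cases_mid
      rw [← hA] at h1 h3
      by_cases hx : x = A
      · subst hx
        exact hSA.1 y (Fin.ne_of_gt h2) (Fin.ne_of_val_ne (by rw [Fin.val_rev]; omega))
      · have := Fin.val_ne_of_ne hx
        obtain rfl : y = Fin.rev A := Fin.ext (by rw [Fin.val_rev]; omega)
        exact hSA.2.1 x (Fin.ne_of_val_ne (by omega)) (Fin.ne_of_lt h2)

include D in
/-- The centre of the unitriangular subgroup. -/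
theorem central_U (hn : 4 ≤ n) {o : Fin n} (ho : (o : ℕ) = 0) {c : SUJ σ n} (hcU : c ∈ U σ n)
    (hc : ∀ u ∈ U σ n, Commute c u) : ∃ (b : F) (hb : b + σ b = 0) (h : o ≠ Fin.rev o), c = elT h b hb := by
  have hoR : o < Fin.rev o := by rw [Fin.lt_def, Fin.val_rev]; omega
  obtain ⟨hd, hlow⟩ := mem_U_iff.1 hcU
  have hT : ∀ j : Fin n, 2 * ((j : ℕ) + 1) ≤ n → _ := fun j hj =>
    have hlt : j < Fin.rev j := by rw [Fin.lt_def, Fin.val_rev]; omega
    commute_elT D hlt.ne (hc _ (elT_mem_U hlt D.δ D.δ_skew))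
  have hrows : ∀ x y, x ≠ y → x ≠ o → c.1.1 x y = 0 := by
    intro x y hxy hx
    rcases lt_or_ge y x with h | h
    · exact hlow x y h
    have hx0 : (x : ℕ) ≠ 0 := fun e => hx (Fin.ext (by rw [e, ho]))
    by_cases h1 : 2 * ((x : ℕ) + 1) ≤ n
    · have e1 : o < x := Fin.lt_def.2 (by omega)
      have e2 : o ≠ Fin.rev x := Fin.ne_of_val_ne (by rw [Fin.val_rev]; omega)
      have e4 : x ≠ Fin.rev x := rev_ne_of_low h1
      obtain ⟨hr, -, -, hL, -⟩ := commute_elS D e1.ne e2 hoR.ne e4 (fun t => hc _ (elS_mem_U D e1 e2 hoR.ne e4 t))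
      rcases eq_or_ne y (Fin.rev o) with rfl | hy
      exacts [hL, hr y hxy.symm hy]
    by_cases h2 : 2 * (x : ℕ) + 1 = n
    · obtain ⟨-, hL, hr⟩ := commute_elM D hoR.ne (M := x) (Fin.ext (by rw [Fin.val_rev]; omega))
        (fun a b hab => hc _ (elM_mem_U D.conj hoR (Fin.ext (by rw [Fin.val_rev]; omega)) a b hab))
        (by rw [hd, hd]) (fun y hy => (hT o (by omega)).2.1 y hy)
      rcases eq_or_ne y (Fin.rev o) with rfl | hy
      exacts [hL, hr y hxy.symm hy]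
    · have := (hT (Fin.rev x) (by rw [Fin.val_rev]; omega)).2.1 y (by rw [Fin.rev_rev]; exact hxy.symm)
      rwa [Fin.rev_rev] at this
  have hsupp : ∀ a b, a ≠ b → c.1.1 a b ≠ 0 → a = o ∧ b = Fin.rev o := by
    intro a b hab h0
    have ha : a = o := by_contra fun h => h0 (hrows a b hab h)
    subst ha
    refine ⟨rfl, by_contra fun hb => h0 ?_⟩
    have h := uni_iff.1 c.2 b (Fin.rev a)
    rw [Fin.rev_rev, if_neg hab.symm, Finset.sum_eq_single a, hd, map_one, mul_one] at h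
    · exact h
    · intro i _ hi
      by_cases hib : i = b
      · subst hib
        rw [hrows (Fin.rev i) (Fin.rev a) (fun e => hab (Fin.rev_injective e).symm)
          (fun e => hb (by rw [← e, Fin.rev_rev])), map_zero, mul_zero]
      · rw [hrows i b hib hi, zero_mul]
    · simp
  obtain ⟨hb, he⟩ := eq_elT hoR.ne hd hsupp
  exact ⟨_, hb, hoR.ne, he⟩

theorem diag_mul {x y : SUJ σ n} (hx : x ∈ B σ n) (hy : y ∈ B σ n) (a : Fin n) :
    (x * y).1.1 a a = x.1.1 a a * y.1.1 a a := by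
  rw [coe_mul, Matrix.mul_apply, Finset.sum_eq_single a]
  · intro l _ hl
    rcases lt_or_gt_of_ne hl with h | h
    · rw [mem_B.1 hx a l h, zero_mul]
    · rw [mem_B.1 hy l a h, mul_zero]
  · simp

include D in
/-- A central element of `p`-power order is trivial. -/
theorem eq_one_of_central {p : ℕ} [Fact p.Prime] [CharP F p] (hn : 0 < n) {z : SUJ σ n}
    (hz : z ∈ Subgroup.center (SUJ σ n)) {k : ℕ} (hk : z ^ p ^ k = 1) : z = 1 := by
  have hzB := center_le_B D hz
  have hpow : ∀ m : ℕ, ∀ a, (z ^ m).1.1 a a = z.1.1 a a ^ m := fun m => by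
    induction m with
    | zero => intro a; rw [pow_zero, pow_zero]; exact Matrix.one_apply_eq a
    | succ m ih => intro a; rw [pow_succ, diag_mul (pow_mem hzB m) hzB, ih, ← pow_succ]
  have hd : ∀ a, z.1.1 a a = 1 := fun a => by
    have h1 : z.1.1 a a ^ p ^ k = 1 := by rw [← hpow, hk]; exact Matrix.one_apply_eq a
    have h2 : (z.1.1 a a - 1) ^ p ^ k = 0 := by rw [sub_pow_char_pow, one_pow, h1, sub_self]
    exact sub_eq_zero.1 (pow_eq_zero_iff (pow_ne_zero k (Fact.out : p.Prime).ne_zero) |>.1 h2)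
  obtain ⟨J, hJ⟩ := exists_monom D.conj hn (Fin.revPerm (n := n)) (fun j => rfl)
  refine ext' (Matrix.ext fun a b => ?_)
  show z.1.1 a b = (1 : Matrix (Fin n) (Fin n) F) a b
  rcases lt_trichotomy a b with h | rfl | h
  · rw [Matrix.one_apply_ne h.ne]
    have e := conj_monom_apply hJ z a b
    rw [show J * z * J⁻¹ = z by rw [Subgroup.mem_center_iff.1 hz J, mul_inv_cancel_right]] at e
    rw [mem_B.1 hzB (Fin.revPerm a) (Fin.revPerm b) (Fin.rev_lt_rev.2 h)] at e
    have hinv : Monom (J⁻¹).1.1 (Fin.revPerm (n := n))⁻¹ :=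
      hJ.of_inv (det_ne _) (by rw [← coe_mul, mul_inv_cancel]; rfl)
    have h2 := hinv.entry_ne_zero (det_ne _) (Fin.revPerm b)
    rw [show (Fin.revPerm (n := n))⁻¹ (Fin.revPerm b) = b from Fin.revPerm.symm_apply_apply b] at h2
    exact ((mul_eq_zero.1 ((mul_eq_zero.1 e.symm).resolve_right h2)).resolve_left (hJ.entry_ne_zero (det_ne _) a))
  · rw [hd, Matrix.one_apply_eq]
  · rw [mem_B.1 hzB a b h, Matrix.one_apply_ne h.ne']

end CfsgLib.PGroup.SUCentral
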