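import Cfsg.Agent.Lib.PGroup.SUCentral

/-!
Strongly closed subgroups of the unitriangular subgroup of `SU_n`.
-/

set_option autoImplicit false
set_option linter.unusedSectionVars false

namespace CfsgLib.PGroup.SUClosed

open Matrix CfsgLib.Classical CfsgLib.PGroup.UnitriangularSL CfsgLib.PGroup.SplitMonomial CfsgLib.PGroup.SUModel
  CfsgLib.PGroup.SURoots CfsgLib.PGroup.SteinbergSU CfsgLib.PGroup.SUElements CfsgLib.PGroup.SUCentral

variable {F : Type*} [Field F] [Fintype F] {σ : F →+* F} {n : ℕ} (D : Datum σ)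

theorem single_smul_one (i j : Fin n) (c : F) :
    Matrix.single i j c = c • Matrix.single i j (1 : F) := by rw [Matrix.smul_single, smul_eq_mul, mul_one]

theorem elS_neg {p q : Fin n} (h1 : p ≠ q) (h2 : p ≠ Fin.rev q) (h3 : p ≠ Fin.rev p) (h4 : q ≠ Fin.rev q) (c : F) :
    (elS D h1 h2 h3 h4 c)⁻¹ = elS D h1 h2 h3 h4 (-c) := by
  rw [inv_eq_iff_mul_eq_one, elS, elS, x4, x4, ← map_mul, ← map_mul,
    ← Matrix.SpecialLinearGroup.transvection_inv, mul_inv_cancel, map_one, map_one]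

/-- A short element times a long one. -/
theorem elS_conj_elT {p q : Fin n} (h1 : p ≠ q) (h2 : p ≠ Fin.rev q) (h3 : p ≠ Fin.rev p) (h4 : q ≠ Fin.rev q)
    (h2' : p ≠ Fin.rev (Fin.rev q)) (h4' : Fin.rev q ≠ Fin.rev (Fin.rev q)) (s b : F) (hb : b + σ b = 0)
    (hw : b * (s * σ s) + σ (b * (s * σ s)) = 0) :
    elS D h1 h2 h3 h4 s * elT h4 b hb =
      elT h4 b hb * elS D h2 h2' h3 h4' (b * s) * elT h3 (b * (s * σ s)) hw * elS D h1 h2 h3 h4 s := by
  have e1 : q ≠ Fin.rev p := fun e => h2 (by rw [e, Fin.rev_rev])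
  have e2 : Fin.rev p ≠ Fin.rev q := Fin.rev_injective.ne h1
  have hσb : σ b = -b := by linear_combination hb
  refine ext' ?_
  simp only [coe_mul, elS_coe, elT_coe, Fin.rev_rev, Matrix.mul_add, Matrix.add_mul, Matrix.mul_one, Matrix.one_mul,
    Matrix.single_mul_single_same, Matrix.single_mul_single_of_ne _ _ _ _ h1,
    Matrix.single_mul_single_of_ne _ _ _ _ h1.symm, Matrix.single_mul_single_of_ne _ _ _ _ h2,
    Matrix.single_mul_single_of_ne _ _ _ _ h2.symm, Matrix.single_mul_single_of_ne _ _ _ _ h3,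
    Matrix.single_mul_single_of_ne _ _ _ _ h3.symm, Matrix.single_mul_single_of_ne _ _ _ _ h4,
    Matrix.single_mul_single_of_ne _ _ _ _ h4.symm, Matrix.single_mul_single_of_ne _ _ _ _ e1,
    Matrix.single_mul_single_of_ne _ _ _ _ e1.symm, Matrix.single_mul_single_of_ne _ _ _ _ e2,
    Matrix.single_mul_single_of_ne _ _ _ _ e2.symm, Matrix.zero_mul, Matrix.mul_zero, add_zero, zero_add]
  obtain ⟨E, hE⟩ : ∃ E : Fin n → Fin n → Matrix (Fin n) (Fin n) F, ∀ i j c, Matrix.single i j c = c • E i j :=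
    ⟨_, single_smul_one⟩
  simp only [hE, map_mul, hσb]
  module

/-- A short element times a middle one. -/
theorem elS_comm_elM {o a M : Fin n} (h1 : o ≠ a) (h2 : o ≠ Fin.rev a) (h3 : o ≠ Fin.rev o) (h4 : a ≠ Fin.rev a)
    (h2' : o ≠ Fin.rev (Fin.rev a)) (h4' : Fin.rev a ≠ Fin.rev (Fin.rev a)) (hM : Fin.rev M = M) (s b : F)
    (hsb : b + σ b + s * σ s = 0) :
    elM D.conj h3 hM s b hsb * elS D h2 h2' h3 h4' (-σ b) * elM D.conj h4 hM s b hsb * elS D h1 h2 h3 h4 1 =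
      elS D h1 h2 h3 h4 1 * elM D.conj h4 hM s b hsb := by
  have e1 : a ≠ Fin.rev o := fun e => h2 (by rw [e, Fin.rev_rev])
  have e2 : Fin.rev o ≠ Fin.rev a := Fin.rev_injective.ne h1
  have e3 : o ≠ M := fun e => h3 (by rw [e, hM])
  have e4 : a ≠ M := fun e => h4 (by rw [e, hM])
  have e5 : Fin.rev o ≠ M := fun e => e3 (Fin.rev_injective (e.trans hM.symm))
  have e6 : Fin.rev a ≠ M := fun e => e4 (Fin.rev_injective (e.trans hM.symm))
  have hσs : σ (σ s) = s := D.conj.invol s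
  have hσb : σ (σ b) = b := D.conj.invol b
  refine ext' ?_
  simp only [coe_mul, elS_coe, elM_coe, Fin.rev_rev, map_one, Matrix.mul_add, Matrix.add_mul, Matrix.mul_one,
    Matrix.one_mul,
    Matrix.single_mul_single_same, Matrix.single_mul_single_of_ne _ _ _ _ h1,
    Matrix.single_mul_single_of_ne _ _ _ _ h1.symm, Matrix.single_mul_single_of_ne _ _ _ _ h2,
    Matrix.single_mul_single_of_ne _ _ _ _ h2.symm, Matrix.single_mul_single_of_ne _ _ _ _ h3,
    Matrix.single_mul_single_of_ne _ _ _ _ h3.symm, Matrix.single_mul_single_of_ne _ _ _ _ h4,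
    Matrix.single_mul_single_of_ne _ _ _ _ h4.symm, Matrix.single_mul_single_of_ne _ _ _ _ e1,
    Matrix.single_mul_single_of_ne _ _ _ _ e1.symm, Matrix.single_mul_single_of_ne _ _ _ _ e2,
    Matrix.single_mul_single_of_ne _ _ _ _ e2.symm, Matrix.single_mul_single_of_ne _ _ _ _ e3,
    Matrix.single_mul_single_of_ne _ _ _ _ e3.symm, Matrix.single_mul_single_of_ne _ _ _ _ e4,
    Matrix.single_mul_single_of_ne _ _ _ _ e4.symm, Matrix.single_mul_single_of_ne _ _ _ _ e5,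
    Matrix.single_mul_single_of_ne _ _ _ _ e5.symm, Matrix.single_mul_single_of_ne _ _ _ _ e6,
    Matrix.single_mul_single_of_ne _ _ _ _ e6.symm, Matrix.zero_mul, Matrix.mul_zero, add_zero, zero_add,
    one_mul, map_neg, neg_neg, hσs, hσb, mul_neg, neg_mul, mul_one]
  have key : σ b = -(b + s * σ s) := by linear_combination hsb
  simp only [key]
  obtain ⟨E, hE⟩ : ∃ E : Fin n → Fin n → Matrix (Fin n) (Fin n) F, ∀ i j c, Matrix.single i j c = c • E i j :=
    ⟨_, single_smul_one⟩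
  simp only [hE]
  module

/-- The diagonal element of a pair of places. -/
noncomputable def diagS {p q : Fin n} (h1 : p ≠ q) (h2 : p ≠ Fin.rev q) (h3 : p ≠ Fin.rev p) (h4 : q ≠ Fin.rev q) (c : F)
    (hc : c ≠ 0) : SUJ σ n :=
  embU ![p, q, Fin.rev q, Fin.rev p] (injective_of_four h1 h2 h3 h4) (rev_of_four p q)
    (A4 D (Matrix.SpecialLinearGroup.diag2 c hc))

theorem diagS_monom {p q : Fin n} (h1 : p ≠ q) (h2 : p ≠ Fin.rev q) (h3 : p ≠ Fin.rev p) (h4 : q ≠ Fin.rev q) (c : F)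
    (hc : c ≠ 0) : Monom (diagS D h1 h2 h3 h4 c hc).1.1 1 := by
  refine embU_diag _ _ _ fun i j hij => ?_
  rw [A4_coe, Matrix.SpecialLinearGroup.diag2_coe']
  fin_cases i <;> fin_cases j <;> simp [quad] at hij ⊢

theorem diagS_entries {p q : Fin n} (h1 : p ≠ q) (h2 : p ≠ Fin.rev q) (h3 : p ≠ Fin.rev p) (h4 : q ≠ Fin.rev q)
    (c : F) (hc : c ≠ 0) : (diagS D h1 h2 h3 h4 c hc).1.1 p p = c ∧
      (diagS D h1 h2 h3 h4 c hc).1.1 (Fin.rev p) (Fin.rev p) = (σ c)⁻¹ := by
  have e : ∀ i, (diagS D h1 h2 h3 h4 c hc).1.1 (![p, q, Fin.rev q, Fin.rev p] i) (![p, q, Fin.rev q, Fin.rev p] i) =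
      (quad σ (Matrix.SpecialLinearGroup.diag2 c hc).1) i i := fun i => embU_apply_image _ _ _ _ i i
  have e0 := e 0
  have e3 := e 3
  rw [Matrix.SpecialLinearGroup.diag2_coe'] at e0 e3
  exact ⟨by simpa [quad] using e0, by simpa [quad, map_inv₀] using e3⟩

/-- The permutation exchanging two indices and their opposites. -/
theorem pair_rev {p q : Fin n} (h : p ≠ Fin.rev p) (h' : q ≠ Fin.rev q) (hpq : p ≠ Fin.rev q) (x : Fin n) :
    (Equiv.swap p q * Equiv.swap (Fin.rev p) (Fin.rev q)) (Fin.rev x) =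
      Fin.rev ((Equiv.swap p q * Equiv.swap (Fin.rev p) (Fin.rev q)) x) := by
  refine Fin.ext ?_
  have a1 := Fin.val_ne_of_ne h
  have a2 := Fin.val_ne_of_ne h'
  have a3 := Fin.val_ne_of_ne hpq
  have b1 := swap_val (Fin.rev x) (Fin.rev p) (Fin.rev q)
  have b2 := swap_val x (Fin.rev p) (Fin.rev q)
  have b3 := swap_val (Equiv.swap (Fin.rev p) (Fin.rev q) (Fin.rev x)) p q
  have b4 := swap_val (Equiv.swap (Fin.rev p) (Fin.rev q) x) p q
  have := x.2; have := p.2; have := q.2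
  simp only [Fin.val_rev, Equiv.Perm.mul_apply] at *
  omega

theorem swap_rev_comm (q x : Fin n) :
    Equiv.swap q (Fin.rev q) (Fin.rev x) = Fin.rev (Equiv.swap q (Fin.rev q) x) := by
  refine Fin.ext ?_
  have b1 := swap_val (Fin.rev x) q (Fin.rev q)
  have b2 := swap_val x q (Fin.rev q)
  have := x.2; have := q.2
  simp only [Fin.val_rev] at *
  omega

include D in
/-- A strongly closed subgroup containing a central element is everything. -/
theorem closed_top (hn : 4 ≤ n) {T : Subgroup (SUJ σ n)} (hTU : T ≤ U σ n)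
    (hcl : ∀ g x, x ∈ T → g * x * g⁻¹ ∈ U σ n → g * x * g⁻¹ ∈ T)
    {z : SUJ σ n} (hzT : z ∈ T) (hz1 : z ≠ 1) (hzc : ∀ u ∈ U σ n, Commute z u) : U σ n ≤ T := by
  classical
  set o : Fin n := ⟨0, by omega⟩ with ho
  set one : Fin n := ⟨1, by omega⟩ with hone
  have hov : (o : ℕ) = 0 := rfl
  have h1v : (one : ℕ) = 1 := rfl
  have hoR : o < Fin.rev o := by rw [Fin.lt_def, Fin.val_rev]; omega
  have of_conj : ∀ (S x : SUJ σ n), x ∈ U σ n → S⁻¹ * x * S ∈ T → x ∈ T := fun S x hx h => by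
    have h' := hcl S _ h (by convert hx using 1; group)
    convert h' using 1
    group
  have hnorm : ∀ u ∈ U σ n, ∀ x ∈ T, u * x * u⁻¹ ∈ T := fun u hu x hx =>
    hcl u x hx (mul_mem (mul_mem hu (hTU hx)) (inv_mem hu))
  have hpull : ∀ (π : Equiv.Perm (Fin n)), (∀ x, π (Fin.rev x) = Fin.rev (π x)) →
      ∃ S : SUJ σ n, Monom S.1.1 π := fun π hπ => exists_monom D.conj (by omega) π hπ
  -- long elements at the first index
  obtain ⟨b₀, hb₀, hoR', hz⟩ := central_U D hn hov (hTU hzT) hzc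
  have hb0 : b₀ ≠ 0 := by
    rintro rfl
    refine hz1 (hz.trans (ext' ?_))
    rw [elT_coe, Matrix.single_zero, add_zero]
    rfl
  have hT0 : ∀ (b : F) (hb : b + σ b = 0), elT hoR.ne b hb ∈ T := by
    intro b hb
    rcases eq_or_ne b 0 with rfl | hbne
    · rw [show elT hoR.ne (0 : F) hb = 1 from ext' (by rw [elT_coe, Matrix.single_zero, add_zero]; rfl)]
      exact one_mem T
    obtain ⟨l, hl⟩ := D.conj.exists_norm_eq (a := b / b₀) (by
      rw [map_div₀, show σ b₀ = -b₀ by linear_combination hb₀, show σ b = -b by linear_combination hb, neg_div_neg_eq])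
    have hl0 : l ≠ 0 := fun e => by
      rw [e, zero_mul] at hl
      exact div_ne_zero hbne hb0 hl.symm
    have e1 : o ≠ one := Fin.ne_of_val_ne (by omega)
    have e2 : o ≠ Fin.rev one := Fin.ne_of_val_ne (by rw [Fin.val_rev]; omega)
    have e4 : one ≠ Fin.rev one := Fin.ne_of_val_ne (by rw [Fin.val_rev]; omega)
    set S := diagS D e1 e2 hoR.ne e4 l hl0
    refine of_conj S _ (elT_mem_U hoR b hb) ?_
    obtain ⟨hd, hs⟩ := conj_inv_support (diagS_monom D e1 e2 hoR.ne e4 l hl0) (elT_diag hoR.ne b hb)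
    obtain ⟨hb', he⟩ := eq_elT hoR.ne hd fun x y hxy h => elT_support hoR.ne b hb hxy (hs x y h)
    have hinv : Monom (S⁻¹).1.1 1 := by
      have := (diagS_monom D e1 e2 hoR.ne e4 l hl0).of_inv (det_ne S) (A' := (S⁻¹).1.1)
        (by rw [← coe_mul, mul_inv_cancel]; rfl)
      rwa [inv_one] at this
    have hval : (S⁻¹ * elT hoR.ne b hb * S).1.1 o (Fin.rev o) = b₀ := by
      have e := conj_monom_apply hinv (elT hoR.ne b hb) o (Fin.rev o)
      simp only [Equiv.Perm.one_apply, inv_inv] at e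
      have hi : (S⁻¹).1.1 o o = σ l * (b / b₀)⁻¹ := by
        have h := hinv.mul_apply_perm S.1.1 o o
        rw [← coe_mul, inv_mul_cancel, Equiv.Perm.one_apply, (diagS_entries D e1 e2 hoR.ne e4 l hl0).1] at h
        have h' : (1 : F) = (S⁻¹).1.1 o o * l := by rw [← h]; exact (Matrix.one_apply_eq o).symm
        have hσl : σ l ≠ 0 := (map_ne_zero σ).2 hl0
        rw [← hl, mul_inv, mul_comm (l⁻¹), ← mul_assoc, mul_inv_cancel₀ hσl, one_mul]
        exact eq_inv_of_mul_eq_one_left h'.symm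
      rw [e, hi, (diagS_entries D e1 e2 hoR.ne e4 l hl0).2, elT_coe, Matrix.add_apply, Matrix.one_apply_ne hoR.ne,
        zero_add, Matrix.single_apply_same]
      have hσl : σ l ≠ 0 := (map_ne_zero σ).2 hl0
      field_simp
    rw [he]
    subst hz
    have : elT hoR.ne _ hb' = elT hoR.ne b₀ hb₀ := by congr 1
    rw [this]
    exact hzT
  -- long elements at low indices
  have hTj : ∀ (j : Fin n) (hj : j ≠ Fin.rev j), 2 * ((j : ℕ) + 1) ≤ n → ∀ (b : F) (hb : b + σ b = 0),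
      elT hj b hb ∈ T := by
    intro j hj hjlow b hb
    rcases eq_or_ne j o with rfl | hjo
    · exact hT0 b hb
    have e2 : o ≠ Fin.rev j := Fin.ne_of_val_ne (by rw [Fin.val_rev]; omega)
    obtain ⟨S, hS⟩ := hpull _ (pair_rev hoR.ne hj e2)
    refine of_conj S _ (elT_mem_U (by rw [Fin.lt_def, Fin.val_rev]; omega) b hb) ?_
    obtain ⟨hd, hs⟩ := conj_inv_support hS (elT_diag hj b hb)
    have hjo' := Fin.val_ne_of_ne hjo
    obtain ⟨hb', he⟩ := eq_elT hoR.ne hd fun x y hxy h => by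
      obtain ⟨h1, h2⟩ := elT_support hj b hb ((Equiv.injective _).ne hxy) (hs x y h)
      have b1 := swap_val x (Fin.rev o) (Fin.rev j)
      have b2 := swap_val (Equiv.swap (Fin.rev o) (Fin.rev j) x) o j
      have b3 := swap_val y (Fin.rev o) (Fin.rev j)
      have b4 := swap_val (Equiv.swap (Fin.rev o) (Fin.rev j) y) o j
      have h1' := congrArg Fin.val h1
      have h2' := congrArg Fin.val h2
      have := x.2; have := y.2
      simp only [Fin.val_rev, Equiv.Perm.mul_apply, Fin.ext_iff] at *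
      omega
    rw [he]
    exact hT0 _ _
  -- short elements
  have hSrev : ∀ (p q : Fin n) (h1 : p ≠ q) (h2 : p ≠ Fin.rev q) (h3 : p ≠ Fin.rev p) (h4 : q ≠ Fin.rev q)
      (h2' : p ≠ Fin.rev (Fin.rev q)) (h4' : Fin.rev q ≠ Fin.rev (Fin.rev q)), p < q → 2 * ((q : ℕ) + 1) ≤ n →
      ∀ t : F, elS D h2 h2' h3 h4' t ∈ T := by
    intro p q h1 h2 h3 h4 h2' h4' hpq hq t
    rw [Fin.lt_def] at hpq
    set s := t / D.δ
    have hσδ : σ D.δ = -D.δ := by linear_combination D.δ_skew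
    have hw : D.δ * (s * σ s) + σ (D.δ * (s * σ s)) = 0 := by
      rw [map_mul, D.conj.norm_fixed, hσδ]; ring
    have e := elS_conj_elT D h1 h2 h3 h4 h2' h4' s D.δ D.δ_skew hw
    rw [show D.δ * s = t from mul_div_cancel₀ t D.δ_ne] at e
    have hZq : elT h4 D.δ D.δ_skew ∈ T := hTj q h4 hq _ _
    have hZp : elT h3 (D.δ * (s * σ s)) hw ∈ T := hTj p h3 (by omega) _ _
    have he := hnorm _ (elS_mem_U D (Fin.lt_def.2 hpq) h2 h3 h4 s) _ hZq
    rw [e, mul_inv_cancel_right] at he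
    have := T.mul_mem (T.mul_mem (T.inv_mem hZq) he) (T.inv_mem hZp)
    convert this using 1
    group
  have hSlow : ∀ (p q : Fin n) (h1 : p ≠ q) (h2 : p ≠ Fin.rev q) (h3 : p ≠ Fin.rev p) (h4 : q ≠ Fin.rev q),
      p < q → 2 * ((q : ℕ) + 1) ≤ n → ∀ t : F, elS D h1 h2 h3 h4 t ∈ T := by
    intro p q h1 h2 h3 h4 hpq hq t
    obtain ⟨S, hS⟩ := hpull _ (swap_rev_comm q)
    refine of_conj S _ (elS_mem_U D hpq h2 h3 h4 t) ?_
    obtain ⟨hd, hs⟩ := conj_inv_support hS (elS_diag D h1 h2 h3 h4 t)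
    have h2' : p ≠ Fin.rev (Fin.rev q) := by rwa [Fin.rev_rev]
    have h4' : Fin.rev q ≠ Fin.rev (Fin.rev q) := by rw [Fin.rev_rev]; exact h4.symm
    rw [eq_elS D h2 h2' h3 h4' hd fun x y hxy h => ?_]
    · exact hSrev p q h1 h2 h3 h4 h2' h4' hpq hq _
    have b1 := swap_val x q (Fin.rev q)
    have b3 := swap_val y q (Fin.rev q)
    have := Fin.lt_def.1 hpq
    rw [Fin.rev_rev]
    rcases elS_support D h1 h2 h3 h4 t ((Equiv.injective _).ne hxy) (hs x y h) with ⟨r1, r2⟩ | ⟨r1, r2⟩ <;>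
    · have h1' := congrArg Fin.val r1
      have h2'' := congrArg Fin.val r2
      have := x.2; have := y.2
      simp only [Fin.val_rev, Fin.ext_iff] at *
      omega
  -- middle elements at the first index
  have hM0 : ∀ (a : Mid3 n) (h3 : o ≠ Fin.rev o) (hM : Fin.rev (m1 a) = m1 a) (s b : F)
      (hsb : b + σ b + s * σ s = 0), elM D.conj h3 hM s b hsb ∈ T := by
    intro a h3 hM s b hsb
    have := a.2
    have h1 : o < a.1 := Fin.lt_def.2 (by omega)
    have h2 : o ≠ Fin.rev a.1 := Fin.ne_of_val_ne (by rw [Fin.val_rev]; omega)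
    have h4 : a.1 ≠ Fin.rev a.1 := Fin.ne_of_val_ne (by rw [Fin.val_rev]; omega)
    have h2' : o ≠ Fin.rev (Fin.rev a.1) := by rw [Fin.rev_rev]; exact h1.ne
    have h4' : Fin.rev a.1 ≠ Fin.rev (Fin.rev a.1) := by rw [Fin.rev_rev]; exact h4.symm
    have e := elS_comm_elM D h1.ne h2 h3 h4 h2' h4' hM s b hsb
    have hlow : 2 * ((a.1 : ℕ) + 1) ≤ n := by omega
    have he : elS D h1.ne h2 h3 h4 1 ∈ T := hSlow o a.1 h1.ne h2 h3 h4 h1 hlow 1
    have he' : elS D h2 h2' h3 h4' (-σ b) ∈ T := hSrev o a.1 h1.ne h2 h3 h4 h2' h4' h1 hlow _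
    have haR : a.1 < Fin.rev a.1 := by rw [Fin.lt_def, Fin.val_rev]; omega
    have hf := elM_mem_U D.conj haR hM s b hsb
    have := T.mul_mem (T.mul_mem he (hnorm _ hf _ (T.inv_mem he))) (T.inv_mem he')
    convert this using 1
    rw [← eq_mul_inv_iff_mul_eq, ← eq_mul_inv_iff_mul_eq, ← eq_mul_inv_iff_mul_eq] at e
    rw [e]
    group
  refine U_le_of_roots D T fun i x hx t ht => ?_
  suffices hxT : x ∈ T by
    have := hcl (ν t)⁻¹ x hxT (by rwa [inv_inv])
    rwa [inv_inv] at this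
  rcases i with k | a | a
  · obtain ⟨c, rfl⟩ := hx
    have := k.2
    exact hSlow k.1 (k1 k) (Fin.ne_of_val_ne (by rw [k1_val]; omega))
      (Fin.ne_of_val_ne (by rw [Fin.val_rev, k1_val]; omega)) (Fin.ne_of_val_ne (by rw [Fin.val_rev]; omega))
      (Fin.ne_of_val_ne (by rw [Fin.val_rev, k1_val]; omega)) (Fin.lt_def.2 (by rw [k1_val]; omega))
      (by rw [k1_val]; omega) c
  · obtain ⟨b, hb, rfl⟩ := hx
    exact hTj a.1 (rev_ne_of_low a.2.le) a.2.le b hb
  · obtain ⟨s, b, hsb, rfl⟩ := hx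
    have ha := a.2
    have hj : a.1 ≠ Fin.rev a.1 := rev_ne_of_low (by omega)
    have e2 : o ≠ Fin.rev a.1 := Fin.ne_of_val_ne (by rw [Fin.val_rev]; omega)
    obtain ⟨S, hS⟩ := hpull _ (pair_rev hoR.ne hj e2)
    have hmem : elM D.conj hj (m1_rev a) s b hsb ∈ U σ n :=
      elM_mem_U D.conj (show a.1 < Fin.rev a.1 by rw [Fin.lt_def, Fin.val_rev]; omega) (m1_rev a) s b hsb
    show elM D.conj hj (m1_rev a) s b hsb ∈ T
    refine of_conj S _ hmem ?_
    obtain ⟨hd, hs⟩ := conj_inv_support hS (elM_diag D.conj hj (m1_rev a) s b hsb)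
    obtain ⟨hb', he⟩ := eq_elM D hoR.ne (m1_rev a) hd fun x y hxy h => by
      have b1 := swap_val x (Fin.rev o) (Fin.rev a.1)
      have b2 := swap_val (Equiv.swap (Fin.rev o) (Fin.rev a.1) x) o a.1
      have b3 := swap_val y (Fin.rev o) (Fin.rev a.1)
      have b4 := swap_val (Equiv.swap (Fin.rev o) (Fin.rev a.1) y) o a.1
      rcases elM_support D.conj hj (m1_rev a) s b hsb ((Equiv.injective _).ne hxy) (hs x y h)
        with ⟨r1, r2⟩ | ⟨r1, r2⟩ | ⟨r1, r2⟩ <;>
      · have h1' := congrArg Fin.val r1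
        have h2'' := congrArg Fin.val r2
        have := x.2; have := y.2
        simp only [Fin.val_rev, Equiv.Perm.mul_apply, Fin.ext_iff, m1_val] at *
        omega
    rw [he]
    exact hM0 a hoR.ne (m1_rev a) _ _ hb'

end CfsgLib.PGroup.SUClosed
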