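import Cfsg.Agent.Lib.Classical.HermMatrix
import Cfsg.Agent.Lib.PGroup.SteinbergSL

/-!
`SU_n` over a finite field in the model with antidiagonal Hermitian form: the upper triangular subgroup, monomial
elements and embeddings of small unitary groups.
-/

set_option autoImplicit false
set_option linter.unusedSectionVars false

namespace CfsgLib.PGroup.SUModel

open Matrix CfsgLib.Classical CfsgLib.PGroup.UnitriangularSL CfsgLib.PGroup.SplitMonomial

variable {F : Type*} [Field F] {σ : F →+* F} {n : ℕ}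

/-- The antidiagonal matrix. -/
def antiJ (F : Type*) [Field F] (n : ℕ) : Matrix (Fin n) (Fin n) F :=
  (1 : Matrix (Fin n) (Fin n) F).submatrix Fin.rev id

theorem antiJ_apply (a b : Fin n) : antiJ F n a b = if a = Fin.rev b then 1 else 0 := by
  simp only [antiJ, Matrix.submatrix_apply, id, Matrix.one_apply, Fin.rev_eq_iff]

theorem antiJ_transpose : (antiJ F n)ᵀ = antiJ F n := by
  ext a b
  simp only [Matrix.transpose_apply, antiJ_apply]
  exact if_congr ⟨fun h => by rw [h, Fin.rev_rev], fun h => by rw [h, Fin.rev_rev]⟩ rfl rfl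

/-- A matrix preserving the antidiagonal Hermitian form. -/
def Uni (σ : F →+* F) (A : Matrix (Fin n) (Fin n) F) : Prop := Aᵀ * antiJ F n * A.map σ = antiJ F n

theorem form_entry (σ : F →+* F) (A : Matrix (Fin n) (Fin n) F) (a b : Fin n) :
    (Aᵀ * antiJ F n * A.map σ) a b = ∑ i, A i a * σ (A (Fin.rev i) b) := by
  rw [Matrix.mul_apply]
  refine Fintype.sum_equiv Fin.revPerm _ _ fun j => ?_
  rw [Matrix.mul_apply, Finset.sum_eq_single (Fin.rev j)]
  · simp [antiJ_apply]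
  · intro k _ hk; simp [antiJ_apply, hk]
  · simp

theorem uni_iff {A : Matrix (Fin n) (Fin n) F} :
    Uni σ A ↔ ∀ a b, ∑ i, A i a * σ (A (Fin.rev i) b) = if a = Fin.rev b then 1 else 0 := by
  rw [Uni, ← Matrix.ext_iff]
  simp only [form_entry, antiJ_apply]

theorem Uni.mul {A B : Matrix (Fin n) (Fin n) F} (hA : Uni σ A) (hB : Uni σ B) : Uni σ (A * B) := by
  unfold Uni at *
  rw [Matrix.map_mul, Matrix.transpose_mul]
  calc Bᵀ * Aᵀ * antiJ F n * (A.map σ * B.map σ) = Bᵀ * (Aᵀ * antiJ F n * A.map σ) * B.map σ := by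
        simp only [Matrix.mul_assoc]
    _ = _ := by rw [hA, hB]

theorem uni_one : Uni σ (1 : Matrix (Fin n) (Fin n) F) := by simp [Uni]

/-- The special unitary group of the antidiagonal form. -/
def SUJ (σ : F →+* F) (n : ℕ) : Subgroup (Matrix.SpecialLinearGroup (Fin n) F) where
  carrier := {g | Uni σ g.1}
  mul_mem' {a b} ha hb := by
    show Uni σ (a * b).1
    rw [Matrix.SpecialLinearGroup.coe_mul]
    exact Uni.mul ha hb
  one_mem' := by
    show Uni σ (1 : Matrix.SpecialLinearGroup (Fin n) F).1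
    rw [Matrix.SpecialLinearGroup.coe_one]
    exact uni_one
  inv_mem' {a} (ha : a.1ᵀ * antiJ F n * a.1.map σ = antiJ F n) := by
    show (a⁻¹).1ᵀ * antiJ F n * (a⁻¹).1.map σ = antiJ F n
    conv_lhs => rw [← ha]
    rw [show (a⁻¹).1ᵀ * (a.1ᵀ * antiJ F n * a.1.map σ) * (a⁻¹).1.map σ =
      (a.1 * (a⁻¹).1)ᵀ * antiJ F n * (a.1 * (a⁻¹).1).map σ by
        simp only [Matrix.map_mul, Matrix.transpose_mul, Matrix.mul_assoc],
      ← Matrix.SpecialLinearGroup.coe_mul, mul_inv_cancel, Matrix.SpecialLinearGroup.coe_one]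
    simp

theorem mem_SUJ {g : Matrix.SpecialLinearGroup (Fin n) F} : g ∈ SUJ σ n ↔ Uni σ g.1 := Iff.rfl

theorem det_ne (g : SUJ σ n) : g.1.1.det ≠ 0 := by rw [g.1.2]; exact one_ne_zero

theorem coe_mul (g h : SUJ σ n) : (g * h).1.1 = g.1.1 * h.1.1 := Matrix.SpecialLinearGroup.coe_mul g.1 h.1

theorem ext' {g h : SUJ σ n} (e : g.1.1 = h.1.1) : g = h := Subtype.ext (Subtype.ext e)

theorem mem_SU_iff {q : ℕ} (hσ : ∀ x, σ x = x ^ q) {g : Matrix.SpecialLinearGroup (Fin n) F} :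
    g ∈ Cfsg.SU n F q ↔ g.1ᵀ * g.1.map σ = 1 := by
  constructor
  · intro h
    ext a b
    have h1 := h (Pi.single a 1) (Pi.single b 1)
    simp only [Cfsg.hermForm, Matrix.mulVec_single, ← hσ] at h1
    rw [Matrix.mul_apply, Matrix.one_apply]
    simpa [Pi.single_apply, eq_comm] using h1
  · intro h u v
    have e : ∀ x y : Fin n → F, Cfsg.hermForm n F q x y = x ⬝ᵥ (σ ∘ y) := fun x y => by
      simp [Cfsg.hermForm, dotProduct, hσ]
    rw [e, e]
    show (g.1 *ᵥ u) ⬝ᵥ (σ ∘ (g.1 *ᵥ v)) = _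
    rw [show σ ∘ (g.1 *ᵥ v) = g.1.map σ *ᵥ (σ ∘ v) from funext fun i => RingHom.map_mulVec σ g.1 v i,
      ← Matrix.vecMul_transpose, ← Matrix.dotProduct_mulVec, Matrix.mulVec_mulVec, h, Matrix.one_mulVec]

/-- Conjugation by an invertible matrix, on the special linear group. -/
def conjSL (P Q : Matrix (Fin n) (Fin n) F) (h : P * Q = 1) (h' : Q * P = 1) :
    Matrix.SpecialLinearGroup (Fin n) F ≃* Matrix.SpecialLinearGroup (Fin n) F where
  toFun g := ⟨P * g.1 * Q, by rw [Matrix.det_mul_right_comm, h, Matrix.one_mul, g.2]⟩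
  invFun g := ⟨Q * g.1 * P, by rw [Matrix.det_mul_right_comm, h', Matrix.one_mul, g.2]⟩
  left_inv g := Subtype.ext (by
    show Q * (P * g.1 * Q) * P = g.1
    rw [show Q * (P * g.1 * Q) * P = (Q * P) * g.1 * (Q * P) by simp only [Matrix.mul_assoc], h',
      Matrix.one_mul, Matrix.mul_one])
  right_inv g := Subtype.ext (by
    show P * (Q * g.1 * P) * Q = g.1
    rw [show P * (Q * g.1 * P) * Q = (P * Q) * g.1 * (P * Q) by simp only [Matrix.mul_assoc], h,
      Matrix.one_mul, Matrix.mul_one])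
  map_mul' a b := Subtype.ext (by
    show P * (a * b).1 * Q = P * a.1 * Q * (P * b.1 * Q)
    rw [Matrix.SpecialLinearGroup.coe_mul, show P * a.1 * Q * (P * b.1 * Q) = P * a.1 * (Q * P) * b.1 * Q by
      simp only [Matrix.mul_assoc], h', Matrix.mul_one]
    simp only [Matrix.mul_assoc])

/-- The Hermitian form of the model. -/
def antiForm (σ : F →+* F) (n : ℕ) : (Fin n → F) →ₛₗ[σ] (Fin n → F) →ₗ[F] F :=
  LinearMap.mk₂'ₛₗ σ (RingHom.id F) (fun x y => ∑ i, σ (x i) * y (Fin.rev i))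
    (fun x x' y => by simp [add_mul, Finset.sum_add_distrib])
    (fun c x y => by simp [Finset.mul_sum, mul_assoc])
    (fun x y y' => by simp [mul_add, Finset.sum_add_distrib])
    (fun c x y => by simp [Finset.mul_sum, mul_left_comm])

theorem antiForm_apply (x y : Fin n → F) : antiForm σ n x y = ∑ i, σ (x i) * y (Fin.rev i) := rfl

/-- The model is isomorphic to `SU_n`. -/
theorem exists_model [Fintype F] {q : ℕ} (hF : Fintype.card F = q ^ 2) :
    ∃ σ : F →+* F, IsConjugation σ ∧ Nonempty (SUJ σ n ≃* Cfsg.SU n F q) := by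
  obtain ⟨σ, hσ, hc⟩ := exists_frob hF
  refine ⟨σ, hc, ?_⟩
  have hherm : IsHermitian (antiForm σ n) := ⟨hc, fun x y => by
    simp only [antiForm_apply, map_sum, map_mul, hc.invol]
    refine Fintype.sum_equiv Fin.revPerm _ _ fun i => ?_
    simp [mul_comm]⟩
  have hN : (antiForm σ n).SeparatingRight := fun y hy => funext fun i => by
    have h := hy (Pi.single (Fin.rev i) 1)
    rw [antiForm_apply, Finset.sum_eq_single (Fin.rev i) (fun j _ hj => by simp [hj]) (by simp)] at h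
    simpa using h
  obtain ⟨b, hb⟩ := hherm.exists_orthonormal hN
  have hn : Module.finrank F (Fin n → F) = n := Module.finrank_fin_fun F
  set e : Fin n → Fin n → F := fun j => b (Fin.cast hn.symm j) with he
  set P : Matrix (Fin n) (Fin n) F := Matrix.of fun a j => e j a with hP
  have hPP : Pᵀ * antiJ F n * P.map σ = 1 := by
    ext i j
    rw [form_entry, Matrix.one_apply]
    have h := hb (Fin.cast hn.symm j) (Fin.cast hn.symm i)
    rw [antiForm_apply] at h
    refine Eq.trans ?_ (h.trans (if_congr (by simp [Fin.ext_iff, eq_comm]) rfl rfl))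
    refine Fintype.sum_equiv Fin.revPerm _ _ fun a => ?_
    simp [hP, he, mul_comm]
  have hdet : IsUnit P.det := by
    have h := congrArg Matrix.det hPP
    rw [Matrix.det_mul, Matrix.det_mul, Matrix.det_transpose, Matrix.det_one, mul_assoc] at h
    exact IsUnit.of_mul_eq_one _ h
  have h1 : P * P⁻¹ = 1 := Matrix.mul_nonsing_inv P hdet
  have h2 : P⁻¹ * P = 1 := Matrix.nonsing_inv_mul P hdet
  let ψ := conjSL P P⁻¹ h1 h2
  have hJ : (P⁻¹)ᵀ * (P⁻¹).map σ = antiJ F n := by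
    have h3 : (P⁻¹)ᵀ * (Pᵀ * antiJ F n * P.map σ) * (P⁻¹).map σ =
        (P * P⁻¹)ᵀ * antiJ F n * (P * P⁻¹).map σ := by
      simp only [Matrix.map_mul, Matrix.transpose_mul, Matrix.mul_assoc]
    rw [hPP, h1, Matrix.mul_one] at h3
    simpa using h3
  have key : ∀ g, ψ g ∈ SUJ σ n ↔ g ∈ Cfsg.SU n F q := by
    intro g
    rw [mem_SUJ, mem_SU_iff hσ]
    show (P * g.1 * P⁻¹)ᵀ * antiJ F n * (P * g.1 * P⁻¹).map σ = antiJ F n ↔ _
    rw [show (P * g.1 * P⁻¹)ᵀ * antiJ F n * (P * g.1 * P⁻¹).map σ =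
      (P⁻¹)ᵀ * (g.1ᵀ * (Pᵀ * antiJ F n * P.map σ) * g.1.map σ) * (P⁻¹).map σ by
        simp only [Matrix.map_mul, Matrix.transpose_mul, Matrix.mul_assoc], hPP, Matrix.mul_one]
    constructor
    · intro h
      have h4 : Pᵀ * ((P⁻¹)ᵀ * (g.1ᵀ * g.1.map σ) * (P⁻¹).map σ) * P.map σ =
          (P⁻¹ * P)ᵀ * (g.1ᵀ * g.1.map σ) * (P⁻¹ * P).map σ := by
        simp only [Matrix.map_mul, Matrix.transpose_mul, Matrix.mul_assoc]
      rw [h, hPP, h2] at h4
      simpa using h4.symm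
    · intro h
      rw [h, Matrix.mul_one, hJ]
  exact ⟨{ toFun := fun g => ⟨ψ.symm g.1, (key _).1 (by rw [MulEquiv.apply_symm_apply]; exact g.2)⟩
           invFun := fun g => ⟨ψ g.1, (key _).2 g.2⟩
           left_inv := fun g => Subtype.ext (ψ.apply_symm_apply _)
           right_inv := fun g => Subtype.ext (ψ.symm_apply_apply _)
           map_mul' := fun a b => Subtype.ext (map_mul ψ.symm a.1 b.1) }⟩

/-- The upper triangular subgroup. -/
def B (σ : F →+* F) (n : ℕ) [Fintype F] : Subgroup (SUJ σ n) := (SteinbergSL.B F n).comap (SUJ σ n).subtype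

/-- The unitriangular subgroup. -/
def U (σ : F →+* F) (n : ℕ) [Fintype F] : Subgroup (SUJ σ n) :=
  (UnitriangularSL.U F n).comap (SUJ σ n).subtype

theorem mem_B [Fintype F] {b : SUJ σ n} : b ∈ B σ n ↔ ∀ a c : Fin n, c < a → b.1.1 a c = 0 := Iff.rfl

theorem diag_rel [Fintype F] {b : SUJ σ n} (hb : b ∈ B σ n) (j : Fin n) :
    b.1.1 (Fin.rev j) (Fin.rev j) * σ (b.1.1 j j) = 1 := by
  have h := uni_iff.1 b.2 (Fin.rev j) j
  rw [if_pos rfl, Finset.sum_eq_single (Fin.rev j)] at h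
  · rwa [Fin.rev_rev] at h
  · intro i _ hi
    rcases lt_or_gt_of_ne hi with h1 | h1
    · rw [mem_B.1 hb (Fin.rev i) j (by rwa [Fin.lt_rev_iff]), map_zero, mul_zero]
    · rw [mem_B.1 hb i (Fin.rev j) h1, zero_mul]
  · simp

theorem uni_of_monom {A : Matrix (Fin n) (Fin n) F} {π : Equiv.Perm (Fin n)} (hA : Monom A π)
    (hπ : ∀ j, π (Fin.rev j) = Fin.rev (π j))
    (h : ∀ j, A (π (Fin.rev j)) (Fin.rev j) * σ (A (π j) j) = 1) : Uni σ A := by
  rw [uni_iff]
  intro a b
  rw [Finset.sum_eq_single (π a) (fun i _ hi => by rw [hA i a hi, zero_mul]) (by simp)]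
  rcases eq_or_ne a (Fin.rev b) with rfl | hab
  · rw [if_pos rfl, hπ, Fin.rev_rev, ← hπ, h]
  · rw [if_neg hab, hA (Fin.rev (π a)) b, map_zero, mul_zero]
    intro e
    exact hab (π.injective (by rw [hπ, ← e, Fin.rev_rev]))

theorem exists_decomp [Fintype F] {b : SUJ σ n} (hb : b ∈ B σ n) :
    ∃ d : SUJ σ n, Monom d.1.1 1 ∧ (∀ v ∈ U σ n, d * v * d⁻¹ ∈ U σ n) ∧ ∃ u ∈ U σ n, b = d * u := by
  obtain ⟨d, hd, u, hu, he⟩ := upper_eq (A := b.1) (mem_B.1 hb)
  have hm : Monom (D d hd).1 (1 : Equiv.Perm (Fin n)) := fun i j h => Matrix.diagonal_apply_ne _ (by simpa using h)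
  have hentry : ∀ a, b.1.1 a a = d a := fun a => by
    rw [he, Matrix.SpecialLinearGroup.coe_mul]
    show (Matrix.diagonal (fun x => (d x : F)) * u.1) a a = _
    rw [Matrix.diagonal_mul, U_diag hu, mul_one]
  have hD : D d hd ∈ SUJ σ n := uni_of_monom hm (fun _ => rfl) fun j => by
    show Matrix.diagonal (fun x => (d x : F)) (Fin.rev j) (Fin.rev j) *
      σ (Matrix.diagonal (fun x => (d x : F)) j j) = 1
    rw [Matrix.diagonal_apply_eq, Matrix.diagonal_apply_eq, ← hentry, ← hentry, diag_rel hb]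
  refine ⟨⟨_, hD⟩, hm, fun v hv => SteinbergSL.D_conj_U d hd hv, ⟨u, ?_⟩, hu, Subtype.ext he⟩
  rw [show u = (D d hd)⁻¹ * b.1 by rw [he, inv_mul_cancel_left]]
  exact mul_mem (inv_mem hD) b.2

theorem diag_scalars (hσ : IsConjugation σ) (hn : 1 ≤ n) {c : F} (hc : σ c = c) (hc2 : c * c = 1) :
    ∃ d : Fin n → F, (∀ j, d (Fin.rev j) * σ (d j) = 1) ∧ ∏ j, d j = c := by
  classical
  by_cases hp : ∃ p : Fin n, Fin.rev p = p
  · obtain ⟨p, hp⟩ := hp
    refine ⟨Function.update 1 p c, fun j => ?_, by rw [Finset.prod_update_of_mem (Finset.mem_univ _)]; simp⟩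
    rcases eq_or_ne j p with rfl | hj
    · simp [hp, hc, hc2]
    · have hj' : Fin.rev j ≠ p := fun e => hj (by rw [← hp, ← e, Fin.rev_rev] )
      simp [hj, hj']
  · push Not at hp
    obtain ⟨z, hz0, hz⟩ := hσ.exists_div_eq (x := c) (by rw [hc, hc2])
    set a : Fin n := ⟨0, hn⟩
    have hσz : σ z ≠ 0 := (map_ne_zero σ).2 hz0
    refine ⟨fun j => if j = a then z else if j = Fin.rev a then (σ z)⁻¹ else 1, fun j => ?_, ?_⟩
    · rcases eq_or_ne j a with rfl | h1
      · simp [hp a, hσz]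
      · rcases eq_or_ne j (Fin.rev a) with rfl | h2
        · simp [hp a, hσ.invol, hz0]
        · have h3 : Fin.rev j ≠ a := fun e => h2 (by rw [← e, Fin.rev_rev])
          have h4 : Fin.rev j ≠ Fin.rev a := fun e => h1 (Fin.rev_injective e)
          simp [h1, h2, h3, h4]
    · rw [Fintype.prod_eq_mul a (Fin.rev a) (hp a).symm (fun x hx => by simp [hx.1, hx.2])]
      simp only [if_true, if_neg (hp a)]
      rw [eq_comm, ← div_eq_mul_inv, eq_div_iff hσz]
      exact hz.symm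

/-- Every permutation commuting with the reversal is afforded by a monomial element. -/
theorem exists_monom (hσ : IsConjugation σ) (hn : 1 ≤ n) (π : Equiv.Perm (Fin n))
    (hπ : ∀ j, π (Fin.rev j) = Fin.rev (π j)) : ∃ g : SUJ σ n, Monom g.1.1 π := by
  set c : F := ((Equiv.Perm.sign π : ℤ) : F) with hc
  have hcc : σ c = c := by simp [hc]
  have hc2 : c * c = 1 := by rw [hc, ← Int.cast_mul, ← Units.val_mul, Int.units_mul_self]; simp
  obtain ⟨d, hd, hdp⟩ := diag_scalars hσ hn hcc hc2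
  set A : Matrix (Fin n) (Fin n) F := (1 : Matrix (Fin n) (Fin n) F).submatrix π.symm id * Matrix.diagonal d with hA
  have hdet : A.det = 1 := by
    rw [hA, Matrix.det_mul, Matrix.det_permute, Matrix.det_one, mul_one, Matrix.det_diagonal, hdp, Equiv.Perm.sign_symm,
      ← hc, hc2]
  have hentry : ∀ i j, A i j = if i = π j then d j else 0 := fun i j => by
    rw [hA, Matrix.mul_diagonal, Matrix.submatrix_apply, id, Matrix.one_apply, ite_mul, one_mul, zero_mul]
    exact if_congr (Equiv.symm_apply_eq π) rfl rfl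
  have hm : Monom A π := fun i j h => by rw [hentry, if_neg h]
  exact ⟨⟨⟨A, hdet⟩, uni_of_monom hm hπ fun j => by
    show A (π (Fin.rev j)) (Fin.rev j) * σ (A (π j) j) = 1
    rw [hentry, hentry, if_pos rfl, if_pos rfl, hd]⟩, hm⟩

section Embed

variable {c : ℕ} (f : Fin c → Fin n) (hf : Function.Injective f)

theorem incMat_apply (a : Fin n) (i : Fin c) : incMat F f a i = if a = f i then 1 else 0 := by
  simp [incMat, Matrix.one_apply]

theorem slEmbed_mem (hrev : ∀ i, f (Fin.rev i) = Fin.rev (f i)) {A : Matrix.SpecialLinearGroup (Fin c) F}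
    (hA : A ∈ SUJ σ c) : slEmbed f hf A ∈ SUJ σ n := by
  rw [mem_SUJ, Uni] at hA ⊢
  set E := incMat F f with hE
  set X := A.1 - 1 with hX
  have hJE : antiJ F n * E = E * antiJ F c := by
    ext a i
    rw [Matrix.mul_apply, Matrix.mul_apply, Finset.sum_eq_single (f i), Finset.sum_eq_single (Fin.rev i)]
    · simp [hE, incMat_apply, antiJ_apply, hrev]
    · intro j _ hj; simp [antiJ_apply, hj]
    · simp
    · intro j _ hj; simp [hE, incMat_apply, hj]
    · simp
  have hEJ : Eᵀ * antiJ F n = antiJ F c * Eᵀ := by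
    simpa [Matrix.transpose_mul, antiJ_transpose] using congrArg Matrix.transpose hJE
  have hEE : Eᵀ * E = 1 := incMat_transpose_mul f hf
  have hEσ : E.map σ = E := by
    ext a i
    simp only [Matrix.map_apply, hE, incMat_apply]
    split_ifs <;> simp
  have hcond : Xᵀ * antiJ F c + antiJ F c * X.map σ + Xᵀ * (antiJ F c * X.map σ) = 0 := by
    have e : A.1 = 1 + X := by rw [hX, add_sub_cancel]
    rw [e, Matrix.map_add _ (map_add σ), Matrix.map_one _ (map_zero σ) (map_one σ), Matrix.transpose_add,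
      Matrix.transpose_one] at hA
    rw [← sub_eq_zero] at hA
    rw [← hA]
    noncomm_ring
  rw [slEmbed_coe, ← hE, ← hX, Matrix.map_add _ (map_add σ), Matrix.map_one _ (map_zero σ) (map_one σ),
    Matrix.map_mul, Matrix.map_mul, hEσ, Matrix.transpose_map, hEσ, Matrix.transpose_add, Matrix.transpose_one,
    Matrix.transpose_mul, Matrix.transpose_mul, Matrix.transpose_transpose]
  calc (1 + E * (Xᵀ * Eᵀ)) * antiJ F n * (1 + E * X.map σ * Eᵀ)
      = antiJ F n + (E * Xᵀ * (Eᵀ * antiJ F n) + antiJ F n * E * (X.map σ * Eᵀ)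
          + E * Xᵀ * ((Eᵀ * antiJ F n) * E) * (X.map σ * Eᵀ)) := by
        simp only [Matrix.mul_add, Matrix.add_mul, Matrix.mul_one, Matrix.one_mul, Matrix.mul_assoc, add_assoc,
          add_left_comm]
    _ = antiJ F n + E * (Xᵀ * antiJ F c + antiJ F c * X.map σ + Xᵀ * (antiJ F c * X.map σ)) * Eᵀ := by
        rw [hEJ, hJE, Matrix.mul_assoc (antiJ F c) Eᵀ E, hEE, Matrix.mul_one]
        simp only [Matrix.mul_add, Matrix.add_mul, Matrix.mul_assoc]
    _ = antiJ F n := by rw [hcond, Matrix.mul_zero, Matrix.zero_mul, add_zero]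

theorem slEmbed_apply_image (A : Matrix.SpecialLinearGroup (Fin c) F) (i j : Fin c) :
    (slEmbed f hf A).1 (f i) (f j) = A.1 i j := by
  rw [slEmbed_coe, Matrix.add_apply, Matrix.mul_apply, Finset.sum_eq_single j, Matrix.mul_apply,
    Finset.sum_eq_single i]
  · simp [incMat_apply, Matrix.sub_apply, Matrix.one_apply, hf.eq_iff]
  · intro k _ hk; simp [incMat_apply, hf.eq_iff, Ne.symm hk]
  · simp
  · intro k _ hk; simp [incMat_apply, hf.eq_iff, Ne.symm hk]
  · simp

theorem slEmbed_apply_off (A : Matrix.SpecialLinearGroup (Fin c) F) (a b : Fin n)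
    (h : (∀ i, f i ≠ a) ∨ ∀ j, f j ≠ b) :
    (slEmbed f hf A).1 a b = (1 : Matrix (Fin n) (Fin n) F) a b := by
  rw [slEmbed_coe, Matrix.add_apply, Matrix.mul_apply, Finset.sum_eq_zero, add_zero]
  intro j _
  rcases h with h | h
  · rw [Matrix.mul_apply, Finset.sum_eq_zero, zero_mul]
    intro i _
    simp [incMat_apply, Ne.symm (h i)]
  · simp [incMat_apply, Ne.symm (h j)]

/-- The embedding of a small unitary group. -/
def embU (hrev : ∀ i, f (Fin.rev i) = Fin.rev (f i)) : SUJ σ c →* SUJ σ n :=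
  ((slEmbed f hf).comp (SUJ σ c).subtype).codRestrict _ fun A => slEmbed_mem f hf hrev A.2

theorem embU_apply_image (hrev : ∀ i, f (Fin.rev i) = Fin.rev (f i)) (A : SUJ σ c) (i j : Fin c) :
    (embU f hf hrev A).1.1 (f i) (f j) = A.1.1 i j := slEmbed_apply_image f hf A.1 i j

theorem embU_ne_zero (hrev : ∀ i, f (Fin.rev i) = Fin.rev (f i)) (A : SUJ σ c) {a b : Fin n}
    (h : (embU f hf hrev A).1.1 a b ≠ 0) : a = b ∨ ∃ i j, f i = a ∧ f j = b ∧ A.1.1 i j ≠ 0 := by
  by_cases hi : (∀ i, f i ≠ a) ∨ ∀ j, f j ≠ b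
  · refine Or.inl ?_
    by_contra hab
    exact h ((slEmbed_apply_off f hf A.1 a b hi).trans (Matrix.one_apply_ne hab))
  · push Not at hi
    obtain ⟨⟨i, rfl⟩, ⟨j, rfl⟩⟩ := hi
    exact Or.inr ⟨i, j, rfl, rfl, by rwa [embU_apply_image] at h⟩

theorem embU_monom (hrev : ∀ i, f (Fin.rev i) = Fin.rev (f i)) {A : SUJ σ c} {πc : Equiv.Perm (Fin c)}
    (hA : Monom A.1.1 πc) {π : Equiv.Perm (Fin n)} (hin : ∀ j, π (f j) = f (πc j))
    (hout : ∀ b, (∀ j, f j ≠ b) → π b = b) : Monom (embU f hf hrev A).1.1 π := by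
  intro a b hab
  by_contra h
  by_cases hb : ∀ j, f j ≠ b
  · exact h (((slEmbed_apply_off f hf A.1 a b (Or.inr hb))).trans (Matrix.one_apply_ne (by rwa [hout b hb] at hab)))
  push Not at hb
  obtain ⟨j, rfl⟩ := hb
  by_cases ha : ∀ i, f i ≠ a
  · refine h ((slEmbed_apply_off f hf A.1 a _ (Or.inl ha)).trans (Matrix.one_apply_ne ?_))
    exact fun e => ha j e.symm
  push Not at ha
  obtain ⟨i, rfl⟩ := ha
  rw [embU_apply_image] at h
  exact h (hA i j fun e => hab (by rw [hin, e]))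

theorem embU_diag (hrev : ∀ i, f (Fin.rev i) = Fin.rev (f i)) {A : SUJ σ c} (hA : Monom A.1.1 1) :
    Monom (embU f hf hrev A).1.1 (1 : Equiv.Perm (Fin n)) :=
  embU_monom f hf hrev hA (fun _ => rfl) (fun _ _ => rfl)

theorem mul_embU_apply (hrev : ∀ i, f (Fin.rev i) = Fin.rev (f i)) (u : SUJ σ n) (A : SUJ σ c) (i j : Fin c) :
    (u * embU f hf hrev A).1.1 (f i) (f j) = ∑ l, u.1.1 (f i) (f l) * A.1.1 l j := by
  rw [coe_mul, Matrix.mul_apply]
  simp only [← embU_apply_image f hf hrev A]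
  refine (Finset.sum_map Finset.univ ⟨f, hf⟩ (fun a => u.1.1 (f i) a * (embU f hf hrev A).1.1 a (f j))).symm.trans ?_ |>.symm
  refine Finset.sum_subset (Finset.subset_univ _) fun a _ ha => ?_
  simp only [Finset.mem_map, Finset.mem_univ, true_and, Function.Embedding.coeFn_mk, not_exists] at ha
  rw [show (embU f hf hrev A).1.1 a (f j) = _ from slEmbed_apply_off f hf A.1 a (f j) (Or.inl ha),
    Matrix.one_apply_ne (Ne.symm (ha j)), mul_zero]

end Embed

theorem mem_U_iff [Fintype F] {u : SUJ σ n} :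
    u ∈ U σ n ↔ (∀ a, u.1.1 a a = 1) ∧ ∀ a b : Fin n, b < a → u.1.1 a b = 0 := by
  refine ⟨fun h => ⟨U_diag h, fun a b hab => U_below h hab⟩, fun h a b hab => ?_⟩
  show u.1.1 a b - (1 : Matrix (Fin n) (Fin n) F) a b = 0
  rcases eq_or_ne a b with rfl | hne
  · simp [h.1]
  · rw [h.2 a b (lt_of_le_of_ne (Fin.le_def.2 (by omega)) hne.symm), Matrix.one_apply_ne hne, sub_zero]

theorem B_conj_U [Fintype F] (b : SUJ σ n) (hb : b ∈ B σ n) (u : SUJ σ n) (hu : u ∈ U σ n) :
    b * u * b⁻¹ ∈ U σ n := SteinbergSL.splitData.U_conj b.1 hb u.1 hu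

theorem U_le_B [Fintype F] : U σ n ≤ B σ n := fun _ hu => SteinbergSL.U_le_B hu

theorem mem_B_of_monom [Fintype F] {t : SUJ σ n} (ht : Monom t.1.1 1) : t ∈ B σ n :=
  fun a b h => monom_one_upper ht (fun a : Fin n => (a : ℕ)) a b (Fin.lt_def.1 h)

theorem conj_monom_apply {S : SUJ σ n} {π : Equiv.Perm (Fin n)} (hS : Monom S.1.1 π) (y : SUJ σ n) (a b : Fin n) :
    (S * y * S⁻¹).1.1 (π a) (π b) = S.1.1 (π a) a * y.1.1 a b * (S⁻¹).1.1 b (π b) := by
  have hinv : Monom (S⁻¹).1.1 π⁻¹ := hS.of_inv (det_ne S) (by rw [← coe_mul, mul_inv_cancel]; rfl)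
  rw [coe_mul, hinv.apply_mul_perm, show π⁻¹ (π b) = b from π.symm_apply_apply b, coe_mul, hS.mul_apply_perm]

/-- A monomial conjugate of a unitriangular element without entries at the inverted places is unitriangular. -/
theorem conj_mem_U [Fintype F] {S : SUJ σ n} {π : Equiv.Perm (Fin n)} (hS : Monom S.1.1 π) {y : SUJ σ n}
    (hy : y ∈ U σ n) (h : ∀ a b, a < b → π b < π a → y.1.1 a b = 0) : S * y * S⁻¹ ∈ U σ n := by
  obtain ⟨hy1, hy0⟩ := mem_U_iff.1 hy
  refine mem_U_iff.2 ⟨fun x => ?_, fun x z hxz => ?_⟩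
  · obtain ⟨a, rfl⟩ := π.surjective x
    rw [conj_monom_apply hS, hy1, mul_one]
    have h1 := hS.mul_apply_perm (S⁻¹).1.1 a (π a)
    rw [← coe_mul, mul_inv_cancel] at h1
    rw [← h1]
    exact Matrix.one_apply_eq _
  · obtain ⟨a, rfl⟩ := π.surjective x
    obtain ⟨b, rfl⟩ := π.surjective z
    rw [conj_monom_apply hS]
    have h0 : y.1.1 a b = 0 := by
      rcases lt_trichotomy a b with h1 | h1 | h1
      · exact h a b h1 hxz
      · exact absurd (h1 ▸ hxz) (lt_irrefl _)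
      · exact hy0 a b h1
    rw [h0, mul_zero, zero_mul]

theorem adjacent_rel [Fintype F] {u : SUJ σ n} (hu : u ∈ U σ n) {a b : Fin n} (hab : (b : ℕ) = a + 1) :
    u.1.1 a b + σ (u.1.1 (Fin.rev b) (Fin.rev a)) = 0 := by
  obtain ⟨h1, h0⟩ := mem_U_iff.1 hu
  have hne : a ≠ b := fun e => by subst e; omega
  have h := uni_iff.1 u.2 b (Fin.rev a)
  rw [Fin.rev_rev, if_neg hne.symm, Fintype.sum_eq_add a b hne] at h
  · rwa [h1, h1, map_one, mul_one, one_mul] at h
  · intro i hi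
    rcases Nat.lt_or_ge (b : ℕ) i with h2 | h2
    · rw [h0 i b h2, zero_mul]
    · have : (i : ℕ) < a := by
        have := Fin.val_ne_of_ne hi.1; have := Fin.val_ne_of_ne hi.2; omega
      rw [h0 (Fin.rev i) (Fin.rev a) (Fin.rev_lt_rev.2 this), map_zero, mul_zero]

theorem middle_rel [Fintype F] {u : SUJ σ n} (hu : u ∈ U σ n) {a b : Fin n} (hab : (b : ℕ) = a + 1)
    (hb : Fin.rev b = b) : u.1.1 a (Fin.rev a) + σ (u.1.1 a (Fin.rev a)) +
      u.1.1 b (Fin.rev a) * σ (u.1.1 b (Fin.rev a)) = 0 := by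
  obtain ⟨h1, h0⟩ := mem_U_iff.1 hu
  have hne : a ≠ b := fun e => by subst e; omega
  have hval : (b : ℕ) = n - (b + 1) := by conv_lhs => rw [← hb, Fin.val_rev]
  have hne2 : Fin.rev a ≠ a := fun e => by
    have := congrArg Fin.val e; rw [Fin.val_rev] at this; omega
  have hne3 : Fin.rev a ≠ b := fun e => hne (Fin.rev_injective (e.trans hb.symm))
  have h := uni_iff.1 u.2 (Fin.rev a) (Fin.rev a)
  rw [Fin.rev_rev, if_neg hne2] at h
  rw [← Finset.sum_subset (Finset.subset_univ ({a, b, Fin.rev a} : Finset (Fin n))) ?_] at h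
  · rw [Finset.sum_insert (by simp [hne, Ne.symm hne2]), Finset.sum_insert (by simp [Ne.symm hne3]),
      Finset.sum_singleton, hb, Fin.rev_rev, h1, map_one, one_mul, mul_one] at h
    rw [← h]
    ring
  · intro i _ hi
    simp only [Finset.mem_insert, Finset.mem_singleton, not_or] at hi
    have e1 := Fin.val_ne_of_ne hi.1
    have e2 := Fin.val_ne_of_ne hi.2.1
    have e3 := Fin.val_ne_of_ne hi.2.2
    rw [Fin.val_rev] at e3
    rcases Nat.lt_or_ge (n - (a + 1)) i with h2 | h2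
    · rw [h0 i (Fin.rev a) (Fin.lt_def.2 (by rw [Fin.val_rev]; omega)), zero_mul]
    · rw [h0 (Fin.rev i) (Fin.rev a) (Fin.rev_lt_rev.2 (Fin.lt_def.2 (by omega))), map_zero, mul_zero]

end CfsgLib.PGroup.SUModel
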