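import Cfsg.Agent.Lib.PGroup.SUModel

/-!
The monomial group, the simple reflections and the root groups of `SU_n` in the antidiagonal model.
-/

set_option autoImplicit false
set_option linter.unusedSectionVars false

namespace CfsgLib.PGroup.SURoots

open Matrix CfsgLib.Classical CfsgLib.PGroup.UnitriangularSL CfsgLib.PGroup.SplitMonomial CfsgLib.PGroup.SUModel

variable {F : Type*} [Field F] [Fintype F] {σ : F →+* F} {n : ℕ}

/-- A conjugation with a skew element. -/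
structure Datum (σ : F →+* F) where
  conj : IsConjugation σ
  δ : F
  δ_ne : δ ≠ 0
  δ_skew : δ + σ δ = 0

theorem exists_datum (h : IsConjugation σ) : Nonempty (Datum σ) := by
  obtain ⟨c, hc, hc'⟩ := h.exists_trace_zero
  exact ⟨⟨h, c, hc, hc'⟩⟩

/-- The representative of a pair of opposite indices. -/
def proj (x : Fin n) : Fin ((n + 1) / 2) :=
  ⟨min (x : ℕ) (n - ((x : ℕ) + 1)), by have := x.2; omega⟩

theorem proj_rev (x : Fin n) : proj (Fin.rev x) = proj x := by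
  refine Fin.ext ?_
  have := x.2
  simp only [proj, Fin.val_rev]
  omega

theorem eq_or_rev_of_proj {x y : Fin n} (h : proj x = proj y) : x = y ∨ x = Fin.rev y := by
  have h1 := congrArg Fin.val h
  simp only [proj] at h1
  have := x.2
  have := y.2
  by_cases hxy : x = y
  · exact Or.inl hxy
  · have := Fin.val_ne_of_ne hxy
    exact Or.inr (Fin.ext (by rw [Fin.val_rev]; omega))

theorem proj_surjective : Function.Surjective (proj : Fin n → _) := fun i =>
  ⟨⟨i, by have := i.2; omega⟩, Fin.ext (by have := i.2; simp only [proj]; omega)⟩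

/-- The monomial group, with the permutation and its action on pairs recorded. -/
def N (σ : F →+* F) (n : ℕ) :
    Subgroup ((Equiv.Perm (Fin n) × Equiv.Perm (Fin ((n + 1) / 2))) × SUJ σ n) where
  carrier := {p | Monom p.2.1.1 p.1.1 ∧ ∀ x, proj (p.1.1 x) = p.1.2 (proj x)}
  mul_mem' {a b} ha hb := ⟨by
      show Monom (a.2 * b.2).1.1 (a.1.1 * b.1.1)
      rw [coe_mul]
      exact Monom.mul ha.1 hb.1, fun x => by
    show proj (a.1.1 (b.1.1 x)) = a.1.2 (b.1.2 (proj x))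
    rw [ha.2, hb.2]⟩
  one_mem' := ⟨monom_one, fun x => rfl⟩
  inv_mem' {a} ha := ⟨Monom.of_inv ha.1 (det_ne a.2) (by
      show a.2.1.1 * (a.2⁻¹).1.1 = _
      rw [← coe_mul, mul_inv_cancel]
      rfl), fun x => by
    show proj (a.1.1⁻¹ x) = a.1.2⁻¹ (proj x)
    have := ha.2 (a.1.1⁻¹ x)
    rw [show a.1.1 (a.1.1⁻¹ x) = x by simp] at this
    rw [this]
    simp⟩

/-- The matrix of a monomial element. -/
def ν : N σ n →* SUJ σ n := (MonoidHom.snd _ _).comp (N σ n).subtype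

/-- The sign of a monomial element. -/
def ε : N σ n →* ℤˣ :=
  (Equiv.Perm.sign.comp ((MonoidHom.fst _ _).comp ((MonoidHom.fst _ _).comp (N σ n).subtype))) *
    (Equiv.Perm.sign.comp ((MonoidHom.snd _ _).comp ((MonoidHom.fst _ _).comp (N σ n).subtype)))

theorem monom_ν (t : N σ n) : Monom (ν t).1.1 t.1.1.1 := t.2.1

theorem N_rev (t : N σ n) (x : Fin n) : t.1.1.1 (Fin.rev x) = Fin.rev (t.1.1.1 x) := by
  have h : proj (t.1.1.1 (Fin.rev x)) = proj (t.1.1.1 x) := by rw [t.2.2, t.2.2, proj_rev]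
  rcases eq_or_rev_of_proj h with h | h
  · have hx : Fin.rev x = x := t.1.1.1.injective h
    rw [hx]
    by_contra hf
    obtain ⟨y, hy⟩ := t.1.1.1.surjective (Fin.rev (t.1.1.1 x))
    have h3 : proj y = proj x := t.1.1.2.injective (by rw [← t.2.2, ← t.2.2, hy, proj_rev])
    rcases eq_or_rev_of_proj h3 with rfl | rfl
    · exact hf hy
    · rw [hx] at hy
      exact hf hy
  · exact h

theorem N_symm_rev (t : N σ n) (x : Fin n) : t.1.1.1.symm (Fin.rev x) = Fin.rev (t.1.1.1.symm x) := by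
  rw [Equiv.symm_apply_eq, N_rev, Equiv.apply_symm_apply]

/-- The indices of the simple roots in the middle, `n` even. -/
abbrev Mid2 (n : ℕ) : Type := {a : Fin n // 2 * ((a : ℕ) + 1) = n}

/-- The indices of the simple roots in the middle, `n` odd. -/
abbrev Mid3 (n : ℕ) : Type := {a : Fin n // 2 * ((a : ℕ) + 1) + 1 = n}

/-- The indices of the short simple roots. -/
abbrev Short (n : ℕ) : Type := {k : Fin n // 2 * ((k : ℕ) + 2) ≤ n}

/-- The indices of the simple roots. -/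
abbrev ι (n : ℕ) : Type := Short n ⊕ (Mid2 n ⊕ Mid3 n)

/-- The next index. -/
def k1 (k : Short n) : Fin n := ⟨(k.1 : ℕ) + 1, by have := k.2; omega⟩

/-- The middle index. -/
def m1 (a : Mid3 n) : Fin n := ⟨(a.1 : ℕ) + 1, by have := a.2; omega⟩

theorem k1_val (k : Short n) : (k1 k : ℕ) = k.1 + 1 := rfl

theorem m1_val (a : Mid3 n) : (m1 a : ℕ) = a.1 + 1 := rfl

theorem m1_rev (a : Mid3 n) : Fin.rev (m1 a) = m1 a :=
  Fin.ext (by rw [Fin.val_rev, m1_val]; have := a.2; omega)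

/-- The indices moved by a short root. -/
def f4 (k : Short n) : Fin 4 → Fin n := ![k.1, k1 k, Fin.rev (k1 k), Fin.rev k.1]

/-- The indices moved by the middle root, `n` even. -/
def f2 (a : Mid2 n) : Fin 2 → Fin n := ![a.1, Fin.rev a.1]

/-- The indices moved by the middle root, `n` odd. -/
def f3 (a : Mid3 n) : Fin 3 → Fin n := ![a.1, m1 a, Fin.rev a.1]

theorem f4_val (k : Short n) (i : Fin 4) :
    (f4 k i : ℕ) = ![(k.1 : ℕ), k.1 + 1, n - (k.1 + 1 + 1), n - (k.1 + 1)] i := by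
  fin_cases i <;> simp [f4, k1_val, Fin.val_rev]

theorem f2_val (a : Mid2 n) (i : Fin 2) : (f2 a i : ℕ) = ![(a.1 : ℕ), a.1 + 1] i := by
  have := a.2
  fin_cases i <;> simp [f2, Fin.val_rev] <;> omega

theorem f3_val (a : Mid3 n) (i : Fin 3) : (f3 a i : ℕ) = ![(a.1 : ℕ), a.1 + 1, a.1 + 2] i := by
  have := a.2
  fin_cases i <;> simp [f3, m1_val, Fin.val_rev] <;> omega

theorem f4_injective (k : Short n) : Function.Injective (f4 k) := fun i j h => by
  have := congrArg Fin.val h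
  rw [f4_val, f4_val] at this
  have := k.2
  fin_cases i <;> fin_cases j <;> simp at this ⊢ <;> omega

theorem f2_injective (a : Mid2 n) : Function.Injective (f2 a) := fun i j h => by
  have := congrArg Fin.val h
  rw [f2_val, f2_val] at this
  fin_cases i <;> fin_cases j <;> simp at this ⊢

theorem f3_injective (a : Mid3 n) : Function.Injective (f3 a) := fun i j h => by
  have := congrArg Fin.val h
  rw [f3_val, f3_val] at this
  fin_cases i <;> fin_cases j <;> simp at this ⊢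

theorem f4_rev (k : Short n) (i : Fin 4) : f4 k (Fin.rev i) = Fin.rev (f4 k i) := by
  fin_cases i <;> simp [f4]

theorem f2_rev (a : Mid2 n) (i : Fin 2) : f2 a (Fin.rev i) = Fin.rev (f2 a i) := by
  fin_cases i <;> simp [f2]

theorem f3_rev (a : Mid3 n) (i : Fin 3) : f3 a (Fin.rev i) = Fin.rev (f3 a i) := by
  fin_cases i <;> simp [f3, m1_rev]

/-- The embedding of the small group of a short root. -/
def e4 (k : Short n) : SUJ σ 4 →* SUJ σ n := embU (f4 k) (f4_injective k) (f4_rev k)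

/-- The embedding of the small group of the middle root, `n` even. -/
def e2 (a : Mid2 n) : SUJ σ 2 →* SUJ σ n := embU (f2 a) (f2_injective a) (f2_rev a)

/-- The embedding of the small group of the middle root, `n` odd. -/
def e3 (a : Mid3 n) : SUJ σ 3 →* SUJ σ n := embU (f3 a) (f3_injective a) (f3_rev a)

section Small

variable (D : Datum σ)

/-- The block matrix `diag(A, A*)`. -/
def quad (σ : F →+* F) (A : Matrix (Fin 2) (Fin 2) F) : Matrix (Fin 4) (Fin 4) F :=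
  !![A 0 0, A 0 1, 0, 0; A 1 0, A 1 1, 0, 0; 0, 0, σ (A 0 0), -σ (A 0 1); 0, 0, -σ (A 1 0), σ (A 1 1)]

theorem quad_det (A : Matrix (Fin 2) (Fin 2) F) : (quad σ A).det = A.det * σ A.det := by
  simp [quad, Matrix.det_succ_row_zero, Fin.sum_univ_succ, Fin.succAbove]
  ring

theorem quad_mul (A B : Matrix (Fin 2) (Fin 2) F) : quad σ (A * B) = quad σ A * quad σ B := by
  ext a b
  fin_cases a <;> fin_cases b <;> simp [quad, Matrix.mul_apply, Fin.sum_univ_four, Fin.sum_univ_two] <;> ring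

theorem quad_one : quad σ (1 : Matrix (Fin 2) (Fin 2) F) = 1 := by
  ext a b
  fin_cases a <;> fin_cases b <;> simp [quad]

theorem quad_uni (h : IsConjugation σ) {A : Matrix (Fin 2) (Fin 2) F} (hA : A.det = 1) : Uni σ (quad σ A) := by
  have h1 : A 0 0 * A 1 1 - A 0 1 * A 1 0 = 1 := by rw [← Matrix.det_fin_two, hA]
  have h2 : σ (A 0 0) * σ (A 1 1) - σ (A 0 1) * σ (A 1 0) = 1 := by rw [← map_mul, ← map_mul, ← map_sub, h1, map_one]
  rw [uni_iff]
  intro a b
  fin_cases a <;> fin_cases b <;> simp [quad, Fin.sum_univ_four, h.invol] <;>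
    first
      | ring1
      | linear_combination h1
      | linear_combination h2

/-- The Levi homomorphism of a short root. -/
def A4 : Matrix.SpecialLinearGroup (Fin 2) F →* SUJ σ 4 where
  toFun A := ⟨⟨quad σ A.1, by rw [quad_det, A.2, map_one, one_mul]⟩, quad_uni D.conj A.2⟩
  map_one' := ext' quad_one
  map_mul' A B := ext' (by
    show quad σ (A * B).1 = _
    rw [Matrix.SpecialLinearGroup.coe_mul, quad_mul, coe_mul])

theorem A4_coe (A : Matrix.SpecialLinearGroup (Fin 2) F) : (A4 D A).1.1 = quad σ A.1 := rfl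

/-- Root elements of a short root. -/
def x4 (c : F) : SUJ σ 4 := A4 D (Matrix.SpecialLinearGroup.transvection (zero_ne_one : (0 : Fin 2) ≠ 1) c)

theorem x4_coe (c : F) : (x4 D c).1.1 = !![1, c, 0, 0; 0, 1, 0, 0; 0, 0, 1, -σ c; 0, 0, 0, 1] := by
  rw [x4, A4_coe, Matrix.SpecialLinearGroup.transvection_coe]
  ext a b
  fin_cases a <;> fin_cases b <;> simp [quad]

/-- Root elements in dimension two. -/
def x2 (b : F) (hb : b + σ b = 0) : SUJ σ 2 :=
  ⟨⟨!![1, b; 0, 1], by simp [Matrix.det_fin_two]⟩, uni_iff.2 fun i j => by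
    fin_cases i <;> fin_cases j <;> simp [Fin.sum_univ_two, hb]⟩

/-- The reflection in dimension two. -/
def w2' : SUJ σ 2 :=
  ⟨⟨!![0, D.δ; -D.δ⁻¹, 0], by simp [Matrix.det_fin_two, D.δ_ne]⟩, uni_iff.2 fun i j => by
    have h0 := D.δ_ne
    have h1 : σ D.δ = -D.δ := by linear_combination D.δ_skew
    fin_cases i <;> fin_cases j <;> simp [Fin.sum_univ_two, h1, h0]⟩

/-- Torus elements in dimension two. -/
def d2 (t : F) (ht : t ≠ 0) (htσ : σ t = t) : SUJ σ 2 :=
  ⟨⟨!![t, 0; 0, t⁻¹], by simp [Matrix.det_fin_two, ht]⟩, uni_iff.2 fun i j => by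
    fin_cases i <;> fin_cases j <;> simp [Fin.sum_univ_two, htσ, ht]⟩

/-- Root elements in dimension three. -/
def x3 (h : IsConjugation σ) (a b : F) (hab : b + σ b + a * σ a = 0) : SUJ σ 3 :=
  ⟨⟨!![1, a, b; 0, 1, -σ a; 0, 0, 1], by simp [Matrix.det_fin_three]⟩, uni_iff.2 fun i j => by
    fin_cases i <;> fin_cases j <;> simp [Fin.sum_univ_three, h.invol]
    linear_combination hab⟩

/-- The reflection in dimension three. -/
def w3 (σ : F →+* F) : SUJ σ 3 :=
  ⟨⟨!![0, 0, 1; 0, -1, 0; 1, 0, 0], by simp [Matrix.det_fin_three]⟩, uni_iff.2 fun i j => by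
    fin_cases i <;> fin_cases j <;> simp [Fin.sum_univ_three]⟩

/-- Torus elements in dimension three. -/
def d3 (h : IsConjugation σ) (b : F) (hb : b ≠ 0) : SUJ σ 3 :=
  ⟨⟨!![(σ b)⁻¹, 0, 0; 0, σ b / b, 0; 0, 0, b], by
    have : σ b ≠ 0 := (map_ne_zero σ).2 hb
    simp [Matrix.det_fin_three]
    field_simp⟩, uni_iff.2 fun i j => by
    have : σ b ≠ 0 := (map_ne_zero σ).2 hb
    fin_cases i <;> fin_cases j <;> simp [Fin.sum_univ_three, h.invol] <;> field_simp⟩

theorem rank_one2 {b : F} (hb : b + σ b = 0) (hb0 : b ≠ 0) :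
    ∃ (c : F) (hc : c + σ c = 0) (t : F) (ht : t ≠ 0) (htσ : σ t = t), t = -D.δ / b ∧
      w2' D * x2 b hb * w2' D = x2 c hc * d2 t ht htσ * w2' D * x2 c hc := by
  have h0 := D.δ_ne
  have h1 : σ D.δ = -D.δ := by linear_combination D.δ_skew
  have h2 : σ b = -b := by linear_combination hb
  refine ⟨-D.δ ^ 2 / b, ?_, -D.δ / b, div_ne_zero (neg_ne_zero.2 h0) hb0, ?_, rfl, ext' ?_⟩
  · simp [map_div₀, h1, h2, neg_div, div_neg]
  · simp [map_div₀, h1, h2, neg_div, div_neg]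
  simp only [coe_mul]
  show !![0, D.δ; -D.δ⁻¹, 0] * !![1, b; 0, 1] * !![0, D.δ; -D.δ⁻¹, 0] = _
  show _ = !![1, -D.δ ^ 2 / b; 0, 1] * !![-D.δ / b, 0; 0, (-D.δ / b)⁻¹] * !![0, D.δ; -D.δ⁻¹, 0] *
    !![1, -D.δ ^ 2 / b; 0, 1]
  ext i j
  fin_cases i <;> fin_cases j <;> simp [Matrix.mul_apply, Fin.sum_univ_two] <;> field_simp <;> (first | ring1 | simp [h0, hb0])

theorem rank_one3 (h : IsConjugation σ) {a b : F} (hab : b + σ b + a * σ a = 0) (hb : b ≠ 0) :
    ∃ (a1 b1 : F) (h1 : b1 + σ b1 + a1 * σ a1 = 0) (a2 b2 : F) (h2 : b2 + σ b2 + a2 * σ a2 = 0),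
      w3 σ * x3 h a b hab * w3 σ = x3 h a1 b1 h1 * d3 h b hb * w3 σ * x3 h a2 b2 h2 := by
  have hb' : σ b ≠ 0 := (map_ne_zero σ).2 hb
  refine ⟨-a / σ b, 1 / b, ?_, -a / b, 1 / b, ?_, ext' ?_⟩
  · simp only [map_div₀, map_neg, map_one, h.invol]
    field_simp
    linear_combination hab
  · simp only [map_div₀, map_neg, map_one]
    field_simp
    linear_combination hab
  simp only [coe_mul]
  show !![0, 0, 1; 0, -1, 0; 1, 0, 0] * !![1, a, b; 0, 1, -σ a; 0, 0, 1] * !![0, 0, 1; 0, -1, 0; 1, 0, 0] =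
    !![1, -a / σ b, 1 / b; 0, 1, -σ (-a / σ b); 0, 0, 1] * !![(σ b)⁻¹, 0, 0; 0, σ b / b, 0; 0, 0, b] *
      !![0, 0, 1; 0, -1, 0; 1, 0, 0] * !![1, -a / b, 1 / b; 0, 1, -σ (-a / b); 0, 0, 1]
  ext i j
  fin_cases i <;> fin_cases j <;> simp [Matrix.mul_apply, Fin.sum_univ_three, h.invol, map_div₀] <;> field_simp <;>
    first
      | ring1
      | linear_combination hab
      | linear_combination -hab

end Small

/-- The permutation of a simple reflection. -/
def sperm : ι n → Equiv.Perm (Fin n)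
  | .inl k => Equiv.swap k.1 (k1 k) * Equiv.swap (Fin.rev (k1 k)) (Fin.rev k.1)
  | .inr (.inl a) => Equiv.swap a.1 (Fin.rev a.1)
  | .inr (.inr a) => Equiv.swap a.1 (Fin.rev a.1)

/-- The action of a simple reflection on pairs. -/
def tperm : ι n → Equiv.Perm (Fin ((n + 1) / 2))
  | .inl k => Equiv.swap (proj k.1) (proj (k1 k))
  | .inr _ => 1

/-- The first index of a simple root. -/
def posI : ι n → Fin n
  | .inl k => k.1
  | .inr (.inl a) => a.1
  | .inr (.inr a) => a.1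

/-- The second index of a simple root. -/
def posJ : ι n → Fin n
  | .inl k => k1 k
  | .inr (.inl a) => Fin.rev a.1
  | .inr (.inr a) => Fin.rev a.1

theorem swap_val (x a b : Fin n) :
    ((x : ℕ) = a ∧ (Equiv.swap a b x : ℕ) = b) ∨
      ((x : ℕ) ≠ a ∧ (x : ℕ) = b ∧ (Equiv.swap a b x : ℕ) = a) ∨
      ((x : ℕ) ≠ a ∧ (x : ℕ) ≠ b ∧ (Equiv.swap a b x : ℕ) = x) := by
  rcases eq_or_ne x a with rfl | h1
  · exact Or.inl ⟨rfl, by rw [Equiv.swap_apply_left]⟩
  rcases eq_or_ne x b with rfl | h2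
  · exact Or.inr (Or.inl ⟨Fin.val_ne_of_ne h1, rfl, by rw [Equiv.swap_apply_right]⟩)
  · exact Or.inr (Or.inr ⟨Fin.val_ne_of_ne h1, Fin.val_ne_of_ne h2, by rw [Equiv.swap_apply_of_ne_of_ne h1 h2]⟩)

theorem sperm_short_val (k : Short n) (x : Fin n) :
    ((x : ℕ) = k.1 ∧ (sperm (.inl k : ι n) x : ℕ) = k.1 + 1) ∨
      ((x : ℕ) = k.1 + 1 ∧ (sperm (.inl k : ι n) x : ℕ) = k.1) ∨
      ((x : ℕ) = n - (k.1 + 1 + 1) ∧ (sperm (.inl k : ι n) x : ℕ) = n - (k.1 + 1)) ∨
      ((x : ℕ) = n - (k.1 + 1) ∧ (sperm (.inl k : ι n) x : ℕ) = n - (k.1 + 1 + 1)) ∨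
      ((x : ℕ) ≠ k.1 ∧ (x : ℕ) ≠ k.1 + 1 ∧ (x : ℕ) ≠ n - (k.1 + 1 + 1) ∧ (x : ℕ) ≠ n - (k.1 + 1) ∧
        (sperm (.inl k : ι n) x : ℕ) = x) := by
  have := k.2
  have h1 := swap_val x (Fin.rev (k1 k)) (Fin.rev k.1)
  have h2 := swap_val (Equiv.swap (Fin.rev (k1 k)) (Fin.rev k.1) x) k.1 (k1 k)
  simp only [k1_val, Fin.val_rev] at h1 h2
  show ((x : ℕ) = k.1 ∧ ((Equiv.swap k.1 (k1 k) * Equiv.swap (Fin.rev (k1 k)) (Fin.rev k.1)) x : ℕ) = k.1 + 1) ∨ _
  simp only [sperm, Equiv.Perm.mul_apply]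
  omega

theorem sperm_mid_val (a : Mid2 n ⊕ Mid3 n) (x : Fin n) :
    ((x : ℕ) = posI (.inr a : ι n) ∧ (sperm (.inr a : ι n) x : ℕ) = n - ((posI (.inr a : ι n) : ℕ) + 1)) ∨
      ((x : ℕ) = n - ((posI (.inr a : ι n) : ℕ) + 1) ∧ (sperm (.inr a : ι n) x : ℕ) = posI (.inr a : ι n)) ∨
      ((x : ℕ) ≠ posI (.inr a : ι n) ∧ (x : ℕ) ≠ n - ((posI (.inr a : ι n) : ℕ) + 1) ∧
        (sperm (.inr a : ι n) x : ℕ) = x) := by
  rcases a with a | a <;>
  · have h1 := swap_val x a.1 (Fin.rev a.1)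
    simp only [Fin.val_rev] at h1
    simp only [sperm, posI]
    omega

theorem sperm_proj (i : ι n) (x : Fin n) : proj (sperm i x) = tperm i (proj x) := by
  rcases i with k | a
  · refine Fin.ext ?_
    show (proj (sperm (.inl k : ι n) x) : ℕ) = (Equiv.swap (proj k.1) (proj (k1 k)) (proj x) : ℕ)
    have h1 := swap_val (proj x) (proj k.1) (proj (k1 k))
    have h2 := sperm_short_val k x
    simp only [proj, k1_val] at h1 ⊢
    have := k.2; have := x.2
    omega
  · refine Fin.ext ?_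
    show (proj (sperm (.inr a : ι n) x) : ℕ) = (proj x : ℕ)
    have := sperm_mid_val a x
    simp only [proj]
    have := x.2
    have := (posI (.inr a : ι n)).2
    omega

theorem sperm_swap (i : ι n) : sperm i (posI i) = posJ i ∧ sperm i (posJ i) = posI i := by
  rcases i with k | a
  · have := k.2
    have h1 := sperm_short_val k k.1
    have h2 := sperm_short_val k (k1 k)
    rw [k1_val] at h2
    refine ⟨Fin.ext ?_, Fin.ext ?_⟩ <;> simp only [posI, posJ, k1_val] <;> omega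
  · rcases a with a | a <;> simp [sperm, posI, posJ]

theorem sperm_sq (i : ι n) : sperm i * sperm i = 1 := by
  refine Equiv.ext fun x => Fin.ext ?_
  rw [Equiv.Perm.mul_apply, Equiv.Perm.one_apply]
  have := x.2
  rcases i with k | a
  · have := k.2
    have := sperm_short_val k x
    have := sperm_short_val k (sperm (.inl k : ι n) x)
    omega
  · have := sperm_mid_val a x
    have := sperm_mid_val a (sperm (.inr a : ι n) x)
    omega

theorem posI_lt_posJ (i : ι n) : posI i < posJ i := by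
  rcases i with k | a | a <;> rw [Fin.lt_def] <;> simp only [posI, posJ, k1_val, Fin.val_rev] <;>
    (first | have := k.2 | have := a.2) <;> omega

variable (D : Datum σ)

theorem w4_monom (k : Short n) :
    Monom (e4 k (A4 D SteinbergSL.w2)).1.1 (sperm (.inl k : ι n)) := by
  refine embU_monom _ _ _ (πc := Equiv.swap 0 1 * Equiv.swap 2 3) ?_ (fun j => Fin.ext ?_) fun b hb => Fin.ext ?_
  · intro i j hij
    rw [A4_coe, SteinbergSL.w2_coe]
    fin_cases i <;> fin_cases j <;> simp [quad, Equiv.swap_apply_def] at hij ⊢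
  · have := k.2
    have h1 := sperm_short_val k (f4 k j)
    rw [f4_val] at h1
    rw [f4_val]
    fin_cases j <;> simp [Equiv.swap_apply_def] at h1 ⊢ <;> omega
  · have h := fun j => Fin.val_ne_of_ne (hb j)
    have h0 := h 0; have h1 := h 1; have h2 := h 2; have h3 := h 3
    rw [f4_val] at h0 h1 h2 h3
    simp at h0 h1 h2 h3
    have := sperm_short_val k b
    omega

theorem w2'_monom (a : Mid2 n) : Monom (e2 a (w2' D)).1.1 (sperm (.inr (.inl a) : ι n)) := by
  refine embU_monom _ _ _ (πc := Equiv.swap 0 1) ?_ (fun j => Fin.ext ?_) fun b hb => Fin.ext ?_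
  · intro i j hij
    show (!![0, D.δ; -D.δ⁻¹, 0] : Matrix (Fin 2) (Fin 2) F) i j = 0
    fin_cases i <;> fin_cases j <;> simp [Equiv.swap_apply_def] at hij ⊢
  · have := a.2
    have h1 := sperm_mid_val (.inl a) (f2 a j)
    rw [f2_val] at h1
    rw [f2_val]
    fin_cases j <;> simp [posI, Equiv.swap_apply_def] at h1 ⊢ <;> omega
  · have := a.2
    have h := fun j => Fin.val_ne_of_ne (hb j)
    have h0 := h 0; have h1 := h 1
    rw [f2_val] at h0 h1
    simp at h0 h1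
    have := sperm_mid_val (.inl a) b
    simp only [posI] at this
    omega

theorem w3_monom (a : Mid3 n) : Monom (e3 a (w3 σ)).1.1 (sperm (.inr (.inr a) : ι n)) := by
  refine embU_monom _ _ _ (πc := Equiv.swap 0 2) ?_ (fun j => Fin.ext ?_) fun b hb => Fin.ext ?_
  · intro i j hij
    show (!![0, 0, 1; 0, -1, 0; 1, 0, 0] : Matrix (Fin 3) (Fin 3) F) i j = 0
    fin_cases i <;> fin_cases j <;> simp [Equiv.swap_apply_def] at hij ⊢
  · have := a.2
    have h1 := sperm_mid_val (.inr a) (f3 a j)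
    rw [f3_val] at h1
    rw [f3_val]
    fin_cases j <;> simp [posI, Equiv.swap_apply_def] at h1 ⊢ <;> omega
  · have := a.2
    have h := fun j => Fin.val_ne_of_ne (hb j)
    have h0 := h 0; have h1 := h 1; have h2 := h 2
    rw [f3_val] at h0 h1 h2
    simp at h0 h1 h2
    have := sperm_mid_val (.inr a) b
    simp only [posI] at this
    omega

/-- The simple reflections. -/
noncomputable def s : ι n → N σ n
  | .inl k => ⟨((sperm (.inl k : ι n), tperm (.inl k : ι n)), e4 k (A4 D SteinbergSL.w2)), w4_monom D k,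
      sperm_proj (.inl k : ι n)⟩
  | .inr (.inl a) => ⟨((sperm (.inr (.inl a) : ι n), tperm (.inr (.inl a) : ι n)), e2 a (w2' D)), w2'_monom D a,
      sperm_proj (.inr (.inl a) : ι n)⟩
  | .inr (.inr a) => ⟨((sperm (.inr (.inr a) : ι n), tperm (.inr (.inr a) : ι n)), e3 a (w3 σ)), w3_monom a,
      sperm_proj (.inr (.inr a) : ι n)⟩

theorem s_perm (i : ι n) : (s D i).1.1 = (sperm i, tperm i) := by rcases i with k | a | a <;> rfl

/-- The root groups. -/
def R : ι n → Set (SUJ σ n)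
  | .inl k => Set.range fun c => e4 k (x4 D c)
  | .inr (.inl a) => {g | ∃ (b : F) (hb : b + σ b = 0), g = e2 a (x2 b hb)}
  | .inr (.inr a) => {g | ∃ (x b : F) (h : b + σ b + x * σ x = 0), g = e3 a (x3 D.conj x b h)}

theorem root_diag {i : ι n} {g : SUJ σ n} (hg : g ∈ R D i) (a : Fin n) : g.1.1 a a = 1 := by
  have key : ∀ {c : ℕ} (f : Fin c → Fin n) (hf : Function.Injective f) (hrev) (A : SUJ σ c),
      (∀ j, A.1.1 j j = 1) → (embU f hf hrev A).1.1 a a = 1 := by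
    intro c f hf hrev A hA
    by_cases h : ∀ j, f j ≠ a
    · exact (slEmbed_apply_off f hf A.1 a a (Or.inl h)).trans (Matrix.one_apply_eq a)
    · push Not at h
      obtain ⟨j, rfl⟩ := h
      rw [embU_apply_image, hA]
  rcases i with k | b | b
  · obtain ⟨c, rfl⟩ := hg
    exact key _ _ _ _ fun j => by rw [x4_coe]; fin_cases j <;> simp
  · obtain ⟨c, hc, rfl⟩ := hg
    exact key _ _ _ _ fun j => by
      show (!![1, c; 0, 1] : Matrix (Fin 2) (Fin 2) F) j j = 1
      fin_cases j <;> simp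
  · obtain ⟨x, c, hc, rfl⟩ := hg
    exact key _ _ _ _ fun j => by
      show (!![1, x, c; 0, 1, -σ x; 0, 0, 1] : Matrix (Fin 3) (Fin 3) F) j j = 1
      fin_cases j <;> simp

theorem root_pairs {i : ι n} {g : SUJ σ n} (hg : g ∈ R D i) {a b : Fin n} (h : g.1.1 a b ≠ 0) (hab : a ≠ b) :
    a < b ∧ ∀ ρ : Equiv.Perm (Fin n), (∀ x, ρ (Fin.rev x) = Fin.rev (ρ x)) → ρ (posI i) < ρ (posJ i) → ρ a < ρ b := by
  rcases i with k | c | c
  · obtain ⟨x, rfl⟩ := hg
    obtain ⟨p, q, rfl, rfl, hpq⟩ := (embU_ne_zero _ _ _ _ h).resolve_left hab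
    have hp := k.2
    rw [x4_coe] at hpq
    fin_cases p <;> fin_cases q <;> simp at hpq hab ⊢
    · exact ⟨by rw [Fin.lt_def, f4_val, f4_val]; simp, fun ρ _ h => h⟩
    · refine ⟨by rw [Fin.lt_def, f4_val, f4_val]; simp; omega, fun ρ hρ h => ?_⟩
      show ρ (Fin.rev (k1 k)) < ρ (Fin.rev k.1)
      rw [hρ, hρ]
      exact Fin.rev_lt_rev.2 h
  · obtain ⟨x, hx, rfl⟩ := hg
    obtain ⟨p, q, rfl, rfl, hpq⟩ := (embU_ne_zero _ _ _ _ h).resolve_left hab
    change (!![1, x; 0, 1] : Matrix (Fin 2) (Fin 2) F) p q ≠ 0 at hpq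
    fin_cases p <;> fin_cases q <;> simp at hpq hab ⊢
    exact ⟨by rw [Fin.lt_def, f2_val, f2_val]; simp, fun ρ _ h => h⟩
  · obtain ⟨x, y, hxy, rfl⟩ := hg
    obtain ⟨p, q, rfl, rfl, hpq⟩ := (embU_ne_zero _ _ _ _ h).resolve_left hab
    change (!![1, x, y; 0, 1, -σ x; 0, 0, 1] : Matrix (Fin 3) (Fin 3) F) p q ≠ 0 at hpq
    have key : ∀ ρ : Equiv.Perm (Fin n), (∀ x, ρ (Fin.rev x) = Fin.rev (ρ x)) → ρ c.1 < ρ (Fin.rev c.1) →
        ρ c.1 < ρ (m1 c) ∧ ρ (m1 c) < ρ (Fin.rev c.1) := fun ρ hρ h => by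
      have h1 := congrArg Fin.val (hρ (m1 c))
      rw [m1_rev, Fin.val_rev] at h1
      rw [hρ, Fin.lt_def, Fin.val_rev] at h
      rw [hρ, Fin.lt_def, Fin.lt_def, Fin.val_rev]
      omega
    fin_cases p <;> fin_cases q <;> simp at hpq hab ⊢
    · exact ⟨by rw [Fin.lt_def, f3_val, f3_val]; simp, fun ρ hρ h => (key ρ hρ h).1⟩
    · exact ⟨by rw [Fin.lt_def, f3_val, f3_val]; simp, fun ρ _ h => h⟩
    · exact ⟨by rw [Fin.lt_def, f3_val, f3_val]; simp, fun ρ hρ h => (key ρ hρ h).2⟩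

theorem root_witness (i : ι n) : ∃ g ∈ R D i, g.1.1 (posI i) (posJ i) ≠ 0 := by
  rcases i with k | a | a
  · refine ⟨_, ⟨1, rfl⟩, ?_⟩
    show (e4 k (x4 D 1)).1.1 (f4 k 0) (f4 k 1) ≠ 0
    rw [e4, embU_apply_image, x4_coe]
    simp
  · refine ⟨_, ⟨D.δ, D.δ_skew, rfl⟩, ?_⟩
    show (e2 a (x2 D.δ D.δ_skew)).1.1 (f2 a 0) (f2 a 1) ≠ 0
    rw [e2, embU_apply_image]
    show (!![1, D.δ; 0, 1] : Matrix (Fin 2) (Fin 2) F) 0 1 ≠ 0
    simpa using D.δ_ne
  · refine ⟨_, ⟨0, D.δ, by simpa using D.δ_skew, rfl⟩, ?_⟩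
    show (e3 a (x3 D.conj 0 D.δ _)).1.1 (f3 a 0) (f3 a 2) ≠ 0
    rw [e3, embU_apply_image]
    show (!![1, (0 : F), D.δ; 0, 1, -σ (0 : F); 0, 0, 1] : Matrix (Fin 3) (Fin 3) F) 0 2 ≠ 0
    simpa using D.δ_ne

theorem root_mem_U {i : ι n} {g : SUJ σ n} (hg : g ∈ R D i) : g ∈ U σ n :=
  mem_U_iff.2 ⟨root_diag D hg, fun a b hab => by
    by_contra h
    exact lt_asymm hab (root_pairs D hg h hab.ne').1⟩

theorem split_root (i : ι n) (u : SUJ σ n) (hu : u ∈ U σ n) :
    ∃ y, ∃ x ∈ R D i, u = y * x ∧ ν (s D i) * y * (ν (s D i))⁻¹ ∈ U σ n := by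
  suffices h : ∃ x' : SUJ σ n, x'⁻¹ ∈ R D i ∧ x' ∈ U σ n ∧
      ∀ a b, a < b → sperm i b < sperm i a → (u * x').1.1 a b = 0 by
    obtain ⟨x', hx', hx'U, h0⟩ := h
    refine ⟨u * x', x'⁻¹, hx', (mul_inv_cancel_right u x').symm, ?_⟩
    refine conj_mem_U ?_ (mul_mem hu hx'U) h0
    have := monom_ν (s D i)
    rwa [s_perm] at this
  rcases i with k | a | a
  · set w := u.1.1 k.1 (k1 k)
    have hinv : e4 k (x4 D (-w)) = (e4 k (x4 D w))⁻¹ := by
      rw [eq_inv_iff_mul_eq_one, x4, x4, ← map_mul, ← map_mul, ← Matrix.SpecialLinearGroup.transvection_inv,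
        inv_mul_cancel, map_one, map_one]
    refine ⟨e4 k (x4 D (-w)), ⟨w, by rw [hinv, inv_inv]⟩, root_mem_U D (i := .inl k) ⟨_, rfl⟩, fun a b hab hπ => ?_⟩
    have hrel := adjacent_rel hu (a := k.1) (b := k1 k) rfl
    have hpos : (a = f4 k 0 ∧ b = f4 k 1) ∨ (a = f4 k 2 ∧ b = f4 k 3) := by
      have h1 := sperm_short_val k a
      have h2 := sperm_short_val k b
      rw [Fin.lt_def] at hπ hab
      simp only [Fin.ext_iff, f4_val]
      simp
      have := k.2; have := a.2; have := b.2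
      omega
    have hd := (mem_U_iff.1 hu).1
    have h0 := (mem_U_iff.1 hu).2
    rcases hpos with ⟨rfl, rfl⟩ | ⟨rfl, rfl⟩ <;>
      (rw [e4, mul_embU_apply, x4_coe]; simp [Fin.sum_univ_four, hd]; simp [f4])
    · ring
    · have e : u.1.1 (Fin.rev (k1 k)) (Fin.rev k.1) = -σ w := by
        have h2 := congrArg σ hrel
        rw [map_add, D.conj.invol, map_zero] at h2
        linear_combination h2
      rw [e]
      ring
  · set w := u.1.1 a.1 (Fin.rev a.1)
    have hb : ((Fin.rev a.1 : Fin n) : ℕ) = a.1 + 1 := by have := a.2; rw [Fin.val_rev]; omega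
    have hrel := adjacent_rel hu (a := a.1) (b := Fin.rev a.1) hb
    rw [Fin.rev_rev] at hrel
    have hw : -w + σ (-w) = 0 := by rw [map_neg]; linear_combination -hrel
    have hinv : e2 a (x2 (-w) hw) = (e2 a (x2 w hrel))⁻¹ := by
      rw [eq_inv_iff_mul_eq_one, ← map_mul, show x2 (-w) hw * x2 w hrel = 1 from ext' (by
        rw [coe_mul]
        show !![1, -w; 0, 1] * !![1, w; 0, 1] = (1 : Matrix (Fin 2) (Fin 2) F)
        ext i j; fin_cases i <;> fin_cases j <;> simp [Matrix.mul_apply, Fin.sum_univ_two]), map_one]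
    refine ⟨e2 a (x2 (-w) hw), ⟨w, hrel, by rw [hinv, inv_inv]⟩, root_mem_U D (i := .inr (.inl a)) ⟨_, hw, rfl⟩,
      fun x y hxy hπ => ?_⟩
    have hpos : x = f2 a 0 ∧ y = f2 a 1 := by
      have h1 := sperm_mid_val (.inl a) x
      have h2 := sperm_mid_val (.inl a) y
      rw [Fin.lt_def] at hπ hxy
      simp only [Fin.ext_iff, f2_val]
      simp [posI] at h1 h2 ⊢
      have := a.2; have := x.2; have := y.2
      omega
    obtain ⟨rfl, rfl⟩ := hpos
    rw [e2, mul_embU_apply]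
    show ∑ l, u.1.1 (f2 a 0) (f2 a l) * (!![1, -w; 0, 1] : Matrix (Fin 2) (Fin 2) F) l 1 = 0
    simp [Fin.sum_univ_two, f2, (mem_U_iff.1 hu).1, w]
  · set v := u.1.1 a.1 (m1 a)
    set w := u.1.1 a.1 (Fin.rev a.1)
    have hrel := adjacent_rel hu (a := a.1) (b := m1 a) rfl
    rw [m1_rev] at hrel
    have hmid := middle_rel hu (a := a.1) (b := m1 a) rfl (m1_rev a)
    have e : u.1.1 (m1 a) (Fin.rev a.1) = -σ v := by
      have h2 := congrArg σ hrel
      rw [map_add, D.conj.invol, map_zero] at h2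
      linear_combination h2
    rw [e, map_neg, D.conj.invol] at hmid
    have hvw : w + σ w + v * σ v = 0 := by linear_combination hmid
    have hvw' : σ w + σ (σ w) + -v * σ (-v) = 0 := by rw [map_neg, D.conj.invol]; linear_combination hmid
    have hinv : e3 a (x3 D.conj (-v) (σ w) hvw') = (e3 a (x3 D.conj v w hvw))⁻¹ := by
      rw [eq_inv_iff_mul_eq_one, ← map_mul, show x3 D.conj (-v) (σ w) hvw' * x3 D.conj v w hvw = 1 from ext' (by
        rw [coe_mul]
        show !![1, -v, σ w; 0, 1, -σ (-v); 0, 0, 1] * !![1, v, w; 0, 1, -σ v; 0, 0, 1] =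
          (1 : Matrix (Fin 3) (Fin 3) F)
        ext i j
        fin_cases i <;> fin_cases j <;> simp [Matrix.mul_apply, Fin.sum_univ_three]
        linear_combination hvw), map_one]
    refine ⟨e3 a (x3 D.conj (-v) (σ w) hvw'), ⟨v, w, hvw, by rw [hinv, inv_inv]⟩,
      root_mem_U D (i := .inr (.inr a)) ⟨_, _, hvw', rfl⟩, fun x y hxy hπ => ?_⟩
    have hpos : (x = f3 a 0 ∧ y = f3 a 1) ∨ (x = f3 a 1 ∧ y = f3 a 2) ∨ (x = f3 a 0 ∧ y = f3 a 2) := by
      have h1 := sperm_mid_val (.inr a) x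
      have h2 := sperm_mid_val (.inr a) y
      rw [Fin.lt_def] at hπ hxy
      simp only [Fin.ext_iff, f3_val]
      simp [posI] at h1 h2 ⊢
      have := a.2; have := x.2; have := y.2
      omega
    obtain ⟨hd, h0⟩ := mem_U_iff.1 hu
    have hlt : ∀ i j : Fin 3, i < j → f3 a i < f3 a j := fun i j hij => by
      rw [Fin.lt_def, f3_val, f3_val]
      fin_cases i <;> fin_cases j <;> simp at hij ⊢
    rcases hpos with ⟨rfl, rfl⟩ | ⟨rfl, rfl⟩ | ⟨rfl, rfl⟩ <;>
    · rw [e3, mul_embU_apply]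
      show ∑ l, _ * (!![1, -v, σ w; 0, 1, -σ (-v); 0, 0, 1] : Matrix (Fin 3) (Fin 3) F) l _ = 0
      simp [Fin.sum_univ_three, hd, h0 _ _ (hlt 0 1 (by decide)), h0 _ _ (hlt 0 2 (by decide))]
      simp [f3, e, v, w]
      first | done | linear_combination hmid

theorem rank_one (i : ι n) : ∀ g ∈ R D i, g ≠ 1 → ∃ g' ∈ R D i, ∃ t : N σ n, ν t ∈ B σ n ∧ ∃ g'' ∈ R D i,
    ν (s D i) * g * ν (s D i) = g' * ν t * ν (s D i) * g'' := by
  have mk : ∀ t : SUJ σ n, Monom t.1.1 1 → ∃ t' : N σ n, ν t' ∈ B σ n ∧ ν t' = t := fun t ht =>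
    ⟨⟨((1, 1), t), ht, fun _ => rfl⟩, mem_B_of_monom ht, rfl⟩
  rcases i with k | a | a
  · rintro _ ⟨c, rfl⟩ hg
    have hc : c ≠ 0 := fun h => hg (by
      show e4 k (x4 D c) = 1
      rw [h, x4, Matrix.SpecialLinearGroup.transvection_coeff_zero, map_one, map_one])
    have hd : Monom (A4 D (Matrix.SpecialLinearGroup.diag2 (-c⁻¹) (neg_ne_zero.2 (inv_ne_zero hc)))).1.1
        (1 : Equiv.Perm (Fin 4)) := by
      intro i j hij
      rw [A4_coe, Matrix.SpecialLinearGroup.diag2_coe']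
      fin_cases i <;> fin_cases j <;> simp [quad] at hij ⊢
    obtain ⟨t, ht, htν⟩ := mk _ (embU_diag (f4 k) (f4_injective k) (f4_rev k) hd)
    refine ⟨_, ⟨-c⁻¹, rfl⟩, t, ht, _, ⟨-c⁻¹, rfl⟩, ?_⟩
    rw [htν]
    show e4 k (A4 D _) * e4 k (x4 D c) * e4 k (A4 D _) = e4 k (x4 D _) * e4 k (A4 D _) * e4 k (A4 D _) * e4 k (x4 D _)
    simp only [x4, ← map_mul]
    rw [SteinbergSL.rank_one_sl2 hc]
  · rintro _ ⟨b, hb, rfl⟩ hg
    have hb0 : b ≠ 0 := by
      rintro rfl
      refine hg ?_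
      rw [show x2 (0 : F) hb = 1 from ext' (by
        show !![1, 0; 0, 1] = (1 : Matrix (Fin 2) (Fin 2) F)
        exact Matrix.one_fin_two.symm), map_one]
    obtain ⟨c, hc, t, ht, htσ, -, he⟩ := rank_one2 D hb hb0
    have hd : Monom (d2 t ht htσ).1.1 (1 : Equiv.Perm (Fin 2)) := by
      intro i j hij
      show (!![t, 0; 0, t⁻¹] : Matrix (Fin 2) (Fin 2) F) i j = 0
      fin_cases i <;> fin_cases j <;> simp at hij ⊢
    obtain ⟨t', ht', htν⟩ := mk _ (embU_diag (f2 a) (f2_injective a) (f2_rev a) hd)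
    refine ⟨_, ⟨c, hc, rfl⟩, t', ht', _, ⟨c, hc, rfl⟩, ?_⟩
    rw [htν]
    show e2 a (w2' D) * e2 a _ * e2 a (w2' D) = e2 a _ * e2 a _ * e2 a (w2' D) * e2 a _
    simp only [← map_mul]
    rw [he]
  · rintro _ ⟨x, b, hxb, rfl⟩ hg
    have hb0 : b ≠ 0 := by
      rintro rfl
      rw [map_zero, zero_add, zero_add, mul_eq_zero, map_eq_zero, or_self] at hxb
      subst hxb
      refine hg ?_
      rw [show x3 D.conj (0 : F) 0 _ = 1 from ext' (by
        show !![1, (0 : F), 0; 0, 1, -σ (0 : F); 0, 0, 1] = (1 : Matrix (Fin 3) (Fin 3) F)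
        ext i j; fin_cases i <;> fin_cases j <;> simp), map_one]
    obtain ⟨a1, b1, h1, a2, b2, h2, he⟩ := rank_one3 D.conj hxb hb0
    have hd : Monom (d3 D.conj b hb0).1.1 (1 : Equiv.Perm (Fin 3)) := by
      intro i j hij
      show (!![(σ b)⁻¹, 0, 0; 0, σ b / b, 0; 0, 0, b] : Matrix (Fin 3) (Fin 3) F) i j = 0
      fin_cases i <;> fin_cases j <;> simp at hij ⊢
    obtain ⟨t', ht', htν⟩ := mk _ (embU_diag (f3 a) (f3_injective a) (f3_rev a) hd)
    refine ⟨_, ⟨a1, b1, h1, rfl⟩, t', ht', _, ⟨a2, b2, h2, rfl⟩, ?_⟩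
    rw [htν]
    show e3 a (w3 σ) * e3 a _ * e3 a (w3 σ) = e3 a _ * e3 a _ * e3 a (w3 σ) * e3 a _
    simp only [← map_mul]
    rw [he]

end CfsgLib.PGroup.SURoots
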