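import Mathlib

/-! A group of order `p * (p + 1)` with a self-normalising subgroup of order `p` forces `p + 1` to be
a prime power. -/

set_option autoImplicit false

namespace CfsgLib.PGroup.SelfNormSylow

open Subgroup

theorem absurd_of_two_primes {J : Type*} [Group J] [Finite J] {p r s : ℕ} [Fact p.Prime] [Fact r.Prime]
    [Fact s.Prime] (c : J) (hc : orderOf c = p)
    (hN : normalizer (zpowers c : Set J) ≤ zpowers c)
    (hJ : Nat.card J = p * (p + 1)) (hr : r ∣ p + 1) (hs : s ∣ p + 1) (hrs : r ≠ s) : False := by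
  classical
  have := Fintype.ofFinite J
  have hp : p.Prime := Fact.out
  have hrp : r.Prime := Fact.out
  have hsp : s.Prime := Fact.out
  have hndvd : ¬ p ∣ p + 1 := fun h => hp.one_lt.ne' (Nat.dvd_one.1 ((Nat.dvd_add_right dvd_rfl).1 h))
  have hfac : (Nat.card J).factorization p = 1 := by
    rw [hJ, Nat.factorization_mul hp.ne_zero (Nat.succ_ne_zero p), Finsupp.add_apply,
      hp.factorization_self, Nat.factorization_eq_zero_of_not_dvd hndvd]
  obtain ⟨P, hP⟩ : ∃ P : Sylow p J, (P : Subgroup J) = zpowers c :=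
    ⟨Sylow.ofCard (zpowers c) (by rw [Nat.card_zpowers, hc, hfac, pow_one]), Sylow.coe_ofCard _ _⟩
  have hPN : normalizer ((P : Subgroup J) : Set J) = P :=
    le_antisymm (by rw [hP]; exact hN) le_normalizer
  have hQc : ∀ Q : Sylow p J, Nat.card (Q : Subgroup J) = p := fun Q => by
    rw [Q.card_eq_multiplicity, hfac, pow_one]
  have hQN : ∀ Q : Sylow p J, normalizer ((Q : Subgroup J) : Set J) = Q := fun Q => by
    refine (Subgroup.eq_of_le_of_card_ge le_normalizer (le_of_eq ?_)).symm
    have h1 : Nat.card (Sylow p J) = (normalizer ((P : Subgroup J) : Set J)).index :=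
      Sylow.card_eq_index_normalizer P
    have h2 : Nat.card (Sylow p J) = (normalizer ((Q : Subgroup J) : Set J)).index :=
      Sylow.card_eq_index_normalizer Q
    have e1 := (normalizer ((P : Subgroup J) : Set J)).index_mul_card
    have e2 := (normalizer ((Q : Subgroup J) : Set J)).index_mul_card
    rw [← h1, hPN, hQc P] at e1
    rw [← h2, ← e1] at e2
    rw [hQc Q]
    exact Nat.eq_of_mul_eq_mul_left Nat.card_pos e2
  have hnS : Nat.card (Sylow p J) = p + 1 := by
    have e := (normalizer ((P : Subgroup J) : Set J)).index_mul_card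
    have h1 : Nat.card (Sylow p J) = (normalizer ((P : Subgroup J) : Set J)).index :=
      Sylow.card_eq_index_normalizer P
    rw [← h1, hPN, hQc P, hJ, mul_comm p] at e
    exact Nat.eq_of_mul_eq_mul_right hp.pos e
  let A : ℕ → Finset J := fun n => Finset.univ.filter fun g => orderOf g = n
  have hAp : (p + 1) * (p - 1) ≤ (A p).card := by
    have h1 : (Finset.univ.sigma fun Q : Sylow p J =>
        (Finset.univ.filter fun g : J => g ∈ Q ∧ g ≠ 1)).card = (p + 1) * (p - 1) := by
      rw [Finset.card_sigma, Finset.sum_const_nat (m := p - 1), Finset.card_univ,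
        ← Nat.card_eq_fintype_card, hnS]
      intro Q _
      have e : (Finset.univ.filter fun g : J => g ∈ Q ∧ g ≠ 1) =
          (Finset.univ.filter fun g : J => g ∈ Q).erase 1 := by
        ext g; simp [and_comm]
      rw [e, Finset.card_erase_of_mem (by simp)]
      congr 1
      rw [← Fintype.card_subtype, ← Nat.card_eq_fintype_card]
      exact hQc Q
    rw [← h1]
    refine Finset.card_le_card_of_injOn (fun x => x.2) ?_ ?_
    · intro x hx
      simp only [Finset.mem_coe, Finset.mem_sigma, Finset.mem_filter, Finset.mem_univ, true_and] at hx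
      simp only [A, Finset.mem_coe, Finset.mem_filter, Finset.mem_univ, true_and]
      rcases (Nat.dvd_prime hp).1 (hQc x.1 ▸ Subgroup.orderOf_dvd_natCard _ hx.1) with h | h
      · exact absurd (orderOf_eq_one_iff.1 h) hx.2
      · exact h
    · rintro ⟨Q, g⟩ hg ⟨Q', g'⟩ hg' (rfl : g = g')
      simp only [Finset.mem_coe, Finset.mem_sigma, Finset.mem_filter, Finset.mem_univ, true_and] at hg hg'
      have hord : orderOf g = p :=
        ((Nat.dvd_prime hp).1 (hQc Q ▸ Subgroup.orderOf_dvd_natCard _ hg.1)).resolve_left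
          (fun h => hg.2 (orderOf_eq_one_iff.1 h))
      have e : ∀ R : Sylow p J, g ∈ R → (R : Subgroup J) = zpowers g := fun R hR =>
        (Subgroup.eq_of_le_of_card_ge (zpowers_le.2 hR) (by rw [Nat.card_zpowers, hord, hQc R])).symm
      obtain rfl : Q = Q' := Sylow.ext ((e Q hg.1).trans (e Q' hg'.1).symm)
      rfl
  have hA : ∀ t : ℕ, t.Prime → t ∣ p + 1 → p ≤ (A t).card := by
    intro t ht htd
    have := Fact.mk ht
    obtain ⟨g, hg⟩ := exists_prime_orderOf_dvd_card' t (hJ ▸ htd.mul_left p : t ∣ Nat.card J)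
    have htp : t ≠ p := fun h => hndvd (h ▸ htd)
    have hC : ¬ p ∣ Nat.card (centralizer ({g} : Set J)) := by
      intro hd
      obtain ⟨⟨h, hh⟩, hho⟩ := exists_prime_orderOf_dvd_card' p hd
      rw [Subgroup.orderOf_mk] at hho
      let Q : Sylow p J := Sylow.ofCard (zpowers h) (by rw [Nat.card_zpowers, hho, hfac, pow_one])
      have hgQ : g ∈ normalizer ((Q : Subgroup J) : Set J) := by
        refine centralizer_le_normalizer _ (mem_centralizer_iff.2 fun y hy => ?_)
        obtain ⟨i, rfl⟩ := mem_zpowers_iff.1 (by simpa [Q] using hy : y ∈ zpowers h)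
        exact (Commute.zpow_left (show Commute h g from
          ((mem_centralizer_iff.1 hh) g rfl).symm) i).eq
      rw [hQN] at hgQ
      have := Subgroup.orderOf_dvd_natCard _ hgQ
      rw [hQc Q, hg] at this
      exact htp ((Nat.prime_dvd_prime_iff_eq ht hp).1 this)
    have e := (MulAction.stabilizer (ConjAct J) g).index_mul_card
    rw [MulAction.index_stabilizer] at e
    have hs' : Nat.card (MulAction.stabilizer (ConjAct J) g) =
        Nat.card (centralizer ({g} : Set J)) := by
      rw [ConjAct.stabilizer_eq_centralizer]; rfl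
    rw [hs', show Nat.card (ConjAct J) = Nat.card J from rfl] at e
    have hdvd : p ∣ (MulAction.orbit (ConjAct J) g).ncard :=
      (hp.dvd_mul.1 (e ▸ hJ ▸ dvd_mul_right p (p + 1))).resolve_right hC
    have hpos : 0 < (MulAction.orbit (ConjAct J) g).ncard :=
      (Set.ncard_pos (Set.toFinite _)).2 ⟨g, MulAction.mem_orbit_self g⟩
    refine (Nat.le_of_dvd hpos hdvd).trans ?_
    rw [← Set.ncard_coe_finset (A t)]
    refine Set.ncard_le_ncard ?_ (Set.toFinite _)
    rintro y ⟨k, rfl⟩
    simp only [A, Finset.coe_filter, Finset.mem_univ, true_and, Set.mem_ofPred_eq]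
    show orderOf (k • g) = t
    rw [ConjAct.smul_def, ← hg]
    exact MulEquiv.orderOf_eq (MulAut.conj (ConjAct.ofConjAct k)) g
  have hd : ∀ i j : ℕ, i ≠ j → Disjoint (A i) (A j) := fun i j hij =>
    Finset.disjoint_filter.2 fun g _ h1 h2 => hij (h1 ▸ h2)
  have hrp' : r ≠ p := fun h => hndvd (h ▸ hr)
  have hsp' : s ≠ p := fun h => hndvd (h ▸ hs)
  have htot : (A p).card + (A r).card + (A s).card + (A 1).card ≤ Nat.card J := by
    rw [← Finset.card_union_of_disjoint (hd _ _ hrp'.symm),
      ← Finset.card_union_of_disjoint, ← Finset.card_union_of_disjoint, Nat.card_eq_fintype_card]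
    · exact Finset.card_le_univ _
    · rw [Finset.disjoint_union_left, Finset.disjoint_union_left]
      exact ⟨⟨hd _ _ hp.one_lt.ne', hd _ _ hrp.one_lt.ne'⟩, hd _ _ hsp.one_lt.ne'⟩
    · rw [Finset.disjoint_union_left]
      exact ⟨hd _ _ hsp'.symm, hd _ _ hrs⟩
  have hA1 : 1 ≤ (A 1).card := Finset.card_pos.2 ⟨1, by simp [A]⟩
  have h1 := hA r hrp hr
  have h2 := hA s hsp hs
  rw [hJ] at htot
  obtain ⟨k, rfl⟩ : ∃ k, p = k + 1 := ⟨p - 1, by have := hp.pos; omega⟩
  simp only [add_tsub_cancel_right] at hAp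
  nlinarith

end CfsgLib.PGroup.SelfNormSylow
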