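import Cfsg.Agent.Lib.Perm.SubdegreeThree.Construct

/-!
Glauberman's bound on a p-group carrying a partial shift: a sequence `x i = g ^ i * x 0 * g ^ (-i)` in which
any `k ≤ m` consecutive members generate a group of order `p ^ k`, such that no member of the window
`n ≤ j < n + m` commutes with all the first `m + n` members, has `m ≤ 3 * n` and `m ≠ 3 * n - 1`.
-/

set_option autoImplicit false

namespace CfsgLib.PGroup.ShiftChain

open Subgroup CfsgLib.Perm.SubdegreeThree

variable {G : Type*} [Group G]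

/-- A shift chain. -/
structure Shift (G : Type*) [Group G] where
  /-- the shift -/
  g : G
  /-- the generators -/
  x : ℕ → G
  /-- the prime -/
  p : ℕ
  hp : p.Prime
  /-- the length -/
  m : ℕ
  one_le : 1 ≤ m
  shift : ∀ i, x (i + 1) = g * x i * g⁻¹
  card_seg : ∀ k, k ≤ m → Nat.card (seg x 0 k) = p ^ k

namespace Shift

variable (C : Shift G)

/-- Shorthand for segments. -/
def X (i k : ℕ) : Subgroup G := seg C.x i k

theorem shift_pow (i j : ℕ) : C.x (i + j) = C.g ^ j * C.x i * (C.g ^ j)⁻¹ := by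
  induction j with
  | zero => simp
  | succ j ih => rw [← Nat.add_assoc, C.shift, ih, pow_succ']; group

theorem map_conj_seg (i k j : ℕ) :
    (C.X i k).map (MulAut.conj (C.g ^ j)).toMonoidHom = C.X (i + j) k := by
  rw [X, seg, MonoidHom.map_closure, X, seg, ← Set.image_comp]
  congr 1
  ext y
  constructor
  · rintro ⟨a, ⟨h1, h2⟩, rfl⟩
    exact ⟨a + j, ⟨by omega, by omega⟩, (C.shift_pow a j).trans rfl⟩
  · rintro ⟨a, ⟨h1, h2⟩, rfl⟩
    refine ⟨a - j, ⟨by omega, by omega⟩, ?_⟩
    conv_rhs => rw [show a = a - j + j by omega, C.shift_pow]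
    rfl

theorem card_X (i k : ℕ) (hk : k ≤ C.m) : Nat.card (C.X i k) = C.p ^ k := by
  rw [← zero_add i, ← C.map_conj_seg 0 k i,
    Subgroup.card_map_of_injective (MulAut.conj (C.g ^ i)).injective]
  exact C.card_seg k hk

theorem finite_X {i k : ℕ} (hk : k ≤ C.m) : Finite (C.X i k) :=
  Nat.finite_of_card_ne_zero (by rw [C.card_X i k hk]; exact pow_ne_zero _ C.hp.ne_zero)

theorem relIndex_p {i k a : ℕ} (hk : k + 1 ≤ C.m) (h : C.X a k ≤ C.X i (k + 1)) :
    (C.X a k).relIndex (C.X i (k + 1)) = C.p := by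
  have h1 := relIndex_mul_relIndex _ _ _ (bot_le : (⊥ : Subgroup G) ≤ C.X a k) h
  rw [relIndex_bot_left, relIndex_bot_left, C.card_X _ _ hk, C.card_X _ _ (by omega), pow_succ] at h1
  exact Nat.eq_of_mul_eq_mul_left (pow_pos C.hp.pos _) h1

theorem not_le {i k a : ℕ} (hk : k + 1 ≤ C.m) : ¬ C.X i (k + 1) ≤ C.X a k := by
  intro hle
  have := C.finite_X (i := a) (show k ≤ C.m by omega)
  have h1 := Subgroup.card_le_of_le hle
  rw [C.card_X _ _ hk, C.card_X _ _ (by omega)] at h1
  have : C.p ^ k < C.p ^ (k + 1) := Nat.pow_lt_pow_right C.hp.one_lt (by omega)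
  omega

theorem not_mem_left {i k : ℕ} (hk : k + 1 ≤ C.m) : C.x i ∉ C.X (i + 1) k := fun h =>
  C.not_le (i := i) (a := i + 1) hk (seg_le (K := C.X (i + 1) k) fun j a b => by
    rcases eq_or_lt_of_le a with rfl | a'
    · exact h
    · exact x_mem _ a' (by omega))

theorem not_mem_right {i k : ℕ} (hk : k + 1 ≤ C.m) : C.x (i + k) ∉ C.X i k := fun h =>
  C.not_le (i := i) (a := i) hk (seg_le (K := C.X i k) fun j a b => by
    rcases eq_or_lt_of_le (show j ≤ i + k by omega) with rfl | a'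
    · exact h
    · exact x_mem _ a (by omega))

theorem x_ne_one (i : ℕ) : C.x i ≠ 1 := fun h => by
  have := C.not_mem_left (i := i) (k := 0) (by have := C.one_le; omega)
  rw [h] at this
  exact this (one_mem _)

/-- A segment is generated by a maximal subsegment and any further element. -/
theorem eq_sup {i k a : ℕ} (hk : k + 1 ≤ C.m) (h : C.X a k ≤ C.X i (k + 1)) {z : G}
    (hz : z ∈ C.X i (k + 1)) (hz' : z ∉ C.X a k) : C.X a k ⊔ zpowers z = C.X i (k + 1) :=
  prime_relIndex_eq (lt_of_le_of_ne le_sup_left fun e => hz' (e ▸ mem_sup_right (mem_zpowers z)))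
    (sup_le h (zpowers_le.mpr hz)) ((C.relIndex_p hk h).symm ▸ C.hp)

theorem commute_X_of_not_mem {i k a : ℕ} (hk : k + 1 ≤ C.m) (h : C.X a k ≤ C.X i (k + 1)) {z y w : G}
    (hz : z ∈ C.X i (k + 1)) (hz' : z ∉ C.X a k) (hy : ∀ j, a ≤ j → j < a + k → Commute y (C.x j))
    (hyz : Commute y z) (hw : w ∈ C.X i (k + 1)) : Commute y w := by
  have hle : C.X a k ⊔ zpowers z ≤ centralizer {y} :=
    sup_le (fun s hs => mem_centralizer_singleton_iff.mpr (commute_seg hy hs).eq.symm)
      (zpowers_le.mpr (mem_centralizer_singleton_iff.mpr hyz.eq.symm))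
  rw [C.eq_sup hk h hz hz'] at hle
  exact (mem_centralizer_singleton_iff.mp (hle hw)).symm

/-- Two segments meet in the common segment. -/
theorem inf_seg {i k k' : ℕ} (hkk : k ≤ k') (hk : k' + 1 ≤ C.m) {s : G} (h1 : s ∈ C.X i (k + 1))
    (h2 : s ∈ C.X (i + 1) k') : s ∈ C.X (i + 1) k := by
  by_contra hs
  have hle : C.X (i + 1) k ≤ C.X i (k + 1) := seg_mono _ (by omega) (by omega)
  have hsup := C.eq_sup (by omega) hle h1 hs
  apply C.not_mem_left (i := i) hk
  have : C.x i ∈ C.X (i + 1) k ⊔ zpowers s := by rw [hsup]; exact x_mem _ le_rfl (by omega)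
  exact sup_le (seg_mono C.x le_rfl (by omega)) (zpowers_le.mpr h2) this

theorem conj_mem {i k a : ℕ} (hk : k + 1 ≤ C.m) (h : C.X a k ≤ C.X i (k + 1)) {y s : G}
    (hy : y ∈ C.X i (k + 1)) (hs : s ∈ C.X a k) : y * s * y⁻¹ ∈ C.X a k := by
  have := C.finite_X (i := i) hk
  haveI := Fact.mk C.hp
  have hidx : ((C.X a k).subgroupOf (C.X i (k + 1))).index = (Nat.card (C.X i (k + 1))).minFac := by
    rw [C.card_X _ _ hk, Nat.pow_minFac (by omega), C.hp.minFac_eq]
    exact C.relIndex_p hk h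
  have hn := Subgroup.normal_of_index_eq_minFac_card hidx
  exact mem_subgroupOf.mp (hn.conj_mem ⟨s, h hs⟩ (mem_subgroupOf.mpr hs) ⟨y, hy⟩)

/-- Commutators of the two maximal subsegments lie in their intersection. -/
theorem comm_mem {i e : ℕ} (hm : e + 2 ≤ C.m) {a b : G} (ha : a ∈ C.X i (e + 1))
    (hb : b ∈ C.X (i + 1) (e + 1)) : a * b * a⁻¹ * b⁻¹ ∈ C.X (i + 1) e := by
  have hl : C.X i (e + 1) ≤ C.X i (e + 2) := seg_mono _ le_rfl (by omega)
  have hr : C.X (i + 1) (e + 1) ≤ C.X i (e + 2) := seg_mono _ (by omega) (by omega)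
  refine C.inf_seg (k' := e + 1) (by omega) hm ?_ (mul_mem (C.conj_mem hm hr (hl ha) hb) (inv_mem hb))
  rw [show a * b * a⁻¹ * b⁻¹ = a * (b * a⁻¹ * b⁻¹) by group]
  exact mul_mem ha (C.conj_mem hm hl (hr hb) (inv_mem ha))

/-- The commutator used for the first failure of commutation. -/
def cm (i j : ℕ) : G := (C.x i)⁻¹ * C.x j * C.x i * (C.x j)⁻¹

theorem cm_eq_one_iff (i j : ℕ) : C.cm i j = 1 ↔ Commute (C.x i) (C.x j) := by
  rw [cm, mul_inv_eq_one, mul_assoc, inv_mul_eq_iff_eq_mul, commute_iff_eq]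
  exact eq_comm

theorem cm_shift (i j n : ℕ) : C.cm (i + n) (j + n) = C.g ^ n * C.cm i j * (C.g ^ n)⁻¹ := by
  simp only [cm, C.shift_pow]; group

theorem cm_mem {i d : ℕ} (hd : 1 ≤ d) (hdm : d + 1 ≤ C.m) :
    C.cm i (i + d) ∈ C.X (i + 1) (d - 1) := by
  obtain ⟨e, rfl⟩ : ∃ e, d = e + 1 := ⟨d - 1, by omega⟩
  have := C.comm_mem (i := i) (e := e) (by omega) (inv_mem (x_mem C.x le_rfl (show i < i + (e + 1) by omega)))
    (x_mem C.x (show i + 1 ≤ i + (e + 1) by omega) (show i + (e + 1) < i + 1 + (e + 1) by omega))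
  rwa [inv_inv] at this

theorem commute_shift {i d : ℕ} : Commute (C.x i) (C.x (i + d)) ↔ Commute (C.x 0) (C.x d) := by
  have h := C.cm_shift 0 d i
  rw [zero_add, Nat.add_comm d i] at h
  rw [← C.cm_eq_one_iff, ← C.cm_eq_one_iff, h, mul_inv_eq_one, mul_eq_left]

/-- All commutation at distance at most `l`. -/
def Comm (l : ℕ) : Prop := ∀ d, d ≤ l → Commute (C.x 0) (C.x d)

theorem comm_near {l i j : ℕ} (h : C.Comm l) (h1 : j ≤ i + l) (h2 : i ≤ j + l) :
    Commute (C.x i) (C.x j) := by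
  rcases le_total i j with hij | hij
  · obtain ⟨d, rfl⟩ : ∃ d, j = i + d := ⟨j - i, by omega⟩
    exact C.commute_shift.mpr (h d (by omega))
  · obtain ⟨d, rfl⟩ : ∃ d, i = j + d := ⟨i - j, by omega⟩
    exact (C.commute_shift.mpr (h d (by omega))).symm

/-- The lower end of the first non-trivial commutator. -/
theorem lower {l r : ℕ} (h : C.Comm l) (hl : l + 2 ≤ C.m) (hq : ¬ Commute (C.x 0) (C.x (l + 1)))
    (hr1 : 1 ≤ r) (hrl : r ≤ l) (hz : C.cm 0 (l + 1) ∈ C.X r (l - r + 1))
    (hz' : C.cm 0 (l + 1) ∉ C.X (r + 1) (l - r)) : C.m ≤ r + (l + 1) := by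
  by_contra hlt
  set q := l + 1 with hqdef
  set z := C.cm 0 q with hzdef
  set y := C.x (r + q) with hydef
  set w := (C.x 0)⁻¹ * y * C.x 0 * y⁻¹ with hwdef
  have hw : w ∈ C.X 1 (r + q - 1) := by
    have := C.cm_mem (i := 0) (d := r + q) (by omega) (by omega)
    simp only [zero_add] at this
    exact this
  have hyq : Commute y (C.x q) := C.comm_near h (by omega) (by omega)
  have hwq : Commute (C.x q) w := commute_seg (fun j a b => C.comm_near h (by omega) (by omega)) hw
  have hwz : Commute w z := commute_seg (fun j a b => (commute_seg (fun j' a' b' =>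
    C.comm_near h (by omega) (by omega)) hw).symm) hz
  have hyz : Commute y z := by
    rw [commute_iff_eq, ← mul_inv_eq_iff_eq_mul]
    calc y * z * y⁻¹ = (y * C.x 0 * y⁻¹)⁻¹ * (y * C.x q * y⁻¹) * (y * C.x 0 * y⁻¹) * (y * C.x q * y⁻¹)⁻¹ := by
          rw [hzdef, cm]; group
      _ = (C.x 0 * w)⁻¹ * C.x q * (C.x 0 * w) * (C.x q)⁻¹ := by
          rw [show y * C.x q * y⁻¹ = C.x q by rw [hyq.eq, mul_inv_cancel_right],
            show y * C.x 0 * y⁻¹ = C.x 0 * w by rw [hwdef]; group]
      _ = w⁻¹ * ((C.x 0)⁻¹ * C.x q * C.x 0) * (w * (C.x q)⁻¹) := by group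
      _ = w⁻¹ * ((C.x 0)⁻¹ * C.x q * C.x 0) * ((C.x q)⁻¹ * w) := by rw [hwq.symm.inv_right.eq]
      _ = w⁻¹ * (z * w) := by rw [hzdef, cm]; group
      _ = z := by rw [← hwz.eq, inv_mul_cancel_left]
  apply hq
  rw [← C.commute_shift (i := r)]
  show Commute (C.x r) y
  exact (C.commute_X_of_not_mem (by omega) (seg_mono C.x (by omega) (by omega)) hz hz'
    (fun j a b => C.comm_near h (by omega) (by omega)) hyz (x_mem _ le_rfl (by omega))).symm

/-- The upper end of the first non-trivial commutator. -/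
theorem lower' {l t : ℕ} (h : C.Comm l) (hl : l + 2 ≤ C.m) (hq : ¬ Commute (C.x 0) (C.x (l + 1)))
    (ht1 : 1 ≤ t) (htl : t ≤ l) (hz : C.cm 0 (l + 1) ∈ C.X 1 t)
    (hz' : C.cm 0 (l + 1) ∉ C.X 1 (t - 1)) : C.m + t ≤ 2 * (l + 1) := by
  by_contra hlt
  set q := l + 1 with hqdef
  set s := q - t with hsdef
  set z := C.cm s (q + s) with hzdef
  have ez : z = C.g ^ s * C.cm 0 q * (C.g ^ s)⁻¹ := by
    have := C.cm_shift 0 q s
    rwa [zero_add] at this
  have hzt : z ∈ C.X (1 + s) t := by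
    rw [← C.map_conj_seg 1 t s, ez]; exact ⟨_, hz, rfl⟩
  have hznt : z ∉ C.X (1 + s) (t - 1) := by
    rw [← C.map_conj_seg 1 (t - 1) s, ez]
    rintro ⟨w, hw, hwz⟩
    exact hz' ((MulAut.conj (C.g ^ s)).injective hwz ▸ hw)
  set y := C.x 0 with hydef
  set X' := C.x (q + s) with hX'
  set w := y * X' * y⁻¹ * X'⁻¹ with hwdef
  have hw : w ∈ C.X 1 (q + s - 1) := by
    have := C.comm_mem (i := 0) (e := q + s - 1) (by omega) (a := y) (b := X')
      (x_mem _ le_rfl (by omega)) (x_mem _ (by omega) (by omega))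
    rwa [zero_add] at this
  have hys : Commute y (C.x s) := C.comm_near h (by omega) (by omega)
  have hws : Commute (C.x s) w := commute_seg (fun j a b => C.comm_near h (by omega) (by omega)) hw
  have hwz : Commute w z := commute_seg (fun j a b => (commute_seg (fun j' a' b' =>
    C.comm_near h (by omega) (by omega)) hw).symm) hzt
  have hyz : Commute y z := by
    rw [commute_iff_eq, ← mul_inv_eq_iff_eq_mul]
    calc y * z * y⁻¹ = (y * C.x s * y⁻¹)⁻¹ * (y * X' * y⁻¹) * (y * C.x s * y⁻¹) * (y * X' * y⁻¹)⁻¹ := by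
          rw [hzdef, cm, ← hX']; group
      _ = (C.x s)⁻¹ * (w * X') * C.x s * (w * X')⁻¹ := by
          rw [show y * C.x s * y⁻¹ = C.x s by rw [hys.eq, mul_inv_cancel_right],
            show y * X' * y⁻¹ = w * X' by rw [hwdef]; group]
      _ = ((C.x s)⁻¹ * w) * (X' * C.x s * X'⁻¹) * w⁻¹ := by group
      _ = (w * (C.x s)⁻¹) * (X' * C.x s * X'⁻¹) * w⁻¹ := by rw [hws.inv_left.eq]
      _ = (w * z) * w⁻¹ := by rw [hzdef, cm, ← hX']; group
      _ = z := by rw [hwz.eq, mul_inv_cancel_right]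
  apply hq
  obtain ⟨t0, rfl⟩ : ∃ t0, t = t0 + 1 := ⟨t - 1, by omega⟩
  simp only [Nat.add_sub_cancel] at hznt
  exact C.commute_X_of_not_mem (by omega) (seg_mono C.x le_rfl (by omega)) hzt hznt
    (fun j a b => C.comm_near h (by omega) (by omega)) hyz (x_mem _ (by omega) (by omega))

/-- The bound. -/
theorem bound (n : ℕ)
    (hcen : ∀ j, n ≤ j → j < n + C.m → ¬ ∀ i, i < C.m + n → Commute (C.x j) (C.x i)) :
    C.m ≤ 3 * n ∧ (1 ≤ n → C.m ≠ 3 * n - 1) := by
  classical
  have upper : ∀ l, C.Comm l → l + 1 ≤ C.m → 2 * (l + 1) ≤ C.m + n := by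
    intro l hl hlm
    by_contra hlt
    refine hcen (C.m + n - (l + 1)) (by omega) (by omega) fun i hi => C.comm_near hl (by omega) (by omega)
  by_cases hex : ∃ d, d + 1 ≤ C.m ∧ ¬ Commute (C.x 0) (C.x d)
  swap
  · simp only [not_exists, not_and, not_not] at hex
    have := upper (C.m - 1) (fun d hd => hex d (by have := C.one_le; omega)) (by have := C.one_le; omega)
    have := C.one_le
    omega
  set q := Nat.find hex with hqdef
  obtain ⟨hqm, hq⟩ := Nat.find_spec hex
  have hmin : ∀ d, d < q → Commute (C.x 0) (C.x d) := fun d hd => by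
    by_contra h
    exact Nat.find_min hex hd ⟨by omega, h⟩
  have hq2 : 2 ≤ q := by
    by_contra h
    rcases (show q = 0 ∨ q = 1 by omega) with h' | h' <;> rw [← hqdef, h'] at hq
    · exact hq (Commute.refl _)
    · have := C.cm_mem (i := 0) (d := 1) le_rfl (by omega)
      rw [Nat.sub_self, X, seg_zero, mem_bot] at this
      exact hq ((C.cm_eq_one_iff _ _).mp this)
  obtain ⟨l, hl⟩ : ∃ l, q = l + 1 := ⟨q - 1, by omega⟩
  rw [← hqdef] at hqm hq
  rw [hl] at hqm hq hmin
  have hc : C.Comm l := fun d hd => hmin d (by omega)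
  have hz : C.cm 0 (l + 1) ∈ C.X 1 l := by
    have := C.cm_mem (i := 0) (d := l + 1) (by omega) hqm
    simpa using this
  have hne : C.cm 0 (l + 1) ≠ 1 := fun h => hq ((C.cm_eq_one_iff _ _).mp h)
  set z := C.cm 0 (l + 1) with hzdef
  have hr : ∃ r, 1 ≤ r ∧ r ≤ l ∧ z ∈ C.X r (l - r + 1) ∧ z ∉ C.X (r + 1) (l - r) := by
    have hexr : ∃ r, z ∉ C.X (r + 1) (l - r) := ⟨l, by rw [Nat.sub_self, X, seg_zero, mem_bot]; exact hne⟩
    have hle : Nat.find hexr ≤ l := Nat.find_le (by rw [Nat.sub_self, X, seg_zero, mem_bot]; exact hne)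
    have h0 : 1 ≤ Nat.find hexr := by
      by_contra h0
      have := Nat.find_spec hexr
      rw [show Nat.find hexr = 0 by omega] at this
      exact this (by simpa using hz)
    refine ⟨Nat.find hexr, h0, hle, ?_, Nat.find_spec hexr⟩
    have := Nat.find_min hexr (show Nat.find hexr - 1 < Nat.find hexr by omega)
    rw [not_not, show Nat.find hexr - 1 + 1 = Nat.find hexr by omega,
      show l - (Nat.find hexr - 1) = l - Nat.find hexr + 1 by omega] at this
    exact this
  obtain ⟨r, hr1, hrl, hzr, hzr'⟩ := hr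
  have ht : ∃ t, t ≤ l ∧ z ∈ C.X 1 t ∧ ∀ t', t' < t → z ∉ C.X 1 t' := by
    have hext : ∃ t, z ∈ C.X 1 t := ⟨l, hz⟩
    exact ⟨Nat.find hext, Nat.find_le hz, Nat.find_spec hext, fun t' h => Nat.find_min hext h⟩
  obtain ⟨t, htl, hzt, htmin⟩ := ht
  have ht1 : 1 ≤ t := by
    by_contra h
    rw [show t = 0 by omega, X, seg_zero, mem_bot] at hzt
    exact hne hzt
  have key : ∀ a, a + 1 ≤ r → z ∈ C.X (a + 1) (t - a) := by
    intro a
    induction a with
    | zero => intro _; simpa using hzt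
    | succ a ih =>
      intro ha
      have h1 := ih (by omega)
      have hat : a + 1 ≤ t := by
        by_contra hcon
        rw [show t - a = 0 by omega, X, seg_zero, mem_bot] at h1
        exact hne h1
      refine C.inf_seg (i := a + 1) (k' := l - (a + 1)) (by omega) (by omega) ?_
        (seg_mono C.x (by omega) (by omega) hzr)
      rwa [show t - (a + 1) + 1 = t - a by omega]
  have hrt : r ≤ t := by
    have h1 := key (r - 1) (by omega)
    by_contra hcon
    rw [show t - (r - 1) = 0 by omega, X, seg_zero, mem_bot] at h1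
    exact hne h1
  have h1 := C.lower hc (by omega) hq hr1 hrl hzr hzr'
  have h2 := C.lower' hc (by omega) hq ht1 htl hzt (htmin (t - 1) (by omega))
  have h3 := upper l hc (by omega)
  omega

end Shift

theorem relIndex_dvd_of_normal [Finite G] {H U T : Subgroup G} (hUT : U ≤ T)
    (hn : (H.subgroupOf T).Normal) : H.relIndex U ∣ H.relIndex T := by
  let f : U →* T ⧸ H.subgroupOf T := (QuotientGroup.mk' _).comp (inclusion hUT)
  have hker : f.ker = H.subgroupOf U := by
    ext u
    simp [f, mem_subgroupOf]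
  show (H.subgroupOf U).index ∣ (H.subgroupOf T).index
  rw [← hker, index_ker, index_eq_card]
  exact card_subgroup_dvd_card _

/-- A group meeting its conjugate normally in index `p` is the segment of a shift chain. -/
theorem exists_shift [Finite G] (P : Subgroup G) (g : G) (p : ℕ) (hp : p.Prime)
    (hN : ((P ⊓ cj g⁻¹ P).subgroupOf (cj g⁻¹ P)).Normal)
    (hidx : (P ⊓ cj g⁻¹ P).relIndex (cj g⁻¹ P) = p)
    (h1 : ∀ Q : Subgroup G, Q ≤ P → (Q.subgroupOf P).Normal → cj g Q = Q → Q = ⊥) :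
    ∃ C : Shift G, C.g = g ∧ C.p = p ∧ C.X 0 C.m = P := by
  classical
  set c := g⁻¹ with hc
  have nrm : ∀ i, ((lay c P (i + 1)).subgroupOf (cj c (lay c P i))).Normal ∧
      (lay c P (i + 1)).relIndex (cj c (lay c P i)) ∣ p := by
    intro i
    induction i with
    | zero => exact ⟨hN, dvd_of_eq hidx⟩
    | succ i ih =>
      have hle : cj c (lay c P (i + 1)) ≤ cj c (lay c P i) := cj_mono _ (lay_succ_le c P i)
      refine ⟨⟨fun z hz y => ?_⟩, ?_⟩
      · rw [mem_subgroupOf] at hz ⊢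
        refine ⟨mem_subgroupOf.mp (ih.1.conj_mem ⟨(z : G), hle z.2⟩ (mem_subgroupOf.mpr hz.1) ⟨y, hle y.2⟩), ?_⟩
        exact (cj c (lay c P (i + 1))).mul_mem ((cj c (lay c P (i + 1))).mul_mem y.2 hz.2) ((cj c (lay c P (i + 1))).inv_mem y.2)
      · show (lay c P (i + 1) ⊓ cj c (lay c P (i + 1))).relIndex (cj c (lay c P (i + 1))) ∣ p
        rw [inf_relIndex_right]
        exact (relIndex_dvd_of_normal hle ih.1).trans ih.2
  have hdvd : ∀ i, (lay c P (i + 1)).relIndex (lay c P i) ∣ p := by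
    intro i
    have a1 := relIndex_mul_relIndex ⊥ (lay c P (i + 1)) (lay c P i) bot_le (lay_succ_le c P i)
    have a2 := relIndex_mul_relIndex ⊥ (lay c P (i + 1)) (cj c (lay c P i)) bot_le inf_le_right
    rw [relIndex_bot_left, relIndex_bot_left] at a1 a2
    rw [card_cj, ← a1] at a2
    rw [← Nat.eq_of_mul_eq_mul_left Nat.card_pos a2]
    exact (nrm i).2
  have hex : ∃ i, lay c P (i + 1) = lay c P i := by
    by_contra hcon
    simp only [not_exists] at hcon
    have hdec : ∀ i, Nat.card (lay c P i) + i ≤ Nat.card P := by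
      intro i
      induction i with
      | zero => exact le_rfl
      | succ i ih =>
        have h : Nat.card (lay c P (i + 1)) < Nat.card (lay c P i) :=
          lt_of_le_of_ne (Subgroup.card_le_of_le (lay_succ_le c P i))
            fun h => hcon i (eq_of_le_of_card_ge (lay_succ_le c P i) h.ge)
        omega
    have := hdec (Nat.card P + 1)
    omega
  set t := Nat.find hex with ht
  have hfix : lay c P (t + 1) = lay c P t := Nat.find_spec hex
  have hmin : ∀ i, i < t → lay c P (i + 1) ≠ lay c P i := fun i hi => Nat.find_min hex hi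
  have hstep : ∀ i, i < t → (lay c P (i + 1)).relIndex (lay c P i) = p := fun i hi =>
    ((Nat.dvd_prime hp).mp (hdvd i)).resolve_left fun h =>
      hmin i hi (le_antisymm (lay_succ_le c P i) (relIndex_eq_one.mp h))
  have hcfix : cj c (lay c P t) = lay c P t := by
    have h : lay c P t ≤ cj c (lay c P t) := by
      conv_lhs => rw [← hfix]
      exact inf_le_right
    exact (eq_of_le_of_card_ge h (by rw [card_cj])).symm
  have ht1 : 1 ≤ t := by
    by_contra h
    rw [show t = 0 by omega] at hcfix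
    change cj c P = P at hcfix
    rw [hcfix, inf_idem, relIndex_self] at hidx
    exact hp.ne_one hidx.symm
  have hgen : ∀ i, i + 1 < t → lay c P (i + 1) ⊔ cj c⁻¹ (lay c P (i + 1)) = lay c P i := by
    intro i hi
    refine prime_relIndex_eq (A := lay c P (i + 1)) (lt_of_le_of_ne le_sup_left fun h => ?_)
      (sup_le (lay_succ_le c P i) (cj_inv_lay_le c P i)) ((hstep i (by omega)).symm ▸ hp)
    have h1 : cj c⁻¹ (lay c P (i + 1)) ≤ lay c P (i + 1) := le_trans le_sup_right h.ge
    have h2 : cj c⁻¹ (lay c P (i + 1)) = lay c P (i + 1) :=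
      eq_of_le_of_card_ge h1 (by rw [card_cj])
    refine hmin (i + 1) hi ?_
    show lay c P (i + 1) ⊓ cj c (lay c P (i + 1)) = lay c P (i + 1)
    conv_lhs => arg 2; arg 2; rw [← h2]
    rw [← cj_mul, mul_inv_cancel, cj_one, inf_idem]
  have hcs : c ∈ stab (lay c P t) := hcfix
  have hbot : lay c P t = ⊥ := by
    have key : ∀ j, j < t → lay c P (t - 1 - j) ≤ stab (lay c P t) := by
      intro j
      induction j with
      | zero =>
        intro _ y hy
        rw [Nat.sub_zero] at hy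
        have hn' := (nrm (t - 1)).1
        rw [show t - 1 + 1 = t by omega] at hn'
        have hle : lay c P t ≤ cj c (lay c P (t - 1)) := by
          conv_lhs => rw [← hcfix]
          exact cj_mono _ (lay_anti c P (by omega))
        have hy' : c * y * c⁻¹ ∈ stab (lay c P t) := by
          refine eq_of_le_of_card_ge (fun s hs => ?_) (by rw [card_cj])
          rw [mem_cj] at hs
          have hyc : c * y * c⁻¹ ∈ cj c (lay c P (t - 1)) := ⟨y, hy, rfl⟩
          have := mem_subgroupOf.mp (hn'.conj_mem ⟨_, hle hs⟩ (mem_subgroupOf.mpr hs) ⟨_, hyc⟩)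
          simpa [mul_assoc] using this
        simpa [mul_assoc] using mul_mem (mul_mem (inv_mem hcs) hy') hcs
      | succ j ih =>
        intro hj
        have h1 := ih (by omega)
        rw [show t - 1 - j = t - 1 - (j + 1) + 1 by omega] at h1
        rw [← hgen (t - 1 - (j + 1)) (by omega)]
        refine sup_le h1 fun y hy => ?_
        rw [mem_cj, inv_inv] at hy
        simpa [mul_assoc] using mul_mem (mul_mem (inv_mem hcs) (h1 hy)) hcs
    have hP := key (t - 1) (by omega)
    rw [Nat.sub_self] at hP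
    refine h1 _ (lay_anti c P (Nat.zero_le _)) ⟨fun s hs y => ?_⟩ ?_
    · rw [mem_subgroupOf] at hs ⊢
      have : cj (y : G) (lay c P t) = lay c P t := hP y.2
      rw [← this, mem_cj]
      simpa [mul_assoc] using hs
    · have : g ∈ stab (lay c P t) := by simpa [hc] using inv_mem hcs
      exact this
  have hcard : ∀ j, j ≤ t → Nat.card (lay c P (t - j)) = p ^ j := by
    intro j
    induction j with
    | zero => intro _; rw [Nat.sub_zero, hbot, card_bot, pow_zero]
    | succ j ih =>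
      intro hj
      have h := hstep (t - (j + 1)) (by omega)
      rw [show t - (j + 1) + 1 = t - j by omega] at h
      have h' := relIndex_mul_relIndex ⊥ (lay c P (t - j)) (lay c P (t - (j + 1))) bot_le
        (lay_anti c P (by omega))
      rw [relIndex_bot_left, relIndex_bot_left, ih (by omega), h] at h'
      rw [← h', pow_succ]
  have hcardP : Nat.card P = p ^ t := by
    have := hcard t le_rfl
    rwa [Nat.sub_self] at this
  have hm1 := hcard 1 ht1
  rw [pow_one] at hm1
  obtain ⟨x0, hx0, hx01⟩ : ∃ x ∈ lay c P (t - 1), x ≠ 1 := by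
    haveI : Nontrivial ↥(lay c P (t - 1)) :=
      Finite.one_lt_card_iff_nontrivial.mp (by rw [hm1]; exact hp.one_lt)
    obtain ⟨⟨a, ha⟩, hab⟩ := exists_ne (1 : ↥(lay c P (t - 1)))
    exact ⟨a, ha, fun e => hab (Subtype.ext e)⟩
  let x : ℕ → G := fun j => g ^ j * x0 * (g ^ j)⁻¹
  have hxs : ∀ j, x (j + 1) = g * x j * g⁻¹ := fun j => by simp only [x, pow_succ']; group
  have hcjseg : ∀ i k, cj g (seg x i k) = seg x (i + 1) k := by
    intro i k
    rw [cj, seg, MonoidHom.map_closure, seg, ← Set.image_comp]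
    congr 1
    ext y
    constructor
    · rintro ⟨a, ⟨h1, h2⟩, rfl⟩
      exact ⟨a + 1, ⟨by omega, by omega⟩, (hxs a).trans rfl⟩
    · rintro ⟨a, ⟨h1, h2⟩, rfl⟩
      refine ⟨a - 1, ⟨by omega, by omega⟩, ?_⟩
      conv_rhs => rw [show a = a - 1 + 1 by omega, hxs]
      rfl
  have hseg : ∀ k, k + 1 ≤ t → seg x 0 (k + 1) = lay c P (t - 1 - k) := by
    intro k
    induction k with
    | zero =>
      intro _
      rw [Nat.sub_zero, zero_add]
      have hle : seg x 0 1 ≤ lay c P (t - 1) := seg_le fun j _ b => by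
        rw [show j = 0 by omega]; simpa [x] using hx0
      refine eq_of_le_of_card_ge hle ?_
      rw [hm1]
      rcases (Nat.dvd_prime hp).mp (hm1 ▸ card_dvd_of_le hle) with h | h
      · exfalso
        have := (Subgroup.card_eq_one.mp h) ▸ (x_mem x le_rfl (show 0 < 0 + 1 by omega))
        exact hx01 (by simpa [x] using mem_bot.mp this)
      · exact h.ge
    | succ k ih =>
      intro hk
      have h1 := hgen (t - 1 - (k + 1)) (by omega)
      rw [show t - 1 - (k + 1) + 1 = t - 1 - k by omega, ← ih (by omega), hc, inv_inv, hcjseg, zero_add] at h1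
      rw [← hc] at h1
      rw [← h1]
      refine le_antisymm (seg_le fun j _ b => ?_)
        (sup_le (seg_mono x le_rfl (by omega)) (seg_mono x (Nat.zero_le _) (by omega)))
      rcases Nat.eq_zero_or_pos j with rfl | hj
      · exact mem_sup_left (x_mem x le_rfl (by omega))
      · exact mem_sup_right (x_mem x hj (by omega))
  let C : Shift G :=
    { g := g, x := x, p := p, hp := hp, m := t, one_le := ht1, shift := hxs
      card_seg := fun k hk => by
        rcases Nat.eq_zero_or_pos k with rfl | hk0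
        · rw [seg_zero, card_bot, pow_zero]
        · obtain ⟨j, rfl⟩ : ∃ j, k = j + 1 := ⟨k - 1, by omega⟩
          rw [hseg j hk, show t - 1 - j = t - (j + 1) by omega]
          exact hcard _ hk }
  have hP : C.X 0 t = P := by
    show seg x 0 t = P
    have h := hseg (t - 1) (by omega)
    rw [show t - 1 + 1 = t by omega, Nat.sub_self] at h
    exact h
  exact ⟨C, rfl, rfl, hP⟩

/-- Glauberman's theorem: a group meeting its conjugate normally in index `p`. -/
theorem card_bound [Finite G] (P : Subgroup G) (g : G) (p : ℕ) (hp : p.Prime)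
    (hN : ((P ⊓ cj g⁻¹ P).subgroupOf (cj g⁻¹ P)).Normal)
    (hidx : (P ⊓ cj g⁻¹ P).relIndex (cj g⁻¹ P) = p) (n : ℕ) (hn : 1 ≤ n)
    (h1 : ∀ Q : Subgroup G, Q ≤ P → (Q.subgroupOf P).Normal → cj g Q = Q → Q = ⊥)
    (h2 : ∀ y ∈ P, (∀ i, i ≤ n → ∀ s ∈ cj (g ^ i)⁻¹ P, Commute y s) → y = 1) :
    ∃ t : ℕ, Nat.card P = p ^ t ∧ 1 ≤ t ∧ t ≤ 3 * n ∧ t ≠ 3 * n - 1 := by
  obtain ⟨C, rfl, rfl, hP⟩ := exists_shift P g p hp hN hidx h1
  refine ⟨C.m, by rw [← hP, C.card_X 0 C.m le_rfl], C.one_le, ?_⟩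
  set g := C.g with hg
  set t := C.m
  have hconj : ∀ i, i ≤ n → cj (g ^ n) (cj (g ^ i)⁻¹ P) = C.X (n - i) t := by
    intro i hi
    rw [← cj_mul, show g ^ n * (g ^ i)⁻¹ = g ^ (n - i) from (pow_sub g hi).symm, ← hP]
    have := C.map_conj_seg 0 t (n - i)
    rw [zero_add] at this
    exact this
  have hb := C.bound n fun j hj1 hj2 hall => by
    have hxP : (g ^ n)⁻¹ * C.x j * g ^ n ∈ P := by
      rw [← mem_cj]
      have h := hconj 0 (Nat.zero_le _)
      rw [pow_zero, inv_one, cj_one, Nat.sub_zero] at h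
      rw [h]
      exact x_mem _ hj1 hj2
    apply C.x_ne_one j
    have h := h2 _ hxP fun i hi s hs => by
      have hs' : g ^ n * s * (g ^ n)⁻¹ ∈ C.X (n - i) t := by rw [← hconj i hi]; exact ⟨s, hs, rfl⟩
      have hcm := commute_seg (y := C.x j) (fun k a b => hall k (by show k < t + n; omega)) hs'
      rw [commute_iff_eq]
      calc (g ^ n)⁻¹ * C.x j * g ^ n * s = (g ^ n)⁻¹ * (C.x j * (g ^ n * s * (g ^ n)⁻¹)) * g ^ n := by group
        _ = (g ^ n)⁻¹ * (g ^ n * s * (g ^ n)⁻¹ * C.x j) * g ^ n := by rw [hcm.eq]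
        _ = _ := by group
    rwa [mul_eq_one_iff_eq_inv, inv_mul_eq_iff_eq_mul, mul_inv_cancel] at h
  exact ⟨hb.1, hb.2 hn⟩

end CfsgLib.PGroup.ShiftChain
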