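import Cfsg.Agent.Lib.Fusion.PSolvable
import Mathlib.RepresentationTheory.Invariants
import Mathlib.LinearAlgebra.FiniteDimensional.Basic

/-!
Fixed vectors of a `p`-soluble group in a module spanned by an orbit of size prime to `p`.
-/

set_option linter.style.haveILetI false

namespace CfsgLib.PGroup.SpanOrbit

variable {k V H : Type*} [Field k] [AddCommGroup V] [Module k V] [Group H]

/-- The stabilizer of a vector. -/
def stab (ρ : Representation k H V) (a : V) : Subgroup H where
  carrier := {g | ρ g a = a}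
  one_mem' := by simp
  mul_mem' {g h} hg hh := by
    show ρ (g * h) a = a
    rw [map_mul]; show ρ g (ρ h a) = a
    rw [show ρ h a = a from hh]; exact hg
  inv_mem' {g} hg := by
    show ρ g⁻¹ a = a
    conv_lhs => rw [← (hg : ρ g a = a)]
    rw [← Module.End.mul_apply, ← map_mul, inv_mul_cancel, map_one, Module.End.one_apply]

theorem mem_stab {ρ : Representation k H V} {a : V} {g : H} : g ∈ stab ρ a ↔ ρ g a = a :=
  Iff.rfl

theorem rho_mul (ρ : Representation k H V) (g h : H) (v : V) : ρ (g * h) v = ρ g (ρ h v) := by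
  rw [map_mul]; rfl

theorem rho_inv (ρ : Representation k H V) (g : H) (v : V) : ρ g (ρ g⁻¹ v) = v := by
  rw [← rho_mul, mul_inv_cancel, map_one, Module.End.one_apply]

theorem rho_inv' (ρ : Representation k H V) (g : H) (v : V) : ρ g⁻¹ (ρ g v) = v := by
  rw [← rho_mul, inv_mul_cancel, map_one, Module.End.one_apply]

open scoped Classical in
/-- The orbit of a vector. -/
noncomputable def orb [Fintype H] (ρ : Representation k H V) (a : V) : Finset V :=
  Finset.univ.image fun h => ρ h a

theorem mem_orb [Fintype H] {ρ : Representation k H V} {a u : V} :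
    u ∈ orb ρ a ↔ ∃ h, ρ h a = u := by
  simp [orb]

theorem rho_mem_orb [Fintype H] {ρ : Representation k H V} {a u : V} (g : H)
    (hu : u ∈ orb ρ a) : ρ g u ∈ orb ρ a := by
  obtain ⟨h, rfl⟩ := mem_orb.mp hu
  exact mem_orb.mpr ⟨g * h, rho_mul ρ g h a⟩

/-- Reindexing a sum over an orbit. -/
theorem sum_translate [Fintype H] (ρ : Representation k H V) (a : V) (g : H) (F : V → V) :
    ∑ u ∈ orb ρ a, F (ρ g u) = ∑ u ∈ orb ρ a, F u :=
  Finset.sum_nbij' (fun u => ρ g u) (fun u => ρ g⁻¹ u)
    (fun u hu => rho_mem_orb g hu) (fun u hu => rho_mem_orb g⁻¹ hu)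
    (fun u _ => rho_inv' ρ g u) (fun u _ => rho_inv ρ g u) (fun u _ => rfl)

theorem rho_orbit_sum [Fintype H] (ρ : Representation k H V) (a : V) (g : H) :
    ρ g (∑ u ∈ orb ρ a, u) = ∑ u ∈ orb ρ a, u := by
  rw [map_sum]; exact sum_translate ρ a g id

theorem stab_rho (ρ : Representation k H V) (a : V) (g : H) :
    stab ρ (ρ g a) = (stab ρ a).map (MulAut.conj g).toMonoidHom := by
  ext x
  rw [Subgroup.mem_map_equiv, mem_stab, mem_stab, MulAut.conj_symm_apply, rho_mul, rho_mul]
  constructor
  · intro h
    rw [h, rho_inv']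
  · intro h
    conv_rhs => rw [← h]
    rw [rho_inv]

theorem relIndex_dvd_index {S K : Subgroup H} [Finite H] [K.Normal] :
    S.relIndex K ∣ S.index := by
  obtain ⟨t, ht⟩ := K.relIndex_dvd_index_of_normal S
  refine ⟨t, Nat.eq_of_mul_eq_mul_left (Nat.pos_of_ne_zero
    (Subgroup.index_ne_zero_of_finite (H := K.subgroupOf S))) ?_⟩
  have h1 : S.relIndex K * K.index = (S ⊓ K).index := by
    rw [← Subgroup.inf_relIndex_right S K, Subgroup.relIndex_mul_index inf_le_right]
  have h2 : K.relIndex S * S.index = (S ⊓ K).index := by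
    rw [← Subgroup.inf_relIndex_right K S, Subgroup.relIndex_mul_index inf_le_right, inf_comm]
  show K.relIndex S * S.index = K.relIndex S * (S.relIndex K * t)
  rw [h2, ← h1, ht]; ring

/-- The main statement: an invariant vector is a multiple of the orbit sum. -/
theorem mem_span_sum [Fintype H] (p : ℕ) [Fact p.Prime] [CharP k p]
    (hsol : Cfsg.IsPSolvable p H) (ρ : Representation k H V) (a : V)
    (hfix : ¬ p ∣ (stab ρ a).index)
    (hspan : Submodule.span k (orb ρ a : Set V) = ⊤) {v : V} (hv : ∀ g : H, ρ g v = v) :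
    ∃ c : k, v = c • ∑ u ∈ orb ρ a, u := by
  classical
  obtain ⟨n, K, h0, hl, hmono, hnormal, hfac⟩ := hsol
  suffices h : ∀ i : Fin (n + 1), ∃ f : V → k,
      (∀ g ∈ K i, ∀ u ∈ orb ρ a, f (ρ g u) = f u) ∧ ∑ u ∈ orb ρ a, f u • u = v by
    obtain ⟨f, hf, hsum⟩ := h (Fin.last n)
    refine ⟨f a, ?_⟩
    rw [← hsum, Finset.smul_sum]
    refine Finset.sum_congr rfl fun u hu => ?_
    obtain ⟨g, rfl⟩ := mem_orb.mp hu
    rw [hf g (by rw [hl]; trivial) a (mem_orb.mpr ⟨1, by simp⟩)]
  intro i
  induction i using Fin.induction with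
  | zero =>
    have hv' : v ∈ Submodule.span k (orb ρ a : Set V) := hspan ▸ Submodule.mem_top
    obtain ⟨f, -, hf⟩ := Submodule.mem_span_finset.mp hv'
    refine ⟨f, fun g hg u _ => ?_, hf⟩
    rw [h0, Subgroup.mem_bot] at hg
    rw [hg, map_one, Module.End.one_apply]
  | succ i ih =>
    obtain ⟨f, hf, hsum⟩ := ih
    set A := K i.castSucc with hA
    set B := K i.succ with hB
    haveI : A.Normal := hnormal _
    haveI : B.Normal := hnormal _
    have hAB : A ≤ B := hmono (Fin.castSucc_le_succ i)
    rcases hfac i with ⟨m, hm⟩ | hcop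
    · -- a `p`-step
      refine ⟨f, fun g hg u hu => ?_, hsum⟩
      have hS : ¬ p ∣ (stab ρ u).relIndex B := fun h => by
        obtain ⟨x, rfl⟩ := mem_orb.mp hu
        apply hfix
        refine (h.trans relIndex_dvd_index).trans (dvd_of_eq ?_)
        rw [stab_rho]
        exact Subgroup.index_map_equiv _ (MulAut.conj x)
      have hle : B ≤ A ⊔ stab ρ u := by
        rw [← Subgroup.relIndex_eq_one]
        have d1 : (A ⊔ stab ρ u).relIndex B ∣ p ^ m := by
          rw [← hm]; exact Subgroup.relIndex_dvd_of_le_left _ le_sup_left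
        have d2 : (A ⊔ stab ρ u).relIndex B ∣ (stab ρ u).relIndex B :=
          Subgroup.relIndex_dvd_of_le_left _ le_sup_right
        obtain ⟨j, -, hj⟩ := (Nat.dvd_prime_pow Fact.out).mp d1
        rcases Nat.eq_zero_or_pos j with rfl | hj0
        · simpa using hj
        · exact absurd (((dvd_pow_self p hj0.ne').trans (dvd_of_eq hj.symm)).trans d2) hS
      obtain ⟨x, hx, s, hs, rfl⟩ := Subgroup.mem_sup_of_normal_left.mp (hle hg)
      rw [rho_mul, mem_stab.mp hs]
      exact hf x hx u hu
    · -- a `p'`-step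
      haveI := Fintype.ofFinite (B ⧸ A.subgroupOf B)
      set r := Fintype.card (B ⧸ A.subgroupOf B) with hr
      have hr0 : (r : k) ≠ 0 := by
        rw [Ne, CharP.cast_eq_zero_iff k p]
        intro h
        rw [hr, ← Nat.card_eq_fintype_card] at h
        exact (Nat.Prime.coprime_iff_not_dvd Fact.out).mp hcop.symm h
      have hwd : ∀ (x y : B), QuotientGroup.mk (s := A.subgroupOf B) x = QuotientGroup.mk y →
          ∀ u ∈ orb ρ a, f (ρ ((x : H)⁻¹) u) = f (ρ ((y : H)⁻¹) u) := by
        intro x y hxy u hu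
        have h1 : ((x : H))⁻¹ * (y : H) ∈ A :=
          Subgroup.mem_subgroupOf.mp (QuotientGroup.eq.mp hxy)
        have h2 := hf _ h1 _ (rho_mem_orb ((y : H)⁻¹) hu)
        rwa [← rho_mul, mul_assoc, mul_inv_cancel, mul_one] at h2
      let f' : V → k := fun u =>
        (r : k)⁻¹ * ∑ x : B ⧸ A.subgroupOf B, f (ρ (((Quotient.out x : B) : H)⁻¹) u)
      refine ⟨f', fun g hg u hu => ?_, ?_⟩
      · simp only [f']
        congr 1
        refine Fintype.sum_equiv (MulAction.toPerm (⟨g, hg⟩ : B)⁻¹) _ _ fun x => ?_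
        rw [← rho_mul]
        have e : QuotientGroup.mk (s := A.subgroupOf B) ((⟨g, hg⟩ : B)⁻¹ * Quotient.out x) =
            QuotientGroup.mk (Quotient.out ((⟨g, hg⟩ : B)⁻¹ • x)) := by
          rw [QuotientGroup.out_eq']
          conv_rhs => rw [← QuotientGroup.out_eq' x]
          rfl
        refine Eq.trans ?_ (hwd _ _ e u hu)
        simp [Subgroup.coe_mul, mul_inv_rev]
      · simp only [f', mul_smul, Finset.sum_smul, ← Finset.smul_sum]
        rw [Finset.sum_comm]
        have key : ∀ x : B ⧸ A.subgroupOf B,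
            ∑ u ∈ orb ρ a, f (ρ (((Quotient.out x : B) : H)⁻¹) u) • u = v := by
          intro x
          set g : H := ((Quotient.out x : B) : H)
          rw [← sum_translate ρ a g (fun u => f (ρ g⁻¹ u) • u)]
          simp only [rho_inv', ← map_smul, ← map_sum, hsum, hv g]
        simp only [key, Finset.sum_const, Finset.card_univ, ← hr]
        rw [← Nat.cast_smul_eq_nsmul k, inv_smul_smul₀ hr0]

theorem invariants_and_fixed [Finite H] (p : ℕ) [Fact p.Prime] [CharP k p]
    (hsol : Cfsg.IsPSolvable p H) (ρ : Representation k H V) (a : V)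
    (hfix : ∃ P : Sylow p H, ∀ x : H, x ∈ (P : Subgroup H) → ρ x a = a)
    (hspan : Submodule.span k {u : V | ∃ h : H, ρ h a = u} = ⊤) :
    Module.finrank k ρ.invariants ≤ 1 ∧
    ∀ b : V, (Nat.card {u : V | ∃ h : H, ρ h a = u}).Coprime
      (Nat.card {u : V | ∃ h : H, ρ h b = u}) → ∀ h : H, ρ h b = b := by
  classical
  haveI := Fintype.ofFinite H
  obtain ⟨P, hP⟩ := hfix
  have hidx : ¬ p ∣ (stab ρ a).index := fun h =>
    P.not_dvd_index (h.trans (Subgroup.index_dvd_of_le fun x hx => hP x hx))
  have hset : (orb ρ a : Set V) = {u : V | ∃ h : H, ρ h a = u} := by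
    ext u; exact mem_orb
  rw [← hset] at hspan
  refine ⟨?_, fun b hb => ?_⟩
  · set s := ∑ u ∈ orb ρ a, u with hs
    refine (Submodule.finrank_mono (t := k ∙ s) ?_).trans ?_
    · intro v hv
      obtain ⟨c, hc⟩ := mem_span_sum p hsol ρ a hidx hspan hv
      exact Submodule.mem_span_singleton.mpr ⟨c, hc.symm⟩
    · exact (finrank_span_le_card ({s} : Set V)).trans (by simp)
  · have hcard : ∀ c : V, Nat.card {u : V | ∃ h : H, ρ h c = u} = (stab ρ c).index := by
      intro c
      rw [Subgroup.index_eq_card]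
      refine (Nat.card_congr (Equiv.ofBijective
        (Quotient.lift (fun h => (⟨ρ h c, h, rfl⟩ : {u : V | ∃ h : H, ρ h c = u})) ?_) ⟨?_, ?_⟩)).symm
      · intro x y hxy
        have h1 : ρ (x⁻¹ * y) c = c := QuotientGroup.leftRel_apply.mp hxy
        exact Subtype.ext (by
          show ρ x c = ρ y c
          conv_lhs => rw [← h1]
          rw [← rho_mul, mul_inv_cancel_left])
      · intro q₁ q₂
        induction q₁ using Quotient.inductionOn with | _ x =>
        induction q₂ using Quotient.inductionOn with | _ y =>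
        intro h
        have h1 : ρ x c = ρ y c := congrArg Subtype.val h
        refine Quotient.sound (QuotientGroup.leftRel_apply.mpr ?_)
        rw [mem_stab, rho_mul, ← h1, rho_inv']
      · rintro ⟨_, h, rfl⟩
        exact ⟨Quotient.mk _ h, rfl⟩
    rw [hcard, hcard] at hb
    set A := stab ρ a
    set B := stab ρ b
    haveI := Fintype.ofFinite B
    have hAB : A.relIndex B = A.index := by
      have h1 : A.relIndex B * B.index = (A ⊓ B).index := by
        rw [← Subgroup.inf_relIndex_right A B, Subgroup.relIndex_mul_index inf_le_right]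
      have h2 : (A ⊓ B).index = A.index * B.index :=
        le_antisymm Subgroup.index_inf_le (Nat.le_of_dvd (Nat.pos_of_ne_zero
          Subgroup.index_ne_zero_of_finite)
          (hb.mul_dvd_of_dvd_of_dvd (Subgroup.index_dvd_of_le inf_le_left)
            (Subgroup.index_dvd_of_le inf_le_right)))
      exact Nat.eq_of_mul_eq_mul_right (Nat.pos_of_ne_zero Subgroup.index_ne_zero_of_finite)
        (h1.trans h2)
    let ρB : Representation k B V := ρ.comp B.subtype
    have hstab : stab ρB a = A.subgroupOf B := rfl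
    have horb : orb ρB a = orb ρ a := by
      ext u
      rw [mem_orb, mem_orb]
      constructor
      · rintro ⟨h, rfl⟩; exact ⟨h, rfl⟩
      · rintro ⟨g, rfl⟩
        have h2 : Function.Bijective (fun q : B ⧸ A.subgroupOf B =>
            (Quotient.map' (fun x : B => (x : H)) (fun x y hxy => by
              rw [QuotientGroup.leftRel_apply] at hxy ⊢
              simpa [Subgroup.mem_subgroupOf] using hxy) q : H ⧸ A)) := by
          refine (Nat.bijective_iff_injective_and_card _).mpr ⟨?_, ?_⟩
          · intro q₁ q₂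
            induction q₁ using Quotient.inductionOn' with | _ x =>
            induction q₂ using Quotient.inductionOn' with | _ y =>
            intro h
            refine Quotient.sound' (QuotientGroup.leftRel_apply.mpr ?_)
            have h' := QuotientGroup.leftRel_apply.mp (Quotient.exact' h)
            simpa [Subgroup.mem_subgroupOf] using h'
          · exact (Subgroup.index_eq_card _).symm.trans (hAB.trans (Subgroup.index_eq_card _))
        obtain ⟨q, hq⟩ := h2.2 (QuotientGroup.mk g)
        induction q using Quotient.inductionOn' with | _ x =>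
        have h' : ρ ((x : H)⁻¹ * g) a = a := QuotientGroup.leftRel_apply.mp (Quotient.exact' hq)
        exact ⟨x, show ρ (x : H) a = ρ g a by
          conv_lhs => rw [← h']
          rw [← rho_mul, mul_inv_cancel_left]⟩
    have hidxB : ¬ p ∣ (stab ρB a).index := by
      rw [hstab]; change ¬ p ∣ A.relIndex B; rwa [hAB]
    obtain ⟨c, hc⟩ := mem_span_sum p (CfsgLib.Fusion.PSolvable.psolvable_subgroup hsol B) ρB a hidxB
      (horb ▸ hspan) (v := b) (fun g => g.2)
    intro h
    rw [hc, horb, map_smul, rho_orbit_sum]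

end CfsgLib.PGroup.SpanOrbit
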