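import Cfsg.Agent.S0144
import Mathlib

/-!
Element orders: Frobenius groups `V ⋊ C` with `V` the natural module of a fixed-point-free group `C` of
invertible two by two matrices, and the powers of a three by three matrix of determinant one.
-/

set_option autoImplicit false
set_option linter.unusedSectionVars false

namespace CfsgLib.PGroup.SpectrumFPF

open Matrix

section semidirect

variable {K : Type} [CommRing K] (C : Subgroup (GL (Fin 2) K))

/-- The natural action. -/
def act : C →* MulAut (Multiplicative (Fin 2 → K)) where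
  toFun g :=
    { toFun := fun v => Multiplicative.ofAdd ((g : GL (Fin 2) K).1 *ᵥ Multiplicative.toAdd v)
      invFun := fun v => Multiplicative.ofAdd (((g⁻¹ : C) : GL (Fin 2) K).1 *ᵥ Multiplicative.toAdd v)
      left_inv := fun v => by
        show Multiplicative.ofAdd (((g⁻¹ : C) : GL (Fin 2) K).1 *ᵥ ((g : GL (Fin 2) K).1 *ᵥ Multiplicative.toAdd v)) = v
        rw [Matrix.mulVec_mulVec, ← Units.val_mul, ← Subgroup.coe_mul, inv_mul_cancel, OneMemClass.coe_one,
          Units.val_one, Matrix.one_mulVec, ofAdd_toAdd]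
      right_inv := fun v => by
        show Multiplicative.ofAdd ((g : GL (Fin 2) K).1 *ᵥ (((g⁻¹ : C) : GL (Fin 2) K).1 *ᵥ Multiplicative.toAdd v)) = v
        rw [Matrix.mulVec_mulVec, ← Units.val_mul, ← Subgroup.coe_mul, mul_inv_cancel, OneMemClass.coe_one,
          Units.val_one, Matrix.one_mulVec, ofAdd_toAdd]
      map_mul' := fun v w => congrArg Multiplicative.ofAdd (Matrix.mulVec_add _ _ _) }
  map_one' := MulEquiv.ext fun v => congrArg Multiplicative.ofAdd (Matrix.one_mulVec _)
  map_mul' g h := MulEquiv.ext fun v => by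
    show Multiplicative.ofAdd (((g : GL (Fin 2) K).1 * (h : GL (Fin 2) K).1) *ᵥ Multiplicative.toAdd v) =
      Multiplicative.ofAdd ((g : GL (Fin 2) K).1 *ᵥ ((h : GL (Fin 2) K).1 *ᵥ Multiplicative.toAdd v))
    rw [Matrix.mulVec_mulVec]

/-- The semidirect product of the natural module and `C`. -/
abbrev Semi : Type := Multiplicative (Fin 2 → K) ⋊[act C] C

theorem finite_semi [Finite K] : Finite (Semi C) :=
  haveI : Finite C := inferInstance
  Finite.of_equiv _ SemidirectProduct.equivProd.symm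

theorem isSolvable_semi [Finite C] (h : Group.IsSolvable C) : Group.IsSolvable (Semi C) :=
  haveI := h
  Group.isSolvable_of_ker_le_range SemidirectProduct.inl SemidirectProduct.rightHom
    (le_of_eq SemidirectProduct.range_inl_eq_ker_rightHom.symm)

theorem range_orderOf [Nontrivial K] {p : ℕ} (hp : p.Prime) [CharP K p]
    (hfree : ∀ c ∈ C, c ≠ 1 → IsUnit ((c : GL (Fin 2) K).1 - 1).det) :
    Set.range (orderOf : Semi C → ℕ) = insert p (Set.range (orderOf : C → ℕ)) := by
  haveI := Fact.mk hp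
  have hv : ∀ v : Multiplicative (Fin 2 → K), v ^ p = 1 := fun v => by
    show Multiplicative.ofAdd (p • Multiplicative.toAdd v) = Multiplicative.ofAdd 0
    congr 1
    funext i
    simp [nsmul_eq_mul, CharP.cast_eq_zero]
  refine Set.Subset.antisymm ?_ (Set.insert_subset ?_ ?_)
  · rintro _ ⟨⟨v, c⟩, rfl⟩
    by_cases hc : c = 1
    · subst hc
      change orderOf (SemidirectProduct.inl (φ := act C) v) ∈ _
      rw [orderOf_injective _ SemidirectProduct.inl_injective]
      rcases eq_or_ne v 1 with rfl | hv1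
      · exact Or.inr ⟨1, by rw [orderOf_one, orderOf_one]⟩
      · exact Or.inl (orderOf_eq_prime (hv v) hv1)
    · obtain ⟨u, hu⟩ := (Matrix.isUnit_iff_isUnit_det _).2 (hfree c c.2 (fun h => hc (Subtype.ext h)))
      set w : Fin 2 → K := -((↑u⁻¹ : Matrix (Fin 2) (Fin 2) K) *ᵥ Multiplicative.toAdd v) with hw
      have hwv : w - (c : GL (Fin 2) K).1 *ᵥ w = Multiplicative.toAdd v := by
        have e : ((c : GL (Fin 2) K).1 - 1) *ᵥ w = -Multiplicative.toAdd v := by
          rw [← hu, hw, Matrix.mulVec_neg, Matrix.mulVec_mulVec, Units.mul_inv, Matrix.one_mulVec]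
        rw [Matrix.sub_mulVec, Matrix.one_mulVec] at e
        rw [← neg_sub, e, neg_neg]
      have hconj : (⟨v, c⟩ : Semi C) = MulAut.conj (SemidirectProduct.inl (Multiplicative.ofAdd w))
          (SemidirectProduct.inr c) := by
        refine SemidirectProduct.ext ?_ ?_
        · simp only [MulAut.conj_apply, SemidirectProduct.mul_left, SemidirectProduct.inv_left,
            SemidirectProduct.left_inl, SemidirectProduct.right_inl, SemidirectProduct.left_inr,
            SemidirectProduct.right_inr, SemidirectProduct.mul_right, map_one, inv_one, mul_one, one_mul]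
          show v = Multiplicative.ofAdd w * Multiplicative.ofAdd ((c : GL (Fin 2) K).1 *ᵥ (-w))
          rw [← ofAdd_add, Matrix.mulVec_neg, ← sub_eq_add_neg, hwv, ofAdd_toAdd]
        · simp [MulAut.conj_apply]
      refine Or.inr ⟨c, ?_⟩
      rw [hconj, MulEquiv.orderOf_eq, orderOf_injective _ SemidirectProduct.inr_injective]
  · refine ⟨SemidirectProduct.inl (Multiplicative.ofAdd (fun _ => 1)), ?_⟩
    rw [orderOf_injective _ SemidirectProduct.inl_injective]
    refine orderOf_eq_prime (hv _) fun h => one_ne_zero (α := K) ?_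
    exact congrFun (Multiplicative.ofAdd.injective h : (fun _ : Fin 2 => (1 : K)) = 0) 0
  · rintro _ ⟨c, rfl⟩
    exact ⟨SemidirectProduct.inr c, orderOf_injective _ SemidirectProduct.inr_injective _⟩

end semidirect

section list

/-- A code for an element of `ℤ/p[√r]`. -/
abbrev Code := ℕ × ℕ

/-- A code for a two by two matrix over `ℤ/p[√r]`. -/
abbrev Quad := Code × Code × Code × Code

/-- The product of codes. -/
def cmul (p r : ℕ) (x y : Code) : Code := ((x.1 * y.1 + r * x.2 * y.2) % p, (x.1 * y.2 + x.2 * y.1) % p)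

/-- The sum of codes. -/
def cadd (p : ℕ) (x y : Code) : Code := ((x.1 + y.1) % p, (x.2 + y.2) % p)

/-- The product of coded matrices. -/
def mm (p r : ℕ) (x y : Quad) : Quad :=
  (cadd p (cmul p r x.1 y.1) (cmul p r x.2.1 y.2.2.1), cadd p (cmul p r x.1 y.2.1) (cmul p r x.2.1 y.2.2.2),
    cadd p (cmul p r x.2.2.1 y.1) (cmul p r x.2.2.2 y.2.2.1),
    cadd p (cmul p r x.2.2.1 y.2.1) (cmul p r x.2.2.2 y.2.2.2))

/-- The code of the identity. -/
def qone : Quad := ((1, 0), (0, 0), (0, 0), (1, 0))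

/-- Equality of codes. -/
def ceq (x y : Code) : Bool := Nat.beq x.1 y.1 && Nat.beq x.2 y.2

/-- Equality of coded matrices. -/
def qeq (x y : Quad) : Bool := ceq x.1 y.1 && ceq x.2.1 y.2.1 && ceq x.2.2.1 y.2.2.1 && ceq x.2.2.2 y.2.2.2

/-- All entries reduced. -/
def qred (p : ℕ) (x : Quad) : Bool :=
  Nat.blt x.1.1 p && Nat.blt x.1.2 p && Nat.blt x.2.1.1 p && Nat.blt x.2.1.2 p && Nat.blt x.2.2.1.1 p &&
    Nat.blt x.2.2.1.2 p && Nat.blt x.2.2.2.1 p && Nat.blt x.2.2.2.2 p

/-- A certificate that the list continues the powers of `x` up to the identity. -/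
def cyc (p r : ℕ) (x : Quad) : Quad → List Quad → Bool
  | cur, [] => qred p cur && !(qeq cur qone) && qeq (mm p r cur x) qone
  | cur, y :: l => qred p cur && !(qeq cur qone) && qeq (mm p r cur x) y && cyc p r x y l

/-- The norm of the determinant of a coded matrix minus the identity, modulo `p`. -/
def detNorm (p r : ℕ) (x : Quad) : ℕ :=
  let d : Code := cadd p (cmul p r (cadd p x.1 (p - 1, 0)) (cadd p x.2.2.2 (p - 1, 0)))
    (cmul p r (cmul p r (p - 1, 0) x.2.1) x.2.2.1)
  (d.1 * d.1 + (p - 1) * r * d.2 * d.2) % p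

theorem qeq_iff {x y : Quad} (h : qeq x y = true) : x = y := by
  simp only [qeq, ceq, Bool.and_eq_true, Nat.beq_eq] at h
  ext <;> tauto

theorem qeq_refl (x : Quad) : qeq x x = true := by
  simp [qeq, ceq]

variable (p r : ℕ)

/-- The decoding of an element. -/
def toK (x : Code) : QuadraticAlgebra (ZMod p) (r : ZMod p) 0 := ⟨x.1, x.2⟩

/-- The decoding of a matrix. -/
def toMat (x : Quad) : Matrix (Fin 2) (Fin 2) (QuadraticAlgebra (ZMod p) (r : ZMod p) 0) :=
  !![toK p r x.1, toK p r x.2.1; toK p r x.2.2.1, toK p r x.2.2.2]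

theorem toK_cadd (x y : Code) : toK p r (cadd p x y) = toK p r x + toK p r y := by
  ext <;> simp [toK, cadd]

theorem toK_cmul (x y : Code) : toK p r (cmul p r x y) = toK p r x * toK p r y := by
  ext <;> simp [toK, cmul]

theorem toMat_mm (x y : Quad) : toMat p r (mm p r x y) = toMat p r x * toMat p r y := by
  simp [toMat, mm, toK_cadd, toK_cmul]

theorem toMat_one : toMat p r qone = 1 := by
  rw [Matrix.one_fin_two]
  ext i j <;> fin_cases i <;> fin_cases j <;> simp [toMat, qone, toK, QuadraticAlgebra.re_one, QuadraticAlgebra.im_one]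

theorem eq_of_toMat {x y : Quad} (hx : qred p x = true) (hy : qred p y = true) (h : toMat p r x = toMat p r y) :
    x = y := by
  have h1 := congrFun (congrFun h 0) 0
  have h2 := congrFun (congrFun h 0) 1
  have h3 := congrFun (congrFun h 1) 0
  have h4 := congrFun (congrFun h 1) 1
  simp only [toMat, toK, Matrix.of_apply, Matrix.cons_val', Matrix.cons_val_zero, Matrix.cons_val_one,
    QuadraticAlgebra.mk.injEq, ZMod.natCast_eq_natCast_iff, Nat.ModEq] at h1 h2 h3 h4
  simp only [qred, Bool.and_eq_true, Nat.blt_eq] at hx hy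
  obtain ⟨⟨⟨⟨⟨⟨⟨a1, a2⟩, a3⟩, a4⟩, a5⟩, a6⟩, a7⟩, a8⟩ := hx
  obtain ⟨⟨⟨⟨⟨⟨⟨b1, b2⟩, b3⟩, b4⟩, b5⟩, b6⟩, b7⟩, b8⟩ := hy
  simp only [Nat.mod_eq_of_lt, a1, a2, a3, a4, a5, a6, a7, a8, b1, b2, b3, b4, b5, b6, b7, b8] at h1 h2 h3 h4
  exact Prod.ext (Prod.ext h1.1 h1.2) (Prod.ext (Prod.ext h2.1 h2.2)
    (Prod.ext (Prod.ext h3.1 h3.2) (Prod.ext h4.1 h4.2)))

variable {p r}

theorem cyc_spec (hp : 1 < p) {x : Quad} {g : GL (Fin 2) (QuadraticAlgebra (ZMod p) (r : ZMod p) 0)}
    (hg : g.1 = toMat p r x) : ∀ (l : List Quad) (cur : Quad) (k : ℕ), cyc p r x cur l = true →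
      (g ^ (k + 1)).1 = toMat p r cur → (∀ e, 0 < e → e ≤ k → g ^ e ≠ 1) →
      orderOf g = k + l.length + 2 := by
  have hone : qred p qone = true := by simp [qred, qone]; omega
  intro l
  induction l with
  | nil =>
    intro cur k h hcur hlt
    simp only [cyc, Bool.and_eq_true, Bool.not_eq_true'] at h
    have hne : g ^ (k + 1) ≠ 1 := fun e => by
      rw [e, Units.val_one, ← toMat_one p r] at hcur
      rw [eq_of_toMat p r h.1.1 hone hcur.symm, qeq_refl] at h
      exact Bool.noConfusion h.1.2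
    refine (orderOf_eq_iff (by omega)).2 ⟨Units.ext ?_, fun e he he0 => ?_⟩
    · rw [List.length_nil, add_zero, pow_succ, Units.val_mul, hcur, hg, ← toMat_mm, qeq_iff h.2, toMat_one,
        Units.val_one]
    · simp only [List.length_nil] at he
      rcases eq_or_ne e (k + 1) with rfl | hek
      · exact hne
      · exact hlt e he0 (by omega)
  | cons y l ih =>
    intro cur k h hcur hlt
    simp only [cyc, Bool.and_eq_true, Bool.not_eq_true'] at h
    have hne : g ^ (k + 1) ≠ 1 := fun e => by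
      rw [e, Units.val_one, ← toMat_one p r] at hcur
      rw [eq_of_toMat p r h.1.1.1 hone hcur.symm, qeq_refl] at h
      exact Bool.noConfusion h.1.1.2
    have := ih y (k + 1) h.2 (by rw [pow_succ, Units.val_mul, hcur, hg, ← toMat_mm, qeq_iff h.1.2]) (fun e he0 he => by
      rcases eq_or_ne e (k + 1) with rfl | hek
      · exact hne
      · exact hlt e he0 (by omega))
    rw [this, List.length_cons]
    omega

theorem orderOf_eq_of_cyc (hp : 1 < p) {x : Quad} {g : GL (Fin 2) (QuadraticAlgebra (ZMod p) (r : ZMod p) 0)}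
    (hg : g.1 = toMat p r x) {l : List Quad} (h : cyc p r x x l = true) : orderOf g = l.length + 2 := by
  simpa using cyc_spec hp hg l x 0 h (by rw [zero_add, pow_one, hg]) (fun e h1 h2 => absurd h2 (by omega))

theorem exists_mem_list {L : List Quad} {S : Set (GL (Fin 2) (QuadraticAlgebra (ZMod p) (r : ZMod p) 0))}
    (hone : qone ∈ L)
    (hS : ∀ s ∈ S, ∃ s' : Quad, L.all (fun x => L.any (qeq (mm p r s' x))) = true ∧ s.1 = toMat p r s')
    (hSi : ∀ s ∈ S, ∃ s' : Quad, L.all (fun x => L.any (qeq (mm p r s' x))) = true ∧ (s⁻¹).1 = toMat p r s')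
    {g : GL (Fin 2) (QuadraticAlgebra (ZMod p) (r : ZMod p) 0)} (hg : g ∈ Subgroup.closure S) :
    ∃ x ∈ L, g.1 = toMat p r x := by
  have hstep : ∀ (s' : Quad), L.all (fun x => L.any (qeq (mm p r s' x))) = true → ∀ x ∈ L, mm p r s' x ∈ L := by
    intro s' h x hx
    obtain ⟨y, hy, he⟩ := List.any_eq_true.1 (List.all_eq_true.1 h x hx)
    exact qeq_iff he ▸ hy
  induction hg using Subgroup.closure_induction_left with
  | one => exact ⟨_, hone, by rw [toMat_one, Units.val_one]⟩
  | mul_left s hs y _ ih =>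
    obtain ⟨s', hL, he⟩ := hS s hs
    obtain ⟨x, hx, hy⟩ := ih
    exact ⟨_, hstep s' hL x hx, by rw [Units.val_mul, he, hy, toMat_mm]⟩
  | inv_mul_cancel s hs y _ ih =>
    obtain ⟨s', hL, he⟩ := hSi s hs
    obtain ⟨x, hx, hy⟩ := ih
    exact ⟨_, hstep s' hL x hx, by rw [Units.val_mul, he, hy, toMat_mm]⟩

theorem isUnit_det_sub (hp : p.Prime) {x : Quad} (h : Nat.beq (detNorm p r x) 0 = false) :
    IsUnit (toMat p r x - 1).det := by
  haveI := Fact.mk hp
  set d : Code := cadd p (cmul p r (cadd p x.1 (p - 1, 0)) (cadd p x.2.2.2 (p - 1, 0)))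
    (cmul p r (cmul p r (p - 1, 0) x.2.1) x.2.2.1) with hd
  have hm1 : toK p r (p - 1, 0) = -1 := by
    ext <;> simp [toK, Nat.cast_sub hp.one_lt.le, QuadraticAlgebra.re_one, QuadraticAlgebra.im_one]
  have hdet : (toMat p r x - 1).det = toK p r d := by
    rw [hd, toK_cadd, toK_cmul, toK_cadd, toK_cadd, toK_cmul, toK_cmul, hm1, Matrix.det_fin_two]
    simp [toMat]
    ring
  have hn : ((d.1 : ZMod p) * d.1 - r * d.2 * d.2) ≠ 0 := by
    intro h0
    have hN : detNorm p r x = (d.1 * d.1 + (p - 1) * r * d.2 * d.2) % p := rfl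
    rw [hN] at h
    have h1 : ((d.1 * d.1 + (p - 1) * r * d.2 * d.2 : ℕ) : ZMod p) = 0 := by
      push_cast [Nat.cast_sub hp.one_lt.le]
      simp only [ZMod.natCast_self]
      linear_combination h0
    rw [ZMod.natCast_eq_zero_iff, Nat.dvd_iff_mod_eq_zero] at h1
    rw [h1] at h
    exact Bool.noConfusion h
  rw [hdet]
  obtain ⟨y, hy⟩ := hn.isUnit.exists_left_inv
  refine IsUnit.of_mul_eq_one (⟨y * d.1, -(y * d.2)⟩ : QuadraticAlgebra (ZMod p) (r : ZMod p) 0) ?_
  ext
  · simp only [toK, QuadraticAlgebra.re_mul, QuadraticAlgebra.re_one]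
    linear_combination hy
  · simp only [toK, QuadraticAlgebra.im_mul, QuadraticAlgebra.im_one]
    ring

/-- A finite group whose order is a product of powers of two and three is solvable. -/
theorem isSolvable_of_bound {G : Type*} [Group G] [Finite G] {B : ℕ} (hB : B ≤ 48) (hcard : Nat.card G ≤ B)
    (hord : ∀ g : G, orderOf g ∣ 24) : Group.IsSolvable G := by
  have key : ∀ n ≤ 48, 0 < n → (∃ a < 6, ∃ b < 4, n = 2 ^ a * 3 ^ b) ∨
      ∃ r ∈ [5, 7, 11, 13, 17, 19, 23, 29, 31, 37, 41, 43, 47], r ∣ n := by decide +kernel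
  rcases key (Nat.card G) (hcard.trans hB) Nat.card_pos with ⟨a, -, b, -, h⟩ | ⟨r, hr, hdvd⟩
  · exact Cfsg.Agent.S0144.result 2 3 a b Nat.prime_two Nat.prime_three h
  · have hrp : r.Prime ∧ ¬ r ∣ 24 := by
      simp only [List.mem_cons, List.not_mem_nil, or_false] at hr
      rcases hr with rfl | rfl | rfl | rfl | rfl | rfl | rfl | rfl | rfl | rfl | rfl | rfl | rfl <;> norm_num
    haveI := Fact.mk hrp.1
    obtain ⟨g, hg⟩ := exists_prime_orderOf_dvd_card' r hdvd
    exact absurd (hg ▸ hord g) hrp.2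

end list

section cubic

variable {R : Type*} [CommRing R]

theorem cube_eq (M : Matrix (Fin 3) (Fin 3) R) :
    M * M * M = M.trace • (M * M) - M.adjugate.trace • M + M.det • 1 := by
  rw [Matrix.adjugate_fin_three, Matrix.det_fin_three]
  ext i j
  fin_cases i <;> fin_cases j <;>
    simp [Matrix.mul_apply, Fin.sum_univ_three, Matrix.trace_fin_three, Matrix.one_apply] <;> ring

/-- One step in the algebra generated by a root of `x³ - a x² + b x - 1`. -/
def step (a b : R) (c : R × R × R) : R × R × R := (c.2.2, c.1 - b * c.2.2, c.2.1 + a * c.2.2)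

/-- The `k`-th power of the root. -/
def cpow (a b : R) : ℕ → R × R × R
  | 0 => (1, 0, 0)
  | k + 1 => step a b (cpow a b k)

theorem pow_eq_cpow {M : Matrix (Fin 3) (Fin 3) R} (hdet : M.det = 1) {a b : R} (ha : M.trace = a)
    (hb : M.adjugate.trace = b) (k : ℕ) :
    M ^ k = (cpow a b k).1 • 1 + (cpow a b k).2.1 • M + (cpow a b k).2.2 • (M * M) := by
  induction k with
  | zero => simp [cpow]
  | succ k ih =>
    rw [pow_succ, ih, add_mul, add_mul, smul_mul_assoc, smul_mul_assoc, smul_mul_assoc, cube_eq M, hdet, ha, hb,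
      one_mul]
    simp only [cpow, step, smul_add, smul_sub, smul_smul, one_smul, sub_smul, add_smul]
    module

theorem pow_eq_one_of_cpow {M : Matrix (Fin 3) (Fin 3) R} (hdet : M.det = 1) {a b : R} (ha : M.trace = a)
    (hb : M.adjugate.trace = b) {k : ℕ} (h : cpow a b k = (1, 0, 0)) : M ^ k = 1 := by
  rw [pow_eq_cpow hdet ha hb, h]
  simp

end cubic

end CfsgLib.PGroup.SpectrumFPF
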