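import Mathlib
import Cfsg.Agent.Lib.PGroup.SubgroupCount

/-!
The number of `p`-subgroups of a given order of a finite group agrees modulo `p²` with that of a
Sylow `p`-subgroup.
-/

set_option autoImplicit false
set_option linter.style.haveILetI false

namespace CfsgLib.PGroup.SubgroupCountSylow

open Subgroup SubgroupCount
open scoped Pointwise

variable {p : ℕ} [hp : Fact p.Prime] {G : Type*} [Group G] [Finite G]

/-- Conjugation by the elements of a subgroup. -/
@[reducible] def conjAction (Q : Subgroup G) : MulAction Q (Subgroup G) :=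
  MulAction.compHom (Subgroup G) ((MulAut.conj (G := G)).comp Q.subtype)

theorem invariant_mod {Q : Subgroup G} (hQ : IsPGroup p Q) (S : Set (Subgroup G))
    (hS : ∀ g ∈ Q, ∀ H ∈ S, MulAut.conj g • H ∈ S) :
    Nat.card S ≡ Nat.card {H : Subgroup G // H ∈ S ∧ Q ≤ normalizer (H : Set G)} [MOD p] := by
  letI : MulAction Q S :=
    { smul := fun g H => ⟨MulAut.conj (g : G) • H.1, hS g g.2 H.1 H.2⟩
      one_smul := fun H => Subtype.ext (by
        show MulAut.conj ((1 : Q) : G) • H.1 = H.1
        rw [Subgroup.coe_one, map_one, one_smul])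
      mul_smul := fun g g' H => Subtype.ext (by
        show MulAut.conj ((g * g' : Q) : G) • H.1 = MulAut.conj (g : G) • (MulAut.conj (g' : G) • H.1)
        rw [Subgroup.coe_mul, map_mul, mul_smul]) }
  have h := hQ.card_modEq_card_fixedPoints (α := S)
  refine h.trans (congrArg (· % p) (Nat.card_congr
    { toFun := fun H => ⟨H.1.1, H.1.2, fun g hg => mem_normalizer_iff_map_conj_eq.mpr
        (congrArg Subtype.val (H.2 ⟨g, hg⟩))⟩
      invFun := fun H => ⟨⟨H.1, H.2.1⟩, fun g => Subtype.ext
        (mem_normalizer_iff_map_conj_eq.mp (H.2.2 g.2))⟩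
      left_inv := fun H => rfl
      right_inv := fun H => rfl }))

theorem card_le_sylow {Q : Subgroup G} (P : Sylow p G) (hQ : IsPGroup p Q) :
    Nat.card Q ≤ Nat.card P := by
  obtain ⟨T, hT⟩ := hQ.exists_le_sylow
  refine (Nat.le_of_dvd Nat.card_pos (card_dvd_of_le hT)).trans (le_of_eq ?_)
  rw [T.card_eq_multiplicity, P.card_eq_multiplicity]

/-- A `p`-subgroup normalised by a Sylow subgroup lies in it. -/
theorem le_of_normalized {H : Subgroup G} (P : Sylow p G) (hH : IsPGroup p H)
    (h : (P : Subgroup G) ≤ normalizer (H : Set G)) : H ≤ P := by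
  have := P.is_maximal' (P.isPGroup'.to_sup_of_normal_right' hH h) le_sup_left
  exact le_sup_right.trans this.le

/-- Normal subgroups of a given order inside a normalised subgroup. -/
theorem normal_count {Q M : Subgroup G} (hQ : IsPGroup p Q) (hM : IsPGroup p M)
    (hQM : Q ≤ normalizer (M : Set G)) {n a : ℕ} (hn : Nat.card M = p ^ n) (ha : a ≤ n) :
    (Nat.card {H : Subgroup G // (Nat.card H = p ^ a ∧ H ≤ M) ∧ Q ≤ normalizer (H : Set G)} :
      ZMod p) = 1 := by
  have h := invariant_mod hQ {H : Subgroup G | Nat.card H = p ^ a ∧ H ≤ M} (fun g hg H hH => ⟨?_, ?_⟩)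
  · have h1 : Nat.card ({H : Subgroup G | Nat.card H = p ^ a ∧ H ≤ M} : Set (Subgroup G)) =
        cnt M (p ^ a) := by
      classical
      haveI := Fintype.ofFinite (Subgroup G)
      rw [← card_filter_le, Finset.filter_filter, ← Fintype.card_subtype, ← Nat.card_eq_fintype_card]
      rfl
    have h2 := (ZMod.natCast_eq_natCast_iff _ _ _).mpr h
    rw [h1, cnt_mod n M hn a ha] at h2
    exact h2.symm
  · rw [← hH.1]
    exact (Nat.card_congr (H.equivMapOfInjective _ (MulAut.conj g).injective).toEquiv).symm
  · rintro _ ⟨x, hx, rfl⟩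
    exact (mem_normalizer_iff.mp (hQM hg) x).mp (hH.2 hx)

theorem cnt_sylow (P : Sylow p G) {a : ℕ} (ha : p ^ (a + 1) ∣ Nat.card G) :
    (cnt G (p ^ a) : ZMod (p ^ 2)) = cnt (P : Subgroup G) (p ^ a) := by
  classical
  haveI := Fintype.ofFinite (Subgroup G)
  obtain ⟨n, hn⟩ := P.isPGroup'.exists_card_eq
  have han : a + 1 ≤ n := by
    obtain ⟨T, hT⟩ := Sylow.exists_subgroup_card_pow_prime p ha
    have := card_le_sylow P (IsPGroup.of_card hT)
    rw [hT, hn] at this
    exact (Nat.pow_le_pow_iff_right hp.out.one_lt).mp this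
  set A := Finset.univ.filter fun H : Subgroup G => Nat.card H = p ^ a with hA
  set B := A.filter fun H : Subgroup G => ¬ H ≤ P with hB
  have hsplit : cnt G (p ^ a) = cnt (P : Subgroup G) (p ^ a) + B.card := by
    rw [cnt_eq_card_filter, ← card_filter_le (P : Subgroup G), ← hA, hB,
      Finset.card_filter_add_card_filter_not]
  suffices hdvd : p ^ 2 ∣ B.card by
    rw [hsplit, Nat.cast_add, (ZMod.natCast_eq_zero_iff _ _).mpr hdvd, add_zero]
  letI := conjAction (P : Subgroup G)
  have hsmul : ∀ (g : (P : Subgroup G)) (H : Subgroup G), g • H = MulAut.conj (g : G) • H :=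
    fun g H => rfl
  have hBinv : ∀ (g : (P : Subgroup G)) (H : Subgroup G), H ∈ B → g • H ∈ B := by
    intro g H hH
    simp only [hB, hA, Finset.mem_filter, Finset.mem_univ, true_and] at hH ⊢
    refine ⟨?_, fun hle => hH.2 fun x hx => ?_⟩
    · rw [← hH.1]
      exact (Nat.card_congr (H.equivMapOfInjective _ (MulAut.conj (g : G)).injective).toEquiv).symm
    · have h1 : (g : G) * x * (g : G)⁻¹ ∈ (P : Subgroup G) := hle ⟨x, hx, rfl⟩
      have h2 := mul_mem (mul_mem (inv_mem g.2) h1) g.2
      simpa [mul_assoc] using h2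
  have hstab : ∀ H : Subgroup G,
      MulAction.stabilizer (P : Subgroup G) H = (normalizer (H : Set G)).subgroupOf P := fun H => by
    ext g
    rw [MulAction.mem_stabilizer_iff, mem_subgroupOf, mem_normalizer_iff_map_conj_eq]
    rfl
  let ν : Subgroup G → ℕ := fun H => (normalizer (H : Set G)).relIndex P
  have horb : ∀ H : Subgroup G, (MulAction.orbit (P : Subgroup G) H).ncard = ν H := fun H => by
    rw [← MulAction.index_stabilizer, hstab]; rfl
  have hνinv : ∀ (g : (P : Subgroup G)) (H : Subgroup G), ν (g • H) = ν H := fun g H => by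
    rw [← horb, ← horb, MulAction.orbit_smul]
  set B1 := B.filter fun H => ν H = p with hB1
  set B2 := B.filter fun H => ¬ ν H = p with hB2
  have h12 : B.card = B1.card + B2.card := (Finset.card_filter_add_card_filter_not _).symm
  have hνB : ∀ H ∈ B, ν H ≠ 1 := by
    intro H hH h1
    simp only [hB, hA, Finset.mem_filter, Finset.mem_univ, true_and] at hH
    exact hH.2 (le_of_normalized P (IsPGroup.of_card hH.1) (relIndex_eq_one.mp h1))
  have hd2 : p ^ 2 ∣ B2.card := by
    rw [Finset.card_eq_sum_card_image (fun H => MulAction.orbit (P : Subgroup G) H)]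
    refine Finset.dvd_sum fun O hO => ?_
    obtain ⟨H, hH, rfl⟩ := Finset.mem_image.mp hO
    obtain ⟨hHB, hHν⟩ := Finset.mem_filter.mp hH
    have hfib : (B2.filter fun H' => MulAction.orbit (P : Subgroup G) H' =
        MulAction.orbit (P : Subgroup G) H).card = ν H := by
      rw [← horb, ← Set.ncard_coe_finset]
      congr 1
      ext H'
      simp only [Finset.coe_filter, Set.mem_setOf_eq]
      constructor
      · rintro ⟨-, h⟩
        exact h ▸ MulAction.mem_orbit_self H'
      · intro h
        obtain ⟨g, rfl⟩ := h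
        refine ⟨Finset.mem_filter.mpr ⟨hBinv g H hHB, ?_⟩, MulAction.orbit_smul g H⟩
        show ¬ ν (g • H) = p
        rwa [hνinv]
    rw [hfib]
    obtain ⟨e, -, he⟩ := (Nat.dvd_prime_pow hp.out).mp (show ν H ∣ p ^ n from hn ▸ relIndex_dvd_card _ _)
    rw [he] at hHν
    have h0 := hνB H hHB
    rw [he] at h0
    rw [he]
    refine pow_dvd_pow p ?_
    by_contra hlt
    interval_cases e <;> simp_all
  have hd1 : p ^ 2 ∣ B1.card := by
    let f : Subgroup G → Subgroup G := fun H => (P : Subgroup G) ⊓ normalizer (H : Set G) ⊔ H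
    set PS := B1.image f with hPS
    rw [Finset.card_eq_sum_card_image f, ← hPS]
    have hfacts : ∀ H ∈ B1, Nat.card (f H) = p ^ n ∧ IsPGroup p (f H) ∧
        (P : Subgroup G) ⊓ f H = (P : Subgroup G) ⊓ normalizer (H : Set G) ∧
        f H ≤ normalizer (H : Set G) ∧
        Nat.card ((P : Subgroup G) ⊓ normalizer (H : Set G) : Subgroup G) = p ^ (n - 1) := by
      intro H hH
      obtain ⟨hHB, hν⟩ := Finset.mem_filter.mp hH
      simp only [hB, hA, Finset.mem_filter, Finset.mem_univ, true_and] at hHB
      set M := (P : Subgroup G) ⊓ normalizer (H : Set G) with hM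
      have hMc : Nat.card M = p ^ (n - 1) := by
        have h1 : M.relIndex P = p := by rw [hM, inf_relIndex_left]; exact hν
        have h2 := card_mul_index (M.subgroupOf P)
        rw [Nat.card_congr (subgroupOfEquivOfLe (inf_le_left : M ≤ P)).toEquiv,
          show (M.subgroupOf P).index = p from h1, hn,
          show p ^ n = p ^ (n - 1) * p by rw [← pow_succ]; congr 1; omega] at h2
        exact Nat.eq_of_mul_eq_mul_right hp.out.pos h2
      have hfp : IsPGroup p (f H) := by
        show IsPGroup p (M ⊔ H : Subgroup G)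
        exact (P.isPGroup'.to_le (inf_le_left : M ≤ P)).to_sup_of_normal_right'
          (IsPGroup.of_card hHB.1) inf_le_right
      have hfc : Nat.card (f H) = p ^ n := by
        obtain ⟨j, hj⟩ := hfp.exists_card_eq
        have hle := card_le_sylow P hfp
        rw [hj, hn] at hle
        have hjn := (Nat.pow_le_pow_iff_right hp.out.one_lt).mp hle
        have hgt : n - 1 < j := by
          by_contra hlt
          refine hHB.2 (le_trans ?_ (inf_le_left : M ≤ P))
          have he : M = f H := eq_of_le_of_card_ge le_sup_left (by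
            rw [hj, hMc]; exact Nat.pow_le_pow_right hp.out.pos (by omega))
          exact le_sup_right.trans he.ge
        rw [hj]; congr 1; omega
      refine ⟨hfc, hfp, (eq_of_le_of_card_ge (le_inf inf_le_left le_sup_left) ?_).symm,
        sup_le inf_le_right le_normalizer, hMc⟩
      have hlt : (P : Subgroup G) ⊓ f H < f H := lt_of_le_of_ne inf_le_right fun e =>
        hHB.2 ((le_sup_right : H ≤ f H).trans (inf_eq_right.mp e))
      obtain ⟨j, hj⟩ := (hfp.to_le hlt.le).exists_card_eq
      have h3 : Nat.card ((P : Subgroup G) ⊓ f H : Subgroup G) < p ^ n := by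
        rw [← hfc]
        exact lt_of_le_of_ne (card_le_of_le hlt.le) fun e => hlt.ne (eq_of_le_of_card_ge hlt.le e.ge)
      rw [hMc, hj]
      rw [hj] at h3
      exact Nat.pow_le_pow_right hp.out.pos
        (by have := (Nat.pow_lt_pow_iff_right hp.out.one_lt).mp h3; omega)
    let F : Subgroup G → ℕ := fun P' => (B1.filter fun H => f H = P').card
    have hF : ∀ P' ∈ PS, (F P' : ZMod p) = 0 := by
      intro P' hP'
      obtain ⟨H0, hH0, rfl⟩ := Finset.mem_image.mp hP'
      obtain ⟨hc0, hp0, hi0, hn0, hm0⟩ := hfacts H0 hH0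
      set P' := f H0
      set M := (P : Subgroup G) ⊓ P' with hMdef
      have hMc : Nat.card M = p ^ (n - 1) :=
        (congrArg (fun X : Subgroup G => Nat.card X) hi0).trans hm0
      have hMrel : M.relIndex P' = p := by
        have h2 := card_mul_index (M.subgroupOf P')
        rw [Nat.card_congr (subgroupOfEquivOfLe (inf_le_right : M ≤ P')).toEquiv, hMc, hc0,
          show p ^ n = p ^ (n - 1) * p by rw [← pow_succ]; congr 1; omega] at h2
        exact Nat.eq_of_mul_eq_mul_left (pow_pos hp.out.pos _) h2
      have hMn : P' ≤ normalizer (M : Set G) := by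
        have hc : IsCoatom (M.subgroupOf P') := (isCoatom_iff_index hp0 _).mpr hMrel
        exact (normal_subgroupOf_iff_le_normalizer inf_le_right).mp
          (Frattini.normal_of_isCoatom hp0 hc)
      have hall := normal_count hp0 hp0 le_normalizer hc0 (show a ≤ n by omega)
      have hin := normal_count hp0 (hp0.to_le inf_le_right) hMn hMc (show a ≤ n - 1 by omega)
      have hset : Nat.card {H : Subgroup G // (Nat.card H = p ^ a ∧ H ≤ P') ∧ P' ≤ normalizer (H : Set G)} =
          Nat.card {H : Subgroup G // (Nat.card H = p ^ a ∧ H ≤ M) ∧ P' ≤ normalizer (H : Set G)} +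
          F P' := by
        simp only [Nat.card_eq_fintype_card, Fintype.card_subtype]
        rw [← Finset.card_union_of_disjoint]
        · congr 1
          ext H
          simp only [Finset.mem_filter, Finset.mem_univ, true_and, Finset.mem_union]
          constructor
          · rintro ⟨⟨hc, hle⟩, hnH⟩
            by_cases hHM : H ≤ M
            · exact Or.inl ⟨⟨hc, hHM⟩, hnH⟩
            refine Or.inr ?_
            have hHP : ¬ H ≤ P := fun h => hHM (le_inf h hle)
            have hHB : H ∈ B := by simp [hB, hA, hc, hHP]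
            have hMN : M ≤ (P : Subgroup G) ⊓ normalizer (H : Set G) :=
              le_inf inf_le_left (inf_le_right.trans hnH)
            have hNM : (P : Subgroup G) ⊓ normalizer (H : Set G) = M := by
              refine (eq_of_le_of_card_ge hMN ?_).symm
              obtain ⟨j, hj⟩ :=
                (P.isPGroup'.to_le (inf_le_left : (P : Subgroup G) ⊓ normalizer (H : Set G) ≤ P)).exists_card_eq
              rw [hj, hMc]
              refine Nat.pow_le_pow_right hp.out.pos ?_
              by_contra hlt
              refine hνB H hHB (relIndex_eq_one.mpr ?_)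
              have h4 : (P : Subgroup G) ⊓ normalizer (H : Set G) = P :=
                eq_of_le_of_card_ge inf_le_left (by
                  rw [hj, hn]; exact Nat.pow_le_pow_right hp.out.pos (by omega))
              exact inf_eq_left.mp h4
            have hν : ν H = p := by
              show (normalizer (H : Set G)).relIndex P = p
              rw [← inf_relIndex_left, hNM]
              have h2 := card_mul_index (M.subgroupOf P)
              rw [Nat.card_congr (subgroupOfEquivOfLe (inf_le_left : M ≤ P)).toEquiv, hMc, hn,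
                show p ^ n = p ^ (n - 1) * p by rw [← pow_succ]; congr 1; omega] at h2
              exact Nat.eq_of_mul_eq_mul_left (pow_pos hp.out.pos _) h2
            have hH1 : H ∈ B1 := Finset.mem_filter.mpr ⟨hHB, hν⟩
            refine Finset.mem_filter.mp (Finset.mem_filter.mpr ⟨hH1, ?_⟩ :
              H ∈ B1.filter fun H => f H = P')
            refine eq_of_le_of_card_ge ?_ (by rw [hc0, (hfacts H hH1).1])
            show (P : Subgroup G) ⊓ normalizer (H : Set G) ⊔ H ≤ P'
            rw [hNM]; exact sup_le inf_le_right hle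
          · rintro (⟨⟨hc, hle⟩, hnH⟩ | ⟨hH, hfH⟩)
            · exact ⟨⟨hc, hle.trans inf_le_right⟩, hnH⟩
            · obtain ⟨-, -, -, hn1, -⟩ := hfacts H hH
              have hc : Nat.card H = p ^ a := by
                simp only [hB1, hB, hA, Finset.mem_filter] at hH; exact hH.1.1.2
              exact ⟨⟨hc, hfH ▸ le_sup_right⟩, hfH ▸ hn1⟩
        · rw [Finset.disjoint_left]
          intro H h1 h2
          obtain ⟨⟨-, h1⟩, -⟩ := (Finset.mem_filter.mp h1).2
          obtain ⟨h2, -⟩ := Finset.mem_filter.mp h2
          simp only [hB1, hB, Finset.mem_filter] at h2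
          exact h2.1.2 (h1.trans inf_le_left)
      have := congrArg (fun t : ℕ => (t : ZMod p)) hset
      push_cast at this
      rw [hall, hin] at this
      simpa using this
    have hequi : ∀ (g : (P : Subgroup G)) (H : Subgroup G), f (g • H) = g • f H := by
      intro g H
      show (P : Subgroup G) ⊓ normalizer ((g • H : Subgroup G) : Set G) ⊔ (g • H) =
        ((P : Subgroup G) ⊓ normalizer (H : Set G) ⊔ H).map (MulAut.conj (g : G)).toMonoidHom
      rw [Subgroup.map_sup, Subgroup.map_inf _ _ _ (MulAut.conj (g : G)).injective]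
      have h1 : (P : Subgroup G).map (MulAut.conj (g : G)).toMonoidHom = P :=
        mem_normalizer_iff_map_conj_eq.mp (le_normalizer g.2)
      have h2 : (normalizer (H : Set G)).map (MulAut.conj (g : G)).toMonoidHom =
          normalizer ((g • H : Subgroup G) : Set G) :=
        H.map_equiv_normalizer_eq (MulAut.conj (g : G))
      rw [h1, h2]; rfl
    have hB1inv : ∀ (g : (P : Subgroup G)) (H : Subgroup G), H ∈ B1 → g • H ∈ B1 := fun g H hH =>
      Finset.mem_filter.mpr ⟨hBinv g H (Finset.mem_filter.mp hH).1,
        (hνinv g H).trans (Finset.mem_filter.mp hH).2⟩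
    have hFinv : ∀ (g : (P : Subgroup G)) (P' : Subgroup G), F (g • P') = F P' := by
      intro g P'
      refine (Finset.card_bij' (fun H _ => g • H) (fun H _ => g⁻¹ • H) ?_ ?_ ?_ ?_).symm
      · intro H hH
        obtain ⟨h1, h2⟩ := Finset.mem_filter.mp hH
        exact Finset.mem_filter.mpr ⟨hB1inv g H h1, by rw [hequi, h2]⟩
      · intro H hH
        obtain ⟨h1, h2⟩ := Finset.mem_filter.mp hH
        exact Finset.mem_filter.mpr ⟨hB1inv g⁻¹ H h1, by rw [hequi, h2, inv_smul_smul]⟩
      · intro H _; exact inv_smul_smul g H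
      · intro H _; exact smul_inv_smul g H
    have hnofix : ∀ P' ∈ PS, ¬ (P : Subgroup G) ≤ normalizer (P' : Set G) := by
      intro P' hP' hle
      obtain ⟨H0, hH0, rfl⟩ := Finset.mem_image.mp hP'
      have h2 := le_sup_right.trans (le_of_normalized P (hfacts H0 hH0).2.1 hle)
      simp only [hB1, hB, Finset.mem_filter] at hH0
      exact hH0.1.2 h2
    rw [← Finset.sum_fiberwise_of_maps_to (t := PS.image F) (g := F)
      (fun x hx => Finset.mem_image_of_mem F hx)]
    refine Finset.dvd_sum fun c hc => ?_
    rw [Finset.sum_congr rfl (g := fun _ => c) (fun P' hP' => (Finset.mem_filter.mp hP').2),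
      Finset.sum_const, smul_eq_mul, pow_two]
    obtain ⟨P0, hP0, rfl⟩ := Finset.mem_image.mp hc
    refine Nat.mul_dvd_mul ?_ ((ZMod.natCast_eq_zero_iff _ _).mp (hF P0 hP0))
    set T := PS.filter fun P' => F P' = F P0 with hT
    have h1 := invariant_mod P.isPGroup' (T : Set (Subgroup G)) (fun g hg H hH => by
      obtain ⟨h1, h2⟩ := Finset.mem_filter.mp (Finset.mem_coe.mp hH)
      obtain ⟨H1, hH1, rfl⟩ := Finset.mem_image.mp h1
      show (⟨g, hg⟩ : (P : Subgroup G)) • f H1 ∈ (T : Set (Subgroup G))
      exact Finset.mem_coe.mpr (Finset.mem_filter.mpr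
        ⟨hequi ⟨g, hg⟩ H1 ▸ Finset.mem_image_of_mem f (hB1inv _ H1 hH1), (hFinv _ _).trans h2⟩))
    haveI : IsEmpty {H : Subgroup G // H ∈ (T : Set (Subgroup G)) ∧
        (P : Subgroup G) ≤ normalizer (H : Set G)} :=
      ⟨fun H => hnofix H.1 (Finset.mem_filter.mp (Finset.mem_coe.mp H.2.1)).1 H.2.2⟩
    rw [Nat.card_of_isEmpty (α := {H : Subgroup G // H ∈ (T : Set (Subgroup G)) ∧
        (P : Subgroup G) ≤ normalizer (H : Set G)}), Nat.card_coe_set_eq, Set.ncard_coe_finset] at h1
    exact Nat.modEq_zero_iff_dvd.mp h1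
  rw [h12]
  exact dvd_add hd1 hd2

end CfsgLib.PGroup.SubgroupCountSylow
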