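import Mathlib
import Cfsg.Agent.Lib.LocalEven.Residual
import Cfsg.Agent.Lib.Frobenius.Zipper
import Cfsg.Agent.Lib.Solvable.Cores
import Cfsg.Agent.Lib.PGroup.SubgroupCountSylow

/-!
The subnormalizer of a `p`-subgroup and Casolo's counting theorem.
-/

set_option autoImplicit false
set_option linter.style.haveILetI false

namespace CfsgLib.PGroup.Subnormalizer

open Subgroup

/-- `g` normalizes a `p`-subgroup containing `H`. -/
def Sub (p : ℕ) {G : Type*} [Group G] (H : Subgroup G) (g : G) : Prop :=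
  ∃ R : Subgroup G, IsPGroup p R ∧ H ≤ R ∧ g ∈ normalizer (R : Set G)

theorem Sub.mono {p : ℕ} {G : Type*} [Group G] {H K : Subgroup G} (h : H ≤ K) {g : G}
    (hg : Sub p K g) : Sub p H g :=
  hg.imp fun _ ⟨h1, h2, h3⟩ => ⟨h1, h.trans h2, h3⟩

variable {p : ℕ} [hp : Fact p.Prime] {G : Type*} [Group G] [Finite G]

theorem zpowers_le_normalizer_of_mem {R : Subgroup G} {g : G} (hg : g ∈ normalizer (R : Set G)) :
    zpowers g ≤ normalizer (R : Set G) :=
  zpowers_le.mpr hg

theorem sub_iff_isSubnormal {H : Subgroup G} (hH : IsPGroup p H) (g : G) :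
    (H.subgroupOf (H ⊔ zpowers g)).IsSubnormal ↔ Sub p H g := by
  set J := H ⊔ zpowers g
  constructor
  · intro h
    have h1 : H.subgroupOf J ≤ Cfsg.pCore p J :=
      LocalEven.Residual.le_pCore_of_isSubnormal h
        (hH.of_equiv (subgroupOfEquivOfLe (le_sup_left : H ≤ J)).symm)
    refine ⟨(Cfsg.pCore p J).map J.subtype, (CfsgLib.Solvable.Cores.isPGroup_pCore p).map _,
      fun x hx => ⟨⟨x, mem_sup_left hx⟩, h1 hx, rfl⟩, ?_⟩
    refine (normal_subgroupOf_iff_le_normalizer (map_subtype_le _)).mp ?_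
      (mem_sup_right (mem_zpowers g) : g ∈ J)
    rw [subgroupOf, comap_map_eq_self_of_injective J.subtype_injective]
    infer_instance
  · rintro ⟨R, hR, hHR, hg⟩
    have hJN : J ≤ normalizer (R : Set G) :=
      sup_le (hHR.trans le_normalizer) (zpowers_le.mpr hg)
    have hn : (R.subgroupOf J).Normal := normal_subgroupOf_of_le_normalizer hJN
    have hnil : Group.IsNilpotent (R.subgroupOf J) :=
      (show IsPGroup p (R.subgroupOf J) from hR.comap_of_injective J.subtype J.subtype_injective).isNilpotent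
    exact IsSubnormal.trans (K := R.subgroupOf J) (comap_mono hHR)
      (CfsgLib.Frobenius.Zipper.isSubnormal_of_isNilpotent _) hn.isSubnormal

open scoped Classical in
/-- The Möbius function of the `p`-subgroup lattice above `H`. -/
noncomputable def mu {G : Type*} [Group G] [Finite G] [Fintype (Subgroup G)] (H K : Subgroup G) :
    ℤ :=
  if K = H then 1 else
    -∑ L : {L : Subgroup G // H ≤ L ∧ L < K}, mu H L.1
termination_by Nat.card K
decreasing_by
  exact lt_of_le_of_ne (card_le_of_le L.2.2.le) fun e =>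
    L.2.2.ne (eq_of_le_of_card_ge L.2.2.le e.ge)

theorem sum_mu [Fintype (Subgroup G)] [DecidableEq (Subgroup G)]
    [DecidableLE (Subgroup G)] {H M : Subgroup G} (hle : H ≤ M) (hne : M ≠ H) :
    ∑ L ∈ Finset.univ.filter (fun L : Subgroup G => H ≤ L ∧ L ≤ M), mu H L = 0 := by
  classical
  have h1 : (Finset.univ.filter fun L : Subgroup G => H ≤ L ∧ L ≤ M) =
      insert M (Finset.univ.filter fun L : Subgroup G => H ≤ L ∧ L < M) := by
    ext L
    simp only [Finset.mem_filter, Finset.mem_univ, true_and, Finset.mem_insert]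
    constructor
    · rintro ⟨h1, h2⟩
      exact h2.eq_or_lt.imp id fun h => ⟨h1, h⟩
    · rintro (rfl | ⟨h1, h2⟩)
      · exact ⟨hle, le_rfl⟩
      · exact ⟨h1, h2.le⟩
  rw [h1, Finset.sum_insert (fun h => lt_irrefl M (Finset.mem_filter.mp h).2.2), mu, if_neg hne,
    ← Finset.sum_subtype (p := fun L : Subgroup G => H ≤ L ∧ L < M)
      (Finset.univ.filter fun L : Subgroup G => H ≤ L ∧ L < M) (fun L => by simp)
      (fun L => mu H L), neg_add_cancel]

theorem ne_inf_normalizer {H R : Subgroup G} (hR : IsPGroup p R) (hHR : H ≤ R) (hne : R ≠ H) :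
    R ⊓ normalizer (H : Set G) ≠ H := by
  intro he
  have := hR.isNilpotent
  have hlt : H.subgroupOf R < ⊤ := lt_top_iff_ne_top.mpr fun h =>
    hne (le_antisymm (subgroupOf_eq_top.mp h) hHR)
  have h1 := Group.normalizerCondition_of_isNilpotent (H.subgroupOf R) hlt
  obtain ⟨x, hx, hxH⟩ := SetLike.exists_of_lt h1
  rw [← subgroupOf_normalizer_eq hHR, mem_subgroupOf] at hx
  exact hxH (show (x : G) ∈ H from he.le ⟨x.2, hx⟩)

/-- For `g` outside the normalizer, the alternating sum over its region vanishes. -/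
theorem sum_region_eq_zero [Fintype (Subgroup G)] [DecidableEq (Subgroup G)]
    {H : Subgroup G} {g : G} (hgN : g ∉ normalizer (H : Set G))
    [DecidablePred fun K : Subgroup G => (IsPGroup p K ∧ H ≤ K ∧ K ≤ normalizer (H : Set G)) ∧ Sub p K g] :
    ∑ K ∈ Finset.univ.filter (fun K : Subgroup G =>
      (IsPGroup p K ∧ H ≤ K ∧ K ≤ normalizer (H : Set G)) ∧ Sub p K g), mu H K = 0 := by
  classical
  set D := Finset.univ.filter fun K : Subgroup G =>
    (IsPGroup p K ∧ H ≤ K ∧ K ≤ normalizer (H : Set G)) ∧ Sub p K g with hD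
  let φ : Subgroup G → Subgroup G :=
    fun K => sInf {R : Subgroup G | K ≤ R ∧ g ∈ normalizer (R : Set G)}
  have hφg : ∀ K, g ∈ normalizer ((φ K : Subgroup G) : Set G) := by
    intro K
    refine mem_normalizer_iff.mpr fun x => ?_
    simp only [φ, mem_sInf, Set.mem_setOf_eq]
    refine forall₂_congr fun R hR => ?_
    exact mem_normalizer_iff.mp hR.2 x
  have hφle : ∀ K : Subgroup G, K ≤ φ K := fun K => le_sInf fun R hR => hR.1
  have hφmin : ∀ K R : Subgroup G, K ≤ R → g ∈ normalizer (R : Set G) → φ K ≤ R := fun K R h1 h2 =>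
    sInf_le ⟨h1, h2⟩
  have hφp : ∀ K ∈ D, IsPGroup p (φ K) := fun K hK => by
    obtain ⟨R, hR, hKR, hg⟩ := (Finset.mem_filter.mp hK).2.2
    exact hR.to_le (hφmin K R hKR hg)
  have key : ∀ (n : ℕ) (R : Subgroup G), Nat.card R = n →
      ∑ K ∈ D.filter (fun K => φ K = R), mu H K = 0 := by
    intro n
    induction n using Nat.strong_induction_on with
    | h n ih =>
    intro R hR
    rcases (D.filter fun K => φ K = R).eq_empty_or_nonempty with he | ⟨K0, hK0⟩
    · rw [he, Finset.sum_empty]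
    obtain ⟨hK0D, rfl⟩ := Finset.mem_filter.mp hK0
    have hRp := hφp K0 hK0D
    have hHR : H ≤ φ K0 := (Finset.mem_filter.mp hK0D).2.1.2.1.trans (hφle K0)
    have hRne : φ K0 ≠ H := fun e => hgN (e ▸ hφg K0)
    have h1 : D.filter (fun K => K ≤ φ K0) =
        Finset.univ.filter fun K : Subgroup G => H ≤ K ∧ K ≤ φ K0 ⊓ normalizer (H : Set G) := by
      ext K
      simp only [hD, Finset.mem_filter, Finset.mem_univ, true_and, le_inf_iff]
      constructor
      · rintro ⟨⟨⟨-, h1, h2⟩, -⟩, h3⟩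
        exact ⟨h1, h3, h2⟩
      · rintro ⟨h1, h2, h3⟩
        exact ⟨⟨⟨hRp.to_le h2, h1, h3⟩, φ K0, hRp, h2, hφg K0⟩, h2⟩
    have h2 : ∑ K ∈ D.filter (fun K => K ≤ φ K0), mu H K = 0 := by
      rw [h1]
      exact sum_mu (le_inf hHR le_normalizer) (ne_inf_normalizer hRp hHR hRne)
    rw [← Finset.sum_filter_add_sum_filter_not (D.filter fun K => K ≤ φ K0)
      (fun K => φ K = φ K0)] at h2
    simp only [Finset.filter_filter] at h2
    have h3 : ∑ K ∈ D.filter (fun K => K ≤ φ K0 ∧ ¬ φ K = φ K0), mu H K = 0 := by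
      rw [← Finset.sum_fiberwise_of_maps_to (g := φ)
        (t := (D.filter fun K => K ≤ φ K0 ∧ ¬ φ K = φ K0).image φ)
        (fun x hx => Finset.mem_image_of_mem φ hx)]
      refine Finset.sum_eq_zero fun R' hR' => ?_
      obtain ⟨K, hK, rfl⟩ := Finset.mem_image.mp hR'
      obtain ⟨hKD, hKle, hKne⟩ := Finset.mem_filter.mp hK
      have hlt : φ K < φ K0 := lt_of_le_of_ne (hφmin K _ hKle (hφg K0)) hKne
      have hcl : Nat.card (φ K) < n := hR ▸ lt_of_le_of_ne (card_le_of_le hlt.le) fun e =>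
        hlt.ne (eq_of_le_of_card_ge hlt.le e.ge)
      have hz := ih _ hcl (φ K) rfl
      rw [Finset.filter_filter]
      refine Eq.trans (Finset.sum_congr (Finset.filter_congr fun L _ => ?_) fun _ _ => rfl) hz
      exact ⟨fun h => h.2, fun h => ⟨⟨(hφle L).trans (h.le.trans hlt.le), fun e => hKne (h ▸ e)⟩, h⟩⟩
    rw [h3, add_zero] at h2
    refine Eq.trans (Finset.sum_congr (Finset.filter_congr fun L _ => ?_) fun _ _ => rfl) h2
    exact ⟨fun h => ⟨h ▸ hφle L, h⟩, fun h => h.2⟩
  rw [← Finset.sum_fiberwise_of_maps_to (g := φ) (t := D.image φ)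
    (fun x hx => Finset.mem_image_of_mem φ hx)]
  exact Finset.sum_eq_zero fun R _ => key _ R rfl

universe u

/-- Casolo's theorem: `|S(H)|` is the number of Sylow subgroups above `H` times `|N(P)|`. -/
theorem card_sub : ∀ (d : ℕ) (G : Type u) [Group G] [Finite G] (P : Sylow p G) (H : Subgroup G),
    IsPGroup p H → Nat.card P / Nat.card H = d →
    (Nat.card {g : G // Sub p H g} : ℤ) =
      Nat.card {Q : Sylow p G // H ≤ (Q : Subgroup G)} *
        Nat.card (normalizer ((P : Subgroup G) : Set G)) := by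
  intro d
  induction d using Nat.strong_induction_on with
  | h d ih =>
  intro G _ _ P H hH hd
  classical
  have hPc : ∀ Q : Sylow p G, Nat.card Q = Nat.card P := fun Q => by
    rw [Q.card_eq_multiplicity, P.card_eq_multiplicity]
  by_cases hsyl : Nat.card H = Nat.card P
  · obtain ⟨Q0, hQ0⟩ := hH.exists_le_sylow
    have hQ0H : (Q0 : Subgroup G) = H := (eq_of_le_of_card_ge hQ0 (by rw [hPc, hsyl])).symm
    have h1 : Nat.card {Q : Sylow p G // H ≤ (Q : Subgroup G)} = 1 := by
      rw [Nat.card_eq_one_iff_unique]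
      refine ⟨⟨fun a b => Subtype.ext (Sylow.ext ?_)⟩, ⟨⟨Q0, hQ0⟩⟩⟩
      exact (eq_of_le_of_card_ge a.2 (by rw [hPc, hsyl])).symm.trans
        (eq_of_le_of_card_ge b.2 (by rw [hPc, hsyl]))
    have h2 : Nat.card {g : G // Sub p H g} = Nat.card (normalizer (H : Set G)) :=
      Nat.card_congr (Equiv.subtypeEquivRight fun g =>
        ⟨fun ⟨R, hR, hHR, hg⟩ => by
          have : H = R := eq_of_le_of_card_ge hHR
            (hsyl ▸ SubgroupCountSylow.card_le_sylow P hR)
          rw [this]; exact hg,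
        fun hg => ⟨H, hH, le_rfl, hg⟩⟩)
    have h3 : Nat.card (normalizer (H : Set G)) = Nat.card (normalizer ((P : Subgroup G) : Set G)) := by
      have e1 := (normalizer ((Q0 : Subgroup G) : Set G)).card_mul_index
      rw [← (normalizer ((P : Subgroup G) : Set G)).card_mul_index,
        show (normalizer ((Q0 : Subgroup G) : Set G)).index = Nat.card (Sylow p G) from
          (Sylow.card_eq_index_normalizer Q0).symm,
        show (normalizer ((P : Subgroup G) : Set G)).index = Nat.card (Sylow p G) from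
          (Sylow.card_eq_index_normalizer P).symm, hQ0H] at e1
      exact Nat.eq_of_mul_eq_mul_right Nat.card_pos e1
    rw [h1, h2, h3]; simp
  haveI := Fintype.ofFinite (Subgroup G)
  haveI := Fintype.ofFinite G
  haveI := Fintype.ofFinite (Sylow p G)
  set N := normalizer (H : Set G) with hN
  set E := Finset.univ.filter fun K : Subgroup G => IsPGroup p K ∧ H ≤ K ∧ K ≤ N with hE
  have hHP : Nat.card H < Nat.card P :=
    lt_of_le_of_ne (SubgroupCountSylow.card_le_sylow P hH) hsyl
  have hQne : ∀ Q : Sylow p G, (Q : Subgroup G) ≠ H := fun Q e => hHP.ne (e ▸ hPc Q)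
  -- the right hand side satisfies the recursion
  have hT : ∑ K ∈ E, mu H K *
      (Nat.card {Q : Sylow p G // K ≤ (Q : Subgroup G)} : ℤ) = 0 := by
    simp_rw [Nat.card_eq_fintype_card, Fintype.card_subtype, Finset.natCast_card_filter,
      Finset.mul_sum, mul_ite, mul_one, mul_zero]
    rw [Finset.sum_comm]
    refine Finset.sum_eq_zero fun Q _ => ?_
    rw [← Finset.sum_filter, hE, Finset.filter_filter]
    by_cases hHQ : H ≤ (Q : Subgroup G)
    · refine Eq.trans (Finset.sum_congr (Finset.filter_congr fun K _ => ?_) fun _ _ => rfl)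
        (sum_mu (M := (Q : Subgroup G) ⊓ N) (le_inf hHQ le_normalizer)
          (ne_inf_normalizer Q.isPGroup' hHQ (hQne Q)))
      rw [le_inf_iff]
      exact ⟨fun h => ⟨h.1.2.1, h.2, h.1.2.2⟩, fun h => ⟨⟨Q.isPGroup'.to_le h.2.1, h.1, h.2.2⟩, h.2.1⟩⟩
    · rw [Finset.filter_false_of_mem, Finset.sum_empty]
      exact fun K _ h => hHQ (h.1.2.1.trans h.2)
  -- the sum for the left hand side is concentrated on the normalizer
  have hswap : ∑ K ∈ E, mu H K * (Nat.card {g : G // Sub p K g} : ℤ) =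
      ∑ K ∈ E, mu H K * (Nat.card {g : G // g ∈ N ∧ Sub p K g} : ℤ) := by
    simp_rw [Nat.card_eq_fintype_card, Fintype.card_subtype, Finset.natCast_card_filter,
      Finset.mul_sum, mul_ite, mul_one, mul_zero]
    rw [Finset.sum_comm, Finset.sum_comm (s := E)]
    refine Finset.sum_congr rfl fun g _ => ?_
    by_cases hg : g ∈ N
    · exact Finset.sum_congr rfl fun K _ => by simp [hg]
    · rw [← Finset.sum_filter, hE, Finset.filter_filter, sum_region_eq_zero hg,
        Finset.sum_eq_zero]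
      intro K _
      simp [hg]
  let PN : Sylow p N := default
  have hHN : H ≤ N := le_normalizer
  obtain ⟨R0, hR0⟩ := hH.exists_le_sylow
  have hbig : Nat.card H < Nat.card PN := by
    have hle : H ≤ (R0 : Subgroup G) ⊓ N := le_inf hR0 hHN
    have h1 : Nat.card H < Nat.card ((R0 : Subgroup G) ⊓ N : Subgroup G) :=
      lt_of_le_of_ne (card_le_of_le hle) fun e => ne_inf_normalizer R0.isPGroup' hR0 (hQne R0)
        (eq_of_le_of_card_ge hle e.ge).symm
    refine h1.trans_le ?_
    have h2 := SubgroupCountSylow.card_le_sylow PN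
      ((R0.isPGroup'.to_le (inf_le_left : (R0 : Subgroup G) ⊓ N ≤ R0)).of_equiv
        (subgroupOfEquivOfLe (inf_le_right : (R0 : Subgroup G) ⊓ N ≤ N)).symm)
    rwa [Nat.card_congr (subgroupOfEquivOfLe (inf_le_right : (R0 : Subgroup G) ⊓ N ≤ N)).toEquiv] at h2
  have hPNle : Nat.card PN ≤ Nat.card P := by
    have := SubgroupCountSylow.card_le_sylow P (PN.isPGroup'.map N.subtype)
    rwa [← Nat.card_congr ((PN : Subgroup N).equivMapOfInjective _ N.subtype_injective).toEquiv] at this
  have hsubN : ∀ K ∈ E, Nat.card {g : G // g ∈ N ∧ Sub p K g} =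
      Nat.card {g : N // Sub p (K.subgroupOf N) g} := by
    intro K hK
    obtain ⟨hKp, hHK, hKN⟩ := (Finset.mem_filter.mp hK).2
    refine Nat.card_congr
      { toFun := fun g => ⟨⟨g.1, g.2.1⟩, ?_⟩
        invFun := fun g => ⟨g.1.1, g.1.2, ?_⟩
        left_inv := fun g => rfl
        right_inv := fun g => rfl }
    · obtain ⟨R, hR, hKR, hg⟩ := g.2.2
      refine ⟨R.subgroupOf N, hR.comap_of_injective N.subtype N.subtype_injective,
        comap_mono hKR, mem_normalizer_iff.mpr fun x => ?_⟩
      exact mem_normalizer_iff.mp hg (x : G)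
    · obtain ⟨R, hR, hKR, hg⟩ := g.2
      refine ⟨R.map N.subtype, hR.map _, fun x hx => ⟨⟨x, hKN hx⟩, hKR hx, rfl⟩, ?_⟩
      rw [mem_normalizer_iff_map_conj_eq]
      rw [mem_normalizer_iff_map_conj_eq] at hg
      conv_rhs => rw [← hg]
      rw [Subgroup.map_map, Subgroup.map_map]
      rfl
  have hlt : ∀ K : Subgroup G, H ≤ K → K ≠ H → IsPGroup p K → ∀ c : ℕ, c ≤ Nat.card P →
      c / Nat.card K < d := by
    intro K hHK hne hKp c hc
    rw [← hd]
    refine lt_of_le_of_lt (Nat.div_le_div_right hc) ?_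
    have h1 : Nat.card H < Nat.card K :=
      lt_of_le_of_ne (card_le_of_le hHK) fun e => hne (eq_of_le_of_card_ge hHK e.ge).symm
    obtain ⟨i, hi⟩ := hH.exists_card_eq
    obtain ⟨j, hj⟩ := hKp.exists_card_eq
    obtain ⟨n, hn⟩ := P.isPGroup'.exists_card_eq
    rw [hi, hj] at h1
    rw [hi, hj, hn]
    have hij := (Nat.pow_lt_pow_iff_right hp.out.one_lt).mp h1
    have hjn : j ≤ n := (Nat.pow_le_pow_iff_right hp.out.one_lt).mp
      (by rw [← hj, ← hn]; exact SubgroupCountSylow.card_le_sylow P hKp)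
    rw [Nat.pow_div hjn hp.out.pos, Nat.pow_div (hij.le.trans hjn) hp.out.pos]
    exact Nat.pow_lt_pow_right hp.out.one_lt (by omega)
  have hfN : ∀ K ∈ E, (Nat.card {g : G // g ∈ N ∧ Sub p K g} : ℤ) =
      Nat.card {Q : Sylow p N // K.subgroupOf N ≤ (Q : Subgroup N)} *
        Nat.card (normalizer ((PN : Subgroup N) : Set N)) := by
    intro K hK
    obtain ⟨hKp, hHK, hKN⟩ := (Finset.mem_filter.mp hK).2
    rw [hsubN K hK]
    by_cases hKH : K = H
    · subst hKH
      haveI : (K.subgroupOf N).Normal := normal_subgroupOf_of_le_normalizer le_rfl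
      have hK' : IsPGroup p (K.subgroupOf N) := hKp.comap_of_injective N.subtype N.subtype_injective
      have hall : ∀ g : N, Sub p (K.subgroupOf N) g := fun g =>
        ⟨K.subgroupOf N, hK', le_rfl, by rw [normalizer_eq_top]; exact mem_top g⟩
      rw [Nat.card_congr (Equiv.subtypeUnivEquiv hall),
        Nat.card_congr (Equiv.subtypeUnivEquiv fun Q : Sylow p N =>
          ((LocalEven.Residual.le_pCore_of_isSubnormal (Normal.isSubnormal (H := K.subgroupOf N) inferInstance) hK').trans
            (CfsgLib.Solvable.Cores.pCore_le_sylow Q) : K.subgroupOf N ≤ (Q : Subgroup N))),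
        Sylow.card_eq_index_normalizer PN, ← Nat.cast_mul, mul_comm]
      exact congrArg Nat.cast (card_mul_index (normalizer ((PN : Subgroup N) : Set N))).symm
    · refine ih _ ?_ N PN (K.subgroupOf N) (hKp.comap_of_injective N.subtype N.subtype_injective) rfl
      rw [Nat.card_congr (subgroupOfEquivOfLe hKN).toEquiv]
      exact hlt K hHK hKH hKp _ hPNle
  have hTN : ∑ K ∈ E, mu H K *
      (Nat.card {Q : Sylow p N // K.subgroupOf N ≤ (Q : Subgroup N)} : ℤ) = 0 := by
    haveI := Fintype.ofFinite (Sylow p N)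
    simp_rw [Nat.card_eq_fintype_card, Fintype.card_subtype, Finset.natCast_card_filter,
      Finset.mul_sum, mul_ite, mul_one, mul_zero]
    rw [Finset.sum_comm]
    refine Finset.sum_eq_zero fun Q _ => ?_
    rw [← Finset.sum_filter, hE, Finset.filter_filter]
    have hQc : Nat.card ((Q : Subgroup N).map N.subtype) = Nat.card PN := by
      rw [← Nat.card_congr ((Q : Subgroup N).equivMapOfInjective _ N.subtype_injective).toEquiv,
        Q.card_eq_multiplicity, PN.card_eq_multiplicity]
    haveI : (H.subgroupOf N).Normal := normal_subgroupOf_of_le_normalizer le_rfl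
    have hHQ : H ≤ (Q : Subgroup N).map N.subtype := fun x hx => ⟨⟨x, hHN hx⟩,
      (LocalEven.Residual.le_pCore_of_isSubnormal (Normal.isSubnormal (H := H.subgroupOf N) inferInstance)
        (hH.comap_of_injective N.subtype N.subtype_injective)).trans
        (CfsgLib.Solvable.Cores.pCore_le_sylow Q) (show (⟨x, hHN hx⟩ : N) ∈ H.subgroupOf N from hx), rfl⟩
    refine Eq.trans (Finset.sum_congr (Finset.filter_congr fun K _ => ?_) fun _ _ => rfl)
      (sum_mu (M := (Q : Subgroup N).map N.subtype) hHQ fun e => by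
        rw [e] at hQc; exact hbig.ne hQc)
    constructor
    · exact fun h => ⟨h.1.2.1, fun x hx => ⟨⟨x, h.1.2.2 hx⟩, h.2 hx, rfl⟩⟩
    · rintro ⟨h1, h2⟩
      refine ⟨⟨(Q.isPGroup'.map N.subtype).to_le h2, h1, h2.trans (map_subtype_le _)⟩, fun x hx => ?_⟩
      obtain ⟨y, hy, hye⟩ := h2 (show (x : G) ∈ K from hx)
      rwa [N.subtype_injective hye] at hy
  have hS : ∑ K ∈ E, mu H K * (Nat.card {g : G // Sub p K g} : ℤ) = 0 := by
    rw [hswap, Finset.sum_congr rfl fun K hK => by rw [hfN K hK, ← mul_assoc], ← Finset.sum_mul,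
      hTN, zero_mul]
  have hHE : H ∈ E := Finset.mem_filter.mpr ⟨Finset.mem_univ _, hH, le_rfl, hHN⟩
  have hmu : mu H H = 1 := by rw [mu, if_pos rfl]
  rw [← Finset.add_sum_erase _ _ hHE, hmu, one_mul] at hS hT
  have hrest : ∀ K ∈ E.erase H, mu H K * (Nat.card {g : G // Sub p K g} : ℤ) =
      mu H K * (Nat.card {Q : Sylow p G // K ≤ (Q : Subgroup G)} : ℤ) *
        Nat.card (normalizer ((P : Subgroup G) : Set G)) := by
    intro K hK
    obtain ⟨hne, hKE⟩ := Finset.mem_erase.mp hK
    obtain ⟨hKp, hHK, -⟩ := (Finset.mem_filter.mp hKE).2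
    rw [ih _ (hlt K hHK hne hKp _ le_rfl) G P K hKp rfl, mul_assoc]
  rw [Finset.sum_congr rfl hrest, ← Finset.sum_mul] at hS
  linear_combination hS - (Nat.card (normalizer ((P : Subgroup G) : Set G)) : ℤ) * hT

/-- The intersection of the Sylow subgroups containing `H`. -/
noncomputable def sylowHull (p : ℕ) {G : Type*} [Group G] (H : Subgroup G) : Subgroup G :=
  sInf {K : Subgroup G | ∃ Q : Sylow p G, H ≤ (Q : Subgroup G) ∧ K = (Q : Subgroup G)}

/-- An element of the subnormalizer normalizes a radical subgroup above the hull. -/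
theorem exists_radical {H : Subgroup G} {g : G} (h : Sub p H g) :
    ∃ R : Subgroup G, H ≤ R ∧
      (Cfsg.pCore p (normalizer (R : Set G))).map (normalizer (R : Set G)).subtype = R ∧
      IsPGroup p R ∧ sylowHull p H ≤ R ∧ g ∈ normalizer (R : Set G) := by
  classical
  haveI := Fintype.ofFinite (Subgroup G)
  set S := Finset.univ.filter fun R : Subgroup G =>
    IsPGroup p R ∧ H ≤ R ∧ g ∈ normalizer (R : Set G) with hS
  obtain ⟨R0, hR0⟩ := h
  obtain ⟨R, hR, hmax⟩ := S.exists_max_image (fun R : Subgroup G => Nat.card R)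
    ⟨R0, Finset.mem_filter.mpr ⟨Finset.mem_univ _, hR0⟩⟩
  obtain ⟨hRp, hHR, hgR⟩ := (Finset.mem_filter.mp hR).2
  set N := normalizer (R : Set G)
  have hmaxR : ∀ T : Subgroup G, IsPGroup p T → R ≤ T → g ∈ normalizer (T : Set G) → T = R :=
    fun T hT hRT hgT => (eq_of_le_of_card_ge hRT
      (hmax T (Finset.mem_filter.mpr ⟨Finset.mem_univ _, hT, hHR.trans hRT, hgT⟩))).symm
  have hrad : (Cfsg.pCore p N).map N.subtype = R := by
    refine hmaxR _ ((CfsgLib.Solvable.Cores.isPGroup_pCore p).map _) (fun x hx => ?_) ?_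
    · haveI : (R.subgroupOf N).Normal := normal_subgroupOf_of_le_normalizer le_rfl
      exact ⟨⟨x, le_normalizer hx⟩, CfsgLib.Solvable.Cores.le_pCore (N := R.subgroupOf N)
        (hRp.comap_of_injective N.subtype N.subtype_injective)
        (show (⟨x, le_normalizer hx⟩ : N) ∈ R.subgroupOf N from hx), rfl⟩
    · refine (normal_subgroupOf_iff_le_normalizer (map_subtype_le _)).mp ?_ hgR
      rw [subgroupOf, comap_map_eq_self_of_injective N.subtype_injective]
      infer_instance
  refine ⟨R, hHR, hrad, hRp, ?_, hgR⟩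
  -- the hull of `R` is `R`
  set T := sylowHull p R with hT
  have hRT : R ≤ T := le_sInf fun K ⟨Q, hQ, hK⟩ => hK ▸ hQ
  obtain ⟨Q0, hQ0⟩ := hRp.exists_le_sylow
  have hTp : IsPGroup p T := Q0.isPGroup'.to_le (sInf_le ⟨Q0, hQ0, rfl⟩)
  have hgT : g ∈ normalizer (T : Set G) := by
    refine mem_normalizer_iff.mpr fun x => ?_
    have key : ∀ (u : G), u ∈ normalizer (R : Set G) → ∀ y ∈ T, u * y * u⁻¹ ∈ T := by
      intro u hu y hy
      simp only [hT, sylowHull, mem_sInf, Set.mem_setOf_eq] at hy ⊢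
      rintro K ⟨Q, hQ, rfl⟩
      have hq : R ≤ ((u⁻¹ • Q : Sylow p G) : Subgroup G) := fun r hr => by
        refine ⟨u * r * u⁻¹, hQ ((mem_normalizer_iff.mp hu r).mp hr), ?_⟩
        show u⁻¹ * (u * r * u⁻¹) * u⁻¹⁻¹ = r
        group
      obtain ⟨w, hw, hwe⟩ := hy _ ⟨u⁻¹ • Q, hq, rfl⟩
      have : u * y * u⁻¹ = w := by rw [← hwe]; show u * (u⁻¹ * w * u⁻¹⁻¹) * u⁻¹ = w; group
      rw [this]; exact hw
    exact ⟨key g hgR x, fun hx => by
      have := key g⁻¹ (inv_mem hgR) _ hx
      simpa [mul_assoc] using this⟩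
  have hTR : T = R := hmaxR T hTp hRT hgT
  rw [← hTR]
  exact le_sInf fun K ⟨Q, hQ, hK⟩ => sInf_le ⟨Q, hHR.trans hQ, hK⟩

/-- The elements conjugating `H` into `P`. -/
theorem card_conj_into (P : Sylow p G) (H : Subgroup G) :
    Nat.card {x : G // ∀ y ∈ H, x * y * x⁻¹ ∈ (P : Subgroup G)} =
      Nat.card {Q : Sylow p G // H ≤ (Q : Subgroup G)} *
        Nat.card (normalizer ((P : Subgroup G) : Set G)) := by
  classical
  cases nonempty_fintype G
  haveI := Fintype.ofFinite (Subgroup G)
  haveI := Fintype.ofFinite (Sylow p G)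
  set S := (Finset.univ : Finset G).filter fun x => ∀ y ∈ H, x * y * x⁻¹ ∈ (P : Subgroup G)
  have hb : ∀ (α : Type _) [DecidableEq α] (f : G → α) (c : ℕ)
      (_ : ∀ x ∈ S, (S.filter fun w => f w = f x).card = c),
      S.card = (S.image f).card * c := by
    intro α _ f c hc
    rw [Finset.card_eq_sum_card_image f, Finset.sum_congr rfl, Finset.sum_const, smul_eq_mul]
    intro a ha
    obtain ⟨x, hx, rfl⟩ := Finset.mem_image.mp ha
    exact hc x hx
  have h2 := hb (Sylow p G) (fun x => x⁻¹ • P)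
    (Nat.card (normalizer ((P : Subgroup G) : Set G))) (by
      intro x hx
      rw [Nat.card_eq_fintype_card, Fintype.card_subtype]
      refine Finset.card_bij' (fun w _ => w * x⁻¹) (fun n _ => n * x) ?_ ?_ ?_ ?_
      · intro w hw
        obtain ⟨-, hw⟩ := Finset.mem_filter.mp hw
        simp only [Finset.mem_filter, Finset.mem_univ, true_and]
        refine Sylow.smul_eq_iff_mem_normalizer.mp ?_
        rw [mul_smul, ← hw, smul_inv_smul]
      · intro n hn
        simp only [Finset.mem_filter, Finset.mem_univ, true_and] at hn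
        refine Finset.mem_filter.mpr ⟨Finset.mem_filter.mpr ⟨Finset.mem_univ _, fun y hy => ?_⟩, ?_⟩
        · have h3 := (mem_normalizer_iff.mp hn _).mp ((Finset.mem_filter.mp hx).2 y hy)
          simpa [mul_assoc] using h3
        · rw [mul_inv_rev, mul_smul, Sylow.smul_eq_iff_mem_normalizer.mpr (inv_mem hn)]
      · intro w _; exact inv_mul_cancel_right w x
      · intro n _; exact mul_inv_cancel_right n x)
  have himg2 : S.image (fun x => x⁻¹ • P) =
      Finset.univ.filter fun Q : Sylow p G => H ≤ (Q : Subgroup G) := by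
    ext Q
    simp only [Finset.mem_image, Finset.mem_filter, Finset.mem_univ, true_and, S]
    constructor
    · rintro ⟨x, hx, rfl⟩ y hy
      refine ⟨x * y * x⁻¹, hx y hy, ?_⟩
      show x⁻¹ * (x * y * x⁻¹) * x⁻¹⁻¹ = y
      group
    · intro hQ
      obtain ⟨x, hx⟩ := MulAction.exists_smul_eq G P Q
      refine ⟨x⁻¹, fun y hy => ?_, by rw [inv_inv, hx]⟩
      obtain ⟨w, hw, hwe⟩ := (hx ▸ hQ hy : y ∈ ((x • P : Sylow p G) : Subgroup G))
      have : x⁻¹ * y * x⁻¹⁻¹ = w := by rw [← hwe]; show x⁻¹ * (x * w * x⁻¹) * x⁻¹⁻¹ = w; group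
      rw [this]; exact hw
  rw [Nat.card_eq_fintype_card (α := {x : G // ∀ y ∈ H, x * y * x⁻¹ ∈ (P : Subgroup G)}),
    Fintype.card_subtype, Nat.card_eq_fintype_card (α := {Q : Sylow p G // H ≤ (Q : Subgroup G)}),
    Fintype.card_subtype, ← himg2]
  exact h2

/-- Conjugates of `H` inside `P` against Sylow subgroups above `H`. -/
theorem card_sylow_mul (P : Sylow p G) (H : Subgroup G) :
    Nat.card {Q : Sylow p G // H ≤ (Q : Subgroup G)} * Nat.card (normalizer ((P : Subgroup G) : Set G)) =
      Nat.card {K : Subgroup G // K ≤ (P : Subgroup G) ∧ ∃ g : G, K = H.map (MulAut.conj g).toMonoidHom} *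
        Nat.card (normalizer (H : Set G)) := by
  classical
  cases nonempty_fintype G
  haveI := Fintype.ofFinite (Subgroup G)
  haveI := Fintype.ofFinite (Sylow p G)
  set S := (Finset.univ : Finset G).filter fun x => ∀ y ∈ H, x * y * x⁻¹ ∈ (P : Subgroup G)
  have hb : ∀ (α : Type _) [DecidableEq α] (f : G → α) (c : ℕ)
      (_ : ∀ x ∈ S, (S.filter fun w => f w = f x).card = c),
      S.card = (S.image f).card * c := by
    intro α _ f c hc
    rw [Finset.card_eq_sum_card_image f, Finset.sum_congr rfl, Finset.sum_const, smul_eq_mul]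
    intro a ha
    obtain ⟨x, hx, rfl⟩ := Finset.mem_image.mp ha
    exact hc x hx
  have hK : (∀ x, x ∈ S ↔ H.map (MulAut.conj x).toMonoidHom ≤ (P : Subgroup G)) := fun x => by
    simp only [S, Finset.mem_filter, Finset.mem_univ, true_and]
    exact ⟨fun h => by rintro _ ⟨y, hy, rfl⟩; exact h y hy, fun h y hy => h ⟨y, hy, rfl⟩⟩
  have h1 := hb (Subgroup G) (fun x => H.map (MulAut.conj x).toMonoidHom)
    (Nat.card (normalizer (H : Set G))) (by
      intro x hx
      rw [Nat.card_eq_fintype_card, Fintype.card_subtype]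
      refine Finset.card_bij' (fun w _ => x⁻¹ * w) (fun n _ => x * n) ?_ ?_ ?_ ?_
      · intro w hw
        obtain ⟨-, hw⟩ := Finset.mem_filter.mp hw
        simp only [Finset.mem_filter, Finset.mem_univ, true_and]
        rw [mem_normalizer_iff_map_conj_eq]
        have h2 := congrArg (Subgroup.map (MulAut.conj x⁻¹).toMonoidHom) hw
        rw [Subgroup.map_map, Subgroup.map_map] at h2
        have e1 : (MulAut.conj x⁻¹).toMonoidHom.comp (MulAut.conj w).toMonoidHom =
            (MulAut.conj (x⁻¹ * w)).toMonoidHom := by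
          ext t; simp [mul_assoc]
        have e2 : (MulAut.conj x⁻¹).toMonoidHom.comp (MulAut.conj x).toMonoidHom = MonoidHom.id G := by
          ext t; simp [mul_assoc]
        rw [e1, e2, Subgroup.map_id] at h2
        exact h2
      · intro n hn
        simp only [Finset.mem_filter, Finset.mem_univ, true_and] at hn
        have hmap : H.map (MulAut.conj (x * n)).toMonoidHom = H.map (MulAut.conj x).toMonoidHom := by
          have e1 : (MulAut.conj (x * n)).toMonoidHom =
              (MulAut.conj x).toMonoidHom.comp (MulAut.conj n).toMonoidHom := by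
            ext t; simp [mul_assoc]
          rw [e1, ← Subgroup.map_map]
          congr 1
          exact mem_normalizer_iff_map_conj_eq.mp hn
        exact Finset.mem_filter.mpr ⟨(hK _).mpr (hmap ▸ (hK x).mp hx), hmap⟩
      · intro w _; exact mul_inv_cancel_left x w
      · intro n _; exact inv_mul_cancel_left x n)
  rw [← card_conj_into P H,
    Nat.card_eq_fintype_card (α := {x : G // ∀ y ∈ H, x * y * x⁻¹ ∈ (P : Subgroup G)}),
    Fintype.card_subtype,
    Nat.card_eq_fintype_card
      (α := {K : Subgroup G // K ≤ (P : Subgroup G) ∧ ∃ g : G, K = H.map (MulAut.conj g).toMonoidHom}),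
    Fintype.card_subtype]
  have himg1 : S.image (fun x => H.map (MulAut.conj x).toMonoidHom) =
      Finset.univ.filter fun K : Subgroup G =>
        K ≤ (P : Subgroup G) ∧ ∃ g : G, K = H.map (MulAut.conj g).toMonoidHom := by
    ext K
    simp only [Finset.mem_image, Finset.mem_filter, Finset.mem_univ, true_and]
    constructor
    · rintro ⟨x, hx, rfl⟩; exact ⟨(hK x).mp hx, x, rfl⟩
    · rintro ⟨h, g, rfl⟩; exact ⟨g, (hK g).mpr h, rfl⟩
  rw [← himg1, ← h1]

end CfsgLib.PGroup.Subnormalizer
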