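import Cfsg.Agent.Lib.PGroup.PSL2SeventeenCounts
import Cfsg.Agent.S0732

/-!
# Groups with trivial centre and Sylow numbers `18, 136, 153`
-/

set_option autoImplicit false
set_option linter.style.haveILetI false
set_option linter.unusedSectionVars false

namespace CfsgLib.PGroup.SylowSeventeen

open MulAction
open scoped Pointwise MatrixGroups

variable {G : Type*} [Group G] [Finite G]

/-- A subgroup has no more Sylow subgroups than the group. -/
theorem card_sylow_le_of_injective {H : Type*} [Group H] {r : ℕ} [Fact r.Prime] {f : H →* G}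
    (hf : Function.Injective f) : Nat.card (Sylow r H) ≤ Nat.card (Sylow r G) := by
  choose Q hQ using fun P : Sylow r H => P.exists_comap_eq_of_injective hf
  exact Nat.card_le_card_of_injective Q fun P P' h => Sylow.ext ((hQ P).symm.trans (by rw [h, hQ P']))

/-- A quotient has no more Sylow subgroups than the group. -/
theorem card_sylow_le_of_surjective {X : Type*} [Group X] {r : ℕ} [Fact r.Prime] {f : G →* X}
    (hf : Function.Surjective f) : Nat.card (Sylow r X) ≤ Nat.card (Sylow r G) :=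
  Nat.card_le_card_of_surjective _ (Sylow.mapSurjective_surjective hf r)

/-- Equal Sylow numbers in a quotient make the kernel normalise every Sylow subgroup. -/
theorem ker_fixes {X : Type*} [Group X] {r : ℕ} [Fact r.Prime] {f : G →* X}
    (hf : Function.Surjective f) (h : Nat.card (Sylow r G) ≤ Nat.card (Sylow r X))
    {m : G} (hm : f m = 1) (P : Sylow r G) : m • P = P := by
  have hb : Function.Bijective (fun P : Sylow r G => P.mapSurjective hf) :=
    (Nat.bijective_iff_surjective_and_card _).2 ⟨Sylow.mapSurjective_surjective hf r,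
      le_antisymm h (card_sylow_le_of_surjective hf)⟩
  refine hb.1 (Sylow.ext ?_)
  rw [Sylow.coe_mapSurjective, Sylow.coe_mapSurjective]
  apply SetLike.ext
  intro y
  simp only [Subgroup.mem_map]
  constructor
  · rintro ⟨z, hz, rfl⟩
    rw [Sylow.coe_subgroup_smul, Subgroup.mem_pointwise_smul_iff_inv_smul_mem] at hz
    refine ⟨_, hz, ?_⟩
    simp [MulAut.smul_def, hm]
  · rintro ⟨z, hz, rfl⟩
    refine ⟨m * z * m⁻¹, ?_, by simp [hm]⟩
    rw [Sylow.coe_subgroup_smul, Subgroup.mem_pointwise_smul_iff_inv_smul_mem]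
    simpa [MulAut.smul_def, mul_assoc] using hz

/-- The prime-power divisors that are congruent to one. -/
theorem no_pow {s c d : ℕ} (h : (s = 5 ∧ c = 136) ∨ (s = 19 ∧ c = 153)) {r : ℕ}
    (hr : r = 2 ∨ r = 3 ∨ r = 17) (hd : r ^ d ∣ c) (hmod : r ^ d % s = 1) : d = 0 := by
  by_contra hd0
  have hle : d ≤ 7 := by
    have h1 : 2 ^ d ≤ r ^ d := Nat.pow_le_pow_left (by omega) d
    have h2 := Nat.le_of_dvd (by omega) hd
    by_contra hd8
    have h3 : 2 ^ 8 ≤ 2 ^ d := Nat.pow_le_pow_right two_pos (by omega)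
    omega
  rcases h with ⟨rfl, rfl⟩ | ⟨rfl, rfl⟩ <;> rcases hr with rfl | rfl | rfl <;> interval_cases d <;>
    simp_all

/-- Recognition by the Sylow numbers. -/
theorem recognise (hZ : Subgroup.center G = ⊥)
    (hNS : {c : ℕ | ∃ r : ℕ, r.Prime ∧ r ∣ Nat.card G ∧ c = Nat.card (Sylow r G)} = ({18, 136, 153} : Set ℕ)) :
    Nonempty (G ≃* Matrix.ProjectiveSpecialLinearGroup (Fin 2) (ZMod 17)) ∨
      Nonempty (G ≃* Matrix.ProjGenLinGroup (Fin 2) (ZMod 17)) := by
  classical
  haveI : Fact (Nat.Prime 17) := ⟨by norm_num⟩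
  have hval : ∀ (r : ℕ) [Fact r.Prime], r ∣ Nat.card G →
      (r = 17 ∧ Nat.card (Sylow r G) = 18) ∨ ((r = 3 ∨ r = 5) ∧ Nat.card (Sylow r G) = 136) ∨
      ((r = 2 ∨ r = 19) ∧ Nat.card (Sylow r G) = 153) := by
    intro r hr hd
    have hm : Nat.card (Sylow r G) ∈ ({18, 136, 153} : Set ℕ) := hNS ▸ ⟨r, hr.out, hd, rfl⟩
    have h1 := card_sylow_modEq_one r G
    simp only [Set.mem_insert_iff, Set.mem_singleton_iff] at hm
    rcases hm with h | h | h <;> rw [h] at h1
    · have hd' : r ∣ 17 := (Nat.modEq_iff_dvd' (by norm_num)).1 h1.symm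
      exact Or.inl ⟨(Nat.prime_dvd_prime_iff_eq hr.out (by norm_num)).1 hd', h⟩
    · have hd' : r ∣ 135 := (Nat.modEq_iff_dvd' (by norm_num)).1 h1.symm
      refine Or.inr (Or.inl ⟨?_, h⟩)
      have h2 : r ∣ 3 ^ 3 * 5 := hd'
      rcases hr.out.dvd_mul.1 h2 with h3 | h3
      · exact Or.inl ((Nat.prime_dvd_prime_iff_eq hr.out Nat.prime_three).1 (hr.out.dvd_of_dvd_pow h3))
      · exact Or.inr ((Nat.prime_dvd_prime_iff_eq hr.out (by norm_num)).1 h3)
    · have hd' : r ∣ 152 := (Nat.modEq_iff_dvd' (by norm_num)).1 h1.symm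
      refine Or.inr (Or.inr ⟨?_, h⟩)
      have h2 : r ∣ 2 ^ 3 * 19 := hd'
      rcases hr.out.dvd_mul.1 h2 with h3 | h3
      · exact Or.inl ((Nat.prime_dvd_prime_iff_eq hr.out Nat.prime_two).1 (hr.out.dvd_of_dvd_pow h3))
      · exact Or.inr ((Nat.prime_dvd_prime_iff_eq hr.out (by norm_num)).1 h3)
  obtain ⟨r₀, hr₀, hr₀d, hr₀c⟩ : 18 ∈ {c : ℕ | ∃ r : ℕ, r.Prime ∧ r ∣ Nat.card G ∧ c = Nat.card (Sylow r G)} := by
    rw [hNS]; simp
  haveI := Fact.mk hr₀
  have hn17 : Nat.card (Sylow 17 G) = 18 := by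
    rcases hval r₀ hr₀d with ⟨h, hc⟩ | ⟨-, hc⟩ | ⟨-, hc⟩
    · subst h; exact hc
    · omega
    · omega
  have hd17 : 17 ∣ Nat.card G := by
    rcases hval r₀ hr₀d with ⟨h, -⟩ | ⟨-, hc⟩ | ⟨-, hc⟩
    · exact h ▸ hr₀d
    · omega
    · omega
  have h18 : 18 ∣ Nat.card G := by
    obtain ⟨P⟩ : Nonempty (Sylow 17 G) := inferInstance
    exact hn17 ▸ (P.card_eq_index_normalizer ▸ Subgroup.index_dvd_card _)
  haveI : Fact (Nat.Prime 2) := ⟨Nat.prime_two⟩
  haveI : Fact (Nat.Prime 3) := ⟨Nat.prime_three⟩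
  have hn2 : Nat.card (Sylow 2 G) = 153 := by
    rcases hval 2 ((show 2 ∣ 18 by norm_num).trans h18) with ⟨h, -⟩ | ⟨h, -⟩ | ⟨-, hc⟩
    · omega
    · omega
    · exact hc
  have hn3 : Nat.card (Sylow 3 G) = 136 := by
    rcases hval 3 ((show 3 ∣ 18 by norm_num).trans h18) with ⟨h, -⟩ | ⟨-, hc⟩ | ⟨h, -⟩
    · omega
    · exact hc
    · omega
  -- the permutation image
  letI := Fintype.ofFinite (Sylow 17 G)
  set φ := MulAction.toPermHom G (Sylow 17 G) with hφ
  haveI hXtr : IsPretransitive φ.range (Sylow 17 G) := ⟨fun x y => by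
    obtain ⟨g, hg⟩ := exists_smul_eq G x y
    exact ⟨⟨φ g, g, rfl⟩, hg⟩⟩
  have hΩ : Fintype.card (Sylow 17 G) = 17 + 1 := by rw [← Nat.card_eq_fintype_card, hn17]
  obtain ⟨P⟩ : Nonempty (Sylow 17 G) := inferInstance
  obtain ⟨Q, hQ⟩ : ∃ Q, Q ≠ P := by
    by_contra h
    push Not at h
    have := Nat.card_eq_one_iff_exists.2 ⟨P, h⟩
    omega
  have hfix : ∀ (R : Sylow 17 G), (∀ u ∈ (P : Subgroup G), u • R = R) → R = P := fun R hR => by
    refine Sylow.ext (P.is_maximal' R.isPGroup' ?_)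
    have h : (P : Subgroup G) ≤ (R : Subgroup G) := by
      intro u hu
      have h1 : Subgroup.zpowers u ≤ Subgroup.normalizer ((R : Subgroup G) : Set G) :=
        Subgroup.zpowers_le.2 (Sylow.smul_eq_iff_mem_normalizer.1 (hR u hu))
      have h2 : IsPGroup 17 (Subgroup.zpowers u) := P.isPGroup'.to_le (Subgroup.zpowers_le.2 hu)
      exact R.is_maximal' (h2.to_sup_of_normal_right' R.isPGroup' h1) le_sup_right ▸
        (le_sup_left : Subgroup.zpowers u ≤ Subgroup.zpowers u ⊔ (R : Subgroup G)) (Subgroup.mem_zpowers u)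
    exact h
  obtain ⟨s, hs, hsQ⟩ : ∃ s ∈ (P : Subgroup G), s • Q ≠ Q := by
    by_contra h
    push Not at h
    exact hQ (hfix Q h)
  set σ := φ s with hσ
  have hσP : σ P = P := Sylow.smul_eq_iff_mem_normalizer.2 (Subgroup.le_normalizer hs)
  have hσo : orderOf σ = 17 := by
    obtain ⟨k, hk⟩ := IsPGroup.iff_orderOf.1 P.isPGroup' ⟨s, hs⟩
    rw [Subgroup.orderOf_mk] at hk
    have h1 : orderOf σ ∣ 17 ^ k := hk ▸ orderOf_map_dvd φ s
    obtain ⟨i, -, hi⟩ := (Nat.dvd_prime_pow (by norm_num)).1 h1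
    have h2 : orderOf σ ∣ Nat.factorial 18 := by
      have := orderOf_dvd_natCard σ
      rwa [Nat.card_perm, hn17] at this
    rcases i with _ | _ | i
    · exfalso
      rw [pow_zero] at hi
      exact hsQ (congrArg (fun w : Equiv.Perm (Sylow 17 G) => w Q) (orderOf_eq_one_iff.1 hi) :)
    · simpa using hi
    · exfalso
      have : 17 ^ 2 ∣ Nat.factorial 18 := (hi ▸ pow_dvd_pow 17 (by omega : 2 ≤ i + 1 + 1)).trans h2
      exact absurd this (by decide +kernel)
  have horb : ∀ R : Sylow 17 G, R ≠ P → ∃ i : ℕ, (σ ^ i) Q = R := by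
    intro R hR
    have hcyc : σ.IsCycle := Equiv.Perm.isCycle_of_prime_order (by rw [hσo]; norm_num) (by
      rw [hσo]
      have := σ.support.card_le_univ
      omega)
    have hsupp : σ.support = Finset.univ.erase P := by
      refine Finset.eq_of_subset_of_card_le (fun x hx => Finset.mem_erase.2 ⟨?_, Finset.mem_univ _⟩) ?_
      · rintro rfl; exact Equiv.Perm.mem_support.1 hx hσP
      · rw [Finset.card_erase_of_mem (Finset.mem_univ _), Finset.card_univ, hΩ, ← hcyc.orderOf, hσo]
    obtain ⟨i, hi⟩ := hcyc.exists_pow_eq (x := Q) (y := R) hsQ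
      (Equiv.Perm.mem_support.1 (by rw [hsupp]; exact Finset.mem_erase.2 ⟨hR, Finset.mem_univ _⟩))
    exact ⟨i, hi⟩
  -- stabilisers
  set X := φ.range
  set XP := stabilizer X P with hXP
  have hσX : (⟨σ, s, rfl⟩ : X) ∈ XP := hσP
  set XPQ := stabilizer XP Q with hXPQ
  have hcardX : Nat.card X = 18 * Nat.card XP := by
    have h := XP.index_mul_card
    rw [hXP, index_stabilizer_of_transitive, hn17] at h
    exact h.symm
  have hcardXP : Nat.card XP = 17 * Nat.card XPQ := by
    have h := XPQ.index_mul_card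
    have hi : XPQ.index = 17 := by
      rw [hXPQ, index_stabilizer]
      have ho : MulAction.orbit XP Q = {R | R ≠ P} := by
        ext R
        constructor
        · rintro ⟨g, rfl⟩ he
          exact hQ (MulAction.injective g (he.trans g.2.symm))
        · intro hR
          obtain ⟨i, hi⟩ := horb R hR
          refine ⟨(⟨⟨σ, s, rfl⟩, hσX⟩ : XP) ^ i, ?_⟩
          show ((((⟨⟨σ, s, rfl⟩, hσX⟩ : XP) ^ i : XP) : X) : Equiv.Perm (Sylow 17 G)) Q = R
          rw [SubmonoidClass.coe_pow, SubmonoidClass.coe_pow]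
          exact hi
      rw [ho, show ({R | R ≠ P} : Set (Sylow 17 G)) = ↑(Finset.univ.erase P) by ext; simp,
        Set.ncard_coe_finset, Finset.card_erase_of_mem (Finset.mem_univ _), Finset.card_univ, hΩ]
    rw [hi] at h
    exact h.symm
  set d := Nat.card XPQ with hd
  have hd17' : d < 17 := by
    have hbase : ∀ g : XPQ, ∃ a : Fin 17, a ≠ 0 ∧
        ((g : XP) : Equiv.Perm (Sylow 17 G)) * σ * (((g : XP) : Equiv.Perm (Sylow 17 G)))⁻¹ = σ ^ (a : ℕ) := by
      intro g
      obtain ⟨h, hh⟩ := g.1.1.2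
      have hP : h • P = P := by
        have : φ h P = P := by rw [hh]; exact g.1.2
        exact this
      have hm : h * s * h⁻¹ ∈ (P : Subgroup G) :=
        (Subgroup.mem_normalizer_iff.1 (Sylow.smul_eq_iff_mem_normalizer.1 hP) s).1 hs
      set τ := φ (h * s * h⁻¹) with hτ
      have hτe : ((g : XP) : Equiv.Perm (Sylow 17 G)) * σ * (((g : XP) : Equiv.Perm (Sylow 17 G)))⁻¹ = τ := by
        rw [hτ, map_mul, map_mul, map_inv, hh]
      rw [hτe]
      -- two elements of the image of `P` generate a group of order seventeen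
      have hle : Subgroup.zpowers σ = (P : Subgroup G).map φ := by
        refine Subgroup.eq_of_le_of_card_ge (Subgroup.zpowers_le.2 ⟨s, hs, rfl⟩) ?_
        rw [Nat.card_zpowers, hσo]
        obtain ⟨k, hk⟩ := IsPGroup.iff_card.1 (P.isPGroup'.map φ)
        have h2 : 17 ^ k ∣ Nat.factorial 18 := by
          rw [← hk, ← hn17, ← Nat.card_perm]; exact Subgroup.card_subgroup_dvd_card _
        rw [hk]
        by_contra hlt
        have : 2 ≤ k := by
          rcases k with _ | _ | k
          · omega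
          · omega
          · omega
        exact absurd ((pow_dvd_pow 17 this).trans h2) (by decide +kernel)
      have hτm : τ ∈ Subgroup.zpowers σ := hle ▸ ⟨_, hm, rfl⟩
      obtain ⟨i, hi⟩ := mem_powers_iff_mem_zpowers.2 hτm
      refine ⟨⟨i % 17, Nat.mod_lt _ (by norm_num)⟩, fun h0 => ?_, ?_⟩
      · have h1 : τ = 1 := by
          rw [← hi]
          show σ ^ i = 1
          rw [← pow_mod_orderOf, hσo, show i % 17 = 0 from congrArg Fin.val h0, pow_zero]
        rw [← hτe, mul_inv_eq_one, mul_eq_left] at h1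
        rw [h1, orderOf_one] at hσo
        omega
      · show τ = σ ^ (i % 17)
        rw [show i % 17 = i % orderOf σ from congrArg (i % ·) hσo.symm, pow_mod_orderOf]
        exact hi.symm
    choose a ha0 ha using hbase
    have hinj : Function.Injective fun g : XPQ => (⟨a g, ha0 g⟩ : {a : Fin 17 // a ≠ 0}) := by
      intro g g' h
      have e := (ha g).trans ((congrArg (fun b : Fin 17 => σ ^ (b : ℕ)) (congrArg Subtype.val h)).trans (ha g').symm)
      set A := ((g : XP) : Equiv.Perm (Sylow 17 G))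
      set B := ((g' : XP) : Equiv.Perm (Sylow 17 G))
      refine Subtype.ext (Subtype.ext (Subtype.ext (Equiv.ext fun R => ?_)))
      show A R = B R
      by_cases hR : R = P
      · rw [hR]; exact g.1.2.trans g'.1.2.symm
      obtain ⟨i, rfl⟩ := horb R hR
      have e1 : ∀ C : Equiv.Perm (Sylow 17 G), C Q = Q → C ((σ ^ i) Q) = ((C * σ * C⁻¹) ^ i) Q := by
        intro C hC
        have hC' : C⁻¹ Q = Q := by rw [Equiv.Perm.inv_eq_iff_eq, hC]
        rw [conj_pow, Equiv.Perm.mul_apply, Equiv.Perm.mul_apply, hC']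
      rw [e1 A g.2, e1 B g'.2, e]
    have := Nat.card_le_card_of_injective _ hinj
    rw [hd]
    refine lt_of_le_of_lt this ?_
    rw [Nat.card_eq_fintype_card, Fintype.card_subtype_compl, Fintype.card_fin, Fintype.card_subtype_eq]
    norm_num
  have hcard' : Nat.card X = (17 + 1) * 17 * d := by rw [hcardX, hcardXP]; ring
  have hcases := Cfsg.Agent.S0732.result (p := 17) (d := d) (by norm_num) hΩ X hcard' hd17'
  -- the Sylow numbers of the image
  have hLX : ∃ f : Matrix.ProjectiveSpecialLinearGroup (Fin 2) (ZMod 17) →* X, Function.Injective f := by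
    rcases hcases with ⟨-, ⟨e⟩⟩ | ⟨-, ⟨e⟩⟩ | ⟨q, -, hq, -⟩
    · exact ⟨e.symm.toMonoidHom.comp Matrix.ProjectiveSpecialLinearGroup.toPGL,
        e.symm.injective.comp Matrix.ProjectiveSpecialLinearGroup.toPGL_injective⟩
    · exact ⟨e.symm.toMonoidHom, e.symm.injective⟩
    · exfalso
      have : q < 5 := Nat.pow_lt_pow_iff_right (by norm_num : 1 < 2) |>.1 (by rw [← hq]; norm_num)
      interval_cases q <;> norm_num at hq
  obtain ⟨f, hf⟩ := hLX
  have hsurj : Function.Surjective φ.rangeRestrict := φ.rangeRestrict_surjective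
  have hker : ∀ m ∈ φ.ker, φ.rangeRestrict m = 1 := fun m hm => Subtype.ext (MonoidHom.mem_ker.1 hm)
  have hfix17 : ∀ m ∈ φ.ker, ∀ R : Sylow 17 G, m • R = R := fun m hm R => by
    show φ m R = R
    rw [MonoidHom.mem_ker.1 hm]; rfl
  have hfix2 : ∀ m ∈ φ.ker, ∀ R : Sylow 2 G, m • R = R := fun m hm R =>
    ker_fixes hsurj (hn2.le.trans (PSL2Seventeen.sylow_two.trans (card_sylow_le_of_injective hf))) (hker m hm) R
  have hfix3 : ∀ m ∈ φ.ker, ∀ R : Sylow 3 G, m • R = R := fun m hm R =>
    ker_fixes hsurj (hn3.le.trans (PSL2Seventeen.sylow_three.trans (card_sylow_le_of_injective hf))) (hker m hm) R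
  -- a prime-power element of the kernel lies in every Sylow subgroup of its prime
  have hinP : ∀ (r : ℕ) [Fact r.Prime] (R : Sylow r G), (∀ m ∈ φ.ker, m • R = R) →
      ∀ H : Subgroup G, H ≤ φ.ker → IsPGroup r H → H ≤ (R : Subgroup G) := by
    intro r _ R hR H hH hHp
    have h1 : H ≤ Subgroup.normalizer ((R : Subgroup G) : Set G) := fun m hm =>
      Sylow.smul_eq_iff_mem_normalizer.1 (hR m (hH hm))
    exact le_sup_left.trans (R.is_maximal' (hHp.to_sup_of_normal_right' R.isPGroup' h1) le_sup_right).le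
  have hnorm : ∀ (r : ℕ) [Fact r.Prime] (R : Sylow r G), (∀ (S : Sylow r G), ∀ m ∈ φ.ker, m • S = S) →
      (φ.ker ⊓ (R : Subgroup G)).Normal := by
    intro r _ R hall
    refine ⟨fun m hm g => ?_⟩
    have hle := hinP r R (hall R) ((φ.ker ⊓ (R : Subgroup G)).map (MulAut.conj g).toMonoidHom) (by
      rintro _ ⟨w, hw, rfl⟩
      exact (MonoidHom.normal_ker φ).conj_mem w hw.1 g) ((R.isPGroup'.to_le inf_le_right).map _)
    exact ⟨(MonoidHom.normal_ker φ).conj_mem m hm.1 g, hle ⟨m, hm, rfl⟩⟩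
  -- no further primes
  have hprimes : ∀ r : ℕ, r.Prime → r ∣ Nat.card G → r = 2 ∨ r = 3 ∨ r = 17 := by
    intro s hs hsd
    haveI := Fact.mk hs
    by_contra hne
    push Not at hne
    obtain ⟨c, hc, hpair⟩ : ∃ c, Nat.card (Sylow s G) = c ∧ ((s = 5 ∧ c = 136) ∨ (s = 19 ∧ c = 153)) := by
      rcases hval s hsd with ⟨h, -⟩ | ⟨h | h, hc⟩ | ⟨h | h, hc⟩
      · exact absurd h hne.2.2
      · exact absurd h hne.2.1
      · exact ⟨_, hc, Or.inl ⟨h, rfl⟩⟩
      · exact absurd h hne.1
      · exact ⟨_, hc, Or.inr ⟨h, rfl⟩⟩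
    obtain ⟨S⟩ : Nonempty (Sylow s G) := inferInstance
    have hSM : ∀ S : Sylow s G, (S : Subgroup G) ≤ φ.ker := by
      intro S m hm
      rw [MonoidHom.mem_ker, ← orderOf_eq_one_iff]
      obtain ⟨k, hk⟩ := IsPGroup.iff_orderOf.1 S.isPGroup' ⟨m, hm⟩
      rw [Subgroup.orderOf_mk] at hk
      have h1 : orderOf (φ m) ∣ s ^ k := hk ▸ orderOf_map_dvd φ m
      have h2 : orderOf (φ m) ∣ (17 + 1) * 17 * d := by
        rw [← hcard', show φ m = ((⟨φ m, m, rfl⟩ : X) : Equiv.Perm (Sylow 17 G)) from rfl, Subgroup.orderOf_coe]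
        exact orderOf_dvd_natCard _
      refine Nat.eq_one_of_dvd_coprimes (Nat.Coprime.pow_left k ?_) h1 h2
      refine (Nat.Prime.coprime_iff_not_dvd hs).2 fun h => ?_
      rcases hs.dvd_mul.1 h with h | h
      · rcases hpair with ⟨rfl, -⟩ | ⟨rfl, -⟩ <;> norm_num at h
      · have : Nat.card XPQ ∣ 16 := by
          rcases hcases with ⟨hd', -⟩ | ⟨hd', -⟩ | ⟨q, -, hq, -⟩
          · exact ⟨1, by omega⟩
          · exact ⟨2, by omega⟩
          · exfalso
            have : q < 5 := Nat.pow_lt_pow_iff_right (by norm_num : 1 < 2) |>.1 (by rw [← hq]; norm_num)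
            interval_cases q <;> norm_num at hq
        have h16 := h.trans this
        rcases hpair with ⟨rfl, -⟩ | ⟨rfl, -⟩ <;> norm_num at h16
    -- each `r`-part of the kernel normalises `S`
    have hB : ∀ (r : ℕ) [Fact r.Prime], (r = 2 ∨ r = 3 ∨ r = 17) → ∀ R : Sylow r G,
        (φ.ker ⊓ (R : Subgroup G)).Normal → ∀ b ∈ φ.ker ⊓ (R : Subgroup G), b • S = S := by
      intro r _ hr R hRn b hb
      set B := φ.ker ⊓ (R : Subgroup G)
      haveI := hRn
      set O := MulAction.orbit B S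
      have hO : O.ncard ∣ c := by
        rw [← hc]
        exact (IsBlock.orbit_of_normal S).ncard_dvd_card (MulAction.nonempty_orbit S)
      obtain ⟨e, he⟩ := IsPGroup.card_orbit (R.isPGroup'.to_le (inf_le_right : B ≤ R)) S
      rw [Nat.card_coe_set_eq] at he
      have hmod : O.ncard % s = 1 := by
        letI : MulAction (S : Subgroup G) O :=
          { smul := fun u T => ⟨(u : G) • T.1, by
              obtain ⟨w, hw⟩ := T.2
              refine ⟨⟨(u : G) * w * (u : G)⁻¹, hRn.conj_mem _ w.2 _⟩, ?_⟩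
              show ((u : G) * w * (u : G)⁻¹) • S = (u : G) • T.1
              have hu : (u : G)⁻¹ • S = S :=
                Sylow.smul_eq_iff_mem_normalizer.2 (Subgroup.le_normalizer ((S : Subgroup G).inv_mem u.2))
              rw [mul_smul, mul_smul, hu]
              exact congrArg _ hw⟩
            one_smul := fun T => Subtype.ext (one_smul G T.1)
            mul_smul := fun u v T => Subtype.ext (mul_smul (u : G) v T.1) }
        have hfp : MulAction.fixedPoints (S : Subgroup G) O = {⟨S, mem_orbit_self S⟩} := by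
          ext T
          constructor
          · intro hT
            refine Subtype.ext (Sylow.ext (S.is_maximal' T.1.isPGroup' ?_))
            intro u hu
            have h1 : Subgroup.zpowers u ≤ Subgroup.normalizer ((T.1 : Subgroup G) : Set G) :=
              Subgroup.zpowers_le.2 (Sylow.smul_eq_iff_mem_normalizer.1 (congrArg Subtype.val (hT ⟨u, hu⟩)))
            have h2 : IsPGroup s (Subgroup.zpowers u) := S.isPGroup'.to_le (Subgroup.zpowers_le.2 hu)
            exact T.1.is_maximal' (h2.to_sup_of_normal_right' T.1.isPGroup' h1) le_sup_right ▸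
              (le_sup_left : Subgroup.zpowers u ≤ Subgroup.zpowers u ⊔ (T.1 : Subgroup G)) (Subgroup.mem_zpowers u)
          · rintro rfl u
            exact Subtype.ext (Sylow.smul_eq_iff_mem_normalizer.2 (Subgroup.le_normalizer u.2))
        have := S.isPGroup'.card_modEq_card_fixedPoints O
        rw [hfp, Nat.card_coe_set_eq, Nat.card_coe_set_eq, Set.ncard_singleton] at this
        rw [this]
        exact Nat.mod_eq_of_lt hs.one_lt
      have e0 := no_pow hpair hr (he ▸ hO) (he ▸ hmod)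
      rw [e0, pow_zero, Set.ncard_eq_one] at he
      obtain ⟨T, hT⟩ := he
      have h1 : (⟨b, hb⟩ : B) • S ∈ MulAction.orbit B S := mem_orbit S _
      have h2 : S ∈ MulAction.orbit B S := mem_orbit_self S
      change _ ∈ O at h1 h2
      have e : ∀ x ∈ O, x = T := fun x hx => by
        exact (Set.ext_iff.1 hT x).1 hx
      exact (e _ h1).trans (e _ h2).symm
    -- the kernel is transitive on the Sylow subgroups
    have hcase : ∀ (r : ℕ) [Fact r.Prime], (r = 2 ∨ r = 3 ∨ r = 17) →
        (∀ (R : Sylow r G), ∀ m ∈ φ.ker, m • R = R) → ¬ r ∣ c := by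
      intro r _ hr hall hrc
      obtain ⟨R⟩ : Nonempty (Sylow r G) := inferInstance
      haveI : IsPretransitive φ.ker (Sylow s G) := ⟨fun T U => by
        obtain ⟨k, hk⟩ := exists_smul_eq φ.ker (T.subtype (hSM T)) (U.subtype (hSM U))
        refine ⟨k, ?_⟩
        rw [Sylow.smul_subtype] at hk
        exact Sylow.subtype_injective hk⟩
      have hidx : (stabilizer φ.ker S).index = c := by rw [index_stabilizer_of_transitive, hc]
      obtain ⟨T⟩ : Nonempty (Sylow r φ.ker) := inferInstance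
      have hT : (T : Subgroup φ.ker) ≤ stabilizer φ.ker S := fun m hm => by
        have : (m : G) ∈ (R : Subgroup G) :=
          hinP r R (hall R) ((T : Subgroup φ.ker).map φ.ker.subtype) (Subgroup.map_subtype_le _)
            (T.isPGroup'.map _) ⟨m, hm, rfl⟩
        exact hB r hr R (hnorm r R hall) m ⟨m.2, this⟩
      exact T.not_dvd_index (hrc.trans (hidx ▸ Subgroup.index_dvd_of_le hT))
    rcases hpair with ⟨-, rfl⟩ | ⟨-, rfl⟩
    · exact hcase 2 (Or.inl rfl) (fun R m hm => hfix2 m hm R) (by norm_num)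
    · exact hcase 3 (Or.inr (Or.inl rfl)) (fun R m hm => hfix3 m hm R) (by norm_num)
  -- the kernel is trivial
  have hfixall : ∀ (r : ℕ) [Fact r.Prime], r ∣ Nat.card G → ∀ R : Sylow r G, ∀ m ∈ φ.ker, m • R = R := by
    intro r hr hd R m hm
    rcases hprimes r hr.out hd with rfl | rfl | rfl
    exacts [hfix2 m hm R, hfix3 m hm R, hfix17 m hm R]
  have hbot : φ.ker = ⊥ := by
    by_contra hne
    have hc1 : Nat.card φ.ker ≠ 1 := fun h => hne (Subgroup.card_eq_one.1 h)
    obtain ⟨r, hr, hrd⟩ := Nat.exists_prime_and_dvd hc1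
    haveI := Fact.mk hr
    obtain ⟨x, hx⟩ := exists_prime_orderOf_dvd_card' (G := φ.ker) r hrd
    have hrG : r ∣ Nat.card G := hrd.trans (Subgroup.card_subgroup_dvd_card _)
    obtain ⟨R⟩ : Nonempty (Sylow r G) := inferInstance
    set B := φ.ker ⊓ (R : Subgroup G) with hBdef
    haveI hBn : B.Normal := hnorm r R fun S m hm => hfixall r hrG S m hm
    have hB1 : B ≠ ⊥ := by
      intro h
      have hxR : (x : G) ∈ (R : Subgroup G) := hinP r R (hfixall r hrG R) (Subgroup.zpowers (x : G))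
        (Subgroup.zpowers_le.2 x.2) (IsPGroup.of_card (n := 1) (by
          rw [Nat.card_zpowers, Subgroup.orderOf_coe, hx, pow_one])) (Subgroup.mem_zpowers _)
      have hxB : (x : G) ∈ B := ⟨x.2, hxR⟩
      rw [h, Subgroup.mem_bot] at hxB
      rw [← Subgroup.orderOf_coe, hxB, orderOf_one] at hx
      exact hr.one_lt.ne hx
    have hBR : B ≤ (R : Subgroup G) := inf_le_right
    haveI : (B.subgroupOf (R : Subgroup G)).Normal := Subgroup.normal_subgroupOf
    obtain ⟨z, hzB, hz1, hzR⟩ : ∃ z ∈ B, z ≠ 1 ∧ ∀ u ∈ (R : Subgroup G), u * z = z * u := by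
      letI : MulAction (R : Subgroup G) B :=
        { smul := fun u b => ⟨(u : G) * b * (u : G)⁻¹, hBn.conj_mem b b.2 u⟩
          one_smul := fun b => Subtype.ext (by show (1 : G) * b * (1 : G)⁻¹ = b; simp)
          mul_smul := fun u v b => Subtype.ext (by
            show ((u : G) * v) * b * ((u : G) * v)⁻¹ = (u : G) * ((v : G) * b * (v : G)⁻¹) * (u : G)⁻¹
            group) }
      haveI : Nontrivial B := (Subgroup.nontrivial_iff_ne_bot B).2 hB1
      obtain ⟨k, hk0, hk⟩ := (R.isPGroup'.to_le hBR).nontrivial_iff_card.1 inferInstance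
      obtain ⟨b, hb, hb1⟩ := R.isPGroup'.exists_fixed_point_of_prime_dvd_card_of_fixed_point B
        (hk ▸ dvd_pow_self r hk0.ne') (a := (1 : B)) fun u => Subtype.ext (by
          show (u : G) * 1 * (u : G)⁻¹ = 1; simp)
      refine ⟨b, b.2, fun h => hb1 (Subtype.ext h.symm), fun u hu => ?_⟩
      exact mul_inv_eq_iff_eq_mul.1 (congrArg Subtype.val (hb ⟨u, hu⟩) :)
    have hcent : Subgroup.centralizer ({z} : Set G) = ⊤ := by
      refine Subgroup.eq_top_of_card_eq _ (Nat.dvd_antisymm (Subgroup.card_subgroup_dvd_card _) ?_)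
      refine (Nat.dvd_iff_prime_pow_dvd_dvd _ _).2 fun q k hq hqk => ?_
      rcases Nat.eq_zero_or_pos k with rfl | hk
      · simp
      haveI := Fact.mk hq
      have hqG : q ∣ Nat.card G := (dvd_pow_self q hk.ne').trans hqk
      obtain ⟨T, hTle⟩ : ∃ T : Sylow q G, (T : Subgroup G) ≤ Subgroup.centralizer ({z} : Set G) := by
        by_cases hqr : q = r
        · subst hqr
          exact ⟨R, fun t ht => Subgroup.mem_centralizer_singleton_iff.2 (hzR t ht)⟩
        obtain ⟨T⟩ : Nonempty (Sylow q G) := inferInstance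
        refine ⟨T, fun t ht => ?_⟩
        rw [Subgroup.mem_centralizer_singleton_iff]
        have h1 : t * z * t⁻¹ * z⁻¹ ∈ B :=
          B.mul_mem (hBn.conj_mem z hzB t) (B.inv_mem hzB)
        have h2 : t * z * t⁻¹ * z⁻¹ ∈ (T : Subgroup G) := by
          have hz' : z ∈ Subgroup.normalizer ((T : Subgroup G) : Set G) :=
            Sylow.smul_eq_iff_mem_normalizer.1 (hfixall q hqG T z hzB.1)
          rw [show t * z * t⁻¹ * z⁻¹ = t * (z * t⁻¹ * z⁻¹) by group]
          exact Subgroup.mul_mem _ ht ((Subgroup.mem_normalizer_iff.1 hz' _).1 ((T : Subgroup G).inv_mem ht))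
        have h3 := Subgroup.disjoint_def.1 (IsPGroup.disjoint_of_ne r q (Ne.symm hqr) B (T : Subgroup G)
          (R.isPGroup'.to_le hBR) T.isPGroup') h1 h2
        exact mul_inv_eq_iff_eq_mul.1 (mul_inv_eq_one.1 h3)
      refine dvd_trans ?_ (Subgroup.card_dvd_of_le hTle)
      rw [T.card_eq_multiplicity]
      exact pow_dvd_pow q ((hq.pow_dvd_iff_le_factorization Nat.card_pos.ne').1 hqk)
    have hzc : z ∈ Subgroup.center G := Subgroup.mem_center_iff.2 fun g =>
      Subgroup.mem_centralizer_singleton_iff.1 (hcent ▸ Subgroup.mem_top g)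
    rw [hZ, Subgroup.mem_bot] at hzc
    exact hz1 hzc
  have hinj : Function.Injective φ := (MonoidHom.ker_eq_bot_iff φ).1 hbot
  let eG : G ≃* X := MonoidHom.ofInjective hinj
  rcases hcases with ⟨-, ⟨e⟩⟩ | ⟨-, ⟨e⟩⟩ | ⟨q, -, hq, -⟩
  · exact Or.inr ⟨eG.trans e⟩
  · exact Or.inl ⟨eG.trans e⟩
  · exfalso
    have : q < 5 := Nat.pow_lt_pow_iff_right (by norm_num : 1 < 2) |>.1 (by rw [← hq]; norm_num)
    interval_cases q <;> norm_num at hq

end CfsgLib.PGroup.SylowSeventeen
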