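import Cfsg.Agent.Lib.PGroup.SzSolubilizerMain
import Cfsg.Agent.Lib.PGroup.BinaryCriteria

set_option autoImplicit false
set_option linter.unusedSectionVars false

/-!
Involutions, tori and triangles in the Suzuki groups.
-/

namespace CfsgLib.PGroup.SzBinary

open Cfsg.Lie CfsgLib.KnownB.SzElem CfsgLib.KnownB.Suzuki CfsgLib.KnownB CfsgLib.PGroup.SzSol

variable {F : Type*} [Field F] [Fintype F] {e : ℕ} (he : Twist F e)
include he

omit [Fintype F] in
theorem zero_pow_e : (0 : F) ^ e = 0 := zero_pow (Nat.ne_zero_of_lt he.one_lt)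

omit [Fintype F] in
theorem add_self_zero (x : F) : x + x = 0 := by linear_combination x * he.two

omit [Fintype F] in
theorem Z_mul (a b : F) : P he 0 a * P he 0 b = P he 0 (a + b) := by
  rw [P_mul, zero_pow_e he]; simp

omit [Fintype F] in
theorem Z_sq (b : F) : P he 0 b * P he 0 b = 1 := by
  rw [Z_mul, add_self_zero he, P_zero]

omit [Fintype F] in
theorem Z_inv (b : F) : (P he 0 b)⁻¹ = P he 0 b := inv_eq_of_mul_eq_one_right (Z_sq he b)

omit [Fintype F] in
theorem Z_ne_one {b : F} (hb : b ≠ 0) : P he 0 b ≠ 1 := fun h => by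
  rw [← P_zero he] at h
  exact hb (P_injective he h).2

omit [Fintype F] in
theorem eq_zero_of_Z_eq_one {b : F} (h : P he 0 b = 1) : b = 0 := by
  by_contra hb
  exact Z_ne_one he hb h

omit [Fintype F] in
theorem Z_comm (b c d : F) : P he 0 b * P he c d = P he c d * P he 0 b := by
  rw [P_mul, P_mul, zero_pow_e he]
  congr 1 <;> ring

omit [Fintype F] in
theorem H_Z (s : Fˣ) (b : F) :
    H e he s * P he 0 b * (H e he s)⁻¹ = P he 0 ((s : F) ^ (e + 2) * b) := by
  rw [H_conj_P]; simp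

omit [Fintype F] in
theorem mem_zGroup {g : Sz F e} : g ∈ zGroup he ↔ ∃ b, P he 0 b = g := Iff.rfl

theorem mem_zGroup_conj {g : Sz F e} (hg : g ∈ borel F e) (b : F) :
    ∃ b', g * P he 0 b * g⁻¹ = P he 0 b' := by
  obtain ⟨a, c, t, rfl⟩ := exists_borel_eq he g hg
  exact ⟨_, conj_P_zero he a c b t⟩

/-- The opposite central element. -/
noncomputable def J (b : F) : Sz F e := W he * P he 0 b * W he

omit [Fintype F] in
theorem J_sq (b : F) : J he b * J he b = 1 := by
  calc J he b * J he b = W he * (P he 0 b * (W he * W he) * P he 0 b) * W he := by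
        simp only [J, mul_assoc]
    _ = 1 := by rw [W_mul_W, mul_one, Z_sq, mul_one, W_mul_W]

omit [Fintype F] in
theorem J_inv (b : F) : (J he b)⁻¹ = J he b := inv_eq_of_mul_eq_one_right (J_sq he b)

omit [Fintype F] in
theorem H_J (s : Fˣ) (b : F) :
    H e he s * J he b * (H e he s)⁻¹ = J he (((s⁻¹ : Fˣ) : F) ^ (e + 2) * b) := by
  rw [J, J, ← H_Z he s⁻¹ b, H_inv, H_inv, inv_inv]
  calc H e he s * (W he * P he 0 b * W he) * H e he s⁻¹
      = (H e he s * W he) * P he 0 b * (W he * H e he s⁻¹) := by simp only [mul_assoc]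
    _ = (W he * H e he s⁻¹) * P he 0 b * (H e he s * W he) := by
        rw [H_conj_W]
    _ = _ := by simp only [mul_assoc]

/-- Pairs of opposite central elements with the same invariant are conjugate. -/
theorem conj_pair {b c b' c' : F} (hb : b ≠ 0) (hb' : b' ≠ 0) (h : b * c = b' * c') :
    ∃ g : Sz F e, P he 0 b' * J he c' = g * (P he 0 b * J he c) * g⁻¹ := by
  obtain ⟨s, hs⟩ := (units_pow_e2_bijective he).2 (Units.mk0 (b' / b) (div_ne_zero hb' hb))
  have hs' : (s : F) ^ (e + 2) = b' / b := by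
    rw [← Units.val_pow_eq_pow_val]; exact congrArg Units.val hs
  refine ⟨H e he s, ?_⟩
  have e1 : H e he s * (P he 0 b * J he c) * (H e he s)⁻¹ =
      (H e he s * P he 0 b * (H e he s)⁻¹) * (H e he s * J he c * (H e he s)⁻¹) := by group
  rw [e1, H_Z, H_J, Units.val_inv_eq_inv_val, inv_pow, hs', div_mul_cancel₀ _ hb, inv_div,
    show b / b' * c = c' by rw [div_mul_eq_mul_div, h, mul_div_cancel_left₀ _ hb']]

/-- The translate of an opposite central element. -/
theorem translate_J {u : Sz F e} (hu : u ∈ uGroup he) (hu1 : u ≠ 1) :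
    ∃ (g : Sz F e) (ρ : F), ρ ≠ 0 ∧ ∀ β,
      g * (u * J he β * u⁻¹) * g⁻¹ = P he 0 (ρ * β) ∧ g * J he β * g⁻¹ = J he β := by
  have hWu : W he * u * W he ∉ borel F e := fun h => W_notMem_borel he (by
    have h' : W he * u * (W he)⁻¹ ∈ borel F e := by rwa [W_inv]
    exact borel_unique he hu hu1 h')
  obtain ⟨a, b, c, d, r, hr⟩ := exists_bruhat' he _ hWu
  refine ⟨W he * (P he a b)⁻¹ * W he, (r : F) ^ (e + 2), pow_ne_zero _ r.ne_zero, fun β => ⟨?_, ?_⟩⟩
  · have hgu : W he * (P he a b)⁻¹ * W he * u * W he = P he c d * H e he r := by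
      calc W he * (P he a b)⁻¹ * W he * u * W he
          = W he * (P he a b)⁻¹ * (W he * u * W he) := by simp only [mul_assoc]
        _ = (W he * W he) * (P he c d * H e he r) := by rw [hr]; simp [mul_assoc]
        _ = _ := by rw [W_mul_W, one_mul]
    calc W he * (P he a b)⁻¹ * W he * (u * J he β * u⁻¹) * (W he * (P he a b)⁻¹ * W he)⁻¹
        = (W he * (P he a b)⁻¹ * W he * u * W he) * P he 0 β *
            (W he * (P he a b)⁻¹ * W he * u * W he)⁻¹ := by
          simp only [J, _root_.mul_inv_rev, W_inv, mul_assoc]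
      _ = _ := by rw [hgu]; exact conj_P_zero he c d β r
  · calc W he * (P he a b)⁻¹ * W he * J he β * (W he * (P he a b)⁻¹ * W he)⁻¹
        = W he * ((P he a b)⁻¹ * ((W he * W he) * P he 0 β * (W he * W he)) * P he a b) * W he := by
          simp only [J, _root_.mul_inv_rev, inv_inv, W_inv, mul_assoc]
      _ = _ := by rw [W_mul_W, one_mul, mul_one, mul_assoc (P he a b)⁻¹, Z_comm,
                    inv_mul_cancel_left, J]

omit he in
/-- An odd-order element lies in a torus. -/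
theorem exists_tor (hp : Params F e) {x : Sz F e} (hx : x ≠ 1) (hodd : Odd (orderOf x)) :
    ∃ T k, IsTor T k ∧ x ∈ T := by
  classical
  obtain ⟨D⟩ := exists_bases hp
  rcases D.cases hx with ⟨-, c, hc⟩ | ⟨i, -, c, hc⟩
  · exfalso
    have h4 : x ^ 4 = 1 := by
      have := pow_four hp.twist hc
      rwa [conj_pow, conj_eq_one_iff] at this
    have hd := orderOf_dvd_of_pow_eq_one h4
    obtain ⟨j, hj, hj'⟩ := (Nat.dvd_prime_pow Nat.prime_two).1 (show orderOf x ∣ 2 ^ 2 from hd)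
    rcases j with _ | j
    · exact hx (orderOf_eq_one_iff.1 hj')
    · rw [hj'] at hodd
      simp [Nat.odd_iff, pow_succ] at hodd
  · exact ⟨_, _, (D.tor i).conj c⁻¹, mem_cj.2 (by rwa [inv_inv])⟩

/-- An element of `U` of square one is central. -/
theorem exists_Z_of_sq {u : Sz F e} (hu : u ∈ uGroup he) (h2 : u * u = 1) : ∃ b, u = P he 0 b :=
  exists_central_of_sq he hu (by rw [pow_two, h2])

/-- Involutions of the Borel subgroup are central in `U`. -/
theorem exists_Z_of_borel {u : Sz F e} (hu : u ∈ borel F e) (h2 : u * u = 1) :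
    ∃ b, u = P he 0 b :=
  exists_Z_of_sq he (mem_uGroup_of_borel he hu (j := 1) (by rw [pow_one, pow_two, h2])) h2

omit he in
/-- A torus element is conjugate to a product of opposite central elements. -/
theorem norm_form (hp : Params F e) {T : Subgroup (Sz F e)} {k : ℕ} (hT : IsTor T k) {x : Sz F e}
    (hx : x ∈ T) (hx1 : x ≠ 1) :
    ∃ g β, β ≠ 0 ∧ g * x * g⁻¹ = P hp.twist 0 1 * J hp.twist β := by
  classical
  have he := hp.twist
  set N := Subgroup.normalizer (T : Set (Sz F e))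
  have h2N : 2 ∣ Nat.card N := by
    rw [hT.ncard]
    rcases hT.k_cases with rfl | rfl
    · exact dvd_mul_right _ _
    · exact (dvd_mul_of_dvd_left (by norm_num) _)
  haveI : Fact (Nat.Prime 2) := ⟨Nat.prime_two⟩
  obtain ⟨⟨i, hiN⟩, hi⟩ := exists_prime_orderOf_dvd_card' (G := N) 2 h2N
  rw [← Subgroup.orderOf_coe] at hi
  change orderOf i = 2 at hi
  have hi1 : i ≠ 1 := fun h => by rw [h, orderOf_one] at hi; omega
  have hi2 : i * i = 1 := by
    have := pow_orderOf_eq_one i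
    rwa [hi, pow_two] at this
  have hinv := hT.inverts hiN hi2 hi1 hx
  have hj2 : (i * x) * (i * x) = 1 := by
    calc (i * x) * (i * x) = (i * x * i⁻¹) * ((i * i) * x) := by group
      _ = 1 := by rw [hinv, hi2, one_mul, inv_mul_cancel]
  have hj1 : i * x ≠ 1 := fun h => by
    have hxi : x = i := by
      rw [eq_inv_of_mul_eq_one_right h]; exact inv_eq_of_mul_eq_one_right hi2
    exact hT.orderOf_odd hx (by rw [hxi, hi])
  obtain ⟨g₁, hg₁⟩ := conj_involution hp hi2 hi1 (one_ne_zero (α := F))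
  set j₁ := g₁ * (i * x) * g₁⁻¹ with hj₁
  have hj₁2 : j₁ * j₁ = 1 := by rw [hj₁, conj_mul, hj2, mul_one, mul_inv_cancel]
  have hxeq : g₁ * x * g₁⁻¹ = P he 0 1 * j₁ := by
    rw [← hg₁, hj₁]
    calc g₁ * x * g₁⁻¹ = g₁ * ((i * i) * x) * g₁⁻¹ := by rw [hi2, one_mul]
      _ = _ := by group
  have hjB : j₁ ∉ borel F e := fun h => by
    obtain ⟨b, hb⟩ := exists_Z_of_borel he h hj₁2
    rw [hb, Z_mul] at hxeq
    have hsq : (g₁ * x * g₁⁻¹) * (g₁ * x * g₁⁻¹) = 1 := by rw [hxeq, Z_sq]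
    rw [conj_mul, conj_eq_one_iff] at hsq
    exact hx1 (hT.eq_one_of_pow_two_pow hx (j := 1) (by rw [pow_one, pow_two, hsq]))
  obtain ⟨h, hh⟩ := conj_involution hp hj₁2 (fun h => hjB (h ▸ one_mem _)) (one_ne_zero (α := F))
  have hhB : h⁻¹ ∉ borel F e := fun hB => hjB (by
    have := mul_mem (mul_mem hB (P_mem_borel he 0 1)) (inv_mem hB)
    rwa [← hh, inv_inv, show h⁻¹ * (h * j₁ * h⁻¹) * h = j₁ by group] at this)
  obtain ⟨a, b, c, d, t, ht⟩ := exists_bruhat' he _ hhB
  refine ⟨(P he a b)⁻¹ * g₁, (t : F) ^ (e + 2) * 1, by simp [t.ne_zero], ?_⟩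
  have hj : (P he a b)⁻¹ * j₁ * P he a b = J he ((t : F) ^ (e + 2) * 1) := by
    have e1 : j₁ = h⁻¹ * P he 0 1 * (h⁻¹)⁻¹ := by rw [← hh]; group
    rw [e1, ht, J, ← conj_P_zero he c d 1 t]
    simp only [_root_.mul_inv_rev, W_inv, mul_assoc, inv_mul_cancel_left, inv_mul_cancel, mul_one]
  calc (P he a b)⁻¹ * g₁ * x * ((P he a b)⁻¹ * g₁)⁻¹
      = (P he a b)⁻¹ * (g₁ * x * g₁⁻¹) * P he a b := by group
    _ = ((P he a b)⁻¹ * P he 0 1 * P he a b) * ((P he a b)⁻¹ * j₁ * P he a b) := by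
        rw [hxeq]; group
    _ = _ := by rw [hj, mul_assoc (P he a b)⁻¹, Z_comm, ← mul_assoc, inv_mul_cancel, one_mul]
where
  conj_mul {G : Type _} [Group G] {g a b : G} : g * a * g⁻¹ * (g * b * g⁻¹) = g * (a * b) * g⁻¹ := by
    group

/-- A triangle in the class of a torus element. -/
theorem triangle {u : Sz F e} (hu : u ∈ uGroup he) (hu1 : u ≠ 1) {κ : F} (hκ : κ ≠ 0) :
    ∃ b β : F, b ≠ 0 ∧ b * β = κ ∧ (∃ g, (u * (P he 0 b * J he β) * u⁻¹)⁻¹ * (P he 0 b * J he β) =
      g * (P he 0 b * J he β) * g⁻¹) := by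
  obtain ⟨g, ρ, hρ, hg⟩ := translate_J he hu hu1
  have hsurj : Function.Surjective fun x : F => x ^ 2 :=
    Finite.injective_iff_surjective.1 fun x y h => sq_inj he h
  obtain ⟨β, hβ⟩ := hsurj (κ / ρ)
  simp only at hβ
  have hβ0 : β ≠ 0 := by
    rintro rfl
    exact div_ne_zero hκ hρ (by rw [← hβ]; simp)
  refine ⟨κ / β, β, div_ne_zero hκ hβ0, div_mul_cancel₀ _ hβ0, ?_⟩
  obtain ⟨g', hg'⟩ := conj_pair he (b := κ / β) (c := β) (b' := ρ * β) (c' := β) (div_ne_zero hκ hβ0)
    (mul_ne_zero hρ hβ0) (by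
      rw [div_mul_cancel₀ _ hβ0, mul_assoc, ← pow_two, hβ, mul_div_cancel₀ _ hρ])
  refine ⟨g⁻¹ * g', ?_⟩
  have hzu : u * P he 0 (κ / β) * u⁻¹ = P he 0 (κ / β) := by
    obtain ⟨⟨c, d⟩, rfl⟩ := hu
    rw [← Z_comm, mul_inv_cancel_right]
  have e1 : (u * (P he 0 (κ / β) * J he β) * u⁻¹)⁻¹ * (P he 0 (κ / β) * J he β) =
      (u * J he β * u⁻¹) * J he β := by
    rw [show u * (P he 0 (κ / β) * J he β) * u⁻¹ =
      (u * P he 0 (κ / β) * u⁻¹) * (u * J he β * u⁻¹) by group, hzu, _root_.mul_inv_rev, mul_assoc,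
      inv_mul_cancel_left, _root_.mul_inv_rev, _root_.mul_inv_rev, inv_inv, J_inv, ← mul_assoc u]
  rw [e1]
  calc (u * J he β * u⁻¹) * J he β
      = g⁻¹ * ((g * (u * J he β * u⁻¹) * g⁻¹) * (g * J he β * g⁻¹)) * g := by group
    _ = _ := by rw [(hg β).1, (hg β).2, hg']; group

omit he in
/-- A subgroup containing `U` is parabolic or everything. -/
theorem le_borel_of_uGroup (hp : Params F e) {M : Subgroup (Sz F e)}
    (hU : uGroup hp.twist ≤ M) (hM : M ≠ ⊤) : M ≤ borel F e := by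
  classical
  have he := hp.twist
  intro y hy
  by_contra hyB
  obtain ⟨a, b, c, d, t, rfl⟩ := exists_bruhat' he y hyB
  have hHinv : ∀ x z : F, (H e he t)⁻¹ * P he x z * H e he t ∈ uGroup he := fun x z => by
    have h := H_conj_P he t⁻¹ x z
    rw [H_inv, inv_inv] at h
    rw [H_inv, h]
    exact P_mem_uGroup he _ _
  have hWH : W he * H e he t ∈ M := by
    have h1 : W he * (P he c d * H e he t) ∈ M := by
      have := mul_mem (inv_mem (hU (P_mem_uGroup he a b))) hy
      simpa [mul_assoc] using this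
    have h3 : (H e he t)⁻¹ * (P he c d)⁻¹ * H e he t ∈ M := by
      rw [P_inv]
      exact hU (hHinv _ _)
    have := mul_mem h1 h3
    simpa [mul_assoc] using this
  set U' := (uGroup he).map (MulAut.conj (W he)).toMonoidHom
  have hU' : U' ≤ M := by
    rintro _ ⟨_, ⟨⟨x, z⟩, rfl⟩, rfl⟩
    show W he * P he x z * (W he)⁻¹ ∈ M
    have hu' : (H e he t)⁻¹ * P he x z * H e he t ∈ M := hU (hHinv _ _)
    have h := mul_mem (mul_mem hWH hu') (inv_mem hWH)
    convert h using 1
    group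
  set M₀ := uGroup he ⊔ U'
  have hM₀ : M₀ ≤ M := sup_le hU hU'
  have hnorm : ∀ g : Sz F e, (∀ u ∈ uGroup he, g * u * g⁻¹ ∈ M₀) → (∀ u ∈ U', g * u * g⁻¹ ∈ M₀) →
      M₀.map (MulAut.conj g).toMonoidHom ≤ M₀ := fun g h1 h2 => by
    rw [Subgroup.map_sup]
    exact sup_le (Subgroup.map_le_iff_le_comap.2 h1) (Subgroup.map_le_iff_le_comap.2 h2)
  have hN : Subgroup.normalizer (M₀ : Set (Sz F e)) = ⊤ := by
    have hmem : ∀ g : Sz F e, M₀.map (MulAut.conj g).toMonoidHom ≤ M₀ →
        g ∈ Subgroup.normalizer (M₀ : Set (Sz F e)) := fun g h =>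
      Subgroup.mem_normalizer_iff_map_conj_eq.2 (Subgroup.eq_of_le_of_card_ge h
        (le_of_eq (Subgroup.card_map_of_injective (MulEquiv.injective _)).symm))
    refine closure_gen he _ (fun x z => Subgroup.le_normalizer (le_sup_left (b := U') (P_mem_uGroup he x z)))
      (fun s => hmem _ (hnorm _ (fun u hu => ?_) (fun u hu => ?_)))
      (hmem _ (hnorm _ (fun u hu => ?_) (fun u hu => ?_)))
    · obtain ⟨⟨x, z⟩, rfl⟩ := hu
      refine le_sup_left (b := U') ?_
      rw [H_conj_P]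
      exact P_mem_uGroup he _ _
    · obtain ⟨_, ⟨⟨x, z⟩, rfl⟩, rfl⟩ := hu
      refine le_sup_right (a := uGroup he) ⟨H e he s⁻¹ * P he x z * (H e he s⁻¹)⁻¹, ?_, ?_⟩
      · rw [H_conj_P]; exact P_mem_uGroup he _ _
      · show W he * _ * (W he)⁻¹ = H e he s * (W he * P he x z * (W he)⁻¹) * (H e he s)⁻¹
        rw [W_inv, H_inv, H_inv, inv_inv]
        calc W he * (H e he s⁻¹ * P he x z * H e he s) * W he
            = (W he * H e he s⁻¹) * P he x z * (H e he s * W he) := by simp only [mul_assoc]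
          _ = (H e he s * W he) * P he x z * (W he * H e he s⁻¹) := by rw [H_conj_W]
          _ = _ := by simp only [mul_assoc]
    · exact le_sup_right (a := uGroup he) ⟨u, hu, rfl⟩
    · obtain ⟨v, hv, rfl⟩ := hu
      refine le_sup_left (b := U') ?_
      show W he * (W he * v * (W he)⁻¹) * (W he)⁻¹ ∈ uGroup he
      rwa [W_inv, ← mul_assoc, ← mul_assoc, W_mul_W, one_mul, mul_assoc, W_mul_W, mul_one]
  haveI : IsSimpleGroup (Sz F e) := isSimpleGroup he (by
    classical
    exact Fintype.exists_ne_of_one_lt_card (by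
      rw [Fintype.card_units]; have := hp.eight; omega) 1)
  refine Binary.not_normalized (K := M₀) (fun h => ?_) (fun h => hM (top_le_iff.1 (h ▸ hM₀))) hN
  have : P he 1 0 ∈ M₀ := le_sup_left (b := U') (P_mem_uGroup he 1 0)
  rw [h, Subgroup.mem_bot, ← P_zero he] at this
  exact one_ne_zero (P_injective he this).1

end CfsgLib.PGroup.SzBinary
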