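import Cfsg.Agent.Lib.PGroup.SzBinaryBase

set_option autoImplicit false
set_option linter.unusedSectionVars false

/-!
A stabiliser of even order in a binary action of a Suzuki group.
-/

namespace CfsgLib.PGroup.SzBinary

open Cfsg.Lie CfsgLib.KnownB.SzElem CfsgLib.KnownB.Suzuki CfsgLib.KnownB CfsgLib.PGroup.SzSol

variable {F : Type*} [Field F] [Fintype F] {e : ℕ} (hp : Params F e)
include hp

/-- A binary action with an involution in the stabiliser: the whole centre is in it. -/
theorem Z_mem {S : Subgroup (Sz F e)} (hb : Binary.IsBinary S) (hH : S ≠ ⊤) {b₀ : F} (hb₀ : b₀ ≠ 0)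
    (ht : P hp.twist 0 b₀ ∈ S) : ∀ c, P hp.twist 0 c ∈ S := by
  classical
  have he := hp.twist
  set t := P he 0 b₀
  have htf := Binary.fixes_of_mem_self (H := S) ht
  set K := Binary.K S t with hKdef
  suffices h : ∀ c, P he 0 c ∈ K by
    intro c
    simpa using Binary.mem_of_mem_K (h c) (x := 1) (by simpa using ht)
  have hUN : uGroup he ≤ Subgroup.normalizer (K : Set (Sz F e)) := by
    rintro _ ⟨⟨a, b⟩, rfl⟩
    exact Binary.mem_normalizer_of_K (by rw [← Z_comm, mul_inv_cancel_right])
  haveI : IsSimpleGroup (Sz F e) := isSimpleGroup he (Fintype.exists_ne_of_one_lt_card (by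
    rw [Fintype.card_units]; have := hp.eight; omega) 1)
  have hKB : K ≤ borel F e := by
    refine le_trans Subgroup.le_normalizer (le_borel_of_uGroup hp hUN fun h => ?_)
    refine Binary.not_normalized (K := K) (fun e1 => ?_) (Binary.K_ne_top hH htf) h
    have h1 := Binary.self_mem_K (H := S) t
    rw [← hKdef, e1, Subgroup.mem_bot] at h1
    exact Z_ne_one he hb₀ h1
  by_cases hKU : K ≤ uGroup he
  · obtain ⟨g₀, hg₀, hle⟩ := Binary.exists_minimal_le (Z_ne_one he hb₀) htf
    have hgK : g₀ ∈ K := hle (Binary.self_mem_K g₀)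
    obtain ⟨s, hsm, hs2⟩ : ∃ s ∈ Binary.K S g₀, s ≠ 1 ∧ s * s = 1 := by
      by_cases h1 : g₀ * g₀ = 1
      · exact ⟨g₀, Binary.self_mem_K g₀, hg₀.ne, h1⟩
      · refine ⟨g₀ * g₀, mul_mem (Binary.self_mem_K g₀) (Binary.self_mem_K g₀), h1, ?_⟩
        have h4 := pow_four he (hKU hgK)
        rw [pow_mul g₀ 2 2, pow_two (g₀ ^ 2), pow_two g₀] at h4
        exact h4
    have hsM := hg₀.of_mem hsm hs2.1
    obtain ⟨b₁, rfl⟩ := exists_Z_of_sq he (hKU (hle hsm)) hs2.2
    intro c
    refine hle ((hg₀.min _ hsm hs2.1) ▸ ?_)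
    by_cases hc : c = 0
    · rw [hc, P_zero]; exact one_mem _
    by_cases hcb : c = b₁
    · rw [hcb]; exact Binary.self_mem_K _
    have hbc : b₁ + c ≠ 0 := fun e1 => hcb (by linear_combination e1 - b₁ * he.two)
    have hb₁ : b₁ ≠ 0 := fun e1 => hs2.1 (by rw [e1, P_zero])
    have hcj : ∀ d : F, d ≠ 0 → Binary.Minimal S (P he 0 d) := by
      intro d hd
      obtain ⟨g, hg⟩ := conj_involution hp (Z_sq he b₁) hs2.1 hd
      rw [← hg]
      exact hsM.conj g
    have h := Binary.mem_of_factor hb hsM (hcj _ hbc) (hcj c hc) (by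
      rw [Z_mul, add_assoc, add_self_zero he, add_zero])
    have h' := mul_mem (inv_mem (Binary.self_mem_K (H := S) (P he 0 b₁))) h
    rwa [Z_inv, Z_mul, ← add_assoc, add_self_zero he, zero_add] at h'
  · obtain ⟨y, hyK, hyU⟩ := SetLike.not_le_iff_exists.1 hKU
    obtain ⟨a, b, r, rfl⟩ := exists_borel_eq he y (hKB hyK)
    have hr : r ≠ 1 := fun h => hyU (by rw [h, H_one, mul_one]; exact P_mem_uGroup he a b)
    have hρ : (r : F) ^ (e + 2) + 1 ≠ 0 := fun h => hr (Units.ext (eq_one_of_pow_e2 he (by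
      linear_combination h - he.two)))
    intro c
    set d := c / ((r : F) ^ (e + 2) + 1) with hd
    have h1 : (P he a b * H e he r) * (P he 0 d * (P he a b * H e he r)⁻¹ * (P he 0 d)⁻¹) ∈ K :=
      mul_mem hyK ((Subgroup.mem_normalizer_iff.1 (hUN (P_mem_uGroup he 0 d)) _).1 (inv_mem hyK))
    rw [← mul_assoc, ← mul_assoc, conj_P_zero, Z_inv, Z_mul,
      show (r : F) ^ (e + 2) * d + d = ((r : F) ^ (e + 2) + 1) * d by ring,
      mul_div_cancel₀ _ hρ] at h1
    exact h1

/-- A proper subgroup containing the centre is parabolic. -/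
theorem le_borel_of_centre {S : Subgroup (Sz F e)} (hZ : ∀ c, P hp.twist 0 c ∈ S) (hH : S ≠ ⊤) :
    S ≤ borel F e := by
  classical
  have he := hp.twist
  have h2 := he.two
  rcases subgroup_shape hp S with ⟨g, hg⟩ | ⟨x, hx1, hx2, hxM⟩ | ⟨K, -, g, hg⟩
  · have h1 := hg (mem_conjSub.2 (hZ 1))
    have hgB := borel_unique he (P_mem_uGroup he 0 1) (Z_ne_one he one_ne_zero) h1
    intro y hy
    have h := mul_mem (mul_mem (inv_mem hgB) (hg (mem_conjSub.2 hy))) hgB
    simpa [mul_assoc] using h
  · exfalso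
    obtain ⟨D⟩ := exists_bases hp
    obtain ⟨T, k, hT, hxT⟩ : ∃ T k, IsTor T k ∧ x ∈ T := by
      rcases D.cases hx1 with ⟨-, c, hc⟩ | ⟨i, -, c, hc⟩
      · refine absurd ?_ hx2
        have h1 := (uGroup_isPGroup he).to_le (centralizer_le_uGroup he hc
          (fun h => hx1 (conj_eq_one_iff.1 h)))
        rw [show c * x * c⁻¹ = MulAut.conj c x from rfl, ← map_centralizer_singleton] at h1
        exact h1.of_equiv ((Subgroup.centralizer {x}).equivMapOfInjective _
          (MulAut.conj c).injective).symm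
      · exact ⟨_, _, (D.tor i).conj c⁻¹, mem_cj.2 (by rwa [inv_inv])⟩
    rw [hT.cent x hxT hx1] at hxM
    obtain ⟨d, hd0, hd1⟩ : ∃ d : F, d ≠ 0 ∧ d ≠ 1 := by
      by_contra! hall
      have h1 := (Finset.card_le_card (s := (Finset.univ : Finset F)) (t := {0, 1}) fun z _ => by
        by_cases hz : z = 0
        · simp [hz]
        · simp [hall z hz]).trans Finset.card_le_two
      rw [Finset.card_univ] at h1
      have := hp.eight
      omega
    have hz : (1 : F) + d ≠ 0 := fun e1 => hd1 (by linear_combination e1 - h2)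
    have hcz : P he 0 (1 + d) ∈ Subgroup.centralizer {x} := by
      rw [Subgroup.mem_centralizer_singleton_iff, ← mul_inv_eq_iff_eq_mul, ← Z_mul, _root_.mul_inv_rev]
      calc P he 0 1 * P he 0 d * x * ((P he 0 d)⁻¹ * (P he 0 1)⁻¹)
          = P he 0 1 * (P he 0 d * x * (P he 0 d)⁻¹) * (P he 0 1)⁻¹ := by group
        _ = x := by
          rw [hT.inverts (hxM (hZ d)) (Z_sq he d) (Z_ne_one he hd0) hxT,
            hT.inverts (hxM (hZ 1)) (Z_sq he 1) (Z_ne_one he one_ne_zero) (inv_mem hxT), inv_inv]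
    rw [hT.cent x hxT hx1] at hcz
    exact Z_ne_one he hz (hT.eq_one_of_pow_two_pow hcz (j := 1) (by rw [pow_one, pow_two, Z_sq]))
  · have htr : ∀ y ∈ S, Matrix.trace (mat y) ∈ K := by
      intro y hy
      obtain ⟨z, hz⟩ : g * y * g⁻¹ ∈ (subHom K.subtype he).range := hg ▸ mem_conjSub.2 hy
      have e1 : Matrix.trace (mat (g * y * g⁻¹)) = Matrix.trace (mat y) := by
        have hone : mat g⁻¹ * mat g = 1 := by rw [← mat_mul, inv_mul_cancel]; rfl
        rw [mat_mul, mat_mul, Matrix.trace_mul_comm, ← Matrix.mul_assoc, hone, Matrix.one_mul]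
      rw [← e1, ← hz, mat_subHom]
      simp only [Matrix.trace, Matrix.diag_apply, Matrix.map_apply]
      exact sum_mem fun i _ => (mat z i i).2
    intro y₀ hy₀
    by_contra hyB
    set M := mat y₀ with hM
    have h30 : M 3 0 ≠ 0 := fun h => hyB (mem_borel_of_col he y₀ h)
    set L := M 2 0 + M 3 1
    let f : F →+ F :=
      { toFun := fun c => c * L + c ^ e * M 3 0
        map_zero' := by rw [zero_pow_e he]; ring
        map_add' := fun x y => by rw [he.add_pow]; ring }
    have hf : ∀ c, f c ∈ K := by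
      intro c
      have e1 : f c = Matrix.trace (mat (P he 0 c * y₀)) - Matrix.trace M := by
        show c * L + c ^ e * M 3 0 = _
        rw [mat_mul, mat_P, ← hM]
        simp [L, Pmat, nrm, zero_pow_e he, Matrix.trace, Matrix.mul_apply, Matrix.vecMul, dotProduct, Fin.sum_univ_four]
        ring
      rw [e1]
      exact sub_mem (htr _ (mul_mem (hZ c) hy₀)) (htr _ hy₀)
    have hker : ∀ c c' : F, c ≠ 0 → c' ≠ 0 → f c = 0 → f c' = 0 → c = c' := by
      intro c c' hc hc' h1 h3
      change c * L + c ^ e * M 3 0 = 0 at h1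
      change c' * L + c' ^ e * M 3 0 = 0 at h3
      have h5 : (c * c' ^ e - c' * c ^ e) * M 3 0 = 0 := by linear_combination c * h3 - c' * h1
      have h6 : c * c' ^ e = c' * c ^ e := sub_eq_zero.1 ((mul_eq_zero.1 h5).resolve_right h30)
      have h7 : (c / c') ^ e = c / c' := by
        rw [div_pow, div_eq_div_iff (pow_ne_zero _ hc') hc']; linear_combination -h6
      have h8 := he.pow_pow (c / c')
      rw [h7, h7] at h8
      have h9 : (c / c') * ((c / c') - 1) = 0 := by linear_combination -h8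
      rcases mul_eq_zero.1 h9 with h10 | h10
      · exact absurd h10 (div_ne_zero hc hc')
      · exact (div_eq_one_iff_eq hc').1 (sub_eq_zero.1 h10)
    have hkc : Nat.card f.ker ≤ 2 := by
      rw [← Nat.card_fin 2]
      refine Nat.card_le_card_of_injective (fun c : f.ker => if (c : F) = 0 then (0 : Fin 2) else 1) ?_
      intro c c' h
      simp only at h
      by_cases h1 : (c : F) = 0 <;> by_cases h3 : (c' : F) = 0 <;> simp [h1, h3] at h ⊢
      · exact Subtype.ext (h1.trans h3.symm)
      · exact Subtype.ext (hker _ _ h1 h3 c.2 c'.2)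
    have hrc : Nat.card f.range ≤ Nat.card K :=
      Nat.card_le_card_of_injective (fun v : f.range => (⟨v.1, by
        obtain ⟨c, hc⟩ := v.2; exact hc ▸ hf c⟩ : K))
        fun v v' h => Subtype.ext (congrArg (fun w : K => (w : F)) h)
    have hq : Fintype.card F ≤ 2 * Nat.card K := by
      rw [← Nat.card_eq_fintype_card, AddSubgroup.card_eq_card_quotient_mul_card_addSubgroup f.ker,
        Nat.card_congr (QuotientAddGroup.quotientKerEquivRange f).toEquiv, mul_comm]
      exact Nat.mul_le_mul hkc hrc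
    have hKlt : Nat.card K * Nat.card K ≤ Fintype.card F := by
      have h := Module.natCard_eq_pow_finrank (K := K) (V := F)
      rw [Nat.card_eq_fintype_card (α := F)] at h
      have h1 : 1 ≤ Module.finrank K F := Module.finrank_pos
      rcases h1.eq_or_lt with e1 | e1
      · exfalso
        rw [← e1, pow_one] at h
        have : Fintype K := Fintype.ofFinite K
        refine hH ?_
        have hr : (subHom K.subtype he).range = ⊤ := by
          refine Subgroup.eq_top_of_card_eq _ ?_
          rw [card_subHom_range, card_eq hp, ← Nat.card_eq_fintype_card (α := K), ← h]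
        rw [hr] at hg
        exact eq_top_iff.2 fun z _ => mem_conjSub.1 (hg.symm ▸ Subgroup.mem_top (g * z * g⁻¹))
      · rw [h, ← pow_two]
        exact Nat.pow_le_pow_right Nat.card_pos e1
    have := hp.eight
    nlinarith

omit hp in
theorem W_triple (he : Twist F e) :
    P he 1 0 * (P he 1 1 * W he) = W he ∧
      W he * P he 0 1 * W he * P he 1 0 * W he = P he 1 0 ∧
      W he * P he 1 0 * W he * P he 1 1 * W he = P he 0 1 ∧
      W he * P he 1 1 * W he * P he 1 0 * W he ∉ borel F e ∧
      ∀ σ : F, W he * P he 1 1 * W he * P he 1 (1 + σ) * W he ∉ borel F e := by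
  have h2 := he.two
  have h0 := zero_pow_e he
  refine ⟨?_, mat_injective ?_, mat_injective ?_, fun h => ?_, fun σ h => ?_⟩
  · rw [← mul_assoc, P_mul, show (1 : F) + 1 = 0 by linear_combination h2,
      show (0 : F) + 1 + 1 ^ e * 1 = 0 by rw [one_pow]; linear_combination h2, P_zero, one_mul]
  · simp only [mat_mul, mat_W, mat_P]
    ext i j
    fin_cases i <;> fin_cases j <;>
      simp [Jmat, Pmat, nrm, h0, Matrix.mul_apply, Fin.sum_univ_four] <;> grind
  · simp only [mat_mul, mat_W, mat_P]
    ext i j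
    fin_cases i <;> fin_cases j <;>
      simp [Jmat, Pmat, nrm, h0, Matrix.mul_apply, Fin.sum_univ_four] <;> grind
  · have := (mem_borel.1 h).2.2
    simp [mat_mul, mat_W, mat_P, Jmat, Pmat, nrm, h0, Matrix.mul_apply, Fin.sum_univ_four] at this
    exact one_ne_zero (α := F) (by linear_combination this - 2 * h2)
  · have h1 := (mem_borel.1 h).2.2
    simp [mat_mul, mat_W, mat_P, Jmat, Pmat, nrm, h0, Matrix.mul_apply, Fin.sum_univ_four] at h1
    refine no_root he (1 + σ) ?_
    grind

/-- Elements of two opposite Borel subgroups are in the torus. -/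
theorem eq_H_of_opposite {y : Sz F e} (hy : y ∈ borel F e)
    (hy' : W hp.twist * y * W hp.twist ∈ borel F e) : ∃ r, y = H e hp.twist r := by
  have he := hp.twist
  obtain ⟨a, b, r, rfl⟩ := exists_borel_eq he y hy
  refine ⟨r, ?_⟩
  by_cases h1 : P he a b = 1
  · rw [h1, one_mul]
  exfalso
  rw [mul_assoc, mul_assoc, H_conj_W, ← mul_assoc, ← mul_assoc,
    Subgroup.mul_mem_cancel_right _ (H_mem_borel he _)] at hy'
  have h' := hy'
  exact W_notMem_borel he (borel_unique he (P_mem_uGroup he a b) h1 (by rwa [W_inv]))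

/-- A binary stabiliser containing the centre has no elements of order four in `U`. -/
theorem uGroup_inter {S : Subgroup (Sz F e)} (hb : Binary.IsBinary S) (hH : S ≠ ⊤)
    (hZ : ∀ c, P hp.twist 0 c ∈ S) {a b : F} (hab : P hp.twist a b ∈ S) : a = 0 := by
  classical
  have he := hp.twist
  by_contra ha
  obtain ⟨hWkl, hv, hg1, hnot, hσ⟩ := W_triple he
  have hB := le_borel_of_centre hp hZ hH
  obtain ⟨s, hs⟩ := (units_pow_e_bijective he).2 (Units.mk0 a ha)
  have hs' : (s : F) ^ e = a := by rw [← Units.val_pow_eq_pow_val]; exact congrArg Units.val hs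
  have hP10 : H e he s * P he 1 0 * (H e he s)⁻¹ ∈ S := by
    rw [H_conj_P, hs', mul_one, mul_zero]
    have := mul_mem (hZ b) hab
    rwa [Z_comm, P_mul, add_zero, mul_zero, add_zero, add_self_zero he] at this
  set g := P he 1 0 * W he with hg
  have hl : P he 1 1 * W he = g * P he 1 0 * g⁻¹ := by
    rw [eq_mul_inv_iff_mul_eq]
    conv_rhs => rw [← hv]
    rw [hg]
    simp only [mul_assoc]
    have h11 : P he 1 0 * (W he * (W he * (P he 0 1 * (W he * (P he 1 0 * W he))))) =
        P he 1 1 * (W he * (P he 1 0 * W he)) := by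
      rw [← mul_assoc (W he) (W he), W_mul_W, one_mul, ← mul_assoc, P_mul, add_zero,
        zero_add, mul_zero, add_zero]
    exact h11.symm
  set c₀ : Sz F e := g * (H e he s)⁻¹ with hc₀
  refine Binary.not_binary' (h := W he) (k := P he 1 0) (l := P he 1 1 * W he)
    (c := (c₀ : Sz F e ⧸ S)) hWkl.symm ?_ ?_ ?_ hb
  · rw [Binary.smul_coset_iff, hl, hc₀]
    convert hP10 using 1
    group
  · intro h
    rw [Binary.smul_coset_iff, hc₀] at h
    have h1 := hB h
    have h3 := mul_mem (mul_mem (inv_mem (H_mem_borel he s)) h1) (H_mem_borel he s)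
    refine hnot ?_
    convert h3 using 1
    rw [hg, _root_.mul_inv_rev, _root_.mul_inv_rev, W_inv, P_inv, zero_add, one_pow, one_mul]
    group
  · rintro z ⟨hzW, hzk⟩ hzc
    have hzB : z ∈ borel F e := by
      have h1 := hB (Binary.mem_of_mem_K hzk (x := (H e he s)⁻¹) (by rwa [inv_inv]))
      have h3 := mul_mem (mul_mem (inv_mem (H_mem_borel he s)) h1) (H_mem_borel he s)
      convert h3 using 1
      group
    have hW1 : (P he 1 1 * W he)⁻¹ * W he * (P he 1 1 * W he) ∈ S := by
      rw [_root_.mul_inv_rev, W_inv, P_inv, one_pow, one_mul, add_self_zero he]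
      have := hZ 1
      rw [← hg1] at this
      simpa [mul_assoc] using this
    set y := (P he 1 1 * W he)⁻¹ * z * (P he 1 1 * W he) with hy
    have hyB : y ∈ borel F e := hB (Binary.mem_of_mem_K hzW hW1)
    have hzy : W he * y * W he = (P he 1 1)⁻¹ * z * P he 1 1 := by
      rw [hy, _root_.mul_inv_rev, W_inv]
      calc W he * (W he * (P he 1 1)⁻¹ * z * (P he 1 1 * W he)) * W he
          = (W he * W he) * ((P he 1 1)⁻¹ * z * P he 1 1) * (W he * W he) := by simp only [mul_assoc]
        _ = _ := by rw [W_mul_W, one_mul, mul_one]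
    have hyW : W he * y * W he ∈ borel F e := hzy ▸
      mul_mem (mul_mem (inv_mem (P_mem_borel he 1 1)) hzB) (P_mem_borel he 1 1)
    obtain ⟨r, hr⟩ := eq_H_of_opposite hp hyB hyW
    rw [hr, W_conj_H] at hzy
    have hz : z = P he 1 1 * H e he r⁻¹ * (P he 1 1)⁻¹ := by rw [hzy]; group
    rw [eq_comm, ← inv_smul_eq_iff, ← mul_smul, Binary.smul_coset_iff, hc₀] at hzc
    have h1 := hB hzc
    have h3 := mul_mem (mul_mem (inv_mem (H_mem_borel he s)) h1) (H_mem_borel he s)
    set σ := ((r⁻¹ : Fˣ) : F) ^ (e + 2) with hσd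
    have h5 : g⁻¹ * (W he)⁻¹ * z * g ∈ borel F e := by
      convert inv_mem h3 using 1
      group
    have e1 : g⁻¹ * (W he)⁻¹ * z * g =
        W he * P he 1 1 * W he * P he 1 (1 + σ) * W he * H e he r⁻¹⁻¹ := by
      have e2 : H e he r⁻¹ * P he 0 1 = P he 0 σ * H e he r⁻¹ := by
        rw [H_mul_P, mul_zero, mul_one]
      rw [hz, hg, _root_.mul_inv_rev, W_inv, P_inv, P_inv, zero_add, one_pow, one_mul,
        add_self_zero he]
      calc W he * P he 1 1 * W he * (P he 1 1 * H e he r⁻¹ * P he 1 0) * (P he 1 0 * W he)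
          = W he * P he 1 1 * W he * P he 1 1 * (H e he r⁻¹ * (P he 1 0 * P he 1 0)) * W he := by
            simp only [mul_assoc]
        _ = W he * P he 1 1 * W he * (P he 1 1 * P he 0 σ) * (H e he r⁻¹ * W he) := by
            rw [P_mul, add_self_zero he, zero_add, one_pow, one_mul, zero_add, e2]
            simp only [mul_assoc]
        _ = _ := by
            rw [P_mul, add_zero, mul_zero, add_zero, H_conj_W]
            simp only [mul_assoc]
    rw [e1, Subgroup.mul_mem_cancel_right _ (H_mem_borel he _)] at h5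
    exact hσ σ h5

/-- A binary stabiliser containing the centre is the centre. -/
theorem eq_zGroup {S : Subgroup (Sz F e)} (hb : Binary.IsBinary S) (hH : S ≠ ⊤)
    (hZ : ∀ c, P hp.twist 0 c ∈ S) : S = zGroup hp.twist := by
  classical
  have he := hp.twist
  have hB := le_borel_of_centre hp hZ hH
  refine le_antisymm (fun y hy => ?_) (by rintro _ ⟨b, rfl⟩; exact hZ b)
  obtain ⟨a, b, s, rfl⟩ := exists_borel_eq he y (hB hy)
  by_cases hs : s = 1
  · rw [hs, H_one, mul_one] at hy ⊢
    rw [uGroup_inter hp hb hH hZ hy]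
    exact ⟨b, rfl⟩
  exfalso
  obtain ⟨c, d, hcd⟩ := exists_conj_H he a b hs
  set H' := S.map (MulAut.conj (P he c d)⁻¹).toMonoidHom with hH'def
  have hb' : Binary.IsBinary H' := hb.conj _
  have hH' : H' ≠ ⊤ := fun h => hH (Subgroup.map_injective (MulAut.conj (P he c d)⁻¹).injective
    (h.trans (Subgroup.map_top_of_surjective _ (MulAut.conj (P he c d)⁻¹).surjective).symm))
  have hZ' : ∀ w, P he 0 w ∈ H' := fun w => ⟨P he 0 w, hZ w, by
    show (P he c d)⁻¹ * P he 0 w * (P he c d)⁻¹⁻¹ = P he 0 w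
    rw [inv_inv, mul_assoc, Z_comm, inv_mul_cancel_left]⟩
  have hs' : H e he s ∈ H' := ⟨_, hy, by
    show (P he c d)⁻¹ * (P he a b * H e he s) * (P he c d)⁻¹⁻¹ = H e he s
    rw [← hcd]; group⟩
  have hB' := le_borel_of_centre hp hZ' hH'
  have hz1 : (s : F) ^ (e + 2) + 1 ≠ 0 := fun h => hs (Units.ext (eq_one_of_pow_e2 he (by
    linear_combination h - he.two)))
  have hkl : P he 0 ((s : F) ^ (e + 2) + 1) =
      H e he s * (P he 0 1 * (H e he s)⁻¹ * P he 0 1) := by
    have e1 := H_Z he s 1
    rw [mul_one] at e1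
    rw [← Z_mul, ← e1]
    group
  refine Binary.not_binary' (c := ((P he 0 1 * W he : Sz F e) : Sz F e ⧸ H')) hkl ?_ ?_ ?_ hb'
  · rw [Binary.smul_coset_iff]
    convert hs' using 1
    calc (P he 0 1 * W he)⁻¹ * (P he 0 1 * (H e he s)⁻¹ * P he 0 1) * (P he 0 1 * W he)
        = (W he * ((P he 0 1)⁻¹ * P he 0 1) * (H e he s)⁻¹ * (P he 0 1 * P he 0 1)) * W he := by
          rw [_root_.mul_inv_rev, W_inv]; simp only [mul_assoc]
      _ = _ := by rw [inv_mul_cancel, mul_one, Z_sq, mul_one, H_inv, W_conj_H, inv_inv]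
  · intro h
    rw [Binary.smul_coset_iff] at h
    have h1 := hB' h
    rw [_root_.mul_inv_rev, W_inv, Z_inv] at h1
    refine W_notMem_borel he (borel_unique he (P_mem_uGroup he 0 ((s : F) ^ (e + 2) + 1))
      (Z_ne_one he hz1) ?_)
    rw [W_inv]
    convert h1 using 1
    calc W he * P he 0 ((s : F) ^ (e + 2) + 1) * W he
        = W he * (P he 0 1 * P he 0 ((s : F) ^ (e + 2) + 1) * P he 0 1) * W he := by
          rw [Z_mul, Z_mul, add_right_comm, add_self_zero he, zero_add]
      _ = _ := by simp only [mul_assoc]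
  · rintro z ⟨hzh, hzk⟩ hzc
    have hz1B : z ∈ borel F e := hB' (by simpa using Binary.mem_of_mem_K hzk (x := 1) (by simpa using hs'))
    have hzW : W he * z * W he ∈ borel F e := by
      have := hB' (Binary.mem_of_mem_K hzk (x := W he) (by
        rw [W_inv, W_conj_H, ← H_inv]; exact inv_mem hs'))
      rwa [W_inv] at this
    obtain ⟨r, rfl⟩ := eq_H_of_opposite hp hz1B hzW
    have hr : H e he r ∈ H' := by
      simpa using Binary.mem_of_mem_K hzh (x := 1) (by simpa using hZ' _)
    have hv : (P he 1 0)⁻¹ * H e he r * P he 1 0 ∈ H' := Binary.mem_of_mem_K hzh (x := P he 1 0) (by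
      rw [mul_assoc, Z_comm, inv_mul_cancel_left]; exact hZ' _)
    have h1 := mul_mem hv (inv_mem hr)
    rw [show (P he 1 0)⁻¹ * H e he r * P he 1 0 * (H e he r)⁻¹ =
      (P he 1 0)⁻¹ * (H e he r * P he 1 0 * (H e he r)⁻¹) by group, H_conj_P, P_inv, P_mul] at h1
    have h3 := uGroup_inter hp hb' hH' hZ' h1
    have hr1 : r = 1 := Units.ext (eq_one_of_pow_e he (by linear_combination h3 - he.two))
    rw [hr1, H_one, one_smul, eq_comm, Binary.smul_coset_iff] at hzc
    have h4 := hB' hzc
    refine W_notMem_borel he (borel_unique he (P_mem_uGroup he 0 ((s : F) ^ (e + 2) + 1))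
      (Z_ne_one he hz1) ?_)
    rw [_root_.mul_inv_rev, W_inv, Z_inv] at h4
    rw [W_inv]
    convert h4 using 1
    calc W he * P he 0 ((s : F) ^ (e + 2) + 1) * W he
        = W he * (P he 0 1 * P he 0 ((s : F) ^ (e + 2) + 1) * P he 0 1) * W he := by
          rw [Z_mul, Z_mul, add_right_comm, add_self_zero he, zero_add]
      _ = _ := by simp only [mul_assoc]

end CfsgLib.PGroup.SzBinary
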