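import Cfsg.Agent.Lib.PGroup.SzBinaryBase

set_option autoImplicit false
set_option linter.unusedSectionVars false

/-!
A nontrivial stabiliser of odd order never gives a binary action of a Suzuki group.
-/

namespace CfsgLib.PGroup.SzBinary

open Cfsg.Lie CfsgLib.KnownB.SzElem CfsgLib.KnownB.Suzuki CfsgLib.KnownB CfsgLib.PGroup.SzSol

variable {F : Type*} [Field F] [Fintype F] {e : ℕ} (hp : Params F e)
include hp

theorem odd_orderOf_of_mem {H : Subgroup (Sz F e)} (hH : Odd (Nat.card H)) {x : Sz F e}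
    (hx : x ∈ H) : Odd (orderOf x) :=
  hH.of_dvd_nat (Subgroup.orderOf_dvd_natCard H hx)

theorem eq_one_of_odd_of_pow_four {x : Sz F e} (hodd : Odd (orderOf x)) (h4 : x ^ 4 = 1) : x = 1 := by
  obtain ⟨j, hj, hj'⟩ := (Nat.dvd_prime_pow Nat.prime_two).1
    (show orderOf x ∣ 2 ^ 2 from orderOf_dvd_of_pow_eq_one h4)
  rcases j with _ | j
  · exact orderOf_eq_one_iff.1 hj'
  · rw [hj'] at hodd
    simp [Nat.odd_iff, pow_succ] at hodd

/-- Subgroups of odd order are abelian. -/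
theorem odd_comm {H : Subgroup (Sz F e)} (hH : Odd (Nat.card H)) :
    ∀ x ∈ H, ∀ y ∈ H, x * y = y * x := by
  classical
  have he := hp.twist
  rcases subgroup_shape hp H with ⟨g, hg⟩ | ⟨x₀, hx1, hx2, hxM⟩ | ⟨K, -, g, hg⟩
  · intro x hx y hy
    set z := x * y * x⁻¹ * y⁻¹ with hz
    have hzH : z ∈ H := mul_mem (mul_mem (mul_mem hx hy) (inv_mem hx)) (inv_mem hy)
    have hB : ∀ w ∈ H, g * w * g⁻¹ ∈ borel F e := fun w hw => hg (mem_conjSub.2 hw)
    have hker : torusHom he ⟨g * z * g⁻¹, hB z hzH⟩ = 1 := by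
      have e1 : (⟨g * z * g⁻¹, hB z hzH⟩ : borel F e) = ⟨_, hB x hx⟩ * ⟨_, hB y hy⟩ *
          (⟨_, hB x hx⟩)⁻¹ * (⟨_, hB y hy⟩)⁻¹ :=
        Subtype.ext (show g * z * g⁻¹ =
          g * x * g⁻¹ * (g * y * g⁻¹) * (g * x * g⁻¹)⁻¹ * (g * y * g⁻¹)⁻¹ by rw [hz]; group)
      rw [e1, map_mul, map_mul, map_mul, map_inv, map_inv, mul_comm (torusHom he ⟨_, hB x hx⟩)]
      simp
    obtain ⟨a, b, s, hs⟩ := exists_borel_eq he _ (hB z hzH)
    rw [torusHom_P_mul_H he a b s _ (hB z hzH) hs] at hker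
    have h4 : z ^ 4 = 1 := by
      have h := pow_four he (g := g * z * g⁻¹) (by
        rw [hs, hker, H_one, mul_one]; exact P_mem_uGroup he a b)
      rwa [conj_pow, conj_eq_one_iff] at h
    have := eq_one_of_odd_of_pow_four hp (odd_orderOf_of_mem hp hH hzH) h4
    rw [hz, mul_inv_eq_one, mul_inv_eq_iff_eq_mul] at this
    exact this
  · obtain ⟨D⟩ := exists_bases hp
    obtain ⟨T, k, hT, hxT⟩ : ∃ T k, IsTor T k ∧ x₀ ∈ T := by
      rcases D.cases hx1 with ⟨-, c, hc⟩ | ⟨i, -, c, hc⟩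
      · refine absurd ?_ hx2
        have h1 := (uGroup_isPGroup he).to_le (centralizer_le_uGroup he hc
          (fun h => hx1 (conj_eq_one_iff.1 h)))
        rw [show c * x₀ * c⁻¹ = MulAut.conj c x₀ from rfl, ← map_centralizer_singleton] at h1
        exact h1.of_equiv ((Subgroup.centralizer {x₀}).equivMapOfInjective _
          (MulAut.conj c).injective).symm
      · exact ⟨_, _, (D.tor i).conj c⁻¹, mem_cj.2 (by rwa [inv_inv])⟩
    rw [hT.cent x₀ hxT hx1] at hxM
    have hle : ∀ y ∈ H, y ∈ T := fun y hy => by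
      by_contra hyT
      have h1 := eq_one_of_odd_of_pow_four hp (odd_orderOf_of_mem hp hH hy)
        (hT.pow_four_eq (hxM hy) hyT).2
      exact hyT (h1 ▸ one_mem T)
    exact fun x hx y hy => hT.comm (hle x hx) (hle y hy)
  · exfalso
    have hW : W he ∈ (subHom K.subtype he).range := ⟨_, subHom_W K.subtype he⟩
    rw [← hg] at hW
    obtain ⟨w, hw, hw'⟩ := hW
    have hw2 : w * w = 1 := (MulAut.conj g).injective (by
      rw [map_mul, map_one]
      change MulAut.conj g w = W he at hw'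
      rw [hw', W_mul_W])
    have h1 := eq_one_of_odd_of_pow_four hp (odd_orderOf_of_mem hp hH hw) (by
      rw [pow_mul w 2 2, pow_two w, hw2, one_pow])
    rw [h1, map_one] at hw'
    exact W_notMem_borel he (hw' ▸ one_mem _)

/-- A torus element has a triangle of conjugates not inside the torus. -/
theorem exists_triangle {T : Subgroup (Sz F e)} {k : ℕ} (hT : IsTor T k) {x : Sz F e}
    (hx : x ∈ T) (hx1 : x ≠ 1) :
    ∃ h l c d c' : Sz F e, h = c * x * c⁻¹ ∧ l = d * x * d⁻¹ ∧ h * l⁻¹ = c' * x * c'⁻¹ ∧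
      h * l⁻¹ * h ≠ h * (h * l⁻¹) := by
  classical
  have he := hp.twist
  have h2 := he.two
  obtain ⟨g, κ, hκ, hgx⟩ := norm_form hp hT hx hx1
  by_contra hcon
  push Not at hcon
  -- every translate is degenerate
  have key : ∀ u ∈ uGroup he, u ≠ 1 → u * u = P he 0 1 →
      u ∈ Subgroup.normalizer (cj g T : Set (Sz F e)) := by
    intro u hu hu1 huu
    obtain ⟨b, β, hb, hbβ, g', hg'⟩ := triangle he hu hu1 hκ
    obtain ⟨c, hc⟩ := conj_pair he (one_ne_zero (α := F)) hb (b' := b) (c' := β) (c := κ)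
      (by rw [one_mul, hbβ])
    set h := P he 0 b * J he β with hh
    have hh' : h = (c * g) * x * (c * g)⁻¹ := by
      rw [hc, ← hgx]; group
    set k' := u * h * u⁻¹ with hk'
    have hkl : h * (k'⁻¹ * h)⁻¹ = k' := by group
    have hdeg := hcon h (k'⁻¹ * h) (c * g) (g' * (c * g)) (u * (c * g)) hh'
      (by rw [hk', hg', hh']; group) (by rw [hkl, hk', hh']; group)
    rw [hkl] at hdeg
    set T₁ := cj (c * g) T
    have hT₁ : IsTor T₁ k := hT.conj _
    have hh1 : h ≠ 1 := fun e1 => hx1 (conj_eq_one_iff.1 (hh'.symm.trans e1))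
    have hhT : h ∈ T₁ := hh' ▸ ⟨x, hx, rfl⟩
    have hk1 : k' ≠ 1 := fun e1 => hh1 (conj_eq_one_iff.1 e1)
    have hkT : k' ∈ T₁ := by
      rw [← hT₁.cent h hhT hh1, Subgroup.mem_centralizer_singleton_iff]; exact hdeg
    have huN : u ∈ Subgroup.normalizer (T₁ : Set (Sz F e)) :=
      cj_eq_iff_mem_normalizer.1 ((hT₁.conj u).eq_of_mem hT₁ hk1 ⟨h, hhT, rfl⟩ hkT)
    have hbN : P he 0 b ∈ Subgroup.normalizer (T₁ : Set (Sz F e)) := by
      refine cj_eq_iff_mem_normalizer.1 ((hT₁.conj _).eq_of_mem hT₁ (inv_ne_one.2 hh1) ?_ (inv_mem hhT))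
      refine ⟨h, hhT, ?_⟩
      show P he 0 b * h * (P he 0 b)⁻¹ = h⁻¹
      rw [hh, ← mul_assoc (P he 0 b), Z_sq, one_mul, _root_.mul_inv_rev, J_inv]
    have h1N : P he 0 1 ∈ Subgroup.normalizer (T₁ : Set (Sz F e)) := huu ▸ mul_mem huN huN
    have hb1 : b = 1 := by
      by_contra hne
      have hz : (1 : F) + b ≠ 0 := fun e1 => hne (by linear_combination e1 - h2)
      have hcz : P he 0 (1 + b) ∈ Subgroup.centralizer {h} := by
        rw [Subgroup.mem_centralizer_singleton_iff, ← mul_inv_eq_iff_eq_mul, ← Z_mul,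
          _root_.mul_inv_rev]
        calc P he 0 1 * P he 0 b * h * ((P he 0 b)⁻¹ * (P he 0 1)⁻¹)
            = P he 0 1 * (P he 0 b * h * (P he 0 b)⁻¹) * (P he 0 1)⁻¹ := by group
          _ = h := by
            rw [hT₁.inverts hbN (Z_sq he b) (Z_ne_one he hb) hhT,
              hT₁.inverts h1N (Z_sq he 1) (Z_ne_one he one_ne_zero) (inv_mem hhT), inv_inv]
      rw [hT₁.cent h hhT hh1] at hcz
      exact Z_ne_one he hz (hT₁.eq_one_of_pow_two_pow hcz (j := 1) (by rw [pow_one, pow_two, Z_sq]))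
    subst hb1
    rw [one_mul] at hbβ
    subst hbβ
    have : T₁ = cj g T := by
      refine hT₁.eq_of_mem (hT.conj g) hh1 hhT ?_
      rw [hh, ← hgx]
      exact ⟨x, hx, rfl⟩
    exact this ▸ huN
  obtain ⟨d, hd⟩ : ∃ d : F, d ∉ ({0, 1} : Finset F) := by
    by_contra! hall
    have h1 := (Finset.card_le_card (fun z _ => hall z : Finset.univ ⊆ ({0, 1} : Finset F))).trans
      Finset.card_le_two
    rw [Finset.card_univ] at h1
    have := hp.eight
    omega
  simp only [Finset.mem_insert, Finset.mem_singleton, not_or] at hd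
  have hu : ∀ z : F, P he 1 z * P he 1 z = P he 0 1 := fun z => by
    rw [P_mul]; congr 1
    · linear_combination h2
    · rw [one_pow, one_mul, add_self_zero he, zero_add]
  have hne : ∀ z : F, P he 1 z ≠ 1 := fun z h => by
    rw [← P_zero he] at h; exact one_ne_zero (P_injective he h).1
  have hN0 := key _ (P_mem_uGroup he 1 0) (hne 0) (hu 0)
  have hNd := key _ (P_mem_uGroup he 1 d) (hne d) (hu d)
  have hdN := mul_mem (inv_mem hN0) hNd
  have h1N : P he 0 1 ∈ Subgroup.normalizer (cj g T : Set (Sz F e)) := hu 0 ▸ mul_mem hN0 hN0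
  rw [P_inv, P_mul, add_self_zero he,
    show (0 : F) + 1 ^ e * 1 + d + 1 ^ e * 1 = d by rw [one_pow]; linear_combination h2] at hdN
  have hz : (1 : F) + d ≠ 0 := fun e1 => hd.2 (by linear_combination e1 - h2)
  set h := g * x * g⁻¹ with hh
  have hhT : h ∈ cj g T := ⟨x, hx, rfl⟩
  have hh1 : h ≠ 1 := fun e1 => hx1 (conj_eq_one_iff.1 e1)
  have hcz : P he 0 (1 + d) ∈ Subgroup.centralizer {h} := by
    rw [Subgroup.mem_centralizer_singleton_iff, ← mul_inv_eq_iff_eq_mul, ← Z_mul, _root_.mul_inv_rev]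
    calc P he 0 1 * P he 0 d * h * ((P he 0 d)⁻¹ * (P he 0 1)⁻¹)
        = P he 0 1 * (P he 0 d * h * (P he 0 d)⁻¹) * (P he 0 1)⁻¹ := by group
      _ = h := by
        rw [(hT.conj g).inverts hdN (Z_sq he d) (Z_ne_one he hd.1) hhT,
          (hT.conj g).inverts h1N (Z_sq he 1) (Z_ne_one he one_ne_zero) (inv_mem hhT), inv_inv]
  rw [(hT.conj g).cent h hhT hh1] at hcz
  exact Z_ne_one he hz ((hT.conj g).eq_one_of_pow_two_pow hcz (j := 1) (by rw [pow_one, pow_two, Z_sq]))

/-- The action with a nontrivial stabiliser of odd order is not binary. -/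
theorem not_binary_odd {H : Subgroup (Sz F e)} (hH : Odd (Nat.card H)) (hne : H ≠ ⊥) :
    ¬ Binary.IsBinary H := by
  classical
  obtain ⟨x, hxH, hx1⟩ : ∃ x ∈ H, x ≠ (1 : Sz F e) := by
    by_contra! hh
    exact hne ((Subgroup.eq_bot_iff_forall H).2 hh)
  have hcomm := odd_comm hp hH
  obtain ⟨T, k, hT, hxT⟩ := exists_tor hp hx1 (odd_orderOf_of_mem hp hH hxH)
  obtain ⟨h, l, c, d, c', hh, hl, hk, hne'⟩ := exists_triangle hp hT hxT hx1
  set k' := h * l⁻¹ with hk'
  have hfix : ∀ (g : Sz F e), (g * x * g⁻¹) • (g : Sz F e ⧸ H) = (g : Sz F e ⧸ H) := fun g => by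
    rw [Binary.smul_coset_iff, show g⁻¹ * (g * x * g⁻¹) * g = x by group]; exact hxH
  have hK : ∀ (g : Sz F e), ∀ z ∈ Binary.K H (g * x * g⁻¹), z * (g * x * g⁻¹) = g * x * g⁻¹ * z := by
    intro g z hz
    have h1 := Binary.mem_of_mem_K hz (x := g) (by
      rw [show g⁻¹ * (g * x * g⁻¹) * g = x by group]; exact hxH)
    have h2 := congrArg (fun w => g * w * g⁻¹) (hcomm _ h1 x hxH)
    simpa [mul_assoc] using h2
  refine Binary.not_binary (k := k') (l := l) (h := h) (by rw [hk', inv_mul_cancel_right]) ?_ ?_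
  · intro hhl
    rw [hl] at hhl
    have h1 := hK d h hhl
    rw [← hl] at h1
    have h1' : l⁻¹ * h = h * l⁻¹ := by
      rw [eq_mul_inv_iff_mul_eq, mul_assoc, h1, inv_mul_cancel_left]
    exact hne' (by rw [hk', mul_assoc, h1'])
  · refine eq_bot_iff.2 fun z hz => Subgroup.mem_bot.2 ?_
    by_contra hz1
    have hz' := hz.1
    have hz'' := hz.2
    rw [hh] at hz'
    rw [hk] at hz''
    have h1 := hK c z hz'
    have h2 := hK c' z hz''
    rw [← hh] at h1
    rw [← hk] at h2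
    set T₁ := cj c T
    have hT₁ : IsTor T₁ k := hT.conj c
    have hh1 : h ≠ 1 := fun e1 => hx1 (conj_eq_one_iff.1 (hh.symm.trans e1))
    have hhT : h ∈ T₁ := hh ▸ ⟨x, hxT, rfl⟩
    have hzT : z ∈ T₁ := by
      rw [← hT₁.cent h hhT hh1, Subgroup.mem_centralizer_singleton_iff]; exact h1
    have hkT : k' ∈ T₁ := by
      rw [← hT₁.cent z hzT hz1, Subgroup.mem_centralizer_singleton_iff]; exact h2.symm
    exact hne' (hT₁.comm hkT hhT)

end CfsgLib.PGroup.SzBinary
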