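import Cfsg.Agent.Lib.PGroup.SzBinaryOdd
import Cfsg.Agent.Lib.PGroup.SzBinaryEven

set_option autoImplicit false
set_option linter.unusedSectionVars false

/-!
The binary coset actions of the Suzuki groups.
-/

namespace CfsgLib.PGroup.SzBinary

open Cfsg.Lie CfsgLib.KnownB.SzElem CfsgLib.KnownB.Suzuki CfsgLib.KnownB CfsgLib.PGroup.SzSol

variable {F : Type*} [Field F] [Fintype F] {e : ℕ} (hp : Params F e)
include hp

/-- The action on the cosets of the centre of a Sylow subgroup is binary. -/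
theorem binary_zGroup : Binary.IsBinary (zGroup hp.twist) := by
  have he := hp.twist
  have hst : ∀ (x : Sz F e) (u : Sz F e), u • (x : Sz F e ⧸ zGroup he) = (x : Sz F e ⧸ zGroup he) ↔
      x⁻¹ * u * x ∈ zGroup he := fun x u => Binary.smul_coset_iff u x
  have hTI : ∀ a b : Sz F e ⧸ zGroup he, ∀ u : Sz F e, u ≠ 1 → u • a = a → u • b = b →
      MulAction.stabilizer (Sz F e) a = MulAction.stabilizer (Sz F e) b := by
    intro a b u hu1 hua hub
    induction a using QuotientGroup.induction_on with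
    | H x =>
    induction b using QuotientGroup.induction_on with
    | H y =>
    obtain ⟨c, hc⟩ := (hst x u).1 hua
    obtain ⟨c', hc'⟩ := (hst y u).1 hub
    change P he 0 c = _ at hc
    change P he 0 c' = _ at hc'
    have hcne : P he 0 c ≠ 1 := fun h => hu1 (by
      rw [hc] at h
      calc u = x * (x⁻¹ * u * x) * x⁻¹ := by group
        _ = 1 := by rw [h]; group)
    have hB : y⁻¹ * x ∈ borel F e := borel_unique he (P_mem_uGroup he 0 c) hcne (by
      rw [hc, show y⁻¹ * x * (x⁻¹ * u * x) * (y⁻¹ * x)⁻¹ = y⁻¹ * u * y by group, ← hc']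
      exact P_mem_borel he 0 c')
    ext g
    rw [MulAction.mem_stabilizer_iff, MulAction.mem_stabilizer_iff, hst, hst]
    constructor
    · rintro ⟨d, hd⟩
      change P he 0 d = _ at hd
      obtain ⟨d', hd'⟩ := mem_zGroup_conj he hB d
      exact ⟨d', by show P he 0 d' = _; rw [← hd', hd]; group⟩
    · rintro ⟨d, hd⟩
      change P he 0 d = _ at hd
      obtain ⟨d', hd'⟩ := mem_zGroup_conj he (inv_mem hB) d
      exact ⟨d', by show P he 0 d' = _; rw [← hd', hd]; group⟩
  refine Binary.isBinary_of_no_triangle (fun a b hne u hua hub => ?_)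
    fun a b c u v hne hua hvb hwc hu1 hv1 hw1 => ?_
  · by_contra hu1
    exact hne (hTI a b u hu1 hua hub)
  have hsq : ∀ (d : Sz F e ⧸ zGroup he) (w : Sz F e), w • d = d → w * w = 1 := by
    intro d w hw
    induction d using QuotientGroup.induction_on with
    | H x =>
    obtain ⟨z, hz⟩ := (hst x w).1 hw
    change P he 0 z = _ at hz
    calc w * w = x * ((x⁻¹ * w * x) * (x⁻¹ * w * x)) * x⁻¹ := by group
      _ = 1 := by rw [← hz, Z_sq]; group
  have hv2 := hsq b v hvb
  have hu2 := hsq a u hua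
  have hvi : v⁻¹ = v := inv_eq_of_mul_eq_one_right hv2
  have hui : u⁻¹ = u := inv_eq_of_mul_eq_one_right hu2
  have hcomm : v * u = u * v := by
    have h := hsq c _ hwc
    rw [hvi, mul_eq_one_iff_eq_inv, _root_.mul_inv_rev, hvi, hui] at h
    exact h
  refine hne (hTI a b v hv1 ?_ hvb)
  induction a using QuotientGroup.induction_on with
  | H x =>
  obtain ⟨z, hz⟩ := (hst x u).1 hua
  change P he 0 z = _ at hz
  have hz0 : P he 0 z ≠ 1 := fun h => hu1 (by
    rw [hz] at h
    calc u = x * (x⁻¹ * u * x) * x⁻¹ := by group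
      _ = 1 := by rw [h]; group)
  have hvU : x⁻¹ * v * x ∈ uGroup he := centralizer_le_uGroup he (P_mem_uGroup he 0 z) hz0
    (Subgroup.mem_centralizer_singleton_iff.2 (by
      rw [hz]
      calc x⁻¹ * v * x * (x⁻¹ * u * x) = x⁻¹ * (v * u) * x := by group
        _ = _ := by rw [hcomm]; group))
  obtain ⟨d, hd⟩ := exists_Z_of_sq he hvU (by
    calc x⁻¹ * v * x * (x⁻¹ * v * x) = x⁻¹ * (v * v) * x := by group
      _ = 1 := by rw [hv2]; group)
  exact (hst x v).2 ⟨d, hd.symm⟩

/-- The centre of the standard Sylow subgroup. -/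
theorem map_center_uGroup :
    (Subgroup.center (uGroup hp.twist)).map (uGroup hp.twist).subtype = zGroup hp.twist := by
  classical
  have he := hp.twist
  have hc : ∃ c : F, c ^ e ≠ c := by
    by_contra! hall
    have h1 := (Finset.card_le_card (s := (Finset.univ : Finset F)) (t := {0, 1}) fun z _ => by
      have h8 := he.pow_pow z
      rw [hall z, hall z] at h8
      rcases mul_eq_zero.1 (show z * (z - 1) = 0 by linear_combination -h8) with h | h
      · simp [h]
      · simp [sub_eq_zero.1 h]).trans Finset.card_le_two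
    rw [Finset.card_univ] at h1
    have := hp.eight
    omega
  ext g
  constructor
  · rintro ⟨u, hu, rfl⟩
    obtain ⟨b, hb⟩ := (sylow_center he hc u).1 hu
    exact ⟨b, hb.symm⟩
  · rintro ⟨b, rfl⟩
    exact ⟨⟨P he 0 b, P_mem_uGroup he 0 b⟩, (sylow_center he hc _).2 ⟨b, rfl⟩, rfl⟩

omit hp in
theorem map_center_conj {G : Type*} [Group G] (M : Subgroup G) (x : G) :
    (Subgroup.center (M.map (MulAut.conj x).toMonoidHom)).map
        (M.map (MulAut.conj x).toMonoidHom).subtype =
      ((Subgroup.center M).map M.subtype).map (MulAut.conj x).toMonoidHom := by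
  ext g
  constructor
  · rintro ⟨⟨_, m, hm, rfl⟩, hu, rfl⟩
    refine ⟨m, ⟨⟨m, hm⟩, Subgroup.mem_center_iff.2 fun w => Subtype.ext ?_, rfl⟩, rfl⟩
    have h := congrArg Subtype.val (Subgroup.mem_center_iff.1 hu ⟨_, w.1, w.2, rfl⟩)
    exact (MulAut.conj x).injective ((map_mul _ _ _).trans (h.trans (map_mul _ _ _).symm))
  · rintro ⟨_, ⟨m, hm, rfl⟩, rfl⟩
    refine ⟨⟨_, m.1, m.2, rfl⟩, Subgroup.mem_center_iff.2 ?_, rfl⟩
    rintro ⟨_, w, hw, rfl⟩
    have h := congrArg Subtype.val (Subgroup.mem_center_iff.1 hm ⟨w, hw⟩)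
    exact Subtype.ext ((map_mul _ _ _).symm.trans ((congrArg _ h).trans (map_mul _ _ _)))

/-- The binary coset actions. -/
theorem main (H : Subgroup (Sz F e)) (hH : H ≠ ⊤) :
    Binary.IsBinary H ↔ (H = ⊥ ∨ ∃ P : Sylow 2 (Sz F e),
      H = (Subgroup.center (P : Subgroup (Sz F e))).map (P : Subgroup (Sz F e)).subtype) := by
  classical
  haveI : Fact (Nat.Prime 2) := ⟨Nat.prime_two⟩
  have he := hp.twist
  have hSyl : ∀ g : Sz F e, ((g • sylow2 he : Sylow 2 (Sz F e)) : Subgroup (Sz F e)) =
      (uGroup he).map (MulAut.conj g).toMonoidHom := fun g => rfl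
  constructor
  · intro hb
    by_cases hbot : H = ⊥
    · exact Or.inl hbot
    refine Or.inr ?_
    have hev : Even (Nat.card H) := Nat.not_odd_iff_even.1 fun ho => not_binary_odd hp ho hbot hb
    obtain ⟨t, ht⟩ := exists_prime_orderOf_dvd_card' (G := H) 2 hev.two_dvd
    rw [← Subgroup.orderOf_coe] at ht
    have ht1 : (t : Sz F e) ≠ 1 := fun h => by rw [h, orderOf_one] at ht; omega
    have ht2 : (t : Sz F e) * t = 1 := by
      have := pow_orderOf_eq_one (t : Sz F e)
      rwa [ht, pow_two] at this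
    obtain ⟨g, hg⟩ := conj_involution hp ht2 ht1 (one_ne_zero (α := F))
    set H' := H.map (MulAut.conj g).toMonoidHom
    have hH' : H' ≠ ⊤ := fun h => hH (Subgroup.map_injective (MulAut.conj g).injective
      (h.trans (Subgroup.map_top_of_surjective _ (MulAut.conj g).surjective).symm))
    have hz := Z_mem hp (hb.conj g) hH' one_ne_zero ⟨t, t.2, hg⟩
    have heq := eq_zGroup hp (hb.conj g) hH' hz
    refine ⟨g⁻¹ • sylow2 he, ?_⟩
    rw [hSyl, map_center_conj, map_center_uGroup hp, ← heq, Subgroup.map_map]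
    refine (Subgroup.map_id H).symm.trans (congrArg (fun f => H.map f) (MonoidHom.ext fun z => ?_))
    show z = g⁻¹ * (g * z * g⁻¹) * g⁻¹⁻¹
    group
  · rintro (rfl | ⟨P, rfl⟩)
    · exact Binary.binary_bot
    · obtain ⟨g, rfl⟩ := MulAction.exists_smul_eq (Sz F e) (sylow2 he) P
      rw [hSyl, map_center_conj, map_center_uGroup hp]
      exact (binary_zGroup hp).conj g

end CfsgLib.PGroup.SzBinary
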