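import Cfsg.Agent.Lib.KnownB.SuzukiSubgroupsMain
import Cfsg.Agent.Lib.KnownB.SuzukiSubgroupsTransfer
import Mathlib.GroupTheory.Solvable
import Mathlib.GroupTheory.Nilpotent

set_option autoImplicit false

/-!
Solubilizers in the Suzuki groups `Sz(q)` for `q = 2^n`, `n` an odd prime: the solvable subgroups
lie in Borel subgroups or in normalisers of tori, which meet outside the Borel subgroup of a given
2-element at most once.
-/

namespace CfsgLib.PGroup.SzSol

open Cfsg.Lie CfsgLib.KnownB.SzElem CfsgLib.KnownB.Suzuki CfsgLib.KnownB.TICount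

variable {F : Type*} [Field F] [Fintype F] {e : ℕ}

local notation "q" => Fintype.card F

/-- A self-centralising torus of odd order with normaliser of index `k`. -/
structure IsTor (T : Subgroup (Sz F e)) (k : ℕ) : Prop where
  cent : ∀ a ∈ T, a ≠ 1 → Subgroup.centralizer {a} = T
  odd : ¬ 2 ∣ Nat.card T
  one_lt : 1 < Nat.card T
  k_cases : k = 2 ∨ k = 4
  ncard : Nat.card (Subgroup.normalizer (T : Set (Sz F e))) = k * Nat.card T

/-- Conjugation of subgroups. -/
abbrev cj (g : Sz F e) (T : Subgroup (Sz F e)) : Subgroup (Sz F e) :=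
  T.map (MulAut.conj g).toMonoidHom

omit [Fintype F] in
lemma mem_cj {g x : Sz F e} {T : Subgroup (Sz F e)} : x ∈ cj g T ↔ g⁻¹ * x * g ∈ T := by
  constructor
  · rintro ⟨a, ha, rfl⟩
    simpa [mul_assoc] using ha
  · intro h
    exact ⟨_, h, by simp [mul_assoc]⟩

omit [Fintype F] in
lemma cj_cj (g h : Sz F e) (T : Subgroup (Sz F e)) : cj g (cj h T) = cj (g * h) T := by
  ext x
  rw [mem_cj, mem_cj, mem_cj, _root_.mul_inv_rev]
  simp [mul_assoc]

omit [Fintype F] in
lemma cj_one (T : Subgroup (Sz F e)) : cj 1 T = T := by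
  ext x
  simp [mem_cj]

omit [Fintype F] in
lemma mem_normalizer_cj {g x : Sz F e} {T : Subgroup (Sz F e)} :
    x ∈ Subgroup.normalizer (cj g T : Set (Sz F e)) ↔
      g⁻¹ * x * g ∈ Subgroup.normalizer (T : Set (Sz F e)) := by
  rw [← Subgroup.map_normalizer_eq_of_bijective T (f := (MulAut.conj g).toMonoidHom)
    (MulAut.conj g).bijective]
  exact mem_cj (T := Subgroup.normalizer (T : Set (Sz F e)))

omit [Fintype F] in
lemma cj_eq_iff_mem_normalizer {g : Sz F e} {T : Subgroup (Sz F e)} :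
    cj g T = T ↔ g ∈ Subgroup.normalizer (T : Set (Sz F e)) := by
  constructor
  · intro h
    rw [Subgroup.mem_normalizer_iff]
    intro b
    have h1 : g * b * g⁻¹ ∈ cj g T ↔ b ∈ T := by simp [mem_cj, mul_assoc]
    rw [h] at h1
    exact h1.symm
  · intro h
    ext x
    rw [mem_cj]
    exact (Subgroup.mem_normalizer_iff''.1 h x).symm

variable {T : Subgroup (Sz F e)} {k : ℕ}

omit [Fintype F] in
lemma IsTor.conj (hT : IsTor T k) (g : Sz F e) : IsTor (cj g T) k := by
  have hc : Nat.card (cj g T) = Nat.card T :=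
    Subgroup.card_map_of_injective (MulAut.conj g).injective
  refine ⟨?_, hc.symm ▸ hT.odd, hc.symm ▸ hT.one_lt, hT.k_cases, ?_⟩
  · rintro _ ⟨a, ha, rfl⟩ ha1
    show Subgroup.centralizer {MulAut.conj g a} = _
    rw [← map_centralizer_singleton, hT.cent a ha (fun h => ha1 (by rw [h, map_one]))]
  · rw [hc, ← hT.ncard, ← Subgroup.map_normalizer_eq_of_bijective T
      (f := (MulAut.conj g).toMonoidHom) (MulAut.conj g).bijective]
    exact Subgroup.card_map_of_injective (MulAut.conj g).injective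

omit [Fintype F] in
lemma IsTor.comm (hT : IsTor T k) {a b : Sz F e} (ha : a ∈ T) (hb : b ∈ T) : a * b = b * a := by
  by_cases ha1 : a = 1
  · simp [ha1]
  · rw [← hT.cent a ha ha1, Subgroup.mem_centralizer_singleton_iff] at hb
    exact hb.symm

omit [Fintype F] in
lemma IsTor.eq_of_mem {T' : Subgroup (Sz F e)} {k' : ℕ} (hT : IsTor T k) (hT' : IsTor T' k')
    {y : Sz F e} (hy1 : y ≠ 1) (h : y ∈ T) (h' : y ∈ T') : T = T' := by
  rw [← hT.cent y h hy1, hT'.cent y h' hy1]

lemma IsTor.orderOf_odd (hT : IsTor T k) {y : Sz F e} (hy : y ∈ T) : ¬ 2 ∣ orderOf y :=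
  fun h => hT.odd (h.trans (Subgroup.orderOf_dvd_natCard _ hy))

/-- A normalising element with two-power exponent lies outside the torus. -/
lemma IsTor.eq_one_of_pow_two_pow (hT : IsTor T k) {y : Sz F e} (hy : y ∈ T) {j : ℕ}
    (h : y ^ 2 ^ j = 1) : y = 1 := by
  obtain ⟨i, hi, hi'⟩ := (Nat.dvd_prime_pow Nat.prime_two).1 (orderOf_dvd_of_pow_eq_one h)
  rcases Nat.eq_zero_or_pos i with rfl | hi0
  · exact orderOf_eq_one_iff.1 hi'
  · exact absurd (hi' ▸ dvd_pow_self 2 hi0.ne') (hT.orderOf_odd hy)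

lemma IsTor.pow_k_mem (hT : IsTor T k) {y : Sz F e}
    (hy : y ∈ Subgroup.normalizer (T : Set (Sz F e))) : y ^ k ∈ T := by
  have hidx : (T.subgroupOf (Subgroup.normalizer (T : Set (Sz F e)))).index = k := by
    apply Nat.eq_of_mul_eq_mul_right (show 0 < Nat.card T from Nat.card_pos)
    conv_lhs => arg 2; rw [← Nat.card_congr
      (Subgroup.subgroupOfEquivOfLe (Subgroup.le_normalizer (H := T))).toEquiv]
    rw [Subgroup.index_mul_card, hT.ncard]
  have := Subgroup.pow_index_mem (T.subgroupOf (Subgroup.normalizer (T : Set (Sz F e)))) ⟨y, hy⟩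
  rw [hidx, Subgroup.mem_subgroupOf] at this
  simpa using this

/-- Outside the torus, normalising elements have order dividing four. -/
lemma IsTor.pow_four_eq (hT : IsTor T k) {y : Sz F e}
    (hy : y ∈ Subgroup.normalizer (T : Set (Sz F e))) (hyT : y ∉ T) : y ^ k = 1 ∧ y ^ 4 = 1 := by
  have h1 : y ^ k = 1 := by
    by_contra h
    refine hyT ?_
    rw [← hT.cent _ (hT.pow_k_mem hy) h, Subgroup.mem_centralizer_singleton_iff]
    exact (Commute.refl y).pow_right k |>.eq
  refine ⟨h1, ?_⟩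
  rcases hT.k_cases with rfl | rfl
  · exact (pow_mul y 2 2).trans (by rw [h1, one_pow])
  · exact h1

/-- Involutions in the normaliser invert the torus. -/
lemma IsTor.inverts (hT : IsTor T k) {z : Sz F e}
    (hz : z ∈ Subgroup.normalizer (T : Set (Sz F e))) (hz2 : z * z = 1) (hz1 : z ≠ 1)
    {t : Sz F e} (ht : t ∈ T) : z * t * z⁻¹ = t⁻¹ := by
  have hzT : z ∉ T := fun h => hz1 (hT.eq_one_of_pow_two_pow h (j := 1) (by simpa [pow_two]))
  have hzi : z⁻¹ = z := inv_eq_of_mul_eq_one_right hz2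
  have h1 : z * t * z⁻¹ ∈ T := (Subgroup.mem_normalizer_iff.1 hz t).1 ht
  set s := t * (z * t * z⁻¹)
  have hs : s ∈ T := mul_mem ht h1
  have hcomm : z * s * z⁻¹ = s := by
    rw [show z * s * z⁻¹ = (z * t * z⁻¹) * ((z * z) * t * (z * z)⁻¹) by simp [s, mul_assoc],
      hz2, inv_one, one_mul, mul_one]
    exact hT.comm h1 ht
  have hs1 : s = 1 := by
    by_contra h
    refine hzT ?_
    rw [← hT.cent s hs h, Subgroup.mem_centralizer_singleton_iff]
    have := congrArg (fun u => u * z) hcomm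
    simpa [mul_assoc] using this
  exact eq_inv_of_mul_eq_one_right hs1

/-- Two involutions of the normaliser differ by an element of the torus. -/
lemma IsTor.mul_mem_of_involutions (hT : IsTor T k) {z i : Sz F e}
    (hz : z ∈ Subgroup.normalizer (T : Set (Sz F e))) (hz2 : z * z = 1) (hz1 : z ≠ 1)
    (hi : i ∈ Subgroup.normalizer (T : Set (Sz F e))) (hi2 : i * i = 1) (hi1 : i ≠ 1) :
    z * i ∈ T := by
  obtain ⟨t, ht, ht1⟩ : ∃ t ∈ T, t ≠ 1 := by
    by_contra h
    push Not at h
    have := hT.one_lt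
    rw [(Subgroup.eq_bot_iff_forall _).2 h, Subgroup.card_bot] at this
    exact lt_irrefl _ this
  rw [← hT.cent t ht ht1, Subgroup.mem_centralizer_singleton_iff]
  have h1 := hT.inverts hi hi2 hi1 ht
  have h2 := hT.inverts hz hz2 hz1 (inv_mem ht)
  rw [inv_inv, ← h1] at h2
  have h3 := congrArg (fun u => u * (z * i)) h2
  simpa [mul_assoc] using h3

/-- The element of the torus attached to a normalising element outside the Borel subgroup. -/
noncomputable def key (z y : Sz F e) : Sz F e :=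
  haveI := Classical.propDecidable
  if 2 ∣ orderOf y then (if y * y = 1 then z * y else z * (y * y)) else y

lemma IsTor.key_mem (hT : IsTor T k) {z y : Sz F e}
    (hz : z ∈ Subgroup.normalizer (T : Set (Sz F e))) (hz2 : z * z = 1) (hz1 : z ≠ 1)
    (hy : y ∈ Subgroup.normalizer (T : Set (Sz F e))) : key z y ∈ T := by
  classical
  by_cases hyT : y ∈ T
  · simp [key, hT.orderOf_odd hyT, hyT]
  · obtain ⟨-, h4⟩ := hT.pow_four_eq hy hyT
    have h2 : 2 ∣ orderOf y := by
      obtain ⟨i, -, hi⟩ := (Nat.dvd_prime_pow Nat.prime_two).1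
        (orderOf_dvd_of_pow_eq_one (show y ^ 2 ^ 2 = 1 from h4))
      rcases Nat.eq_zero_or_pos i with rfl | hi0
      · exact absurd (orderOf_eq_one_iff.1 hi ▸ one_mem T) hyT
      · exact hi ▸ dvd_pow_self 2 hi0.ne'
    by_cases hy2 : y * y = 1
    · simp only [key, h2, hy2, if_true]
      exact hT.mul_mem_of_involutions hz hz2 hz1 hy hy2 (fun h => hyT (h ▸ one_mem T))
    · simp only [key, h2, hy2, if_true, if_false]
      refine hT.mul_mem_of_involutions hz hz2 hz1 (mul_mem hy hy) ?_ hy2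
      rw [show y * y * (y * y) = y ^ 4 by simp [pow_succ, mul_assoc], h4]

omit [Fintype F] in
lemma key_ne_one (he : Twist F e) {z y : Sz F e} (hzU : z ∈ uGroup he) (hz2 : z * z = 1)
    (hz1 : z ≠ 1) (hy : y ∉ borel F e) : key z y ≠ 1 := by
  classical
  intro h
  have hzi : z⁻¹ = z := inv_eq_of_mul_eq_one_right hz2
  unfold key at h
  split_ifs at h with h1 h2
  · exact hy (uGroup_le_borel he (by rwa [← hzi.trans rfl, inv_eq_of_mul_eq_one_right h] at hzU))
  · refine hy (uGroup_le_borel he (centralizer_le_uGroup he hzU hz1 ?_))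
    rw [Subgroup.mem_centralizer_singleton_iff, ← hzi, inv_eq_of_mul_eq_one_right h, mul_assoc]
  · exact hy (h ▸ one_mem _)

/-- Two tori normalised by a fixed involution of `U` share no normalising element outside the
Borel subgroup. -/
lemma IsTor.eq_of_common (he : Twist F e) {T' : Subgroup (Sz F e)} {k' : ℕ} (hT : IsTor T k)
    (hT' : IsTor T' k') {z y : Sz F e} (hzU : z ∈ uGroup he) (hz2 : z * z = 1) (hz1 : z ≠ 1)
    (hz : z ∈ Subgroup.normalizer (T : Set (Sz F e)))
    (hz' : z ∈ Subgroup.normalizer (T' : Set (Sz F e))) (hy : y ∉ borel F e)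
    (h : y ∈ Subgroup.normalizer (T : Set (Sz F e)))
    (h' : y ∈ Subgroup.normalizer (T' : Set (Sz F e))) : T = T' :=
  hT.eq_of_mem hT' (key_ne_one he hzU hz2 hz1 hy) (hT.key_mem hz hz2 hz1 h)
    (hT'.key_mem hz' hz2 hz1 h')

/-! ### Two-elements of the Borel subgroup -/

lemma mem_uGroup_of_borel (he : Twist F e) {y : Sz F e} (hy : y ∈ borel F e) {j : ℕ}
    (h : y ^ 2 ^ j = 1) : y ∈ uGroup he := by
  obtain ⟨a, b, s, rfl⟩ := exists_borel_eq he y hy
  suffices hs : s = 1 by rw [hs, H_one, mul_one]; exact P_mem_uGroup he a b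
  have h1 : torusHom he ⟨_, hy⟩ ^ 2 ^ j = 1 := by
    rw [← map_pow, show (⟨P he a b * H e he s, hy⟩ : borel F e) ^ 2 ^ j = 1 from Subtype.ext h,
      map_one]
  rw [torusHom_apply] at h1
  clear h
  induction j with
  | zero => simpa using h1
  | succ j ih =>
    rw [pow_succ, pow_mul] at h1
    refine ih (Units.ext (sq_inj he ?_))
    rw [← Units.val_pow_eq_pow_val (s ^ 2 ^ j), h1, Units.val_one, one_pow]

/-- The only conjugate of the Borel subgroup containing a nontrivial element of `U`. -/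
lemma borel_unique (he : Twist F e) {x g : Sz F e} (hx : x ∈ uGroup he) (hx1 : x ≠ 1)
    (h : g * x * g⁻¹ ∈ borel F e) : g ∈ borel F e := by
  have h4 : (g * x * g⁻¹) ^ 2 ^ 2 = 1 := by
    rw [conj_pow, show x ^ 2 ^ 2 = 1 from pow_four he hx, mul_one, mul_inv_cancel]
  rw [← normalizer_uGroup he]
  exact uGroup_TI he g x hx hx1 (mem_uGroup_of_borel he h h4)

/-- A normaliser of a torus that contains a nontrivial element of `U` meets the Borel subgroup
in a 2-group of order `k` inside `U`. -/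
lemma IsTor.card_inter (he : Twist F e) (hT : IsTor T k) {x : Sz F e}
    (hx : x ∈ uGroup he) (hx1 : x ≠ 1) (hxN : x ∈ Subgroup.normalizer (T : Set (Sz F e)))
    (hcap : ∀ t ∈ T, t ∈ borel F e → t = 1) :
    Nat.card (Subgroup.normalizer (T : Set (Sz F e)) ⊓ borel F e : Subgroup (Sz F e)) = k ∧
      Subgroup.normalizer (T : Set (Sz F e)) ⊓ borel F e ≤ uGroup he := by
  set N := Subgroup.normalizer (T : Set (Sz F e))
  have : Fact (Nat.Prime 2) := ⟨Nat.prime_two⟩
  have hU : N ⊓ borel F e ≤ uGroup he := by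
    rintro y ⟨hyN, hyB⟩
    by_cases hy : y ∈ T
    · rw [hcap y hy hyB]; exact one_mem _
    · exact mem_uGroup_of_borel he hyB (j := 2) (hT.pow_four_eq hyN hy).2
  refine ⟨?_, hU⟩
  have hk : Nat.card N = k * Nat.card T := hT.ncard
  -- upper bound: the intersection injects in the quotient by the torus
  have hdis : (N ⊓ borel F e) ⊓ T = ⊥ := (Subgroup.eq_bot_iff_forall _).2 fun t ht =>
    hcap t ht.2 ht.1.2
  have hle : Nat.card (N ⊓ borel F e : Subgroup _) ≤ k := by
    refine Nat.le_of_mul_le_mul_right ?_ (show 0 < Nat.card T from Nat.card_pos)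
    rw [← hk, ← Nat.card_prod]
    refine Nat.card_le_card_of_injective
      (fun p : (N ⊓ borel F e : Subgroup _) × T =>
        (⟨(p.1 : Sz F e) * p.2, mul_mem p.1.2.1 (Subgroup.le_normalizer p.2.2)⟩ : N)) ?_
    rintro ⟨⟨a, ha⟩, ⟨t, ht⟩⟩ ⟨⟨b, hb⟩, ⟨s, hs⟩⟩ h
    have h' : a * t = b * s := congrArg Subtype.val h
    have h1 : b⁻¹ * a = s * t⁻¹ := by
      rw [eq_mul_inv_iff_mul_eq, mul_assoc, h', inv_mul_cancel_left]
    have h2 : b⁻¹ * a ∈ (N ⊓ borel F e) ⊓ T :=
      ⟨Subgroup.mul_mem _ (Subgroup.inv_mem _ hb) ha, h1 ▸ Subgroup.mul_mem _ hs (Subgroup.inv_mem _ ht)⟩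
    rw [hdis, Subgroup.mem_bot, inv_mul_eq_one] at h2
    subst h2
    simp [mul_left_cancel h']
  refine le_antisymm hle ?_
  rcases hT.k_cases with hk2 | hk4
  · rw [hk2]
    have : Nontrivial (N ⊓ borel F e : Subgroup _) :=
      ⟨⟨⟨x, hxN, uGroup_le_borel he hx⟩, 1, fun h => hx1 (congrArg Subtype.val h)⟩⟩
    exact Finite.one_lt_card
  · rw [hk4]
    -- a subgroup of order four containing `x`
    have hxp : IsPGroup 2 ((Subgroup.zpowers x).subgroupOf N) :=
      ((uGroup_isPGroup he).to_le ((Subgroup.zpowers_le).2 hx)).comap_of_injective N.subtype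
        Subtype.val_injective
    obtain ⟨S, hS⟩ := hxp.exists_le_sylow
    set P := (S : Subgroup N).map N.subtype
    have hcP : Nat.card P = 4 := by
      rw [Subgroup.card_map_of_injective Subtype.val_injective, S.card_eq_multiplicity, hk, hk4,
        Nat.factorization_mul (by norm_num) Nat.card_pos.ne', Finsupp.add_apply,
        Nat.factorization_eq_zero_of_not_dvd hT.odd, show (4 : ℕ) = 2 ^ 2 from rfl,
        Nat.prime_two.factorization_pow, Finsupp.single_eq_same]
    have hab : IsMulCommutative P :=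
      IsPGroup.isMulCommutative_of_card_eq_prime_sq (p := 2) (by simpa using hcP)
    have hxP : x ∈ P := ⟨⟨x, hxN⟩, hS (Subgroup.mem_zpowers x), rfl⟩
    have hPU : P ≤ N ⊓ borel F e := fun y hy => ⟨Subgroup.map_subtype_le _ hy,
      uGroup_le_borel he (centralizer_le_uGroup he hx hx1 (Subgroup.mem_centralizer_singleton_iff.2
        (congrArg Subtype.val (mul_comm' (⟨y, hy⟩ : P) ⟨x, hxP⟩))))⟩
    exact hcP.symm.trans_le (Nat.le_of_dvd Nat.card_pos (Subgroup.card_dvd_of_le hPU))

end CfsgLib.PGroup.SzSol
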