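import Cfsg.Prelude.Def_Solvable
import Cfsg.Prelude.Def_OddOrderLocal
import Cfsg.Agent.Lib.FrobRealize.Theorem
import Cfsg.Agent.Lib.Char.Quotient
import Cfsg.Agent.Lib.Char.TI
import Cfsg.Agent.Lib.Coprime.Action
import Cfsg.Agent.Lib.FrobRealize.Basic

/-!
# Trivial intersection Hall subgroups

A trivial intersection Hall subgroup with a normal complement in its normaliser has a normal
complement in the group.
-/

set_option autoImplicit false

namespace CfsgLib.PGroup.TIHall

open Subgroup CfsgLib.Char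
open scoped commutatorElement

variable {G : Type*} [Group G]

/-- Trivial intersection: `g x g⁻¹ ∈ H` for `1 ≠ x ∈ H` forces `g` into the normaliser. -/
theorem mem_normalizer_of_conj {H : Subgroup G} (hTI : Cfsg.IsTISubset (H : Set G)) {g x : G}
    (hx : x ∈ H) (hx1 : x ≠ 1) (hg : g * x * g⁻¹ ∈ H) : g ∈ normalizer (H : Set G) := by
  by_contra hn
  exact hx1 (hTI g hn x hx hg)

theorem coprime_index [Finite G] {H : Subgroup G} (hTI : Cfsg.IsTISubset (H : Set G))
    (hHall : (Nat.card H).Coprime (H.subgroupOf (normalizer (H : Set G))).index) :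
    (Nat.card H).Coprime H.index := by
  classical
  refine Nat.coprime_of_dvd fun p hp hpH hpi => ?_
  have := Fact.mk hp
  obtain ⟨P⟩ : Nonempty (Sylow p H) := inferInstance
  set P0 : Subgroup G := (P : Subgroup H).map H.subtype with hP0
  have hP0c : Nat.card P0 = p ^ (Nat.card H).factorization p := by
    rw [hP0, Nat.card_congr (equivMapOfInjective _ _ H.subtype_injective).toEquiv.symm,
      P.card_eq_multiplicity]
  have hP0H : P0 ≤ H := map_subtype_le _
  obtain ⟨z, hz, hz1⟩ : ∃ z ∈ P0, z ≠ 1 := by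
    by_contra h
    push Not at h
    have h1 : P0 = ⊥ := (eq_bot_iff_forall _).2 h
    rw [h1, card_bot] at hP0c
    exact absurd hP0c.symm
      (Nat.one_lt_pow (hp.factorization_pos_of_dvd Nat.card_pos.ne' hpH).ne' hp.one_lt).ne'
  obtain ⟨R, hR⟩ := (P.2.map H.subtype).exists_le_sylow
  have hRc : Nat.card P0 < Nat.card (R : Subgroup G) := by
    rw [hP0c, R.card_eq_multiplicity]
    refine Nat.pow_lt_pow_right hp.one_lt ?_
    rw [← H.index_mul_card, Nat.factorization_mul index_ne_zero_of_finite Nat.card_pos.ne',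
      Finsupp.add_apply]
    have := hp.factorization_pos_of_dvd index_ne_zero_of_finite hpi
    omega
  have : Group.IsNilpotent (R : Subgroup G) := R.2.isNilpotent
  have hlt : P0.subgroupOf R < ⊤ := by
    rw [lt_top_iff_ne_top, Ne, subgroupOf_eq_top]
    intro h
    have := Nat.le_of_dvd Nat.card_pos (Subgroup.card_dvd_of_le h)
    omega
  obtain ⟨⟨y, hyR⟩, hyn, hy⟩ :=
    SetLike.exists_of_lt (Group.normalizerCondition_of_isNilpotent (G := (R : Subgroup G)) _ hlt)
  have hyP0 : ∀ w ∈ P0, y * w * y⁻¹ ∈ P0 := fun w hw =>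
    mem_subgroupOf.1 ((mem_normalizer_iff.1 hyn ⟨w, hR hw⟩).1 (mem_subgroupOf.2 hw))
  have hyN : y ∈ normalizer (H : Set G) :=
    mem_normalizer_of_conj hTI (hP0H hz) hz1 (hP0H (hyP0 z hz))
  set T : Subgroup G := P0 ⊔ zpowers y with hT
  have hTR : T ≤ R := sup_le hR (zpowers_le.2 hyR)
  have hTN : T ≤ normalizer (H : Set G) := sup_le (hP0H.trans le_normalizer) (zpowers_le.2 hyN)
  have hTc : Nat.card P0 < Nat.card T := by
    by_contra h
    have e := Subgroup.eq_of_le_of_card_ge (le_sup_left : P0 ≤ T) (not_lt.1 h)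
    exact hy (mem_subgroupOf.2 (e.symm ▸ mem_sup_right (mem_zpowers y) : y ∈ P0))
  obtain ⟨k, hk⟩ := IsPGroup.iff_card.1 (R.2.to_le hTR)
  rw [hP0c, hk] at hTc
  have hk' := (Nat.pow_lt_pow_iff_right hp.one_lt).1 hTc
  have hdvd : p ^ k ∣ Nat.card (normalizer (H : Set G)) := hk ▸ Subgroup.card_dvd_of_le hTN
  rw [hp.pow_dvd_iff_le_factorization Nat.card_pos.ne',
    ← (H.subgroupOf (normalizer (H : Set G))).index_mul_card,
    Nat.factorization_mul index_ne_zero_of_finite Nat.card_pos.ne', Finsupp.add_apply,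
    Nat.card_congr (subgroupOfEquivOfLe (le_normalizer (H := H))).toEquiv,
    Nat.factorization_eq_zero_of_not_dvd
      (fun h => hp.ne_one (Nat.eq_one_of_dvd_coprimes hHall hpH h))] at hdvd
  omega

/-- A TI Hall subgroup on which the normaliser retracts has a normal complement, and every element of
order dividing the order of the subgroup is conjugate into it. -/
theorem exists_complement [Finite G] (H : Subgroup G) (hTI : Cfsg.IsTISubset (H : Set G))
    (hHall : (Nat.card H).Coprime H.index) (f : (normalizer (H : Set G)) →* H)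
    (hf : ∀ (h : G) (hh : h ∈ H), f ⟨h, le_normalizer hh⟩ = ⟨h, hh⟩) :
    ∃ M : Subgroup G, M.Normal ∧ M.IsComplement' H ∧ Nat.card M = H.index ∧
      ∀ x : G, x ^ Nat.card H = 1 → x ≠ 1 → ∃ g : G, g⁻¹ * x * g ∈ H := by
  classical
  cases nonempty_fintype G
  revert f
  set Nn := normalizer (H : Set G) with hNn
  intro f hf
  have : Fintype Nn := Fintype.ofFinite _
  have : Fintype H := Fintype.ofFinite _
  obtain ⟨e, he1, he0⟩ := Nat.chineseRemainder hHall 1 0
  have heH : ∀ x : G, x ^ Nat.card H = 1 → x ^ e = x := fun x hx =>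
    calc x ^ e = x ^ 1 := pow_eq_pow_iff_modEq.2 (he1.of_dvd (orderOf_dvd_of_pow_eq_one hx))
      _ = x := pow_one x
  have hei : H.index ∣ e := Nat.modEq_zero_iff_dvd.1 he0
  have hkey : ∀ y : Nn, (y : G) ^ e ∈ H ∧ (f y : G) = (y : G) ^ e := by
    intro y
    have hn : (H.subgroupOf Nn).Normal :=
      (normal_subgroupOf_iff_le_normalizer le_normalizer).2 le_rfl
    have hd : (H.subgroupOf Nn).index ∣ H.index := Subgroup.relIndex_dvd_index_of_le le_normalizer
    have hmem : y ^ e ∈ H.subgroupOf Nn := by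
      obtain ⟨c, hc⟩ := hd.trans hei
      rw [← QuotientGroup.eq_one_iff, QuotientGroup.mk_pow, hc, pow_mul,
        index_eq_card (H.subgroupOf Nn), pow_card_eq_one', one_pow]
    have hmem' : (y : G) ^ e ∈ H := by simpa [mem_subgroupOf] using hmem
    refine ⟨hmem', ?_⟩
    have h1 : f (y ^ e) = ⟨(y : G) ^ e, hmem'⟩ := by
      rw [← hf _ hmem']; exact congrArg f (Subtype.ext (by simp))
    have h2 : (f y : G) ^ e = f y := heH _ (by
      rw [← Subgroup.coe_pow, pow_card_eq_one', OneMemClass.coe_one])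
    rw [← h2, ← Subgroup.coe_pow, ← map_pow, h1]
  set V : Set G := {y | y ∈ Nn ∧ y ^ e ≠ 1} with hV
  have hTIV : ∀ x y : G, y ∈ V → x * y * x⁻¹ ∈ V → x ∈ Nn := by
    intro x y hy hxy
    refine mem_normalizer_of_conj hTI (hkey ⟨y, hy.1⟩).1 hy.2 ?_
    rw [← conj_pow]
    exact (hkey ⟨_, hxy.1⟩).1
  have hfs : Function.Surjective f := fun h => ⟨⟨h, le_normalizer h.2⟩, hf h h.2⟩
  have hext : ∀ θ : Cfsg.IrrCharacter H, ∃ χ : G → ℂ, Cfsg.IsCharacter G χ ∧
      (∀ h : H, h ≠ 1 → χ h = (θ : H → ℂ) h) ∧ χ 1 = (θ : H → ℂ) 1 ∧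
      ∀ x : G, (∀ g : G, g⁻¹ * x * g ∉ V) → χ x = χ 1 := by
    intro θ
    obtain ⟨m, hm, hm1⟩ := IsIrrCharacter.apply_one_eq θ.2
    set t : Nn → ℂ := (θ : H → ℂ) ∘ f with ht
    set c : Nn → ℂ := (m : ℂ) • (fun _ => 1) with hc
    set cG : G → ℂ := (m : ℂ) • (fun _ => 1) with hcG
    set α : Nn → ℂ := t - c with hα
    have htc : Cfsg.IsCharacter Nn t := IsCharacter.comp (IsIrrCharacter.isCharacter θ.2) f
    have hαV : ∀ x : Nn, (x : G) ∉ V → α x = 0 := by
      intro x hx
      have h1 : f x = 1 := Subtype.ext (by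
        rw [(hkey x).2]; exact not_not.1 fun h => hx ⟨x.2, h⟩)
      simp [hα, ht, hc, h1, hm1]
    have hαc : Cfsg.IsClassFunction Nn α := fun a b => by
      simp [hα, ht, hc, IsIrrCharacter.isClassFunction θ.2 (f a) (f b)]
    have hcc : Cfsg.IsCharacter Nn c := by
      rw [hc, Nat.cast_smul_eq_nsmul]
      exact IsCharacter.nsmul isCharacter_one m
    have hcGc : Cfsg.IsCharacter G cG := by
      rw [hcG, Nat.cast_smul_eq_nsmul]
      exact IsCharacter.nsmul isCharacter_one m
    have hαg : Cfsg.IsGeneralizedCharacter Nn α := ⟨t, c, htc, hcc, rfl⟩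
    obtain ⟨a, b, ha, hb, hab⟩ := IsGeneralizedCharacter.indFun Nn hαg
    set χ : G → ℂ := Cfsg.indFun Nn α + cG with hχ
    have hχg : Cfsg.IsGeneralizedCharacter G χ :=
      ⟨a + cG, b, IsCharacter.add ha hcGc, hb, by rw [hχ, hab]; abel⟩
    have hzero : ∀ x : G, (∀ g : G, g⁻¹ * x * g ∉ V) → Cfsg.indFun Nn α x = 0 := by
      intro x hx
      rw [indFun_def, Finset.sum_eq_zero, mul_zero]
      intro g _
      by_cases hg : g⁻¹ * x * g ∈ Nn
      · rw [extendByZero_apply_mem Nn α hg]; exact hαV _ (hx g)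
      · exact extendByZero_apply_notMem Nn α hg
    have hχ1 : χ 1 = (m : ℂ) := by
      rw [hχ, Pi.add_apply, hzero 1 fun g h => h.2 (by simp)]
      simp [hcG]
    have hnorm : Cfsg.classInner χ χ = 1 := by
      have hG : Cfsg.IsClassFunction G cG := fun _ _ => rfl
      have hresc : (fun h : Nn => cG h) = c := rfl
      have e1 : Cfsg.classInner (Cfsg.indFun Nn α) (Cfsg.indFun Nn α) = Cfsg.classInner α α :=
        classInner_indFun_of_ti hTIV hαV hαc hαV
      have e2 : Cfsg.classInner (Cfsg.indFun Nn α) cG = Cfsg.classInner α c := by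
        rw [classInner_indFun Nn α hG, hresc]
      have e3 : Cfsg.classInner cG (Cfsg.indFun Nn α) = Cfsg.classInner c α := by
        rw [classInner_indFun_right Nn α hG, hresc]
      have e4 : Cfsg.classInner cG cG = Cfsg.classInner c c := by
        simp [Cfsg.classInner, hc, hcG]
      rw [hχ, classInner_add_left, classInner_add_right, classInner_add_right, e1, e2, e3, e4,
        ← classInner_add_right, ← classInner_add_right, ← classInner_add_left, hα, sub_add_cancel, ht,
        classInner_comp_surjective f hfs]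
      exact classInner_irr_self θ.2
    refine ⟨χ, IsIrrCharacter.isCharacter
      (FrobRealize.isIrrCharacter_of_generalized hχg hnorm hm hχ1), fun h hh => ?_,
      by rw [hχ1, hm1], fun x hx => ?_⟩
    · have hhV : (h : G) ∈ V := by
        refine ⟨le_normalizer h.2, ?_⟩
        rw [heH _ (by rw [← Subgroup.coe_pow, pow_card_eq_one', OneMemClass.coe_one])]
        exact fun hh' => hh (Subtype.ext hh')
      have := indFun_apply_of_ti hTIV hαc hαV ⟨h, le_normalizer h.2⟩ hhV
      simp only at this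
      rw [hχ, Pi.add_apply, this]
      simp [hα, ht, hc, hcG, hf h h.2]
    · rw [hχ1, hχ, Pi.add_apply, hzero x hx]
      simp [hcG]
  choose χ hch hr h1 hk using hext
  let M : Subgroup G := ⨅ θ, charKer (hch θ)
  have hmem : ∀ x : G, x ∈ M ↔ ∀ θ, χ θ x = χ θ 1 := fun x => by simp [M, mem_iInf]
  have hMn : M.Normal := normal_iInf_normal fun θ => charKer_normal (hch θ)
  have hMH : M ⊓ H = ⊥ := by
    rw [eq_bot_iff_forall]
    rintro x ⟨hxM, hxH⟩
    by_contra hx1
    have hne : (⟨x, hxH⟩ : H) ≠ 1 := fun h => hx1 (congrArg Subtype.val h)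
    exact hne (eq_one_of_forall_irr fun θ => by rw [← hr θ _ hne, ← h1 θ]; exact (hmem x).1 hxM θ)
  have hoff : ∀ x : G, (∀ g : G, g⁻¹ * x * g ∉ V) → x ∈ M := fun x hx =>
    (hmem x).2 fun θ => hk θ x hx
  have hcomp : ∀ x : G, x ^ H.index = 1 → x ∈ M := fun x hx => hoff x fun g hg => hg.2 (by
    obtain ⟨c, hc⟩ := hei
    rw [show g⁻¹ * x * g = g⁻¹ * x * g⁻¹⁻¹ by rw [inv_inv], conj_pow, hc, pow_mul, hx, one_pow,
      mul_one, mul_inv_cancel])
  have hcard : Nat.card M = H.index := by
    refine Nat.dvd_antisymm ?_ ?_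
    · have h2 : M.relIndex H = Nat.card H := by
        rw [← Subgroup.inf_relIndex_right, hMH, relIndex_bot_left]
      have h3 : Nat.card H ∣ M.index := h2 ▸ Subgroup.relIndex_dvd_index_of_normal M H
      have h4 : Nat.card M * Nat.card H ∣ Nat.card G := by
        rw [← M.index_mul_card, mul_comm M.index]; exact Nat.mul_dvd_mul_left _ h3
      rw [← H.index_mul_card] at h4
      exact Nat.dvd_of_mul_dvd_mul_right Nat.card_pos h4
    · rw [← Nat.factorization_prime_le_iff_dvd index_ne_zero_of_finite Nat.card_pos.ne']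
      intro p hp
      by_cases hpi : p ∣ H.index
      · have := Fact.mk hp
        obtain ⟨S⟩ : Nonempty (Sylow p G) := inferInstance
        have hS : (S : Subgroup G) ≤ M := by
          intro x hx
          refine hcomp x (orderOf_dvd_iff_pow_eq_one.1 ?_)
          have h2 := Subgroup.orderOf_dvd_natCard _ hx
          rw [S.card_eq_multiplicity, ← H.index_mul_card,
            Nat.factorization_mul index_ne_zero_of_finite Nat.card_pos.ne', Finsupp.add_apply,
            Nat.factorization_eq_zero_of_not_dvd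
              (fun h => hp.ne_one (Nat.eq_one_of_dvd_coprimes hHall h hpi)), add_zero] at h2
          exact h2.trans (Nat.ordProj_dvd _ _)
        have h3 := Subgroup.card_dvd_of_le hS
        rw [S.card_eq_multiplicity, hp.pow_dvd_iff_le_factorization Nat.card_pos.ne'] at h3
        refine le_trans ?_ h3
        exact (Nat.factorization_le_iff_dvd index_ne_zero_of_finite Nat.card_pos.ne').2
          H.index_dvd_card p
      · rw [Nat.factorization_eq_zero_of_not_dvd hpi]; exact Nat.zero_le _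
  refine ⟨M, hMn, isComplement'_of_card_mul_and_disjoint (by rw [hcard, H.index_mul_card])
    (disjoint_iff.2 hMH), hcard, fun x hx hx1 => ?_⟩
  by_contra hcon
  push Not at hcon
  refine hx1 (orderOf_eq_one_iff.1 ?_)
  have hxM : x ∈ M := hoff x fun g hg => hcon g (by
    have hp : (g⁻¹ * x * g) ^ Nat.card H = 1 := by
      rw [show g⁻¹ * x * g = g⁻¹ * x * g⁻¹⁻¹ by rw [inv_inv], conj_pow, hx, mul_one,
        mul_inv_cancel]
    exact (heH _ hp) ▸ (hkey ⟨_, hg.1⟩).1)
  exact Nat.eq_one_of_dvd_coprimes hHall (orderOf_dvd_of_pow_eq_one hx)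
    (hcard ▸ Subgroup.orderOf_dvd_natCard _ hxM)

/-- A retraction of `N` onto the normal subgroup `H` from a normal complement. -/
theorem exists_retraction [Finite G] {H : Subgroup G} {Nn : Subgroup G} (hle : H ≤ Nn)
    {K : Subgroup Nn} (hK : K.Normal) (hKc : K.IsComplement' (H.subgroupOf Nn)) :
    ∃ f : Nn →* H, ∀ (h : G) (hh : h ∈ H), f ⟨h, hle hh⟩ = ⟨h, hh⟩ := by
  classical
  let ι : H →* Nn ⧸ K := (QuotientGroup.mk' K).comp (Subgroup.inclusion hle)
  have hinj : Function.Injective ι := by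
    rw [← MonoidHom.ker_eq_bot_iff, eq_bot_iff_forall]
    intro x hx
    have h1 : Subgroup.inclusion hle x ∈ K := (QuotientGroup.eq_one_iff _).1 hx
    have h2 : Subgroup.inclusion hle x ∈ H.subgroupOf Nn := x.2
    have h3 := (disjoint_iff.1 hKc.disjoint) ▸ (mem_inf.2 ⟨h1, h2⟩)
    exact Subgroup.inclusion_injective hle ((mem_bot.1 h3).trans (map_one _).symm)
  have hbij : Function.Bijective ι := by
    refine Function.Injective.bijective_of_nat_card_le hinj (le_of_eq ?_)
    rw [← index_eq_card, hKc.symm.index_eq_card, Nat.card_congr (subgroupOfEquivOfLe hle).toEquiv]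
  let e := MulEquiv.ofBijective ι hbij
  exact ⟨e.symm.toMonoidHom.comp (QuotientGroup.mk' K), fun h hh => e.symm_apply_apply ⟨h, hh⟩⟩

/-- A non-normal TI Hall subgroup with a normal complement is a Frobenius complement in some
group. -/
theorem isFrobeniusComplement_of_complement.{v} {G : Type v} [Group G] [Finite G] {H M : Subgroup G}
    (hTI : Cfsg.IsTISubset (H : Set G)) (hHall : (Nat.card H).Coprime H.index) (hMn : M.Normal)
    (hM : M.IsComplement' H) (hMc : Nat.card M = H.index) (hnn : ¬ H.Normal) :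
    ∃ (F : Type v) (_ : Group F) (_ : Finite F) (C : Subgroup F), Cfsg.IsFrobeniusComplement C ∧
      Nonempty (H ≃* C) := by
  classical
  have := hMn
  set K := M ⊓ normalizer (H : Set G) with hKdef
  have hdec : ∀ g : G, ∃ m ∈ M, ∃ h ∈ H, m * h = g := fun g => by
    obtain ⟨⟨m, h⟩, e⟩ := hM.2 g
    exact ⟨m, m.2, h, h.2, e⟩
  have hMH : M ⊓ H = ⊥ := disjoint_iff.1 hM.disjoint
  have hKcomm : ∀ k ∈ K, ∀ h ∈ H, Commute k h := by
    intro k hk h hh
    rw [← commutatorElement_eq_one_iff_commute]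
    have h1 : ⁅k, h⁆ ∈ M := by
      rw [commutatorElement_def, mul_assoc, mul_assoc]
      exact mul_mem hk.1 (by simpa [mul_assoc] using hMn.conj_mem _ (inv_mem hk.1) h)
    have h2 : ⁅k, h⁆ ∈ H := by
      rw [commutatorElement_def]
      exact mul_mem ((mem_normalizer_iff.1 hk.2 h).1 hh) (inv_mem hh)
    simpa [hMH] using (mem_inf.2 ⟨h1, h2⟩ : ⁅k, h⁆ ∈ M ⊓ H)
  have hne : K.relIndex M ≠ 1 := by
    intro h
    apply hnn
    rw [← normalizer_eq_top_iff, eq_top_iff]
    intro g _
    obtain ⟨m, hm, k, hk, rfl⟩ := hdec g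
    exact mul_mem ((relIndex_eq_one.1 h) hm).2 (le_normalizer hk)
  obtain ⟨r, hr, hrd⟩ := Nat.exists_prime_and_dvd hne
  have := Fact.mk hr
  obtain ⟨P⟩ : Nonempty (Sylow r K) := inferInstance
  set Kr : Subgroup G := (P : Subgroup K).map K.subtype with hKr
  have hKrK : Kr ≤ K := map_subtype_le _
  have hKrp : IsPGroup r Kr := P.2.map _
  have hKrc : Nat.card Kr = r ^ (Nat.card K).factorization r := by
    rw [hKr, Nat.card_congr (equivMapOfInjective _ _ K.subtype_injective).toEquiv.symm,
      P.card_eq_multiplicity]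
  set M1 := M ⊓ normalizer (Kr : Set G) with hM1
  -- an `r`-subgroup of `M1` properly above `Kr`
  obtain ⟨S, hS⟩ := (hKrp.comap_of_injective M.subtype M.subtype_injective).exists_le_sylow
  have hKrS : Kr ≤ (S : Subgroup M).map M.subtype := fun x hx =>
    ⟨⟨x, (hKrK hx).1⟩, hS hx, rfl⟩
  set S0 := (S : Subgroup M).map M.subtype with hS0
  have hS0p : IsPGroup r S0 := S.2.map _
  have hlt0 : Nat.card Kr < Nat.card S0 := by
    rw [hKrc, hS0, Nat.card_congr (equivMapOfInjective _ _ M.subtype_injective).toEquiv.symm,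
      S.card_eq_multiplicity]
    refine Nat.pow_lt_pow_right hr.one_lt ?_
    have hh := (K.subgroupOf M).index_mul_card
    rw [Nat.card_congr (subgroupOfEquivOfLe (show K ≤ M from inf_le_left)).toEquiv] at hh
    rw [← hh, Nat.factorization_mul index_ne_zero_of_finite Nat.card_pos.ne', Finsupp.add_apply]
    have := hr.factorization_pos_of_dvd (index_ne_zero_of_finite (H := K.subgroupOf M)) hrd
    omega
  have : Group.IsNilpotent S0 := hS0p.isNilpotent
  have hlt : Kr.subgroupOf S0 < ⊤ := by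
    rw [lt_top_iff_ne_top, Ne, subgroupOf_eq_top]
    intro h
    have := Nat.le_of_dvd Nat.card_pos (Subgroup.card_dvd_of_le h)
    omega
  obtain ⟨⟨w, hwS⟩, hwn, hw⟩ :=
    SetLike.exists_of_lt (Group.normalizerCondition_of_isNilpotent (G := S0) _ hlt)
  have hwM1 : w ∈ M1 := by
    refine ⟨map_subtype_le _ hwS, mem_normalizer_iff.2 fun z => ⟨fun hz => ?_, fun hz => ?_⟩⟩
    · exact mem_subgroupOf.1 ((mem_normalizer_iff.1 hwn ⟨z, hKrS hz⟩).1 (mem_subgroupOf.2 hz))
    · have := mem_subgroupOf.1 ((mem_normalizer_iff.1 (inv_mem hwn) ⟨_, hKrS hz⟩).1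
        (mem_subgroupOf.2 hz))
      simpa [mul_assoc] using this
  have hKrM1 : Kr ≤ M1 := le_inf (hKrK.trans inf_le_left) le_normalizer
  have hTp : IsPGroup r (Kr ⊔ zpowers w : Subgroup G) :=
    hS0p.to_le (sup_le hKrS (zpowers_le.2 hwS))
  obtain ⟨R', hR'⟩ := (hTp.comap_of_injective M1.subtype M1.subtype_injective).exists_le_sylow
  set R : Subgroup G := (R' : Subgroup M1).map M1.subtype with hRdef
  have hRp : IsPGroup r R := R'.2.map _
  have hRM1 : R ≤ M1 := map_subtype_le _
  have hKrR : Kr ≤ R := fun x hx => ⟨⟨x, hKrM1 hx⟩, hR' (mem_sup_left hx : x ∈ Kr ⊔ zpowers w), rfl⟩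
  have hwR : w ∈ R := ⟨⟨w, hwM1⟩, hR' (mem_sup_right (mem_zpowers w) : w ∈ Kr ⊔ zpowers w), rfl⟩
  have hwKr : w ∉ Kr := fun h => hw (mem_subgroupOf.2 h)
  have hHKr : H ≤ normalizer (Kr : Set G) := fun h hh => by
    refine centralizer_le_normalizer _ (mem_centralizer_iff.2 fun z hz => ?_)
    exact (hKcomm z (hKrK hz) h hh).eq
  have hHM1 : H ≤ normalizer (M1 : Set G) := fun h hh => by
    refine inf_normalizer_le_normalizer_inf ⟨?_, le_normalizer (hHKr hh)⟩
    rw [normalizer_eq_top]; exact mem_top h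
  -- Frattini
  set Y := normalizer (R : Set G) ⊓ normalizer (Kr : Set G) with hY
  let π : Y →* G ⧸ M := (QuotientGroup.mk' M).comp Y.subtype
  have hπ : Function.Surjective π := by
    intro q
    obtain ⟨g, rfl⟩ := QuotientGroup.mk'_surjective M q
    obtain ⟨m, hm, h, hh, rfl⟩ := hdec g
    let c : M1 ≃* M1 := M1.normalizerMonoidHom ⟨h, hHM1 hh⟩
    obtain ⟨n, hn⟩ := MulAction.exists_smul_eq M1 R'
      (R'.mapSurjective (f := c.toMonoidHom) c.surjective)
    have hmap : ((n • R' : Sylow r M1) : Subgroup M1) = (R' : Subgroup M1).map c.toMonoidHom := by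
      rw [hn]; rfl
    have key : ∀ x ∈ R, (n : G)⁻¹ * (h * x * h⁻¹) * n ∈ R := by
      rintro _ ⟨x, hx, rfl⟩
      have h1 : c x ∈ ((n • R' : Sylow r M1) : Subgroup M1) := hmap ▸ mem_map_of_mem c.toMonoidHom hx
      rw [Sylow.coe_subgroup_smul] at h1
      obtain ⟨z, hz, hz'⟩ := h1
      refine ⟨z, hz, ?_⟩
      have h2 : (n : G) * z * (n : G)⁻¹ = h * x * h⁻¹ := by
        have := congrArg Subtype.val hz'
        simpa [MulAut.smul_def, c] using this
      show (z : G) = (n : G)⁻¹ * (h * x * h⁻¹) * n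
      rw [← h2]; group
    have hy : (n : G)⁻¹ * h ∈ Y := by
      refine mem_inf.2 ⟨?_, mul_mem (inv_mem n.2.2) (hHKr hh)⟩
      rw [mem_normalizer_iff_map_conj_eq]
      refine Subgroup.eq_of_le_of_card_ge ?_ ?_
      · rintro _ ⟨x, hx, rfl⟩
        simpa [mul_assoc] using key x hx
      · rw [Nat.card_congr (equivMapOfInjective R _ (MulEquiv.injective _)).toEquiv.symm]
    refine ⟨⟨_, hy⟩, ?_⟩
    refine QuotientGroup.eq.2 ?_
    simpa [mul_assoc] using hMn.conj_mem' _ (mul_mem n.2.1 hm) h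
  have hker : π.ker = M.subgroupOf Y := by
    ext x
    simp [π, mem_subgroupOf]
  have hidx : π.ker.index = Nat.card H := by
    rw [index_ker, MonoidHom.range_eq_top.2 hπ, card_top, ← index_eq_card]
    exact hM.symm.index_eq_card
  have hcopker : (Nat.card π.ker).Coprime π.ker.index := by
    rw [hidx]
    refine Nat.Coprime.coprime_dvd_left ?_ hHall.symm
    rw [hker, ← hMc, ← Nat.card_congr ((M.subgroupOf Y).equivMapOfInjective _
      Y.subtype_injective).symm.toEquiv, subgroupOf_map_subtype]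
    exact Subgroup.card_dvd_of_le inf_le_left
  obtain ⟨H', hH'⟩ := Subgroup.exists_right_complement'_of_coprime hcopker
  have hH'c : Nat.card H' = Nat.card H := by rw [← hidx, hH'.symm.index_eq_card]
  -- `H ≃* H'`
  let σ : H →* G ⧸ M := (QuotientGroup.mk' M).comp H.subtype
  have hσ : Function.Bijective σ := by
    refine ⟨(MonoidHom.ker_eq_bot_iff σ).1 ((eq_bot_iff_forall _).2 fun x hx => ?_), fun q => ?_⟩
    · have h1 : (x : G) ∈ M := (QuotientGroup.eq_one_iff _).1 hx
      exact Subtype.ext (mem_bot.1 (hMH ▸ mem_inf.2 ⟨h1, x.2⟩))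
    · obtain ⟨g, rfl⟩ := QuotientGroup.mk'_surjective M q
      obtain ⟨m, hm, h, hh, rfl⟩ := hdec g
      refine ⟨⟨h, hh⟩, ?_⟩
      refine QuotientGroup.eq.2 ?_
      simpa [mul_assoc] using hMn.conj_mem' m hm h
  let τ : H' →* G ⧸ M := π.comp H'.subtype
  have hτ : Function.Bijective τ := by
    have hinj : Function.Injective τ := (MonoidHom.ker_eq_bot_iff τ).1 ((eq_bot_iff_forall _).2
      fun x hx => Subtype.ext (mem_bot.1 ((disjoint_iff.1 hH'.disjoint) ▸ mem_inf.2 ⟨hx, x.2⟩)))
    refine hinj.bijective_of_nat_card_le (le_of_eq ?_)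
    rw [hH'c, ← Nat.card_congr (MulEquiv.ofBijective σ hσ).toEquiv]
  let e : H ≃* H' := (MulEquiv.ofBijective σ hσ).trans (MulEquiv.ofBijective τ hτ).symm
  -- the action
  have : (Kr.subgroupOf R).Normal :=
    (normal_subgroupOf_iff_le_normalizer hKrR).2 (hRM1.trans inf_le_right)
  let ψ : H' →* MulAut R :=
    (R.normalizerMonoidHom).comp ((Subgroup.inclusion (inf_le_left : Y ≤ _)).comp H'.subtype)
  have hψval : ∀ (h : H') (x : R), ((ψ h x : R) : G) = ((h : Y) : G) * x * ((h : Y) : G)⁻¹ :=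
    fun h x => rfl
  have hinv : ∀ h : H', (Kr.subgroupOf R).map (ψ h : R ≃* R).toMonoidHom = Kr.subgroupOf R := by
    intro h
    refine Subgroup.eq_of_le_of_card_ge ?_ ?_
    · rintro _ ⟨x, hx, rfl⟩
      exact mem_subgroupOf.2 ((mem_normalizer_iff.1 (h : Y).2.2 _).1 (mem_subgroupOf.1 hx))
    · rw [Nat.card_congr (equivMapOfInjective _ _ (MulEquiv.injective _)).toEquiv.symm]
  let φ : H' →* MulAut (R ⧸ Kr.subgroupOf R) :=
    { toFun := fun h => QuotientGroup.congr _ _ (ψ h) (hinv h)
      map_one' := MulEquiv.ext fun q => by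
        induction q using QuotientGroup.induction_on with
        | _ x => simp [QuotientGroup.congr_mk]
      map_mul' := fun a b => MulEquiv.ext fun q => by
        induction q using QuotientGroup.induction_on with
        | _ x =>
          show (QuotientGroup.mk (ψ (a * b) x) : R ⧸ Kr.subgroupOf R) = QuotientGroup.mk (ψ a (ψ b x))
          rw [map_mul]; rfl }
  have : Nontrivial (R ⧸ Kr.subgroupOf R) := ⟨QuotientGroup.mk ⟨w, hwR⟩, 1, fun h =>
    hwKr (mem_subgroupOf.1 ((QuotientGroup.eq_one_iff _).1 h))⟩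
  have : Nontrivial H' := by
    rw [← Finite.one_lt_card_iff_nontrivial, hH'c, Finite.one_lt_card_iff_nontrivial,
      nontrivial_iff_ne_bot]
    rintro rfl
    exact hnn inferInstance
  have hcopr : r.Coprime (Nat.card H) := by
    refine hr.coprime_iff_not_dvd.2 fun h => hr.ne_one (Nat.eq_one_of_dvd_coprimes hHall h ?_)
    rw [← hMc]
    exact hrd.trans (relIndex_dvd_card _ _)
  have hfpf : ∀ h : H', h ≠ 1 → ∀ v, φ h v = v → v = 1 := by
    intro h hh v
    induction v using QuotientGroup.induction_on with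
    | _ x =>
    intro hv
    have hv' : (QuotientGroup.mk (ψ h x) : R ⧸ Kr.subgroupOf R) = QuotientGroup.mk x := by
      rw [← hv]; rfl
    rw [QuotientGroup.eq, mem_subgroupOf] at hv'
    refine (QuotientGroup.eq_one_iff x).2 (mem_subgroupOf.2 ?_)
    set a : G := ((h : Y) : G) with ha
    have hah : a ^ Nat.card H = 1 := by
      rw [ha, ← hH'c, ← Subgroup.coe_pow, ← Subgroup.coe_pow, pow_card_eq_one',
        OneMemClass.coe_one, OneMemClass.coe_one]
    have haKr : ∀ z ∈ zpowers a, z ∈ normalizer (Kr : Set G) := fun z hz =>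
      (zpowers_le.2 (h : Y).2.2) hz
    obtain ⟨kk, hkk⟩ : ∃ kk ∈ Kr, a * (x : G) * a⁻¹ = (x : G) * kk :=
      ⟨(x : G)⁻¹ * (a * x * a⁻¹), by
        have := inv_mem hv'
        simpa [hψval, mul_assoc] using this, by group⟩
    -- a fixed point in the coset
    have hcop : (Nat.card (zpowers a)).Coprime (Nat.card Kr) := by
      rw [hKrc, Nat.card_zpowers]
      exact (Nat.Coprime.coprime_dvd_right (orderOf_dvd_of_pow_eq_one hah) hcopr).symm.pow_right _
    have hxKr : (x : G) ∈ normalizer (Kr : Set G) := (hRM1 x.2).2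
    obtain ⟨n0, hn0, hn0c⟩ := CfsgLib.Coprime.exists_mul_mem_centralizer (A := zpowers a) (N := Kr)
      haKr hcop (Or.inl (CfsgLib.Coprime.isSolvable_zpowers a)) (k := (x : G)) (fun b hb => by
        obtain ⟨j, rfl⟩ := mem_zpowers_iff.1 hb
        -- the set of `b` moving `x` inside `Kr x` is a subgroup
        let Tset : Subgroup G :=
          { carrier := {b | b ∈ normalizer (Kr : Set G) ∧ b * x * b⁻¹ * (x : G)⁻¹ ∈ Kr}
            one_mem' := ⟨one_mem _, by simp⟩
            mul_mem' := fun {u v} hu hv' => ⟨mul_mem hu.1 hv'.1, by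
              have e1 : u * v * x * (u * v)⁻¹ * (x : G)⁻¹ =
                  (u * (v * x * v⁻¹ * (x : G)⁻¹) * u⁻¹) * (u * x * u⁻¹ * (x : G)⁻¹) := by group
              rw [e1]
              exact mul_mem ((mem_normalizer_iff.1 hu.1 _).1 hv'.2) hu.2⟩
            inv_mem' := fun {u} hu => ⟨inv_mem hu.1, by
              have e1 : u⁻¹ * x * u⁻¹⁻¹ * (x : G)⁻¹ =
                  u⁻¹ * (u * x * u⁻¹ * (x : G)⁻¹)⁻¹ * u⁻¹⁻¹ := by group
              rw [e1]
              exact (mem_normalizer_iff.1 (inv_mem hu.1) _).1 (inv_mem hu.2)⟩ }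
        have hmem : a ∈ Tset := ⟨(h : Y).2.2, by
          rw [hkk.2]
          exact (mem_normalizer_iff.1 hxKr _).1 hkk.1⟩
        rw [commutatorElement_def]
        exact ((zpow_mem hmem j : a ^ j ∈ Tset)).2)
    obtain ⟨m, hm, h2, hh2, hmh⟩ := hdec a
    have hm1 : m ∈ M1 := ⟨hm, by
      rw [show m = a * h2⁻¹ by rw [← hmh, mul_inv_cancel_right]]
      exact mul_mem (h : Y).2.2 (hHKr (inv_mem hh2))⟩
    have hh21 : h2 ≠ 1 := by
      rintro rfl
      rw [mul_one] at hmh
      refine hh (hτ.1 ?_)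
      rw [map_one]
      exact (QuotientGroup.eq_one_iff _).2 (hmh ▸ hm : a ∈ M)
    have hord : orderOf a = orderOf h2 := by
      have h1 : QuotientGroup.mk' M a = QuotientGroup.mk' M h2 := by
        rw [← hmh, map_mul, (QuotientGroup.eq_one_iff m).2 hm |>
          (fun e => show QuotientGroup.mk' M m = 1 from e), one_mul]
      have ea : orderOf (τ h) = orderOf a := by
        rw [orderOf_injective τ hτ.1, ha, Subgroup.orderOf_coe, Subgroup.orderOf_coe]
      have eb : orderOf (σ ⟨h2, hh2⟩) = orderOf h2 := by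
        rw [orderOf_injective σ hσ.1, Subgroup.orderOf_mk]
      rw [← ea, ← eb]
      exact congrArg orderOf h1
    obtain ⟨u, hu, hconj⟩ := CfsgLib.Coprime.exists_conj_eq (N := M1) (H := zpowers a)
      (K := zpowers h2) (Or.inr (CfsgLib.Coprime.isSolvable_zpowers a))
      (zpowers_le.2 (by rw [← hmh]; exact mul_mem (le_normalizer hm1) (hHM1 hh2)))
      (zpowers_le.2 (hHM1 hh2))
      (zpowers_le.2 (by rw [← hmh]; exact mul_mem (mem_sup_left hm1) (mem_sup_right (mem_zpowers h2))))
      (by rw [Nat.card_zpowers, Nat.card_zpowers, hord])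
      (by
        rw [Nat.card_zpowers]
        refine Nat.Coprime.coprime_dvd_right (orderOf_dvd_of_pow_eq_one hah)
          (Nat.Coprime.coprime_dvd_left ?_ hHall.symm)
        rw [← hMc]
        exact Subgroup.card_dvd_of_le inf_le_left)
    -- `y = n0 * x` is fixed, so lands in `K` after conjugation
    set y : G := n0 * x with hydef
    have hyR : y ∈ R := mul_mem (hKrR hn0) x.2
    have hy2 : u * y * u⁻¹ ∈ K := by
      refine ⟨hMn.conj_mem _ (hRM1 hyR).1 u, ?_⟩
      have hc : h2 * (u * y * u⁻¹) = (u * y * u⁻¹) * h2 := by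
        have hmem : h2 ∈ (zpowers a).map (MulAut.conj u).toMonoidHom := hconj ▸ mem_zpowers h2
        obtain ⟨b, hb, rfl⟩ := hmem
        have hby : b * y = y * b := (mem_centralizer_iff.1 hn0c) b hb
        simp only [MulEquiv.coe_toMonoidHom, MulAut.conj_apply]
        calc u * b * u⁻¹ * (u * y * u⁻¹) = u * (b * y) * u⁻¹ := by group
          _ = u * (y * b) * u⁻¹ := by rw [hby]
          _ = _ := by group
      refine mem_normalizer_of_conj hTI hh2 hh21 ?_
      rw [← hc, mul_inv_cancel_right]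
      exact hh2
    have hT : ((Kr ⊔ zpowers y).map (MulAut.conj u).toMonoidHom) = Kr := by
      have hKu : Kr.map (MulAut.conj u).toMonoidHom = Kr := mem_normalizer_iff_map_conj_eq.1 hu.2
      refine (Subgroup.eq_of_le_of_card_ge ?_ ?_).symm
      · conv_lhs => rw [← hKu]
        exact map_mono le_sup_left
      · have hle : (Kr ⊔ zpowers y).map (MulAut.conj u).toMonoidHom ≤ K := by
          rw [Subgroup.map_sup, hKu, MonoidHom.map_zpowers]
          exact sup_le hKrK (zpowers_le.2 hy2)
        obtain ⟨j, hj⟩ := IsPGroup.iff_card.1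
          ((hRp.to_le (sup_le hKrR (zpowers_le.2 hyR))).map (MulAut.conj u).toMonoidHom)
        rw [hj, hKrc]
        refine Nat.pow_le_pow_right hr.pos ?_
        rw [← hr.pow_dvd_iff_le_factorization Nat.card_pos.ne', ← hj]
        exact Subgroup.card_dvd_of_le hle
    have hyKr : y ∈ Kr := by
      have h1 : u * y * u⁻¹ ∈ Kr := hT ▸ mem_map_of_mem _ (mem_sup_right (mem_zpowers y))
      exact (mem_normalizer_iff.1 hu.2 y).2 h1
    simpa [hydef] using mul_mem (inv_mem hn0) hyKr
  refine ⟨(R ⧸ Kr.subgroupOf R) ⋊[φ] H', inferInstance, Finite.of_equiv _ SemidirectProduct.equivProd.symm,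
    (SemidirectProduct.inr : H' →* _).range, FrobRealize.isFrobeniusComplement_inr φ hfpf, ⟨?_⟩⟩
  exact e.trans (MonoidHom.ofInjective SemidirectProduct.inr_injective)


end CfsgLib.PGroup.TIHall
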