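import Cfsg.Agent.Lib.PGroup.TISeparable
import Cfsg.Agent.Lib.Coprime.Sylow
import Cfsg.Agent.Lib.Coprime.SchurZassenhaus
import Cfsg.Agent.Lib.PGroup.Frattini
import Cfsg.Agent.Lib.Recognition.Zassenhaus.SL25
import Cfsg.Agent.S4207
import Mathlib

/-!
# Solvability of separable groups with a trivial intersection Hall subgroup
-/

set_option autoImplicit false

namespace CfsgLib.PGroup.TISolvable

open Subgroup
open scoped Pointwise

/-- The preimage of a subgroup under an equivalence is equivalent to it. -/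
def comapEquiv {M N : Type*} [Group M] [Group N] (φ : M ≃* N) (C : Subgroup N) :
    C ≃* C.comap φ.toMonoidHom where
  toFun x := ⟨φ.symm x, by simp [x.2]⟩
  invFun x := ⟨φ x, x.2⟩
  left_inv x := by simp
  right_inv x := Subtype.ext (φ.symm_apply_apply (x : M))
  map_mul' x y := Subtype.ext (map_mul φ.symm (x : N) (y : N))

/-- A complement of a trivial intersection Hall subgroup in a small universe. -/
theorem exists_complement_model {G : Type*} [Group G] [Finite G] {H O : Subgroup G}
    (hTI : Cfsg.IsTISubset (H : Set G))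
    [O.Normal] (hO : (Nat.card O).Coprime (Nat.card H)) (hON : ¬ O ≤ normalizer (H : Set G)) :
    ∃ (F : Type) (_ : Group F) (_ : Finite F) (C : Subgroup F), Cfsg.IsFrobeniusComplement C ∧
      Nonempty (H ≃* C) := by
  classical
  set Y := O ⊔ H with hY
  have hHY : H ≤ Y := le_sup_right
  have hOY : O ≤ Y := le_sup_left
  set H0 := H.subgroupOf Y
  set O0 := O.subgroupOf Y
  have hOn : O0.Normal := inferInstance
  have e0 : H0 ≃* H := subgroupOfEquivOfLe hHY
  have hdis : O0 ⊓ H0 = ⊥ := by
    rw [eq_bot_iff_forall]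
    rintro x ⟨h1, h2'⟩
    exact Subtype.ext (mem_bot.1 ((disjoint_of_coprime_natCard hO).eq_bot ▸
      mem_inf.2 ⟨mem_subgroupOf.1 h1, mem_subgroupOf.1 h2'⟩))
  have hc : O0.IsComplement' H0 := by
    refine isComplement'_of_disjoint_and_mul_eq_univ (disjoint_iff.2 hdis)
      (Set.eq_univ_of_forall fun y => ?_)
    obtain ⟨o, ho, h, hh, e⟩ := mem_sup_of_normal_left.1 y.2
    exact ⟨⟨o, hOY ho⟩, mem_subgroupOf.2 ho, ⟨h, hHY hh⟩, mem_subgroupOf.2 hh, Subtype.ext e⟩
  have hMc : Nat.card O0 = H0.index := hc.index_eq_card.symm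
  have hnn : ¬ H0.Normal := by
    intro h
    exact hON (hOY.trans ((normal_subgroupOf_iff_le_normalizer hHY).1 h))
  have hHall : (Nat.card H0).Coprime H0.index := by
    rw [← hMc, Nat.card_congr e0.toEquiv, Nat.card_congr (subgroupOfEquivOfLe hOY).toEquiv]
    exact hO.symm
  obtain ⟨F, hFg, hFf, C, ⟨hC1, hC2, hC3⟩, ⟨e⟩⟩ := TIHall.isFrobeniusComplement_of_complement
    (TISeparable.isTISubset_subgroupOf hHY hTI) hHall hOn hc hMc hnn
  let φ : Shrink.{0} F ≃* F := Shrink.mulEquiv
  refine ⟨Shrink.{0} F, inferInstance, Finite.of_equiv F φ.symm.toEquiv, C.comap φ.toMonoidHom,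
    ⟨?_, ?_, ?_⟩, ⟨(e0.symm.trans e).trans (CfsgLib.PGroup.TISolvable.comapEquiv φ C)⟩⟩
  · intro h
    exact hC1 (comap_injective (f := φ.toMonoidHom) φ.surjective
      (h.trans (by rw [MonoidHom.comap_bot, eq_comm, MonoidHom.ker_eq_bot_iff]; exact φ.injective)))
  · intro h
    exact hC2 (comap_injective (f := φ.toMonoidHom) φ.surjective (h.trans (comap_top _).symm))
  · intro g hg
    rw [eq_bot_iff]
    rintro x ⟨hx1, hx2⟩
    have : φ x ∈ C ⊓ MulAut.conj (φ g) • C := by
      refine ⟨hx1, ?_⟩
      have h2 : (MulAut.conj g)⁻¹ • x ∈ C.comap φ.toMonoidHom :=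
        Subgroup.mem_pointwise_smul_iff_inv_smul_mem.1 hx2
      refine Subgroup.mem_pointwise_smul_iff_inv_smul_mem.2 ?_
      simpa using h2
    rw [hC3 (φ g) hg] at this
    exact mem_bot.2 (φ.injective (this.trans φ.map_one.symm))

/-- A group acting faithfully and coprimely on a cyclic or quaternion group is solvable. -/
theorem isSolvable_range {A P : Type*} [Group A] [Finite A] [Group P] [Finite P]
    (f : A →* MulAut P) (hcop : (Nat.card A).Coprime (Nat.card P))
    (hP : IsCyclic P ∨ ∃ n : ℕ, Nonempty (P ≃* QuaternionGroup (2 ^ n))) :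
    Group.IsSolvable f.range := by
  classical
  rcases hP with hc | ⟨n, ⟨e⟩⟩
  · refine Group.isSolvable_of_comm fun a b => Subtype.ext ?_
    let E := IsCyclic.mulAutMulEquiv P
    apply E.injective
    simp only [Subgroup.coe_mul, map_mul, mul_comm]
  have h2 : IsPGroup 2 P := by
    refine IsPGroup.of_card (n := n + 2) ?_
    rw [Nat.card_congr e.toEquiv, Nat.card_eq_fintype_card, QuaternionGroup.card]
    ring
  set Φ := frattini P
  have hidx : Φ.index ≤ 4 := by
    set a : P := e.symm (QuaternionGroup.a 1) with ha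
    have hle : zpowers (a ^ 2) ≤ Φ := zpowers_le.2 (Frattini.pow_mem_frattini h2 a)
    refine (Nat.le_of_dvd (Nat.pos_of_ne_zero index_ne_zero_of_finite)
      (index_dvd_of_le hle)).trans ?_
    have h1 := (zpowers (a ^ 2)).card_mul_index
    rw [Nat.card_zpowers, orderOf_pow, ha, MulEquiv.orderOf_eq, QuaternionGroup.orderOf_a_one,
      Nat.gcd_eq_right (dvd_mul_right 2 _), Nat.mul_div_cancel_left _ (by norm_num),
      Nat.card_congr e.toEquiv, Nat.card_eq_fintype_card, QuaternionGroup.card] at h1
    exact le_of_eq (Nat.eq_of_mul_eq_mul_left (Nat.two_pow_pos n) (by linarith))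
  have : Φ.Characteristic := inferInstance
  let g : f.range →* Equiv.Perm (P ⧸ Φ) :=
    { toFun := fun a => (QuotientGroup.congr Φ Φ (a : MulAut P)
        (Subgroup.characteristic_iff_map_eq.1 this (a : MulAut P))).toEquiv
      map_one' := by
        refine Equiv.ext fun x => ?_
        induction x using QuotientGroup.induction_on with | _ x => rfl
      map_mul' := fun a b => by
        refine Equiv.ext fun x => ?_
        induction x using QuotientGroup.induction_on with | _ x => rfl }
  have : Group.IsSolvable (Equiv.Perm (P ⧸ Φ)) := CfsgLib.Recognition.Zassenhaus.perm_solvable _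
    (by rw [← Subgroup.index_eq_card]; exact hidx)
  refine Group.isSolvable_of_isSolvable_injective (f := g) ((injective_iff_map_eq_one g).2 fun a ha => ?_)
  refine Subtype.ext ?_
  let Z : Subgroup (MulAut P) :=
    { carrier := {y | ∀ x : P, y x * x⁻¹ ∈ Φ}
      one_mem' := fun x => by simp
      mul_mem' := fun {u v} hu hv x => by
        have h := mul_mem (hu (v x)) (hv x)
        simpa [mul_assoc] using h
      inv_mem' := fun {u} hu x => by
        have h := inv_mem (hu (u⁻¹ x))
        simpa [mul_assoc] using h }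
  have hZ : zpowers (a : MulAut P) ≤ Z := zpowers_le.2 fun x => by
    have h : (((a : MulAut P) x : P) : P ⧸ Φ) = x := congrArg (fun q : Equiv.Perm (P ⧸ Φ) => q x) ha
    rw [← QuotientGroup.eq_one_iff, QuotientGroup.mk_mul, QuotientGroup.mk_inv, h, mul_inv_cancel]
  obtain ⟨m, hm⟩ := IsPGroup.iff_card.1 h2
  obtain ⟨r, hr2, hr⟩ := (Nat.dvd_prime_pow Nat.prime_two).1
    (hm ▸ Subgroup.index_dvd_card Φ)
  have h7 := Cfsg.Agent.S4207.result hm hr (zpowers (a : MulAut P)) (fun α hα x => hZ hα x)
  rw [Nat.card_zpowers] at h7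
  have hord : (orderOf (a : MulAut P)).Coprime (Nat.card P) := by
    obtain ⟨x, hx⟩ := a.2
    refine hcop.coprime_dvd_left ?_
    rw [← hx]
    exact (orderOf_map_dvd f x).trans (orderOf_dvd_natCard x)
  show (a : MulAut P) = 1
  rw [← orderOf_eq_one_iff]
  refine Nat.eq_one_of_dvd_coprimes ?_ dvd_rfl h7
  refine Nat.Coprime.pow_right _ ?_
  rcases Nat.eq_zero_or_pos m with rfl | hm0
  · have : Subsingleton P := (Nat.card_eq_one_iff_unique.1 (hm.trans (pow_zero 2))).1
    have h1 : (a : MulAut P) = 1 := MulEquiv.ext fun x => Subsingleton.elim _ _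
    rw [h1, orderOf_one]
    exact Nat.coprime_one_left 2
  · exact hord.coprime_dvd_right (hm ▸ dvd_pow_self 2 hm0.ne')

/-- A complement acting faithfully on a solvable group whose Sylow subgroups are cyclic or
quaternion is solvable. -/
theorem isSolvable_of_faithful {X : Type*} [Group X] [Finite X] {A K : Subgroup X}
    (hAK : A ≤ normalizer (K : Set X)) (hcop : (Nat.card A).Coprime (Nat.card K))
    (hK : Group.IsSolvable K) (hfaith : A ⊓ centralizer (K : Set X) = ⊥)
    (hsyl : ∀ (p : ℕ) [Fact p.Prime] (P : Sylow p K),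
      IsCyclic P ∨ ∃ n : ℕ, Nonempty (P ≃* QuaternionGroup (2 ^ n))) :
    Group.IsSolvable A := by
  classical
  have hS : ∀ p : (Nat.card K).primeFactors,
      haveI : Fact (p : ℕ).Prime := ⟨(Nat.mem_primeFactors.1 p.2).1⟩
      ∃ P : Sylow (p : ℕ) K, A ≤ normalizer (((P : Subgroup K).map K.subtype : Subgroup X) : Set X) :=
    fun p => @CfsgLib.Coprime.exists_invariant_sylow X _ _ A K hAK hcop (Or.inr hK) p
      ⟨(Nat.mem_primeFactors.1 p.2).1⟩
  choose P hP using hS
  let Q : (Nat.card K).primeFactors → Subgroup X := fun p => (P p : Subgroup K).map K.subtype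
  let φ : ∀ p, A →* MulAut (Q p) := fun p =>
    (normalizerMonoidHom (Q p)).comp (Subgroup.inclusion (hP p))
  have hsol : ∀ p, ∃ n, (derivedSeries A n).map (φ p) = ⊥ := by
    intro p
    haveI : Fact (p : ℕ).Prime := ⟨(Nat.mem_primeFactors.1 p.2).1⟩
    let eP : (P p : Subgroup K) ≃* Q p := equivMapOfInjective _ K.subtype K.subtype_injective
    have : Group.IsSolvable (φ p).range := by
      refine isSolvable_range (φ p) (hcop.coprime_dvd_right ?_) ?_
      · rw [← Nat.card_congr eP.toEquiv]
        exact Subgroup.card_subgroup_dvd_card _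
      · rcases hsyl (p : ℕ) (P p) with h | ⟨n, ⟨e⟩⟩
        · exact Or.inl (isCyclic_of_surjective eP eP.surjective)
        · exact Or.inr ⟨n, ⟨eP.symm.trans e⟩⟩
    obtain ⟨n, hn⟩ := this.solvable
    refine ⟨n, ?_⟩
    have h1 := map_derivedSeries_le_derivedSeries (φ p).rangeRestrict n
    rw [hn, le_bot_iff] at h1
    calc (derivedSeries A n).map (φ p)
        = ((derivedSeries A n).map (φ p).rangeRestrict).map (φ p).range.subtype := by
          rw [Subgroup.map_map]; rfl
      _ = ⊥ := by rw [h1, Subgroup.map_bot]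
  choose n hn using hsol
  refine ⟨Finset.univ.sup n, (eq_bot_iff_forall _).2 fun a ha => Subtype.ext ?_⟩
  have hfix : ∀ p, φ p a = 1 := fun p =>
    mem_bot.1 (hn p ▸ mem_map_of_mem _ (derivedSeries_antitone A (Finset.le_sup (Finset.mem_univ p)) ha))
  refine mem_bot.1 (hfaith ▸ mem_inf.2 ⟨a.2, ?_⟩)
  have htop : K ≤ centralizer ({(a : X)} : Set X) := by
    intro k hk
    have hgen : (centralizer ({(a : X)} : Set X)).subgroupOf K = ⊤ := by
      refine eq_top_of_card_eq _ (Nat.dvd_antisymm (Subgroup.card_subgroup_dvd_card _) ?_)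
      refine (Nat.factorization_le_iff_dvd Nat.card_pos.ne' Nat.card_pos.ne').1 fun q => ?_
      by_cases hq : q ∈ (Nat.card K).primeFactors
      swap
      · rw [← Nat.support_factorization, Finsupp.notMem_support_iff] at hq
        rw [hq]
        exact Nat.zero_le _
      haveI : Fact q.Prime := ⟨(Nat.mem_primeFactors.1 hq).1⟩
      have hle : (P ⟨q, hq⟩ : Subgroup K) ≤ (centralizer ({(a : X)} : Set X)).subgroupOf K := by
        intro y hy
        rw [mem_subgroupOf, mem_centralizer_singleton_iff]
        have h := congrArg (fun u : MulAut (Q ⟨q, hq⟩) => (u ⟨(y : X), y, hy, rfl⟩ : X)) (hfix ⟨q, hq⟩)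
        exact (eq_mul_inv_iff_mul_eq.1 (Eq.symm h))
      refine (Nat.Prime.pow_dvd_iff_le_factorization Fact.out Nat.card_pos.ne').1 ?_
      rw [← (P ⟨q, hq⟩).card_eq_multiplicity]
      exact Subgroup.card_dvd_of_le hle
    exact mem_subgroupOf.1 (hgen ▸ mem_top (⟨k, hk⟩ : K))
  rw [mem_centralizer_iff]
  exact fun k hk => (mem_centralizer_singleton_iff.1 (htop hk))

/-- A Hall subgroup that is normal contains its centraliser, provided every normal subgroup of
coprime order is trivial. -/
theorem centralizer_le {X : Type*} [Group X] [Finite X] {K : Subgroup X} [K.Normal]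
    (hK : (Nat.card K).Coprime K.index)
    (hcore : ∀ D : Subgroup X, D.Normal → (Nat.card D).Coprime (Nat.card K) → D = ⊥) :
    centralizer (K : Set X) ≤ K := by
  set C := centralizer (K : Set X)
  have hCn : C.Normal := inferInstance
  set Z := K.subgroupOf C with hZdef
  have hZn : Z.Normal := inferInstance
  have hZc : Nat.card Z ∣ Nat.card K :=
    Subgroup.card_dvd_of_injective
      (f := (⟨⟨fun z => (⟨((z : C) : X), z.2⟩ : K), rfl⟩, fun _ _ => rfl⟩ : Z →* K))
      fun a b h => Subtype.ext (Subtype.ext (congrArg Subtype.val h :))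
  have hZi : Z.index ∣ K.index := relIndex_dvd_index_of_normal K C
  have hcop : (Nat.card Z).Coprime Z.index :=
    (hK.coprime_dvd_left hZc).coprime_dvd_right hZi
  obtain ⟨D, hD⟩ := exists_right_complement'_of_coprime hcop
  have hDc : Nat.card D = Z.index := hD.symm.index_eq_card.symm
  have hDK : (Nat.card D).Coprime (Nat.card K) := by
    rw [hDc]
    exact (hK.coprime_dvd_right hZi).symm
  have hDn : (D.map C.subtype).Normal := by
    refine ⟨fun y hy g => ?_⟩
    obtain ⟨d, hd, rfl⟩ := hy
    set w : C := ⟨g * (d : X) * g⁻¹, hCn.conj_mem _ d.2 g⟩ with hw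
    obtain ⟨z, hz', d', hd', he⟩ := mem_sup_of_normal_left.1
      (show w ∈ Z ⊔ D from hD.sup_eq_top.symm ▸ mem_top w)
    refine ⟨d', hd', ?_⟩
    have hcomm : Commute z d' := by
      refine Subtype.ext ?_
      exact mem_centralizer_iff.1 d'.2 _ (mem_subgroupOf.1 hz')
    have hwp : w ^ Nat.card D = 1 := by
      refine Subtype.ext ?_
      have h : (d : X) ^ Nat.card D = 1 := by
        have h' := orderOf_dvd_iff_pow_eq_one.1 (Subgroup.orderOf_dvd_natCard D hd)
        simpa using congrArg Subtype.val h'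
      simp [hw, conj_pow, h]
    have hz1 : z ^ Nat.card D = 1 := by
      rw [← he] at hwp
      simpa [hcomm.mul_pow, orderOf_dvd_iff_pow_eq_one.1 (Subgroup.orderOf_dvd_natCard D hd')]
        using hwp
    have hz : z = 1 := orderOf_eq_one_iff.1 (Nat.eq_one_of_dvd_coprimes (hDK.coprime_dvd_right hZc)
      (orderOf_dvd_of_pow_eq_one hz1) (Subgroup.orderOf_dvd_natCard Z hz'))
    simp only [hz, one_mul] at he
    show (d' : X) = g * (d : X) * g⁻¹
    rw [he]
  have h0 := hcore _ hDn (by
    rw [Nat.card_congr (equivMapOfInjective _ _ C.subtype_injective).toEquiv.symm]; exact hDK)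
  rw [map_eq_bot_iff_of_injective _ C.subtype_injective] at h0
  rw [h0, card_bot] at hDc
  exact subgroupOf_eq_top.1 (index_eq_one.1 hDc.symm)

/-- The solvability criterion. -/
theorem isSolvable {G : Type*} [Group G] [Finite G] {H O : Subgroup G}
    (hTI : Cfsg.IsTISubset (H : Set G)) (hHall : (Nat.card H).Coprime H.index)
    [O.Normal] (hO : (Nat.card O).Coprime (Nat.card H))
    (hgr : ∀ K : Subgroup G, K.Normal → (Nat.card K).Coprime (Nat.card H) → K ≤ O)
    (hON : ¬ O ≤ normalizer (H : Set G)) (hn : (O ⊔ H).Normal) (hsO : Group.IsSolvable O)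
    (hSL : ∀ K : Subgroup G, K ≤ H → ¬ Nonempty (K ≃* Matrix.SpecialLinearGroup (Fin 2) (ZMod 5))) :
    Group.IsSolvable G := by
  classical
  obtain ⟨F, hFg, hFf, C, hC, ⟨e⟩⟩ := exists_complement_model hTI hO hON
  have hsH : Group.IsSolvable H := by
    by_contra hns
    obtain ⟨K, M, -, -, ⟨i⟩, -⟩ :=
      CfsgLib.Recognition.Zassenhaus.frobenius_structure hns hC e
    exact hSL (K.map H.subtype) (map_subtype_le _)
      ⟨(equivMapOfInjective _ _ H.subtype_injective).symm.trans i⟩
  obtain ⟨N, -, hN1, hCN, hfpf, -, -⟩ := FrobRealize.FPF.exists_fpf_kernel hC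
  let mk := QuotientGroup.mk' O
  set K := H.map mk with hKdef
  have hsurj : Function.Surjective mk := QuotientGroup.mk'_surjective O
  have hKn : K.Normal := by
    have h := hn.map mk hsurj
    rwa [Subgroup.map_sup, QuotientGroup.map_mk'_self, bot_sup_eq] at h
  have hinj : Function.Injective (mk.subgroupMap H) := by
    refine (injective_iff_map_eq_one _).2 fun x hx => Subtype.ext ?_
    have h : (x : G) ∈ O := (QuotientGroup.eq_one_iff _).1 (congrArg Subtype.val hx :)
    exact mem_bot.1 ((disjoint_of_coprime_natCard hO).eq_bot ▸ mem_inf.2 ⟨h, x.2⟩)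
  let eK : H ≃* K := MulEquiv.ofBijective (mk.subgroupMap H) ⟨hinj, mk.subgroupMap_surjective H⟩
  have hKc : Nat.card K = Nat.card H := (Nat.card_congr eK.toEquiv).symm
  have hKi : (Nat.card K).Coprime K.index := by
    rw [hKc]
    exact hHall.coprime_dvd_right (H.index_map_dvd hsurj)
  have hCK : centralizer (K : Set (G ⧸ O)) ≤ K := by
    refine centralizer_le hKi fun D hD hDc => ?_
    have hle : D.comap mk ≤ O := hgr _ (hD.comap mk) ?_
    · refine comap_injective hsurj (le_antisymm ?_ ?_)
      · rw [MonoidHom.comap_bot, QuotientGroup.ker_mk']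
        exact hle
      · exact comap_mono bot_le
    · have h := (D.comap mk).index_mul_card
      rw [D.index_comap_of_surjective hsurj, ← O.index_mul_card, Subgroup.index_eq_card O,
        ← D.index_mul_card, mul_assoc] at h
      rw [Nat.eq_of_mul_eq_mul_left (Nat.pos_of_ne_zero index_ne_zero_of_finite) h]
      exact Nat.Coprime.mul_left (hKc ▸ hDc) hO
  obtain ⟨A, hA⟩ := exists_right_complement'_of_coprime hKi
  have hAc : Nat.card A = K.index := hA.symm.index_eq_card.symm
  have hsK : Group.IsSolvable K :=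
    Group.isSolvable_of_surjective (f := eK.toMonoidHom) eK.surjective
  have hsA : Group.IsSolvable A := by
    refine isSolvable_of_faithful (K := K) (by rw [normalizer_eq_top]; exact le_top)
      (by rw [hAc]; exact hKi.symm) hsK ?_ ?_
    · rw [eq_bot_iff]
      exact (inf_le_inf_left A hCK).trans (disjoint_iff.1 hA.disjoint.symm).le
    · intro p hp P
      let f : K ≃* C := eK.symm.trans e
      let P' : Sylow p C := P.mapSurjective (f := f.toMonoidHom) f.surjective
      let i : (P : Subgroup K) ≃* (P' : Subgroup C) := equivMapOfInjective _ f.toMonoidHom f.injective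
      rcases FrobRealize.FPF.sylow_cyclic_or_quaternion hN1 hCN hfpf P' with h | ⟨-, n, ⟨q⟩⟩
      · exact Or.inl (isCyclic_of_surjective i.symm i.symm.surjective)
      · exact Or.inr ⟨n, ⟨i.trans q⟩⟩
  have hsQ : Group.IsSolvable ((G ⧸ O) ⧸ K) := by
    refine Group.isSolvable_of_surjective (f := (QuotientGroup.mk' K).comp A.subtype) fun x => ?_
    obtain ⟨x, rfl⟩ := QuotientGroup.mk'_surjective K x
    obtain ⟨k, hk, a, ha, he⟩ := mem_sup_of_normal_left.1
      (show x ∈ K ⊔ A from hA.sup_eq_top.symm ▸ mem_top x)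
    refine ⟨⟨a, ha⟩, ?_⟩
    rw [← he, map_mul, show QuotientGroup.mk' K k = 1 from (QuotientGroup.eq_one_iff _).2 hk,
      one_mul]
    rfl
  have hsGO : Group.IsSolvable (G ⧸ O) := Group.isSolvable_of_ker_le_range K.subtype
    (QuotientGroup.mk' K) (by rw [QuotientGroup.ker_mk', Subgroup.range_subtype])
  exact Group.isSolvable_of_ker_le_range O.subtype mk
    (by rw [QuotientGroup.ker_mk', Subgroup.range_subtype])

end CfsgLib.PGroup.TISolvable
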