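import Mathlib

/-!
A lower bound for the degree of a faithful representation of a group containing commuting semisimple elements
`t₁, …, tₙ` whose normalizer permutes them arbitrarily and inverts each of them separately: the degree is at
least `2n`, because the weights of the commuting family are stable under signed permutations.
-/

set_option autoImplicit false
set_option linter.unusedSectionVars false

namespace CfsgLib.PGroup.TorusDegree

theorem le_choose {n k : ℕ} (h1 : 1 ≤ k) (h2 : k < n) : n ≤ n.choose k := by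
  induction n generalizing k with
  | zero => omega
  | succ n ih =>
    obtain ⟨k, rfl⟩ : ∃ j, k = j + 1 := ⟨k - 1, by omega⟩
    rw [Nat.choose_succ_succ']
    rcases Nat.eq_zero_or_pos k with rfl | hk
    · simp
    · have h3 := ih hk (by omega)
      have h4 : 1 ≤ n.choose (k + 1) := Nat.choose_pos (by omega)
      omega

theorem two_mul_le_choose_mul {n k : ℕ} (h1 : 1 ≤ k) (h2 : k ≤ n) : 2 * n ≤ n.choose k * 2 ^ k := by
  rcases lt_or_eq_of_le h2 with h | rfl
  · calc 2 * n = n * 2 := Nat.mul_comm _ _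
      _ ≤ n.choose k * 2 ^ k := Nat.mul_le_mul (le_choose h1 h) (Nat.le_self_pow (by omega) 2)
  · rw [Nat.choose_self, one_mul]
    have : k - 1 < 2 ^ (k - 1) := Nat.lt_two_pow_self
    rw [show 2 ^ k = 2 * 2 ^ (k - 1) by rw [← pow_succ']; congr 1; omega]
    exact Nat.mul_le_mul_left _ (by omega)

variable {K : Type*} [Field K] {V : Type*} [AddCommGroup V] [Module K V] [FiniteDimensional K V]

/-- A nonzero subspace invariant under a finite commuting family contains a common eigenvector. -/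
theorem exists_common_eigvec [IsAlgClosed K] {ι : Type*} [Fintype ι] (T : ι → Module.End K V)
    (hT : ∀ i j, Commute (T i) (T j)) (U : Submodule K V) (hU : U ≠ ⊥) (hinv : ∀ i, ∀ v ∈ U, T i v ∈ U) :
    ∃ v ∈ U, v ≠ 0 ∧ ∀ i, ∃ μ : K, T i v = μ • v := by
  classical
  suffices h : ∀ s : Finset ι, ∃ U' : Submodule K V, U' ≤ U ∧ U' ≠ ⊥ ∧ (∀ i, ∀ v ∈ U', T i v ∈ U') ∧
      ∀ i ∈ s, ∃ μ : K, ∀ v ∈ U', T i v = μ • v by
    obtain ⟨U', hle, hne, -, hs⟩ := h Finset.univ
    obtain ⟨v, hv, hv0⟩ := Submodule.exists_mem_ne_zero_of_ne_bot hne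
    exact ⟨v, hle hv, hv0, fun i => (hs i (Finset.mem_univ _)).imp fun μ h => h v hv⟩
  intro s
  induction s using Finset.induction_on with
  | empty => exact ⟨U, le_rfl, hU, hinv, fun i h => absurd h (Finset.notMem_empty i)⟩
  | @insert a s _ ih =>
    obtain ⟨U', hle, hne, hi, hs⟩ := ih
    haveI : Nontrivial U' := Submodule.nontrivial_iff_ne_bot.2 hne
    obtain ⟨μ, hμ⟩ := Module.End.exists_eigenvalue ((T a).restrict (hi a))
    obtain ⟨w, hw⟩ := hμ.exists_hasEigenvector
    have hw' : T a w = μ • (w : V) := congrArg Subtype.val hw.apply_eq_smul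
    refine ⟨U' ⊓ (T a).eigenspace μ, inf_le_left.trans hle, ?_, ?_, ?_⟩
    · refine (Submodule.ne_bot_iff _).2 ⟨w, ⟨w.2, Module.End.mem_eigenspace_iff.2 hw'⟩, ?_⟩
      exact fun h => hw.2 (Subtype.ext h)
    · rintro i v ⟨hv, hv'⟩
      refine ⟨hi i v hv, Module.End.mem_eigenspace_iff.2 ?_⟩
      have := LinearMap.congr_fun (hT a i).eq v
      simp only [Module.End.mul_apply] at this
      rw [this, Module.End.mem_eigenspace_iff.1 hv', map_smul]
    · intro i hi'
      rcases Finset.mem_insert.1 hi' with rfl | hi''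
      · exact ⟨μ, fun v hv => Module.End.mem_eigenspace_iff.1 hv.2⟩
      · exact (hs i hi'').imp fun μ h v hv => h v hv.1

/-- An element of order dividing an invertible number, not trivial, has an eigenvalue different from `1` on a
common eigenvector of the centralizing family. -/
theorem exists_common_eigvec_ne_one [IsAlgClosed K] {ι : Type*} [Fintype ι] (T : ι → Module.End K V)
    (hT : ∀ i j, Commute (T i) (T j)) (A : Module.End K V) (hA : ∀ i, Commute (T i) A) {m : ℕ}
    (hm : (m : K) ≠ 0) (hAm : A ^ m = 1) (hA1 : A ≠ 1) :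
    ∃ v, v ≠ 0 ∧ A v ≠ v ∧ ∀ i, ∃ μ : K, T i v = μ • v := by
  obtain ⟨v, ⟨w, rfl⟩, hv0, hv⟩ := exists_common_eigvec T hT (LinearMap.range (A - 1))
    (fun h => hA1 (sub_eq_zero.1 (LinearMap.range_eq_bot.1 h))) (by
      rintro i _ ⟨w, rfl⟩
      exact ⟨T i w, (LinearMap.congr_fun ((hA i).sub_right (Commute.one_right _)).eq w).symm⟩)
  refine ⟨_, hv0, fun hfix => hv0 ?_, hv⟩
  have hp : ∀ k : ℕ, (A ^ k) ((A - 1) w) = (A - 1) w := by
    intro k
    induction k with
    | zero => rfl
    | succ k ih => rw [pow_succ, Module.End.mul_apply, hfix, ih]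
  have h0 : ((∑ k ∈ Finset.range m, A ^ k) * (A - 1)) w = 0 := by
    rw [geom_sum_mul, hAm, sub_self]; rfl
  rw [Module.End.mul_apply, LinearMap.sum_apply, Finset.sum_congr rfl (fun k _ => hp k), Finset.sum_const,
    Finset.card_range, ← Nat.cast_smul_eq_nsmul K] at h0
  exact (smul_eq_zero.1 h0).resolve_left hm

variable {G : Type*} [Group G] {n d : ℕ}

/-- The signed permutation bound on the degree. -/
theorem two_mul_le [IsAlgClosed K] (ρ : G →* GL (Fin d) K) (hρ : Function.Injective ρ) {m : ℕ}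
    (hm : (m : K) ≠ 0) (t : Fin n → G) (hc : ∀ i j, Commute (t i) (t j)) (hord : ∀ i, t i ^ m = 1)
    (h2 : ∀ i, t i ^ 2 ≠ 1)
    (hinv : ∀ i, ∃ g, g * t i * g⁻¹ = (t i)⁻¹ ∧ ∀ j, j ≠ i → g * t j * g⁻¹ = t j)
    (hswap : ∀ i j, ∃ g, ∀ k, g * t k * g⁻¹ = t (Equiv.swap i j k)) : 2 * n ≤ d := by
  classical
  rcases Nat.eq_zero_or_pos n with rfl | hn
  · simp
  let R : G →* Module.End K (Fin d → K) :=
    (Matrix.toLinAlgEquiv' : Matrix (Fin d) (Fin d) K ≃ₐ[K] _).toRingEquiv.toMulEquiv.toMonoidHom.comp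
      ((Units.coeHom _).comp ρ)
  have hR : Function.Injective R :=
    (Matrix.toLinAlgEquiv' : Matrix (Fin d) (Fin d) K ≃ₐ[K] _).injective.comp (Units.val_injective.comp hρ)
  have happ : ∀ a b v, R (a * b) v = R a (R b v) := fun a b v => by rw [map_mul]; rfl
  have hinv' : ∀ g v, R g (R g⁻¹ v) = v := fun g v => by rw [← happ, mul_inv_cancel, map_one]; rfl
  -- the weights
  let W : Set (Fin n → K) := {χ | ∃ v, v ≠ 0 ∧ ∀ i, R (t i) v = χ i • v}
  have hne0 : ∀ {χ}, χ ∈ W → ∀ i, χ i ≠ 0 := by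
    rintro χ ⟨v, hv0, hv⟩ i h
    have := congrArg (R (t i)⁻¹) (hv i)
    rw [← happ, inv_mul_cancel, map_one, h, zero_smul, map_zero] at this
    exact hv0 this
  have hmove : ∀ {χ}, χ ∈ W → ∀ (g : G) (χ' : Fin n → K), (∀ v, (∀ i, R (t i) v = χ i • v) → ∀ i,
      R (g * t i * g⁻¹) v = χ' i • v) → χ' ∈ W := by
    rintro χ ⟨v, hv0, hv⟩ g χ' h
    refine ⟨R g⁻¹ v, fun h0 => hv0 (by rw [← hinv' g v, h0, map_zero]), fun i => ?_⟩
    have := congrArg (R g⁻¹) (h v hv i)
    rw [map_smul, ← happ] at this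
    rw [← happ, ← this]
    congr 2
    group
  have hflip : ∀ {χ}, χ ∈ W → ∀ i, Function.update χ i (χ i)⁻¹ ∈ W := by
    intro χ hχ i
    obtain ⟨g, hg, hg'⟩ := hinv i
    refine hmove hχ g _ fun v hv j => ?_
    rcases eq_or_ne j i with rfl | hne
    · rw [Function.update_self, hg]
      have := congrArg (R (t j)⁻¹) (hv j)
      rw [← happ, inv_mul_cancel, map_one, map_smul] at this
      rw [eq_inv_smul_iff₀ (hne0 hχ j)]
      exact this.symm
    · rw [Function.update_of_ne hne, hg' j hne]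
      exact hv j
  have hperm : ∀ {χ}, χ ∈ W → ∀ σ : Equiv.Perm (Fin n), (χ ∘ σ) ∈ W := by
    intro χ hχ σ
    induction σ using Equiv.Perm.swap_induction_on' with
    | one => simpa using hχ
    | mul_swap f x y _ ih =>
      obtain ⟨g, hg⟩ := hswap x y
      refine hmove ih g _ fun v hv j => ?_
      rw [hg]
      exact hv _
  -- a weight with a value whose square is not one
  obtain ⟨v, hv0, hv1, hv⟩ := exists_common_eigvec_ne_one (fun i => R (t i)) (fun i j => (hc i j).map R)
    (R (t ⟨0, hn⟩ ^ 2)) (fun i => ((hc i _).pow_right 2).map R) hm (by rw [← map_pow, ← pow_mul, mul_comm,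
      pow_mul, hord, one_pow, map_one]) (fun h => h2 _ (hR (h.trans (map_one R).symm)))
  choose χ hχ using hv
  have hχW : χ ∈ W := ⟨v, hv0, hχ⟩
  have hχ0 : χ ⟨0, hn⟩ ^ 2 ≠ 1 := by
    intro h
    apply hv1
    rw [sq, happ, hχ, map_smul, hχ, smul_smul, ← sq, h, one_smul]
  set S : Finset (Fin n) := Finset.univ.filter fun i => χ i ^ 2 ≠ 1 with hS
  have hk1 : 1 ≤ S.card := Finset.card_pos.2 ⟨⟨0, hn⟩, Finset.mem_filter.2 ⟨Finset.mem_univ _, hχ0⟩⟩
  have hkn : S.card ≤ n := by simpa using Finset.card_le_univ S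
  -- the signed permutations of the weight
  let σ : (T : Finset (Fin n)) → T.card = S.card → Equiv.Perm (Fin n) := fun T hT =>
    (Finset.equivOfCardEq hT).extendSubtype
  have hσ : ∀ T hT i, σ T hT i ∈ S ↔ i ∈ T := by
    intro T hT i
    constructor
    · intro h
      by_contra hi
      exact (Finset.equivOfCardEq hT).extendSubtype_not_mem i hi h
    · exact fun h => (Finset.equivOfCardEq hT).extendSubtype_mem i h
  let J := Σ T : {T : Finset (Fin n) // T.card = S.card}, {A : Finset (Fin n) // A ⊆ T.1}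
  let f : J → Fin n → K := fun x i => if i ∈ x.2.1 then (χ (σ x.1.1 x.1.2 i))⁻¹ else χ (σ x.1.1 x.1.2 i)
  have hfW : ∀ x, f x ∈ W := by
    rintro ⟨⟨T, hT⟩, A, hA⟩
    suffices h : ∀ B : Finset (Fin n), (fun i => if i ∈ B then (χ (σ T hT i))⁻¹ else χ (σ T hT i)) ∈ W from h A
    intro B
    induction B using Finset.induction_on with
    | empty => simpa [Function.comp_def] using hperm hχW (σ T hT)
    | @insert a B ha ih =>
      have := hflip ih a
      convert this using 1
      funext i
      rcases eq_or_ne i a with rfl | hne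
      · simp [ha]
      · simp [Function.update_of_ne hne, hne]
  have hfS : ∀ (x : J) i, (f x i ^ 2 ≠ 1 ↔ i ∈ x.1.1) := by
    rintro ⟨⟨T, hT⟩, A, hA⟩ i
    have h1 : f ⟨⟨T, hT⟩, A, hA⟩ i ^ 2 ≠ 1 ↔ χ (σ T hT i) ^ 2 ≠ 1 := by
      simp only [f]
      split_ifs <;> simp [inv_pow]
    rw [h1, ← hσ T hT i]
    simp [hS]
  have hf : Function.Injective f := by
    intro x y hxy
    obtain ⟨⟨T, hT⟩, A, hA⟩ := x
    obtain ⟨⟨T', hT'⟩, A', hA'⟩ := y
    obtain rfl : T = T' := Finset.ext fun i => by rw [← hfS ⟨⟨T, hT⟩, A, hA⟩ i, hxy, hfS]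
    obtain rfl : A = A' := by
      ext i
      by_cases hi : i ∈ T
      · have hne : (χ (σ T hT i))⁻¹ ≠ χ (σ T hT i) := by
          intro h
          have h3 : χ (σ T hT i) ^ 2 ≠ 1 := (Finset.mem_filter.1 ((hσ T hT i).2 hi)).2
          exact h3 (by rw [sq]; nth_rw 1 [← h]; exact inv_mul_cancel₀ (hne0 hχW _))
        have := congrFun hxy i
        simp only [f] at this
        constructor <;> intro h4 <;> by_contra h5 <;> simp only [if_pos h4, if_neg h5] at this
        · exact hne this
        · exact hne this.symm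
      · exact iff_of_false (fun h => hi (hA h)) (fun h => hi (hA' h))
    rfl
  choose w hw0 hw using hfW
  have hind : LinearIndependent K w := by
    refine (Module.End.independent_iInf_maxGenEigenspace_of_forall_mapsTo (fun i => R (t i))
      (fun i j φ => Module.End.mapsTo_maxGenEigenspace_of_comm ((hc j i).map R) φ)).comp hf |>.linearIndependent _
      (fun x => ?_) hw0
    simp only [Function.comp_apply, Submodule.mem_iInf]
    exact fun i => Module.End.eigenspace_le_maxGenEigenspace (Module.End.mem_eigenspace_iff.2 (hw x i))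
  have hJ : Fintype.card J = n.choose S.card * 2 ^ S.card := by
    rw [Fintype.card_sigma, Finset.sum_congr rfl (fun T _ => show Fintype.card {A : Finset (Fin n) // A ⊆ T.1} =
      2 ^ S.card from ?_), Finset.sum_const, Finset.card_univ, Fintype.card_finset_len, Fintype.card_fin,
      smul_eq_mul]
    rw [Fintype.card_of_subtype T.1.powerset (fun A => Finset.mem_powerset), Finset.card_powerset, T.2]
  refine (two_mul_le_choose_mul hk1 hkn).trans ?_
  rw [← hJ]
  simpa using hind.fintype_card_le_finrank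

end CfsgLib.PGroup.TorusDegree
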