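import Cfsg.Agent.Lib.Recognition.DerangementClasses
import Cfsg.Agent.Lib.Involution.BrauerFowler
import Cfsg.Agent.Lib.Solvable.Cores
import Cfsg.Prelude.Def_Solvable
import Mathlib

/-!
Finite groups with trivial 2-core and trivial odd core: basic restrictions, in particular inside small
symmetric groups.
-/

set_option autoImplicit false
set_option linter.style.haveILetI false

namespace CfsgLib.PGroup.TrivialCores

open Subgroup

/-- Nontrivial, with trivial `O₂` and trivial `O_{2'}`. -/
structure Good (K : Type*) [Group K] : Prop where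
  ne_one : Nat.card K ≠ 1
  two : Cfsg.pCore 2 K = ⊥
  odd : Cfsg.pPrimeCore 2 K = ⊥

theorem Good.of_equiv {K L : Type*} [Group K] [Finite K] [Group L] [Finite L] (h : Good K) (e : K ≃* L) :
    Good L := by
  refine ⟨fun h1 => h.ne_one (by rw [Nat.card_congr e.toEquiv, h1]), ?_, ?_⟩
  · refine le_bot_iff.mp (sSup_le fun N hN => ?_)
    have hN' : N.comap e.toMonoidHom ≤ Cfsg.pCore 2 K :=
      le_sSup ⟨hN.1.comap _, hN.2.comap_of_injective _ e.injective⟩
    rw [h.two] at hN'
    intro x hx
    have : e.symm x = 1 := mem_bot.mp (hN' (show e (e.symm x) ∈ N by rwa [e.apply_symm_apply]))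
    exact mem_bot.mpr (e.symm.injective (this.trans (map_one _).symm))
  · refine le_bot_iff.mp (sSup_le fun N hN => ?_)
    have hc : Nat.card (N.comap e.toMonoidHom) = Nat.card N :=
      Nat.card_congr (e.toEquiv.subtypeEquiv fun x => Iff.rfl)
    have hN' : N.comap e.toMonoidHom ≤ Cfsg.pPrimeCore 2 K := le_sSup ⟨hN.1.comap _, by rw [hc]; exact hN.2⟩
    rw [h.odd] at hN'
    intro x hx
    have : e.symm x = 1 := mem_bot.mp (hN' (show e (e.symm x) ∈ N by rwa [e.apply_symm_apply]))
    exact mem_bot.mpr (e.symm.injective (this.trans (map_one _).symm))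

variable {K : Type*} [Group K] [Finite K]

theorem Good.pGroup_eq_bot (h : Good K) {p : ℕ} [hp : Fact p.Prime] {N : Subgroup K} [hN : N.Normal]
    (hP : IsPGroup p N) : N = ⊥ := by
  rw [eq_bot_iff]
  by_cases hp2 : p = 2
  · subst hp2
    rw [← h.two]
    exact le_sSup ⟨hN, hP⟩
  · rw [← h.odd]
    obtain ⟨k, hk⟩ := IsPGroup.iff_card.mp hP
    exact le_sSup ⟨hN, by rw [hk]; exact Nat.Coprime.pow_left k ((Nat.coprime_primes hp.out Nat.prime_two).mpr hp2)⟩

theorem Good.abelian_eq_bot (h : Good K) {N : Subgroup K} [hN : N.Normal]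
    (hab : ∀ a ∈ N, ∀ b ∈ N, a * b = b * a) : N = ⊥ := by
  by_contra hne
  haveI : Nontrivial N := (Subgroup.nontrivial_iff_ne_bot N).mpr hne
  obtain ⟨p, hp, hpd⟩ := Nat.exists_prime_and_dvd (Finite.one_lt_card (α := N)).ne'
  haveI := Fact.mk hp
  obtain ⟨x, hx⟩ := exists_prime_orderOf_dvd_card' (G := N) p hpd
  let T : Subgroup K :=
    { carrier := {a | a ∈ N ∧ a ^ p = 1}
      mul_mem' := fun {a b} ha hb => ⟨mul_mem ha.1 hb.1, by
        rw [(show Commute a b from hab a ha.1 b hb.1).mul_pow, ha.2, hb.2, one_mul]⟩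
      one_mem' := ⟨one_mem _, one_pow _⟩
      inv_mem' := fun {a} ha => ⟨inv_mem ha.1, by rw [inv_pow, ha.2, inv_one]⟩ }
  haveI : T.Normal := ⟨fun a ha g => ⟨hN.conj_mem a ha.1 g, by rw [conj_pow, ha.2, mul_one, mul_inv_cancel]⟩⟩
  have hT : IsPGroup p T := fun a => ⟨1, Subtype.ext (by rw [pow_one]; exact a.2.2)⟩
  have hmem : (x : K) ∈ T := ⟨x.2, by rw [← SubgroupClass.coe_pow, ← hx, pow_orderOf_eq_one, OneMemClass.coe_one]⟩
  rw [h.pGroup_eq_bot hT, mem_bot] at hmem
  rw [show x = 1 from Subtype.ext hmem, orderOf_one] at hx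
  exact hp.ne_one hx.symm

theorem Good.normal (h : Good K) {M : Subgroup K} [M.Normal] (hne : M ≠ ⊥) : Good M := by
  refine ⟨fun h1 => hne (eq_bot_of_card_eq M h1), ?_, ?_⟩
  · refine le_bot_iff.mp (sSup_le fun N hN => ?_)
    haveI := hN.1
    set C := Cfsg.pCore 2 M with hC
    haveI : C.Characteristic := by
      rw [Subgroup.characteristic_iff_map_le]
      intro φ
      rw [hC, Cfsg.pCore, Subgroup.map_le_iff_le_comap, sSup_le_iff]
      intro L hL
      rw [← Subgroup.map_le_iff_le_comap]
      exact le_sSup ⟨hL.1.map _ φ.surjective, hL.2.map _⟩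
    haveI : (C.map M.subtype).Normal := inferInstance
    have hle : C.map M.subtype ≤ Cfsg.pCore 2 K :=
      le_sSup ⟨inferInstance, (CfsgLib.Solvable.Cores.isPGroup_pCore 2).map _⟩
    rw [h.two, le_bot_iff, Subgroup.map_eq_bot_iff_of_injective _ M.subtype_injective] at hle
    rw [← hle]
    exact le_sSup hN
  · refine le_bot_iff.mp (sSup_le fun N hN => ?_)
    set C := Cfsg.pPrimeCore 2 M with hC
    haveI : C.Characteristic := by
      rw [Subgroup.characteristic_iff_map_le]
      intro φ
      rw [hC, Cfsg.pPrimeCore, Subgroup.map_le_iff_le_comap, sSup_le_iff]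
      intro L hL
      rw [← Subgroup.map_le_iff_le_comap]
      exact le_sSup ⟨hL.1.map _ φ.surjective, by rw [Subgroup.card_map_of_injective φ.injective]; exact hL.2⟩
    haveI : (C.map M.subtype).Normal := inferInstance
    have hle : C.map M.subtype ≤ Cfsg.pPrimeCore 2 K := le_sSup ⟨inferInstance, by
      rw [Subgroup.card_map_of_injective M.subtype_injective]; exact CfsgLib.Solvable.Cores.coprime_card_pPrimeCore 2⟩
    rw [h.odd, le_bot_iff, Subgroup.map_eq_bot_iff_of_injective _ M.subtype_injective] at hle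
    rw [← hle]
    exact le_sSup hN

theorem Good.not_solvable (h : Good K) : ¬ Group.IsSolvable K := by
  intro hs
  obtain ⟨n, hn⟩ := (Group.isSolvable_def K).mp hs
  induction n with
  | zero =>
    rw [derivedSeries_zero] at hn
    exact h.ne_one (by rw [← Subgroup.card_top, hn, Subgroup.card_bot])
  | succ n ih =>
    refine ih (h.abelian_eq_bot fun a ha b hb => ?_)
    rw [derivedSeries_succ] at hn
    rw [← commutatorElement_eq_one_iff_mul_comm, ← mem_bot, ← hn]
    exact commutator_mem_commutator ha hb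

theorem Good.three_primes (h : Good K) : 3 ≤ (Nat.card K).primeFactors.card := by
  by_contra hlt
  exact h.not_solvable (CfsgLib.Recognition.DerangementClasses.solvable_of_few (by omega))

theorem Good.four_dvd (h : Good K) : 4 ∣ Nat.card K := by
  by_contra h4
  have hodd : ∀ N : Subgroup K, N.Normal → ¬ 2 ∣ Nat.card N → N = ⊥ := fun N hN h2 => by
    rw [eq_bot_iff, ← h.odd]
    exact le_sSup ⟨hN, (Nat.prime_two.coprime_iff_not_dvd.mpr h2).symm⟩
  by_cases h2 : 2 ∣ Nat.card K
  · obtain ⟨H, hH⟩ := CfsgLib.Involution.BrauerFowler.exists_index_two_of_two_odd (G := K) (by omega)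
    haveI := Subgroup.normal_of_index_eq_two hH
    have hc := H.card_mul_index
    rw [hH] at hc
    have := hodd H inferInstance (by omega)
    rw [this, Subgroup.card_bot] at hc
    exact h.not_solvable (CfsgLib.Recognition.DerangementClasses.solvable_of_few
      (by rw [← hc, Nat.Prime.primeFactors Nat.prime_two]; simp))
  · have := hodd ⊤ inferInstance (by rw [Subgroup.card_top]; exact h2)
    exact h.ne_one (by rw [← Subgroup.card_top, this, Subgroup.card_bot])

/-- A group embedding in a symmetric group of degree at most four is solvable. -/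
theorem isSolvable_perm_of_card_le {X : Type*} [Finite X] (h : Nat.card X ≤ 4) :
    Group.IsSolvable (Equiv.Perm X) := by
  refine CfsgLib.Recognition.DerangementClasses.solvable_of_few ?_
  rw [Nat.card_perm]
  refine le_trans (Finset.card_le_card (Nat.primeFactors_mono
    (Nat.factorial_dvd_factorial h) (Nat.factorial_ne_zero 4))) ?_
  rw [show Nat.factorial 4 = 2 ^ 3 * 3 by rfl, Nat.primeFactors_mul (by norm_num) (by norm_num),
    Nat.primeFactors_prime_pow (by norm_num) Nat.prime_two, Nat.Prime.primeFactors Nat.prime_three]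
  rfl

end CfsgLib.PGroup.TrivialCores
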