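import Mathlib.LinearAlgebra.Matrix.NonsingularInverse
import Mathlib.GroupTheory.NoncommCoprod
import Mathlib.Algebra.CharP.Two
import Mathlib.GroupTheory.Perm.Basic
import Mathlib.Algebra.Field.ZMod
import Mathlib.Tactic.LinearCombination
import Mathlib.Tactic.NoncommRing

set_option autoImplicit false

/-!
Twisted group algebras of elementary abelian 2-groups, realised by signed permutation matrices,
and the intertwiners attached to fixed-point-free isometries of the twisting cocycle.
-/

namespace CfsgLib.PGroup.TwistedAlgebra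

open Matrix

/-- A bilinear sign cocycle with non-degenerate commutator. -/
structure Sgn (V : Type*) [AddCommGroup V] where
  char2 : ∀ v : V, v + v = 0
  ε : V → V → ℤ
  pm : ∀ a b, ε a b = 1 ∨ ε a b = -1
  add_left : ∀ a b c, ε (a + b) c = ε a c * ε b c
  add_right : ∀ a b c, ε a (b + c) = ε a b * ε a c
  nondeg : ∀ v, v ≠ 0 → ∃ w, ε v w ≠ ε w v

variable {V : Type*} [AddCommGroup V] (D : Sgn V)

namespace Sgn

lemma sq (a b : V) : D.ε a b * D.ε a b = 1 := by
  rcases D.pm a b with h | h <;> simp [h]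

lemma zero_left (a : V) : D.ε 0 a = 1 := by
  have h := D.add_left 0 0 a
  rw [add_zero] at h
  rcases D.pm 0 a with h1 | h1
  · exact h1
  · rw [h1] at h; norm_num at h

lemma zero_right (a : V) : D.ε a 0 = 1 := by
  have h := D.add_right a 0 0
  rw [add_zero] at h
  rcases D.pm a 0 with h1 | h1
  · exact h1
  · rw [h1] at h; norm_num at h

include D in
lemma eq_add_iff (v x y : V) : x = v + y ↔ y = v + x := by
  constructor <;> (rintro rfl; rw [← add_assoc, D.char2, zero_add])

include D in
lemma add_eq_zero_iff (a b : V) : a + b = 0 ↔ a = b := by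
  rw [add_eq_zero_iff_eq_neg, neg_eq_of_add_eq_zero_left (D.char2 b)]

variable [Fintype V] [DecidableEq V] (R : Type*) [CommRing R]

/-- Basis element. -/
def E (v : V) : Matrix V V R := fun x y => if x = v + y then (D.ε v y : R) else 0

lemma E_apply (v x y : V) : D.E R v x y = if x = v + y then (D.ε v y : R) else 0 := rfl

lemma E_mul (v w : V) : D.E R v * D.E R w = (D.ε v w : R) • D.E R (v + w) := by
  ext x z
  rw [mul_apply, Finset.sum_eq_single (w + z)]
  · simp only [E_apply, if_true, Matrix.smul_apply, smul_eq_mul, add_assoc, ite_mul, zero_mul,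
      mul_ite, mul_zero]
    split_ifs
    · rw [← Int.cast_mul, ← Int.cast_mul, D.add_right, D.add_left, mul_assoc]
    · rfl
  · intro y _ hy
    simp [E_apply, hy]
  · simp

@[simp] lemma E_zero : D.E R 0 = 1 := by
  ext x y
  simp [E_apply, Matrix.one_apply, D.zero_left]

lemma E_transpose (v : V) : (D.E R v)ᵀ = (D.ε v v : R) • D.E R v := by
  ext x y
  simp only [transpose_apply, E_apply, Matrix.smul_apply, smul_eq_mul, mul_ite, mul_zero]
  by_cases h : x = v + y
  · subst h
    rw [if_pos ((D.eq_add_iff v _ _).1 rfl), if_pos rfl, D.add_right, Int.cast_mul]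
  · rw [if_neg h, if_neg fun h' => h ((D.eq_add_iff v _ _).1 h')]

lemma E_mul_transpose (v : V) : D.E R v * (D.E R v)ᵀ = 1 := by
  rw [E_transpose, mul_smul_comm, E_mul, smul_smul, ← Int.cast_mul, D.sq, D.char2]
  simp

lemma E_transpose_mul (v : V) : (D.E R v)ᵀ * D.E R v = 1 := by
  rw [E_transpose, smul_mul_assoc, E_mul, smul_smul, ← Int.cast_mul, D.sq, D.char2]
  simp

lemma E_add (u v : V) : D.E R (u + v) = (D.ε u v : R) • (D.E R u * D.E R v) := by
  rw [E_mul, smul_smul, ← Int.cast_mul, D.sq, Int.cast_one, one_smul]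

/-- The twisted group algebra. -/
def A : Submodule R (Matrix V V R) := Submodule.span R (Set.range (D.E R))

lemma E_mem (v : V) : D.E R v ∈ D.A R := Submodule.subset_span ⟨v, rfl⟩

lemma one_mem : (1 : Matrix V V R) ∈ D.A R := by rw [← D.E_zero R]; exact D.E_mem R 0

variable {R}

lemma mul_mem {a b : Matrix V V R} (ha : a ∈ D.A R) (hb : b ∈ D.A R) : a * b ∈ D.A R := by
  refine Submodule.span_induction (p := fun a _ => a * b ∈ D.A R) ?_ (by simp) ?_ ?_ ha
  · rintro _ ⟨v, rfl⟩
    refine Submodule.span_induction (p := fun b _ => D.E R v * b ∈ D.A R) ?_ (by simp) ?_ ?_ hb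
    · rintro _ ⟨w, rfl⟩
      rw [E_mul]
      exact Submodule.smul_mem _ _ (D.E_mem R _)
    · intro x y _ _ hx hy; rw [mul_add]; exact add_mem hx hy
    · intro r x _ hx; rw [mul_smul_comm]; exact Submodule.smul_mem _ _ hx
  · intro x y _ _ hx hy; rw [add_mul]; exact add_mem hx hy
  · intro r x _ hx; rw [smul_mul_assoc]; exact Submodule.smul_mem _ _ hx

lemma transpose_mem {a : Matrix V V R} (ha : a ∈ D.A R) : aᵀ ∈ D.A R := by
  refine Submodule.span_induction (p := fun a _ => aᵀ ∈ D.A R) ?_ (by simp) ?_ ?_ ha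
  · rintro _ ⟨v, rfl⟩
    rw [E_transpose]
    exact Submodule.smul_mem _ _ (D.E_mem R _)
  · intro x y _ _ hx hy; rw [transpose_add]; exact add_mem hx hy
  · intro r x _ hx; rw [transpose_smul]; exact Submodule.smul_mem _ _ hx

lemma apply_eq {a : Matrix V V R} (ha : a ∈ D.A R) (x y : V) :
    a x y = a (x + y) 0 * (D.ε (x + y) y : R) := by
  refine Submodule.span_induction (p := fun a _ => a x y = a (x + y) 0 * (D.ε (x + y) y : R))
    ?_ (by simp) ?_ ?_ ha
  · rintro _ ⟨v, rfl⟩
    simp only [E_apply, add_zero, D.zero_right, Int.cast_one, ite_mul, one_mul, zero_mul]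
    by_cases h : x = v + y
    · subst h; simp [add_assoc, D.char2]
    · rw [if_neg h, if_neg]
      intro h'
      exact h (by rw [← h', add_assoc, D.char2, add_zero])
  · intro a b _ _ ha hb; simp [ha, hb, add_mul]
  · intro r a _ ha; simp [ha, mul_assoc]

lemma ext_A {a b : Matrix V V R} (ha : a ∈ D.A R) (hb : b ∈ D.A R) (h : ∀ w, a w 0 = b w 0) :
    a = b := by
  ext x y
  rw [D.apply_eq ha, D.apply_eq hb, h]

lemma E_mul_apply_zero (v w : V) {a : Matrix V V R} :
    (D.E R v * a) w 0 = (D.ε v (v + w) : R) * a (v + w) 0 := by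
  rw [mul_apply, Finset.sum_eq_single (v + w)]
  · rw [E_apply, if_pos ((D.eq_add_iff v _ _).1 rfl)]
  · intro y _ hy
    rw [E_apply, if_neg fun h => hy ((D.eq_add_iff v _ _).1 h), zero_mul]
  · simp

lemma mul_E_apply_zero (v w : V) {a : Matrix V V R} : (a * D.E R v) w 0 = a w v := by
  rw [mul_apply, Finset.sum_eq_single v]
  · simp [E_apply, D.zero_right]
  · intro y _ hy
    simp [E_apply, hy]
  · simp

/-- The centre of the twisted algebra consists of scalars. -/
lemma center [NoZeroDivisors R] (h2 : (2 : R) ≠ 0) {a : Matrix V V R} (ha : a ∈ D.A R)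
    (hc : ∀ v, a * D.E R v = D.E R v * a) : a = a 0 0 • 1 := by
  refine D.ext_A ha (Submodule.smul_mem _ _ (D.one_mem R)) fun w => ?_
  by_cases hw : w = 0
  · subst hw; simp
  rw [Matrix.smul_apply, Matrix.one_apply_ne hw, smul_zero]
  obtain ⟨v, hv⟩ := D.nondeg w hw
  have h := congrFun (congrFun (hc v) (w + v)) 0
  rw [mul_E_apply_zero, E_mul_apply_zero, D.apply_eq ha, add_assoc, D.char2, add_zero,
    show v + (w + v) = w by rw [add_left_comm, D.char2, add_zero]] at h
  have hneg : (D.ε v w : R) = -(D.ε w v : R) := by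
    rcases D.pm w v with h1 | h1 <;> rcases D.pm v w with h3 | h3 <;> simp_all
  rw [hneg] at h
  have h' : (2 : R) * (a w 0 * (D.ε w v : R)) = 0 := by linear_combination h
  rcases mul_eq_zero.1 h' with h1 | h1
  · exact absurd h1 h2
  rcases mul_eq_zero.1 h1 with h1 | h1
  · exact h1
  · have h3 := congrArg (Int.cast : ℤ → R) (D.sq w v)
    simp [h1] at h3
    exact absurd (by linear_combination (-2 : R) * h3) h2

/-- The twisted algebra is prime. -/
lemma prime [NoZeroDivisors R] (h2 : (2 : R) ≠ 0) (hV : (Fintype.card V : R) ≠ 0)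
    {a b : Matrix V V R} (ha : a ∈ D.A R) {w : V} (hw : a w 0 ≠ 0)
    (h : ∀ v, a * D.E R v * b = 0) : b = 0 := by
  set a' := a * (D.E R w)ᵀ
  have ha' : a' ∈ D.A R := D.mul_mem ha (D.transpose_mem (D.E_mem R w))
  set M := ∑ v, D.E R v * a' * (D.E R v)ᵀ
  have hM : M ∈ D.A R := Submodule.sum_mem _ fun v _ =>
    D.mul_mem (D.mul_mem (D.E_mem R v) ha') (D.transpose_mem (D.E_mem R v))
  have hcomm : ∀ u, M * D.E R u = D.E R u * M := by
    intro u
    have h1 : D.E R u * M * (D.E R u)ᵀ = M := by
      rw [Finset.mul_sum, Finset.sum_mul]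
      refine Fintype.sum_equiv (Equiv.addLeft u) _ _ fun v => ?_
      show _ = D.E R (u + v) * a' * (D.E R (u + v))ᵀ
      rw [E_add, transpose_smul, transpose_mul]
      simp only [smul_mul_assoc, mul_smul_comm, smul_smul, ← Int.cast_mul, D.sq, Int.cast_one,
        one_smul, mul_assoc]
    calc M * D.E R u = D.E R u * M * (D.E R u)ᵀ * D.E R u := by rw [h1]
      _ = _ := by rw [mul_assoc, E_transpose_mul, mul_one]
  have h00 : ∀ v, (D.E R v * a' * (D.E R v)ᵀ) 0 0 = a' 0 0 := by
    intro v
    rw [E_transpose, mul_smul_comm, Matrix.smul_apply, mul_E_apply_zero, mul_apply,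
      Finset.sum_eq_single v]
    · rw [E_apply, if_pos (D.char2 v).symm, D.apply_eq ha', D.char2, D.zero_left, Int.cast_one,
        mul_one, smul_eq_mul, ← mul_assoc, ← Int.cast_mul, D.sq, Int.cast_one, one_mul]
    · intro y _ hy
      rw [E_apply, if_neg fun h => hy ((D.add_eq_zero_iff v y).1 h.symm).symm, zero_mul]
    · simp
  have ha'0 : a' 0 0 = (D.ε w w : R) * (a w 0 * 1) * (D.ε w w : R) := by
    rw [show a' = a * (D.E R w)ᵀ from rfl, E_transpose, mul_smul_comm, Matrix.smul_apply,
      mul_E_apply_zero, D.apply_eq ha, zero_add, smul_eq_mul]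
    ring
  have hM0 : M 0 0 = (Fintype.card V : R) * a w 0 := by
    rw [show M 0 0 = ∑ v, (D.E R v * a' * (D.E R v)ᵀ) 0 0 from Matrix.sum_apply 0 0 _ _, Finset.sum_congr rfl fun v _ => h00 v, Finset.sum_const, Finset.card_univ,
      nsmul_eq_mul, ha'0]
    have h3 := congrArg (Int.cast : ℤ → R) (D.sq w w)
    push_cast at h3
    linear_combination ((Fintype.card V : R) * a w 0) * h3
  have hMb : M * b = 0 := by
    rw [Finset.sum_mul]
    refine Finset.sum_eq_zero fun v _ => ?_
    rw [show D.E R v * a' * (D.E R v)ᵀ * b = D.E R v * (a * ((D.E R w)ᵀ * (D.E R v)ᵀ) * b) by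
      simp only [a', mul_assoc]]
    rw [← transpose_mul, E_mul, transpose_smul, E_transpose, smul_smul]
    simp only [mul_smul_comm, smul_mul_assoc, h, mul_zero, smul_zero]
  rw [D.center h2 hM hcomm, hM0, smul_mul_assoc, one_mul] at hMb
  ext x y
  have := congrFun (congrFun hMb x) y
  simpa [hV, hw] using this

end Sgn

end CfsgLib.PGroup.TwistedAlgebra
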