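import Cfsg.Agent.Lib.PGroup.TwistedAlgebra
import Mathlib.GroupTheory.GroupAction.Defs
import Mathlib.GroupTheory.OrderOfElement
import Mathlib.Tactic.Linarith

set_option autoImplicit false

/-!
Intertwiners of fixed-point-free isometries in the twisted algebra, with their signs determined by
a congruence modulo five.
-/

namespace CfsgLib.PGroup.TwistedAlgebra

open Matrix

variable {V : Type*} [AddCommGroup V]

/-- No nonzero fixed vector. -/
def Fpf (a : Equiv.Perm V) : Prop := ∀ v, a v = v → v = 0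

namespace Sgn

variable (D : Sgn V)

/-- Additive isometries of the cocycle. -/
structure Good (a : Equiv.Perm V) : Prop where
  add : ∀ u v, a (u + v) = a u + a v
  iso : ∀ u v, D.ε (a u) (a v) = D.ε u v

variable {D}

lemma Good.zero {a : Equiv.Perm V} (h : D.Good a) : a 0 = 0 := by
  have h1 := h.add 0 0
  rw [add_zero] at h1
  exact (add_eq_left.1 h1.symm)

lemma Good.one : D.Good 1 := ⟨fun _ _ => rfl, fun _ _ => rfl⟩

lemma Good.mul {a b : Equiv.Perm V} (ha : D.Good a) (hb : D.Good b) : D.Good (a * b) :=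
  ⟨fun u v => by simp [hb.add, ha.add], fun u v => by simp [hb.iso, ha.iso]⟩

lemma Good.inv {a : Equiv.Perm V} (ha : D.Good a) : D.Good a⁻¹ := by
  refine ⟨fun u v => a.injective ?_, fun u v => ?_⟩
  · simp [ha.add]
  · conv_rhs => rw [← Equiv.apply_symm_apply a u, ← Equiv.apply_symm_apply a v, ha.iso]
    rfl

variable [Fintype V] [DecidableEq V] (D) (R : Type*) [CommRing R]

/-- Transport of matrices along a permutation. -/
def act (a : Equiv.Perm V) (M : Matrix V V R) : Matrix V V R := M.submatrix a.symm a.symm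

variable {R}

lemma act_apply (a : Equiv.Perm V) (M : Matrix V V R) (x y : V) :
    act R a M (a x) (a y) = M x y := by simp [act]

lemma act_mul (a : Equiv.Perm V) (M N : Matrix V V R) :
    act R a (M * N) = act R a M * act R a N := (submatrix_mul_equiv _ _ _ _ _).symm

lemma act_one_mat (a : Equiv.Perm V) : act R a (1 : Matrix V V R) = 1 := submatrix_one_equiv _

lemma act_add (a : Equiv.Perm V) (M N : Matrix V V R) :
    act R a (M + N) = act R a M + act R a N := rfl

lemma act_sub (a : Equiv.Perm V) (M N : Matrix V V R) :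
    act R a (M - N) = act R a M - act R a N := rfl

lemma act_smul (a : Equiv.Perm V) (r : R) (M : Matrix V V R) :
    act R a (r • M) = r • act R a M := rfl

lemma act_sum {ι : Type*} (a : Equiv.Perm V) (s : Finset ι) (f : ι → Matrix V V R) :
    act R a (∑ i ∈ s, f i) = ∑ i ∈ s, act R a (f i) :=
  map_sum ({ toFun := act R a, map_zero' := rfl, map_add' := act_add a } :
    Matrix V V R →+ Matrix V V R) f s

lemma act_comp (a b : Equiv.Perm V) (M : Matrix V V R) :
    act R (a * b) M = act R a (act R b M) := rfl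

lemma act_transpose (a : Equiv.Perm V) (M : Matrix V V R) : act R a Mᵀ = (act R a M)ᵀ := rfl

variable {D}

lemma Good.act_E {a : Equiv.Perm V} (ha : D.Good a) (v : V) :
    act R a (D.E R v) = D.E R (a v) := by
  ext x y
  obtain ⟨x, rfl⟩ := a.surjective x
  obtain ⟨y, rfl⟩ := a.surjective y
  simp [act_apply, E_apply, ← ha.add, ha.iso]

lemma Good.act_mem {a : Equiv.Perm V} (ha : D.Good a) {M : Matrix V V R} (hM : M ∈ D.A R) :
    act R a M ∈ D.A R := by
  refine Submodule.span_induction (p := fun M _ => act R a M ∈ D.A R) ?_ (zero_mem _) ?_ ?_ hM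
  · rintro _ ⟨v, rfl⟩; rw [ha.act_E]; exact D.E_mem R _
  · intro x y _ _ hx hy; rw [act_add]; exact add_mem hx hy
  · intro r x _ hx; rw [act_smul]; exact Submodule.smul_mem _ _ hx

variable (D) (R)

/-- The intertwiner of an isometry. -/
def G (a : Equiv.Perm V) : Matrix V V R := ∑ u, D.E R (a u) * (D.E R u)ᵀ

variable {R}

lemma G_mem (a : Equiv.Perm V) : D.G R a ∈ D.A R :=
  Submodule.sum_mem _ fun u _ => D.mul_mem (D.E_mem R _) (D.transpose_mem (D.E_mem R u))

lemma G_transpose (a : Equiv.Perm V) : (D.G R a)ᵀ = D.G R a⁻¹ := by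
  rw [G, transpose_sum]
  refine Fintype.sum_equiv a _ _ fun u => ?_
  simp [transpose_mul]

variable {D}

lemma Good.G_mul_E {a : Equiv.Perm V} (ha : D.Good a) (v : V) :
    D.G R a * D.E R v = D.E R (a v) * D.G R a := by
  rw [G, Finset.sum_mul, Finset.mul_sum]
  refine Fintype.sum_equiv (Equiv.addRight v) _ _ fun u => ?_
  show _ = D.E R (a v) * (D.E R (a (u + v)) * (D.E R (u + v))ᵀ)
  have hav : a v + a (u + v) = a u := by
    rw [ha.add, add_left_comm, D.char2, add_zero]
  simp only [E_transpose, mul_smul_comm, smul_mul_assoc, mul_assoc, E_mul, smul_smul]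
  rw [show a v + (a (u + v) + (u + v)) = a u + u + v by rw [← add_assoc, hav, add_assoc]]
  congr 1
  simp only [D.add_left, D.add_right, ha.add, ha.iso, Int.cast_mul]
  have h : (D.ε v v : R) * D.ε v v * (D.ε v u * D.ε v u) *
      (D.ε (a v) u * D.ε (a v) u) * (D.ε (a v) v * D.ε (a v) v) = 1 := by
    simp only [← Int.cast_mul, D.sq, mul_one, Int.cast_one]
  linear_combination (-((D.ε u u : R) * D.ε u v * D.ε (a u) u * D.ε (a u) v)) * h

lemma Good.transpose_G_mul_E {a : Equiv.Perm V} (ha : D.Good a) (v : V) :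
    (D.G R a)ᵀ * D.E R (a v) = D.E R v * (D.G R a)ᵀ := by
  rw [G_transpose, ha.inv.G_mul_E]
  simp

lemma Good.act_G {a b : Equiv.Perm V} (hb : D.Good b) :
    act R b (D.G R a) = D.G R (b * a * b⁻¹) := by
  rw [G, G, act_sum]
  refine Fintype.sum_equiv b _ _ fun u => ?_
  rw [act_mul, act_transpose, hb.act_E, hb.act_E]
  simp

/-- The unique index contributing to a coefficient. -/
lemma Good.exists_index {a : Equiv.Perm V} (ha : D.Good a) (hf : Fpf a) (w : V) :
    ∃ u, a u + u = w ∧ ∀ u', a u' + u' = w → u' = u := by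
  have hinj : Function.Injective fun u => a u + u := fun u u' h => by
    refine (D.add_eq_zero_iff u u').1 (hf _ ?_)
    refine (D.add_eq_zero_iff _ _).1 ?_
    simp only at h
    rw [ha.add, show a u + a u' + (u + u') = (a u + u) + (a u' + u') by abel, h, D.char2]
  obtain ⟨u, hu⟩ := (Finite.injective_iff_surjective.1 hinj) w
  exact ⟨u, hu, fun u' h => hinj (h.trans hu.symm)⟩

lemma G_apply_zero (a : Equiv.Perm V) (w u : V) :
    (D.E R (a u) * (D.E R u)ᵀ) w 0 =
      if a u + u = w then (D.ε u u : R) * D.ε (a u) u else 0 := by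
  rw [E_transpose, mul_smul_comm, E_mul, smul_smul, Matrix.smul_apply, E_apply, smul_eq_mul,
    add_zero, D.zero_right, Int.cast_one, mul_ite, mul_one, mul_zero]
  by_cases h : a u + u = w
  · rw [if_pos h, if_pos h.symm]
  · rw [if_neg h, if_neg fun h' => h h'.symm]

lemma Good.G_sq {a : Equiv.Perm V} (ha : D.Good a) (hf : Fpf a) (w : V) :
    D.G R a w 0 * D.G R a w 0 = 1 := by
  obtain ⟨u, hu, huniq⟩ := ha.exists_index hf w
  rw [G, Matrix.sum_apply, Finset.sum_eq_single u]
  · rw [G_apply_zero, if_pos hu, mul_mul_mul_comm, ← Int.cast_mul, ← Int.cast_mul, D.sq, D.sq]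
    simp
  · intro b _ hb; rw [G_apply_zero, if_neg fun h => hb (huniq b h)]
  · simp

lemma Good.G_zero {a : Equiv.Perm V} (ha : D.Good a) (hf : Fpf a) : D.G R a 0 0 = 1 := by
  obtain ⟨u, hu, huniq⟩ := ha.exists_index hf 0
  have h0 : (0 : V) = u := huniq 0 (by rw [ha.zero, add_zero])
  subst h0
  rw [G, Matrix.sum_apply, Finset.sum_eq_single (0 : V)]
  · rw [G_apply_zero, if_pos hu, D.zero_left, D.zero_right]
    simp
  · intro b _ hb; rw [G_apply_zero, if_neg fun h => hb (huniq b h)]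
  · simp

lemma Good.transpose_mul_G [NoZeroDivisors R] (h2 : (2 : R) ≠ 0) {a : Equiv.Perm V}
    (ha : D.Good a) (hf : Fpf a) :
    (D.G R a)ᵀ * D.G R a = (Fintype.card V : R) • 1 := by
  have h := D.center h2 (D.mul_mem (D.transpose_mem (D.G_mem a)) (D.G_mem a)) fun v => by
    rw [mul_assoc, ha.G_mul_E, ← mul_assoc, ha.transpose_G_mul_E, mul_assoc]
  rw [h]
  congr 1
  rw [mul_apply]
  simp [transpose_apply, ha.G_sq hf]

lemma fpf_inv {a : Equiv.Perm V} (hf : Fpf a) : Fpf a⁻¹ := fun v hv => hf v (by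
  conv_lhs => rw [← hv]
  simp)

lemma Good.G_mul_transpose [NoZeroDivisors R] (h2 : (2 : R) ≠ 0) {a : Equiv.Perm V}
    (ha : D.Good a) (hf : Fpf a) :
    D.G R a * (D.G R a)ᵀ = (Fintype.card V : R) • 1 := by
  have h := ha.inv.transpose_mul_G (R := R) h2 (fpf_inv hf)
  rw [G_transpose, inv_inv] at h
  rw [G_transpose]
  exact h

end Sgn

/-- A twisting cocycle on a space of order 4096 with an isometry of order five. -/
structure Datum (V : Type*) [AddCommGroup V] [Fintype V] extends Sgn V where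
  card_eq : Fintype.card V = 4096
  lam : Equiv.Perm V
  lam_good : toSgn.Good lam
  card_lam : Nat.card (Subgroup.zpowers lam) = 5
  lam_fpf : ∀ x ∈ Subgroup.zpowers lam, x ≠ 1 → Fpf x

namespace Datum

variable [Fintype V] [DecidableEq V] (S : Datum V)

/-- Isometry commuting with `lam`. -/
def GoodC (a : Equiv.Perm V) : Prop := S.Good a ∧ Commute a S.lam

variable {S}

lemma GoodC.mul {a b : Equiv.Perm V} (ha : S.GoodC a) (hb : S.GoodC b) : S.GoodC (a * b) :=
  ⟨ha.1.mul hb.1, ha.2.mul_left hb.2⟩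

lemma GoodC.inv {a : Equiv.Perm V} (ha : S.GoodC a) : S.GoodC a⁻¹ :=
  ⟨ha.1.inv, ha.2.inv_left⟩

lemma GoodC.one : S.GoodC 1 := ⟨Sgn.Good.one, Commute.one_left _⟩

lemma good_zpowers {x : Equiv.Perm V} (hx : x ∈ Subgroup.zpowers S.lam) : S.GoodC x := by
  let U : Subgroup (Equiv.Perm V) :=
    { carrier := {a | S.GoodC a}, mul_mem' := GoodC.mul, one_mem' := GoodC.one,
      inv_mem' := GoodC.inv }
  exact Subgroup.zpowers_le.2 (show S.lam ∈ U from ⟨S.lam_good, Commute.refl _⟩) hx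

variable (S)

open Classical in
/-- A weight with total one on each free orbit. -/
lemma exists_weight {R : Type*} [CommRing R] [Fintype (Subgroup.zpowers S.lam)] :
    ∃ w : V → R, ∀ v, ∑ x : Subgroup.zpowers S.lam, w ((x : Equiv.Perm V) v) =
      if v = 0 then 0 else 1 := by
  let r : V → V := fun v =>
    (Quotient.mk (MulAction.orbitRel (Subgroup.zpowers S.lam) V) v).out
  refine ⟨fun v => if v ≠ 0 ∧ r v = v then 1 else 0, fun v => ?_⟩
  by_cases hv : v = 0
  · subst hv
    rw [if_pos rfl]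
    refine Finset.sum_eq_zero fun x _ => if_neg fun h => h.1 ?_
    exact (good_zpowers x.2).1.zero
  rw [if_neg hv]
  obtain ⟨x₀, hx₀⟩ : ∃ x₀ : Subgroup.zpowers S.lam, (x₀ : Equiv.Perm V) v = r v :=
    Quotient.exact (Quotient.out_eq (Quotient.mk (MulAction.orbitRel (Subgroup.zpowers S.lam) V) v))
  have hr : ∀ x : Subgroup.zpowers S.lam, r ((x : Equiv.Perm V) v) = r v := fun x =>
    congrArg Quotient.out (Quotient.sound (s := MulAction.orbitRel (Subgroup.zpowers S.lam) V)
      ⟨x, rfl⟩)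
  have hne : r v ≠ 0 := fun h => hv ((x₀ : Equiv.Perm V).injective (by
    rw [hx₀, h, (good_zpowers x₀.2).1.zero]))
  rw [Finset.sum_eq_single x₀]
  · exact if_pos ⟨by rw [hx₀]; exact hne, by rw [hr, hx₀]⟩
  · intro x _ hx
    refine if_neg fun h => hx ?_
    rw [hr] at h
    by_contra hne'
    refine hv (S.lam_fpf _ (x₀⁻¹ * x).2 (fun h1 => hne' ?_) v ?_)
    · exact (inv_mul_eq_one.1 (Subtype.ext h1)).symm
    · simp [← h.2, ← hx₀]
  · simp

lemma free_sum (ψ : V → ZMod 5) (hψ : ∀ v, ψ (S.lam v) = ψ v) : ∑ v, ψ v = ψ 0 := by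
  classical
  have := Fintype.ofFinite (Subgroup.zpowers S.lam)
  obtain ⟨w, hw⟩ := S.exists_weight (R := ZMod 5)
  have hinv : ∀ x : Subgroup.zpowers S.lam, ∀ v, ψ ((x : Equiv.Perm V) v) = ψ v := by
    let U : Subgroup (Equiv.Perm V) :=
      { carrier := {a | ∀ v, ψ (a v) = ψ v}
        mul_mem' := fun {a b} ha hb v => by simp [ha (b v), hb v]
        one_mem' := fun v => rfl
        inv_mem' := fun {a} ha v => by rw [← ha (a⁻¹ v)]; simp }
    exact fun x => Subgroup.zpowers_le.2 (show S.lam ∈ U from hψ) x.2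
  have h5 : (Fintype.card (Subgroup.zpowers S.lam) : ZMod 5) = 0 := by
    rw [← Nat.card_eq_fintype_card, S.card_lam]; rfl
  have key : ∑ v, ψ v * (if v = 0 then (0 : ZMod 5) else 1) = 0 := by
    simp only [← hw, Finset.mul_sum]
    rw [Finset.sum_comm]
    have : ∀ x : Subgroup.zpowers S.lam,
        ∑ v, ψ v * w ((x : Equiv.Perm V) v) = ∑ v, ψ v * w v := fun x =>
      Fintype.sum_equiv (x : Equiv.Perm V) _ _ fun v => by rw [hinv]
    rw [Finset.sum_congr rfl fun x _ => this x, Finset.sum_const, Finset.card_univ, nsmul_eq_mul,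
      h5, zero_mul]
  calc ∑ v, ψ v = ∑ v, (ψ v * (if v = 0 then (1 : ZMod 5) else 0) +
        ψ v * (if v = 0 then (0 : ZMod 5) else 1)) :=
        Finset.sum_congr rfl fun v _ => by split_ifs <;> simp
    _ = ψ 0 := by rw [Finset.sum_add_distrib, key]; simp

variable {S}

lemma GoodC.G_invariant {R : Type*} [CommRing R] {a : Equiv.Perm V} (ha : S.GoodC a) (x y : V) :
    S.G R a (S.lam x) (S.lam y) = S.G R a x y := by
  conv_rhs => rw [← Sgn.act_apply S.lam (S.G R a) x y]
  rw [S.lam_good.act_G, ← ha.2.eq]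
  simp

/-- Products of intertwiners. -/
theorem G_mul {a b : Equiv.Perm V} (ha : S.GoodC a) (hb : S.GoodC b) (fa : Fpf a) (fb : Fpf b)
    (fab : Fpf (a * b)) : S.G ℤ a * S.G ℤ b = (-64 : ℤ) • S.G ℤ (a * b) := by
  have h2 : (2 : ℤ) ≠ 0 := two_ne_zero
  have hcard : (Fintype.card V : ℤ) = 4096 := by rw [S.card_eq]; norm_num
  set c := a * b with hc
  have gc := (ha.mul hb).1
  set P := S.G ℤ a * S.G ℤ b with hP
  have hPE : ∀ v, P * S.E ℤ v = S.E ℤ (c v) * P := fun v => by
    rw [mul_assoc, hb.1.G_mul_E, ← mul_assoc, ha.1.G_mul_E, mul_assoc]; rfl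
  have hμ := S.center h2 (S.mul_mem (S.transpose_mem (S.G_mem c))
    (S.mul_mem (S.G_mem a) (S.G_mem b))) fun v => by
      rw [mul_assoc, hPE, ← mul_assoc, gc.transpose_G_mul_E, mul_assoc]
  set μ := ((S.G ℤ c)ᵀ * P) 0 0
  have hmul : (4096 : ℤ) • P = μ • S.G ℤ c := by
    have h := congrArg (fun M => S.G ℤ c * M) hμ
    rw [← mul_assoc, gc.G_mul_transpose h2 fab, hcard, smul_mul_assoc, one_mul, mul_smul_comm,
      mul_one] at h
    exact h
  set γ := P 0 0
  have hγμ : 4096 * γ = μ := by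
    have h := congrFun (congrFun hmul 0) 0
    simp only [Matrix.smul_apply, smul_eq_mul] at h
    rw [gc.G_zero fab, mul_one] at h
    exact h
  have hPγ : P = γ • S.G ℤ c := by
    ext x y
    have h := congrFun (congrFun hmul x) y
    simp only [Matrix.smul_apply, smul_eq_mul, ← hγμ] at h ⊢
    rw [mul_assoc] at h
    exact mul_left_cancel₀ (by norm_num : (4096 : ℤ) ≠ 0) h
  have hsq : γ * γ = 4096 := by
    have h : Pᵀ * P = (4096 * 4096 : ℤ) • (1 : Matrix V V ℤ) := by
      rw [hP, transpose_mul, mul_assoc, ← mul_assoc (S.G ℤ a)ᵀ, ha.1.transpose_mul_G h2 fa,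
        smul_mul_assoc, one_mul, mul_smul_comm, hb.1.transpose_mul_G h2 fb, smul_smul, hcard]
    rw [hPγ, transpose_smul, smul_mul_assoc, mul_smul_comm, gc.transpose_mul_G h2 fab, smul_smul,
      smul_smul, hcard] at h
    have h' := congrFun (congrFun h 0) 0
    simp only [Matrix.smul_apply, Matrix.one_apply_eq, smul_eq_mul, mul_one] at h'
    linarith
  have hmod : (γ : ZMod 5) = 1 := by
    have hrow : P 0 0 = ∑ y, S.G ℤ a 0 y * S.G ℤ b y 0 := Matrix.mul_apply
    rw [show γ = P 0 0 from rfl, hrow, Int.cast_sum, S.free_sum]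
    · simp [ha.1.G_zero fa, hb.1.G_zero fb]
    · intro v
      conv_lhs => rw [← S.lam_good.zero]
      rw [ha.G_invariant, hb.G_invariant]
  have hγ : γ = -64 := by
    rcases mul_self_eq_mul_self_iff.1 (show γ * γ = 64 * 64 by rw [hsq]; norm_num) with h | h
    · rw [h] at hmod; exact absurd hmod (by decide)
    · exact h
  rw [← hγ]; exact hPγ

/-- Normalised intertwiners. -/
def Γ (S : Datum V) (a : Equiv.Perm V) : Matrix V V ℤ :=
  if a = 1 then (-64 : ℤ) • 1 else S.G ℤ a

/-- An isometry commuting with `lam` which is trivial or fixed-point-free. -/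
def Ok (S : Datum V) (a : Equiv.Perm V) : Prop := S.GoodC a ∧ (a ≠ 1 → Fpf a)

theorem Γ_mul {a b : Equiv.Perm V} (ha : S.Ok a) (hb : S.Ok b) (hab : S.Ok (a * b)) :
    Γ S a * Γ S b = (-64 : ℤ) • Γ S (a * b) := by
  by_cases h1 : a = 1
  · simp [Γ, h1]
  by_cases h2 : b = 1
  · subst h2
    rw [mul_one, show Γ S (1 : Equiv.Perm V) = (-64 : ℤ) • 1 from if_pos rfl, mul_smul_comm,
      mul_one]
  by_cases h3 : a * b = 1
  · have hb' : b = a⁻¹ := eq_inv_of_mul_eq_one_right h3
    rw [h3, hb']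
    simp only [Γ, if_neg h1, if_neg (inv_ne_one.2 h1), ← Sgn.G_transpose,
      ha.1.1.G_mul_transpose two_ne_zero (ha.2 h1), if_pos, smul_smul, S.card_eq]
    norm_num
  simp only [Γ, if_neg h1, if_neg h2, if_neg h3]
  exact G_mul ha.1 hb.1 (ha.2 h1) (hb.2 h2) (hab.2 h3)

lemma Γ_mem (a : Equiv.Perm V) : Γ S a ∈ S.A ℤ := by
  unfold Γ
  split_ifs
  · exact Submodule.smul_mem _ _ (S.one_mem ℤ)
  · exact S.G_mem a

lemma Γ_transpose (a : Equiv.Perm V) : (Γ S a)ᵀ = Γ S a⁻¹ := by
  unfold Γ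
  by_cases h : a = 1
  · simp [h]
  · rw [if_neg h, if_neg (inv_ne_one.2 h), Sgn.G_transpose]

lemma Γ_zero {a : Equiv.Perm V} (ha : S.Ok a) : Γ S a 0 0 = if a = 1 then -64 else 1 := by
  unfold Γ
  split_ifs with h
  · simp
  · exact ha.1.1.G_zero (ha.2 h)

/-- Sum of squares. -/
lemma eq_zero_of_mul_self (X : Matrix V V ℤ) (ht : Xᵀ = X) (c : ℤ) (h : X * X = c • X)
    (h0 : X 0 0 = 0) (hX : X ∈ S.A ℤ) : X = 0 := by
  refine S.ext_A hX (zero_mem _) fun w => ?_
  have h' := congrFun (congrFun h 0) 0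
  rw [Matrix.smul_apply, h0, smul_zero, Matrix.mul_apply] at h'
  have hsum : ∑ y, X y 0 * X y 0 = 0 := by
    refine Eq.trans (Finset.sum_congr rfl fun y _ => ?_) h'
    rw [← congrFun (congrFun ht 0) y, transpose_apply]
  have := (Finset.sum_eq_zero_iff_of_nonneg fun y _ => mul_self_nonneg (X y 0)).1 hsum w
    (Finset.mem_univ w)
  simpa using this

lemma sum_mul_sum {K : Type*} [Group K] [Fintype K] (κ : K →* Equiv.Perm V) (hκ : ∀ x, S.Ok (κ x)) :
    (∑ x, Γ S (κ x)) * (∑ x, Γ S (κ x)) =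
      ((-64 : ℤ) * Fintype.card K) • ∑ x, Γ S (κ x) := by
  rw [Finset.sum_mul]
  have : ∀ x, Γ S (κ x) * ∑ y, Γ S (κ y) = (-64 : ℤ) • ∑ y, Γ S (κ y) := fun x => by
    rw [Finset.mul_sum, Finset.smul_sum]
    refine Fintype.sum_equiv (Equiv.mulLeft x) _ _ fun y => ?_
    rw [Γ_mul (hκ x) (hκ y) (by rw [← map_mul]; exact hκ _), ← map_mul]
    rfl
  rw [Finset.sum_congr rfl fun x _ => this x, Finset.sum_const, Finset.card_univ,
    ← Nat.cast_smul_eq_nsmul ℤ, smul_smul, mul_comm]

lemma sum_transpose {K : Type*} [Group K] [Fintype K] (κ : K →* Equiv.Perm V) :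
    (∑ x, Γ S (κ x))ᵀ = ∑ x, Γ S (κ x) := by
  rw [transpose_sum]
  refine Fintype.sum_equiv (Equiv.inv K) _ _ fun x => ?_
  rw [Γ_transpose, Equiv.inv_apply, map_inv]

lemma sum_zero_zero {K : Type*} [Group K] [Fintype K] (κ : K →* Equiv.Perm V)
    (hκ : ∀ x, S.Ok (κ x)) (hinj : Function.Injective κ) :
    (∑ x, Γ S (κ x)) 0 0 = (Fintype.card K : ℤ) - 65 := by
  classical
  rw [Matrix.sum_apply, Finset.sum_congr rfl fun x _ => Γ_zero (hκ x)]
  simp only [map_eq_one_iff κ hinj]
  rw [Finset.sum_congr rfl (g := fun x => (1 : ℤ) + if x = 1 then -65 else 0) fun x _ => by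
    split_ifs <;> rfl, Finset.sum_add_distrib]
  simp
  ring

theorem sum_eq_zero {K : Type*} [Group K] [Fintype K] (κ : K →* Equiv.Perm V)
    (hκ : ∀ x, S.Ok (κ x)) (hinj : Function.Injective κ) (hK : Fintype.card K = 65) :
    ∑ x, Γ S (κ x) = 0 := by
  refine eq_zero_of_mul_self _ (sum_transpose κ) _ (sum_mul_sum κ hκ) ?_
    (Submodule.sum_mem _ fun x _ => Γ_mem _)
  rw [sum_zero_zero κ hκ hinj, hK]; norm_num

theorem exists_coef_five {K : Type*} [Group K] [Fintype K] (κ : K →* Equiv.Perm V)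
    (hκ : ∀ x, S.Ok (κ x)) (hinj : Function.Injective κ) (hK : Fintype.card K = 5) :
    ∃ w, (((∑ x, Γ S (κ x)) w 0 : ℤ) : ZMod 5) ≠ 0 := by
  classical
  by_contra h
  push Not at h
  set X := ∑ x, Γ S (κ x) with hX
  have h00 : X 0 0 = -60 := by rw [hX, sum_zero_zero κ hκ hinj, hK]; norm_num
  have hzero : ∀ w, w ≠ 0 → X w 0 = 0 := by
    intro w hw
    have h5 : (5 : ℤ) ∣ X w 0 := (ZMod.intCast_zmod_eq_zero_iff_dvd _ 5).1 (h w)
    have habs : |X w 0| ≤ 4 := by
      rw [hX, Matrix.sum_apply, ← Finset.add_sum_erase _ _ (Finset.mem_univ (1 : K))]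
      rw [map_one, show Γ S 1 w 0 = 0 by simp [Γ, hw], zero_add]
      refine le_trans (Finset.abs_sum_le_sum_abs _ _) (le_trans (Finset.sum_le_sum
        (g := fun _ => (1 : ℤ)) fun x hx => ?_) ?_)
      · have hne : κ x ≠ 1 := fun h1 => (Finset.mem_erase.1 hx).1 (hinj (h1.trans κ.map_one.symm))
        rw [Γ, if_neg hne]
        have := (hκ x).1.1.G_sq (R := ℤ) ((hκ x).2 hne) w
        rcases mul_self_eq_one_iff.1 this with h1 | h1 <;> simp [h1]
      · simp [hK]
    rw [abs_le] at habs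
    omega
  have hXe : X = (-60 : ℤ) • 1 := by
    refine S.ext_A (Submodule.sum_mem _ fun x _ => Γ_mem _)
      (Submodule.smul_mem _ _ (S.one_mem ℤ)) fun w => ?_
    by_cases hw : w = 0
    · simp [hw, h00]
    · simp [hw, hzero w hw]
  have h2 := congrFun (congrFun (sum_mul_sum κ hκ) 0) 0
  rw [← hX, hXe, hK, smul_mul_assoc, one_mul, smul_smul] at h2
  simp only [Matrix.smul_apply, Matrix.one_apply_eq, smul_eq_mul] at h2
  norm_num at h2

end Datum

end CfsgLib.PGroup.TwistedAlgebra
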