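import Cfsg.Agent.Lib.PGroup.TwistedIntertwiner
import Mathlib.Algebra.CharP.Lemmas
import Mathlib.LinearAlgebra.Matrix.CharP
import Mathlib.GroupTheory.NoncommCoprod
import Mathlib.GroupTheory.SpecificGroups.Cyclic
import Mathlib.LinearAlgebra.Quotient.Basic

set_option autoImplicit false

/-!
A module over `ZMod 5` on which isometries of order thirteen have no fixed vector, cut out of the
twisted algebra by the intertwiner of an isometry of order five.
-/

namespace CfsgLib.PGroup.TwistedAlgebra.Datum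

open Matrix

variable {V : Type*} [AddCommGroup V] [Fintype V] [DecidableEq V] (S : Datum V)

instance fact_five : Fact (Nat.Prime 5) := ⟨Nat.prime_five⟩

/-- Reduced intertwiners. -/
def Γb (a : Equiv.Perm V) : Matrix V V (ZMod 5) := (Int.castRingHom (ZMod 5)).mapMatrix (Γ S a)

lemma cast_E (v : V) : (Int.castRingHom (ZMod 5)).mapMatrix (S.E ℤ v) = S.E (ZMod 5) v := by
  ext x y
  simp [Sgn.E_apply, apply_ite (Int.cast : ℤ → ZMod 5)]

lemma cast_G (a : Equiv.Perm V) :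
    (Int.castRingHom (ZMod 5)).mapMatrix (S.G ℤ a) = S.G (ZMod 5) a := by
  rw [Sgn.G, map_sum]
  refine Finset.sum_congr rfl fun u _ => ?_
  rw [map_mul, cast_E]
  congr 1
  rw [← cast_E]
  rfl

lemma Γb_one : Γb S 1 = 1 := by
  rw [Γb, show Γ S (1 : Equiv.Perm V) = (-64 : ℤ) • 1 from if_pos rfl, map_zsmul, map_one,
    ← Int.cast_smul_eq_zsmul (ZMod 5), show ((-64 : ℤ) : ZMod 5) = 1 by decide, one_smul]

lemma Γb_of_ne {a : Equiv.Perm V} (ha : a ≠ 1) : Γb S a = S.G (ZMod 5) a := by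
  rw [Γb, show Γ S a = S.G ℤ a from if_neg ha, cast_G]

lemma Γb_mem (a : Equiv.Perm V) : Γb S a ∈ S.A (ZMod 5) := by
  by_cases h : a = 1
  · rw [h, Γb_one]; exact S.one_mem _
  · rw [Γb_of_ne S h]; exact S.G_mem a

variable {S}

lemma Γb_mul {a b : Equiv.Perm V} (ha : S.Ok a) (hb : S.Ok b) (hab : S.Ok (a * b)) :
    Γb S a * Γb S b = Γb S (a * b) := by
  rw [Γb, Γb, ← map_mul, Γ_mul ha hb hab, map_zsmul, ← Int.cast_smul_eq_zsmul (ZMod 5),
    show ((-64 : ℤ) : ZMod 5) = 1 by decide, one_smul]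
  rfl

lemma Γb_zero {a : Equiv.Perm V} (ha : S.Ok a) : Γb S a 0 0 = 1 := by
  rw [Γb, RingHom.mapMatrix_apply, Matrix.map_apply, Γ_zero ha]
  split_ifs
  · decide
  · simp

lemma Γb_mul_mat {a : Equiv.Perm V} (ha : S.GoodC a) {M : Matrix V V (ZMod 5)}
    (hM : M ∈ S.A (ZMod 5)) : Γb S a * M = Sgn.act (ZMod 5) a M * Γb S a := by
  refine Submodule.span_induction
    (p := fun M _ => Γb S a * M = Sgn.act (ZMod 5) a M * Γb S a) ?_ ?_ ?_ ?_ hM
  · rintro _ ⟨v, rfl⟩
    rw [ha.1.act_E]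
    by_cases h : a = 1
    · rw [h, Γb_one]; simp
    · rw [Γb_of_ne S h, ha.1.G_mul_E]
  · rw [mul_zero]; exact (zero_mul _).symm
  · intro x y _ _ hx hy; rw [mul_add, hx, hy, Sgn.act_add, add_mul]
  · intro r x _ hx; rw [mul_smul_comm, hx, Sgn.act_smul, smul_mul_assoc]

lemma act_Γb {b : Equiv.Perm V} (hb : S.Good b) (a : Equiv.Perm V) :
    Sgn.act (ZMod 5) b (Γb S a) = Γb S (b * a * b⁻¹) := by
  by_cases h : a = 1
  · subst h
    rw [mul_one, mul_inv_cancel, Γb_one, Sgn.act_one_mat]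
  · rw [Γb_of_ne S h, hb.act_G, Γb_of_ne S]
    exact fun h' => h (conj_eq_one_iff.1 h')

variable (S)

local notation "Λ" => Subgroup.zpowers S.lam

lemma ok_lam {x : Equiv.Perm V} (hx : x ∈ Λ) : S.Ok x := ⟨good_zpowers hx, S.lam_fpf x hx⟩

/-- The relative trace element. -/
noncomputable def T : Matrix V V (ZMod 5) :=
  letI := Fintype.ofFinite Λ
  ∑ x : Λ, Γb S (x : Equiv.Perm V)

lemma T_mem : T S ∈ S.A (ZMod 5) := Submodule.sum_mem _ fun _ _ => Γb_mem S _

lemma Γb_mul_T {x : Equiv.Perm V} (hx : x ∈ Λ) : Γb S x * T S = T S := by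
  letI := Fintype.ofFinite Λ
  rw [T, Finset.mul_sum]
  refine Fintype.sum_equiv (Equiv.mulLeft ⟨x, hx⟩) _ _ fun y => ?_
  rw [Γb_mul (S.ok_lam hx) (S.ok_lam y.2) (S.ok_lam (mul_mem hx y.2))]
  rfl

lemma T_mul_Γb {x : Equiv.Perm V} (hx : x ∈ Λ) : T S * Γb S x = T S := by
  letI := Fintype.ofFinite Λ
  rw [T, Finset.sum_mul]
  refine Fintype.sum_equiv (Equiv.mulRight ⟨x, hx⟩) _ _ fun y => ?_
  rw [Γb_mul (S.ok_lam y.2) (S.ok_lam hx) (S.ok_lam (mul_mem y.2 hx))]
  rfl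

lemma act_T {a : Equiv.Perm V} (ha : S.GoodC a) : Sgn.act (ZMod 5) a (T S) = T S := by
  letI := Fintype.ofFinite Λ
  rw [T, Sgn.act_sum]
  refine Finset.sum_congr rfl fun x _ => ?_
  rw [act_Γb ha.1]
  congr 1
  obtain ⟨n, hn⟩ := Subgroup.mem_zpowers_iff.1 x.2
  rw [← hn, (ha.2.zpow_right n).eq, mul_inv_cancel_right]

lemma act_lam {a : Equiv.Perm V} (ha : S.GoodC a) :
    Sgn.act (ZMod 5) a (Γb S S.lam) = Γb S S.lam := by
  rw [act_Γb ha.1, ha.2.eq, mul_inv_cancel_right]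

lemma mul_Γb_of_fixed {y : Matrix V V (ZMod 5)} (hy : y * Γb S S.lam = y) {x : Equiv.Perm V}
    (hx : x ∈ Λ) : y * Γb S x = y := by
  obtain ⟨n, rfl⟩ := mem_powers_iff_mem_zpowers.2 hx
  simp only
  induction n with
  | zero => rw [pow_zero, Γb_one, mul_one]
  | succ n ih =>
    have hn : S.lam ^ n ∈ Λ := pow_mem (Subgroup.mem_zpowers _) n
    rw [pow_succ, ← Γb_mul (S.ok_lam hn) (S.ok_lam (Subgroup.mem_zpowers _))
      (S.ok_lam (mul_mem hn (Subgroup.mem_zpowers _))), ← mul_assoc, ih hn, hy]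

/-- Upper submodule. -/
def P : Submodule (ZMod 5) (Matrix V V (ZMod 5)) where
  carrier := {x | (∃ a ∈ S.A (ZMod 5), x = T S * a) ∧ x * Γb S S.lam = x}
  add_mem' := by
    rintro x y ⟨⟨a, ha, rfl⟩, hx⟩ ⟨⟨b, hb, rfl⟩, hy⟩
    exact ⟨⟨a + b, add_mem ha hb, (mul_add _ _ _).symm⟩, by rw [add_mul, hx, hy]⟩
  zero_mem' := ⟨⟨0, zero_mem _, (mul_zero _).symm⟩, zero_mul _⟩
  smul_mem' := by
    rintro r x ⟨⟨a, ha, rfl⟩, hx⟩
    exact ⟨⟨r • a, Submodule.smul_mem _ r ha, (mul_smul_comm r _ _).symm⟩, by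
      rw [smul_mul_assoc, hx]⟩

/-- Lower submodule. -/
def Q : Submodule (ZMod 5) (Matrix V V (ZMod 5)) where
  carrier := {x | ∃ a ∈ S.A (ZMod 5), x = T S * a * T S}
  add_mem' := by
    rintro x y ⟨a, ha, rfl⟩ ⟨b, hb, rfl⟩
    exact ⟨a + b, add_mem ha hb, by rw [mul_add, add_mul]⟩
  zero_mem' := ⟨0, zero_mem _, by rw [mul_zero, zero_mul]⟩
  smul_mem' := by
    rintro r x ⟨a, ha, rfl⟩
    exact ⟨r • a, Submodule.smul_mem _ r ha, by rw [mul_smul_comm, smul_mul_assoc]⟩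

/-- The action of an isometry as a linear map. -/
def actL (a : Equiv.Perm V) : Matrix V V (ZMod 5) →ₗ[ZMod 5] Matrix V V (ZMod 5) where
  toFun := Sgn.act (ZMod 5) a
  map_add' := Sgn.act_add a
  map_smul' := Sgn.act_smul a

lemma act_P {a : Equiv.Perm V} (ha : S.GoodC a) {x : Matrix V V (ZMod 5)} (hx : x ∈ P S) :
    Sgn.act (ZMod 5) a x ∈ P S := by
  obtain ⟨⟨b, hb, rfl⟩, hx⟩ := hx
  refine ⟨⟨_, ha.1.act_mem hb, by rw [Sgn.act_mul, S.act_T ha]⟩, ?_⟩
  have h := congrArg (Sgn.act (ZMod 5) a) hx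
  rwa [Sgn.act_mul, S.act_lam ha] at h

lemma act_Q {a : Equiv.Perm V} (ha : S.GoodC a) {x : Matrix V V (ZMod 5)} (hx : x ∈ Q S) :
    Sgn.act (ZMod 5) a x ∈ Q S := by
  obtain ⟨b, hb, rfl⟩ := hx
  exact ⟨_, ha.1.act_mem hb, by rw [Sgn.act_mul, Sgn.act_mul, S.act_T ha]⟩

/-- An isometry of order thirteen in general position with `lam`. -/
structure Rot (g : Equiv.Perm V) : Prop where
  goodC : S.GoodC g
  ord : orderOf g = 13
  fpf : ∀ x ∈ Λ, ∀ y ∈ Subgroup.zpowers g, x * y ≠ 1 → Fpf (x * y)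

variable {S}

namespace Rot

variable {g : Equiv.Perm V} (h : S.Rot g)
include h

lemma goodC_pow {y : Equiv.Perm V} (hy : y ∈ Subgroup.zpowers g) : S.GoodC y := by
  let U : Subgroup (Equiv.Perm V) :=
    { carrier := {a | S.GoodC a}, mul_mem' := GoodC.mul, one_mem' := GoodC.one,
      inv_mem' := GoodC.inv }
  exact Subgroup.zpowers_le.2 (show g ∈ U from h.goodC) hy

lemma ok {x y : Equiv.Perm V} (hx : x ∈ Λ) (hy : y ∈ Subgroup.zpowers g) : S.Ok (x * y) :=
  ⟨(good_zpowers hx).mul (h.goodC_pow hy), h.fpf x hx y hy⟩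

lemma ok' {y : Equiv.Perm V} (hy : y ∈ Subgroup.zpowers g) : S.Ok y := by
  simpa using h.ok (one_mem _) hy

lemma comm {x y : Equiv.Perm V} (hx : x ∈ Λ) (hy : y ∈ Subgroup.zpowers g) : Commute x y := by
  obtain ⟨m, rfl⟩ := Subgroup.mem_zpowers_iff.1 hx
  obtain ⟨k, rfl⟩ := Subgroup.mem_zpowers_iff.1 hy
  exact (h.goodC.2.symm.zpow_zpow m k)

/-- The averaging idempotent. -/
noncomputable def e : Matrix V V (ZMod 5) :=
  letI := Fintype.ofFinite (Subgroup.zpowers g)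
  (2 : ZMod 5) • ∑ y : Subgroup.zpowers g, Γb S (y : Equiv.Perm V)

omit h in
lemma e_mem : e (S := S) (g := g) ∈ S.A (ZMod 5) :=
  Submodule.smul_mem _ _ (Submodule.sum_mem _ fun _ _ => Γb_mem S _)

lemma card_g : Nat.card (Subgroup.zpowers g) = 13 := by rw [Nat.card_zpowers, h.ord]

lemma e_sq : e (S := S) (g := g) * e (S := S) (g := g) = e (S := S) (g := g) := by
  letI := Fintype.ofFinite (Subgroup.zpowers g)
  unfold e
  set Sg := ∑ y : Subgroup.zpowers g, Γb S (y : Equiv.Perm V)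
  have h1 : ∀ y : Subgroup.zpowers g, Γb S (y : Equiv.Perm V) * Sg = Sg := fun y => by
    rw [Finset.mul_sum]
    refine Fintype.sum_equiv (Equiv.mulLeft y) _ _ fun z => ?_
    rw [Γb_mul (h.ok' y.2) (h.ok' z.2) (h.ok' (mul_mem y.2 z.2))]
    rfl
  have h2 : Sg * Sg = (13 : ZMod 5) • Sg := by
    conv_lhs => arg 1; unfold Sg
    rw [Finset.sum_mul, Finset.sum_congr rfl fun y _ => h1 y, Finset.sum_const, Finset.card_univ,
      ← Nat.card_eq_fintype_card, h.card_g, ← Nat.cast_smul_eq_nsmul (ZMod 5)]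
    rfl
  rw [smul_mul_assoc, mul_smul_comm, h2, smul_smul, smul_smul]
  congr 1

lemma e_zero : e (S := S) (g := g) 0 0 = 1 := by
  letI := Fintype.ofFinite (Subgroup.zpowers g)
  rw [e, Matrix.smul_apply, Matrix.sum_apply, Finset.sum_congr rfl fun y _ => Γb_zero (h.ok' y.2),
    Finset.sum_const, Finset.card_univ, ← Nat.card_eq_fintype_card, h.card_g]
  rfl

lemma e_comm {x : Equiv.Perm V} (hx : x ∈ Λ) :
    e (S := S) (g := g) * Γb S x = Γb S x * e (S := S) (g := g) := by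
  letI := Fintype.ofFinite (Subgroup.zpowers g)
  rw [e, smul_mul_assoc, mul_smul_comm, Finset.sum_mul, Finset.mul_sum]
  congr 1
  refine Finset.sum_congr rfl fun y _ => ?_
  rw [Γb_mul (h.ok' y.2) (S.ok_lam hx) (by rw [← (h.comm hx y.2).eq]; exact h.ok hx y.2),
    Γb_mul (S.ok_lam hx) (h.ok' y.2) (h.ok hx y.2), (h.comm hx y.2).eq]

lemma e_mul_T : e (S := S) (g := g) * T S = T S * e (S := S) (g := g) := by
  rw [T, Finset.mul_sum, Finset.sum_mul]
  exact Finset.sum_congr rfl fun x _ => h.e_comm x.2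

lemma T_mul_e : T S * e (S := S) (g := g) = 0 := by
  letI := Fintype.ofFinite Λ
  letI := Fintype.ofFinite (Subgroup.zpowers g)
  rw [e, mul_smul_comm, T, Finset.sum_mul]
  simp only [Finset.mul_sum]
  rw [Finset.sum_congr rfl fun x _ => Finset.sum_congr rfl fun y _ =>
    Γb_mul (S.ok_lam x.2) (h.ok' y.2) (h.ok x.2 y.2), ← Fintype.sum_prod_type']
  let κ : Λ × Subgroup.zpowers g →* Equiv.Perm V :=
    MonoidHom.noncommCoprod (Subgroup.subtype _) (Subgroup.subtype _) fun x y => h.comm x.2 y.2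
  have hinj : Function.Injective κ := by
    refine (injective_iff_map_eq_one κ).2 fun p hp => ?_
    have hp' : (p.1 : Equiv.Perm V) * (p.2 : Equiv.Perm V) = 1 := hp
    have hd : orderOf (p.1 : Equiv.Perm V) ∣ Nat.gcd 5 13 := Nat.dvd_gcd
      (by rw [Subgroup.orderOf_coe, ← S.card_lam]; exact orderOf_dvd_natCard _)
      (by rw [eq_inv_of_mul_eq_one_left hp', orderOf_inv, Subgroup.orderOf_coe, ← h.card_g]
          exact orderOf_dvd_natCard _)
    have h1 : (p.1 : Equiv.Perm V) = 1 := orderOf_eq_one_iff.1 (Nat.eq_one_of_dvd_one hd)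
    rw [h1, one_mul] at hp'
    exact Prod.ext (Subtype.ext h1) (Subtype.ext hp')
  have hsum := sum_eq_zero (S := S) κ (fun p => h.ok p.1.2 p.2.2) hinj (by
    rw [Fintype.card_prod, ← Nat.card_eq_fintype_card, ← Nat.card_eq_fintype_card, S.card_lam,
      h.card_g])
  have h0 : ∑ p : Λ × Subgroup.zpowers g, Γb S ((p.1 : Equiv.Perm V) * p.2) = 0 := by
    have := congrArg (Int.castRingHom (ZMod 5)).mapMatrix hsum
    rw [map_sum, map_zero] at this
    exact this
  rw [h0, smul_zero]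

lemma act_e {x : Equiv.Perm V} (hx : x ∈ Λ) :
    Sgn.act (ZMod 5) x (e (S := S) (g := g)) = e (S := S) (g := g) := by
  letI := Fintype.ofFinite (Subgroup.zpowers g)
  rw [e, Sgn.act_smul, Sgn.act_sum]
  congr 1
  refine Finset.sum_congr rfl fun y _ => ?_
  rw [act_Γb (good_zpowers hx).1, (h.comm hx y.2).eq, mul_inv_cancel_right]

open Classical in
/-- `1 - e` is a relative trace. -/
lemma exists_trace : ∃ a ∈ S.A (ZMod 5),
    letI := Fintype.ofFinite Λ
    ∑ x : Λ, Sgn.act (ZMod 5) (x : Equiv.Perm V) a = 1 - e (S := S) (g := g) := by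
  letI := Fintype.ofFinite Λ
  obtain ⟨w, hw⟩ := S.exists_weight (R := ZMod 5)
  set f := (1 : Matrix V V (ZMod 5)) - e (S := S) (g := g) with hf
  have hfA : f ∈ S.A (ZMod 5) := sub_mem (S.one_mem _) e_mem
  have hf0 : f 0 0 = 0 := by simp [hf, h.e_zero]
  have hfx : ∀ x : Λ, ∀ v, f ((x : Equiv.Perm V) v) 0 = f v 0 := fun x v => by
    have h1 : Sgn.act (ZMod 5) (x : Equiv.Perm V) f = f := by
      rw [hf, Sgn.act_sub, Sgn.act_one_mat, h.act_e x.2]
    conv_lhs => rw [← h1, ← (good_zpowers x.2).1.zero, Sgn.act_apply]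
  refine ⟨∑ v, (f v 0 * w v) • S.E (ZMod 5) v,
    Submodule.sum_mem _ fun v _ => Submodule.smul_mem _ _ (S.E_mem _ v), ?_⟩
  refine S.ext_A (Submodule.sum_mem _ fun x _ => (good_zpowers x.2).1.act_mem
    (Submodule.sum_mem _ fun v _ => Submodule.smul_mem _ _ (S.E_mem _ v))) hfA fun u => ?_
  rw [Matrix.sum_apply]
  have h1 : ∀ x : Λ, Sgn.act (ZMod 5) (x : Equiv.Perm V) (∑ v, (f v 0 * w v) • S.E (ZMod 5) v) u 0 =
      f u 0 * w (((x⁻¹ : Λ) : Equiv.Perm V) u) := by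
    intro x
    obtain ⟨v, rfl⟩ := (x : Equiv.Perm V).surjective u
    conv_lhs => rw [← (good_zpowers x.2).1.zero, Sgn.act_apply, Matrix.sum_apply]
    rw [Finset.sum_eq_single v]
    · simp [Sgn.E_apply, Sgn.zero_right, hfx, (good_zpowers x.2).1.zero]
    · intro b _ hb; simp [Sgn.E_apply, hb.symm]
    · simp
  rw [Finset.sum_congr rfl fun x _ => h1 x, ← Finset.mul_sum,
    Fintype.sum_equiv (Equiv.inv Λ) (fun x : Λ => w (((x⁻¹ : Λ) : Equiv.Perm V) u))
      (fun x : Λ => w ((x : Equiv.Perm V) u)) (fun x => rfl), hw]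
  by_cases hu : u = 0
  · simp [hu, hf0]
  · simp [hu]

/-- Elements of order thirteen fix nothing in `P/Q`. -/
theorem mem_Q {x : Matrix V V (ZMod 5)} (hx : x ∈ P S)
    (hfix : Sgn.act (ZMod 5) g x - x ∈ Q S) : x ∈ Q S := by
  have hgn : ∀ n : ℕ, S.GoodC (g ^ n) := fun n =>
    h.goodC_pow (pow_mem (Subgroup.mem_zpowers _) n)
  have hn : ∀ n : ℕ, Sgn.act (ZMod 5) (g ^ n) x - x ∈ Q S := by
    intro n
    induction n with
    | zero => rw [pow_zero, show Sgn.act (ZMod 5) (1 : Equiv.Perm V) x = x from rfl, sub_self]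
              exact zero_mem _
    | succ n ih =>
      have h1 := S.act_Q (hgn n) hfix
      rw [Sgn.act_sub, ← Sgn.act_comp, ← pow_succ] at h1
      have h2 := add_mem h1 ih
      rwa [sub_add_sub_cancel] at h2
  set y := (2 : ZMod 5) • ∑ n ∈ Finset.range 13, Sgn.act (ZMod 5) (g ^ n) x with hy
  have hyx : y - x ∈ Q S := by
    have h1 : y - x = (2 : ZMod 5) • ∑ n ∈ Finset.range 13, (Sgn.act (ZMod 5) (g ^ n) x - x) := by
      rw [hy, Finset.sum_sub_distrib, smul_sub, Finset.sum_const, Finset.card_range,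
        ← Nat.cast_smul_eq_nsmul (ZMod 5), smul_smul, show (2 : ZMod 5) * (13 : ℕ) = 1 from rfl,
        one_smul]
    rw [h1]
    exact Submodule.smul_mem _ _ (Submodule.sum_mem _ fun n _ => hn n)
  have hyfix : Sgn.act (ZMod 5) g y = y := by
    rw [hy, Sgn.act_smul, Sgn.act_sum]
    congr 1
    simp only [← Sgn.act_comp, ← pow_succ']
    rw [Finset.sum_range_succ, Finset.sum_range_succ' (fun n => Sgn.act (ZMod 5) (g ^ n) x) 12,
      show g ^ (12 + 1) = g ^ 0 from (h.ord ▸ pow_orderOf_eq_one g : g ^ 13 = 1).trans (pow_zero g).symm]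
  have hyP : y ∈ P S :=
    Submodule.smul_mem _ _ (Submodule.sum_mem _ fun n _ => S.act_P (hgn n) hx)
  clear_value y
  suffices hyQ : y ∈ Q S by
    have h1 := sub_mem hyQ hyx
    rwa [sub_sub_cancel] at h1
  obtain ⟨⟨a₀, ha₀, hya⟩, hyS⟩ := hyP
  have hyA : y ∈ S.A (ZMod 5) := hya ▸ S.mul_mem (T_mem S) ha₀
  have hye : y * e (S := S) (g := g) = 0 := by
    letI := Fintype.ofFinite (Subgroup.zpowers g)
    have hcomm : e (S := S) (g := g) * y = y * e (S := S) (g := g) := by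
      rw [e, smul_mul_assoc, mul_smul_comm, Finset.sum_mul, Finset.mul_sum]
      congr 1
      refine Finset.sum_congr rfl fun z _ => ?_
      rw [Γb_mul_mat (h.goodC_pow z.2) hyA]
      congr 1
      let U : Subgroup (Equiv.Perm V) :=
        { carrier := {b | Sgn.act (ZMod 5) b y = y}
          mul_mem' := fun {b c} (hb : _ = y) (hc : _ = y) =>
            show _ = y by rw [Sgn.act_comp, hc, hb]
          one_mem' := rfl
          inv_mem' := fun {b} (hb : _ = y) => show _ = y by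
            conv_lhs => rw [← hb, ← Sgn.act_comp, inv_mul_cancel]
            rfl }
      exact Subgroup.zpowers_le.2 (show g ∈ U from hyfix) z.2
    rw [← hcomm, hya, ← mul_assoc, h.e_mul_T, h.T_mul_e, zero_mul]
  obtain ⟨a, ha, htr⟩ := h.exists_trace
  letI := Fintype.ofFinite Λ
  have hT : y = y * a * T S := by
    calc y = y * (1 - e (S := S) (g := g)) := by rw [mul_sub, mul_one, hye, sub_zero]
      _ = ∑ z : Λ, y * Sgn.act (ZMod 5) (z : Equiv.Perm V) a := by rw [← htr, Finset.mul_sum]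
      _ = ∑ z : Λ, y * a * Γb S (((z⁻¹ : Λ) : Equiv.Perm V)) := by
          refine Finset.sum_congr rfl fun z _ => ?_
          have h1 : Γb S (z : Equiv.Perm V) * Γb S ((z⁻¹ : Λ) : Equiv.Perm V) = 1 := by
            rw [Γb_mul (S.ok_lam z.2) (S.ok_lam (z⁻¹).2)
              (S.ok_lam (mul_mem z.2 (z⁻¹).2)), ← Subgroup.coe_mul, mul_inv_cancel]
            exact Γb_one S
          have h2 : Sgn.act (ZMod 5) (z : Equiv.Perm V) a =
              Γb S (z : Equiv.Perm V) * a * Γb S ((z⁻¹ : Λ) : Equiv.Perm V) := by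
            rw [Γb_mul_mat (good_zpowers z.2) ha, mul_assoc, h1, mul_one]
          rw [h2, ← mul_assoc, ← mul_assoc, S.mul_Γb_of_fixed hyS z.2]
      _ = y * a * T S := by
          rw [T, Finset.mul_sum]
          exact Fintype.sum_equiv (Equiv.inv Λ) _ _ fun z => rfl
  refine ⟨a₀ * a, S.mul_mem ha₀ ha, hT.trans ?_⟩
  rw [hya, mul_assoc (T S)]

/-- The quotient is nontrivial. -/
theorem exists_not_mem : ∃ x ∈ P S, x ∉ Q S := by
  classical
  set N := Γb S S.lam - 1 with hN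
  set e₀ := e (S := S) (g := g) with he
  have hne : e₀ ≠ 0 := fun h0 => by
    have := h.e_zero
    rw [← he, h0] at this
    simp at this
  have hN5 : N ^ 5 = 0 := by
    have : Nonempty V := ⟨0⟩
    have hp : ∀ n : ℕ, Γb S S.lam ^ n = Γb S (S.lam ^ n) := by
      intro n
      induction n with
      | zero => rw [pow_zero, pow_zero, Γb_one]
      | succ n ih =>
        have hn : S.lam ^ n ∈ Λ := pow_mem (Subgroup.mem_zpowers _) n
        rw [pow_succ, pow_succ, ih, Γb_mul (S.ok_lam hn) (S.ok_lam (Subgroup.mem_zpowers _))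
          (S.ok_lam (mul_mem hn (Subgroup.mem_zpowers _)))]
    rw [hN, sub_pow_char_of_commute 5 (Commute.one_right _), one_pow, hp,
      show S.lam ^ 5 = 1 by rw [← S.card_lam, Nat.card_zpowers, pow_orderOf_eq_one], Γb_one,
      sub_self]
  have hex : ∃ m : ℕ, e₀ * N ^ m = 0 := ⟨5, by rw [hN5, mul_zero]⟩
  obtain ⟨k, hk⟩ : ∃ k, Nat.find hex = k + 1 := Nat.exists_eq_succ_of_ne_zero fun h0 => hne (by
    simpa [h0] using Nat.find_spec hex)
  set z := e₀ * N ^ k
  have hz : z ≠ 0 := Nat.find_min hex (hk ▸ Nat.lt_succ_self k)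
  have hzS : z * Γb S S.lam = z := by
    have h1 := hk ▸ Nat.find_spec hex
    rw [pow_succ, ← mul_assoc] at h1
    have h2 : z * (Γb S S.lam - 1) = 0 := h1
    rw [mul_sub, mul_one, sub_eq_zero] at h2
    exact h2
  have hze : z * e₀ = z := by
    have h1 : Commute e₀ N := Commute.sub_right (h.e_comm (Subgroup.mem_zpowers _))
      (Commute.one_right _)
    rw [mul_assoc, ← (h1.pow_right k).eq, ← mul_assoc, h.e_sq]
  have hNA : N ∈ S.A (ZMod 5) := sub_mem (Γb_mem S _) (S.one_mem _)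
  have hzA : z ∈ S.A (ZMod 5) := by
    refine S.mul_mem e_mem ?_
    clear hk hz hzS hze z
    induction k with
    | zero => rw [pow_zero]; exact S.one_mem _
    | succ k ih => rw [pow_succ]; exact S.mul_mem ih hNA
  letI := Fintype.ofFinite Λ
  obtain ⟨w, hw⟩ := exists_coef_five (S := S) (Subgroup.subtype Λ) (fun x => S.ok_lam x.2)
    Subtype.val_injective (by rw [← Nat.card_eq_fintype_card, S.card_lam])
  have hTw : T S w 0 ≠ 0 := by
    convert hw
    rw [T, Matrix.sum_apply, Matrix.sum_apply, Int.cast_sum]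
    rfl
  obtain ⟨v, hv⟩ : ∃ v, T S * S.E (ZMod 5) v * z ≠ 0 := by
    by_contra hall
    push Not at hall
    exact hz (S.prime (by decide) (by rw [S.card_eq]; decide) (T_mem S) hTw hall)
  refine ⟨T S * S.E (ZMod 5) v * z, ⟨⟨S.E (ZMod 5) v * z, S.mul_mem (S.E_mem _ v) hzA,
    mul_assoc _ _ _⟩, by rw [mul_assoc, hzS]⟩, ?_⟩
  rintro ⟨a, ha, hxa⟩
  apply hv
  calc T S * S.E (ZMod 5) v * z = T S * S.E (ZMod 5) v * z * e₀ := by rw [mul_assoc _ z, hze]
    _ = T S * a * (T S * e₀) := by rw [hxa, mul_assoc]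
    _ = 0 := by rw [h.T_mul_e, mul_zero]

end Rot

end CfsgLib.PGroup.TwistedAlgebra.Datum
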