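import Mathlib
import Cfsg.Agent.Lib.PGroup.Frattini
import Cfsg.Agent.Lib.FrobRealize.Quaternion
import Cfsg.Agent.Lib.TwoGroups.CyclicMax

/-!
The number of generators of a 2-group acting faithfully on an abelian group of odd order.
-/

set_option autoImplicit false

namespace CfsgLib.PGroup.TwoActionBound

open Subgroup

universe u v

section Squares

variable {P : Type v} [Group P]

/-- The subgroup generated by the squares. -/
def sq (P : Type v) [Group P] : Subgroup P := closure (Set.range fun x : P => x ^ 2)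

theorem sq_mem (x : P) : x ^ 2 ∈ sq P := subset_closure ⟨x, rfl⟩

theorem map_sq_le {Q : Type*} [Group Q] (f : P →* Q) : (sq P).map f ≤ sq Q := by
  rw [sq, MonoidHom.map_closure, closure_le]
  rintro _ ⟨_, ⟨x, rfl⟩, rfl⟩
  simp only [map_pow]
  exact sq_mem (f x)

instance sq_normal : (sq P).Normal :=
  haveI : (sq P).Characteristic := characteristic_iff_map_le.mpr fun e => map_sq_le e.toMonoidHom
  inferInstance

theorem map_sq_eq {Q : Type*} [Group Q] (f : P →* Q) (hf : Function.Surjective f) :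
    (sq P).map f = sq Q := by
  refine le_antisymm (map_sq_le f) ?_
  conv_lhs => rw [sq]
  rw [closure_le]
  rintro _ ⟨y, rfl⟩
  obtain ⟨x, rfl⟩ := hf y
  exact ⟨x ^ 2, sq_mem x, map_pow f x 2⟩

/-- The index of the subgroup generated by the squares. -/
noncomputable def D (P : Type v) [Group P] : ℕ := (sq P).index

variable [Finite P]

theorem D_pos : 0 < D P := Nat.pos_of_ne_zero index_ne_zero_of_finite

theorem D_le_card : D P ≤ Nat.card P := Nat.le_of_dvd Nat.card_pos (index_dvd_card _)

theorem D_eq_one [Subsingleton P] : D P = 1 := by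
  rw [D, index_eq_one]; exact Subsingleton.elim _ _

theorem frattini_index_le_D (hP : IsPGroup 2 P) : (frattini P).index ≤ D P := by
  haveI : Fact (Nat.Prime 2) := ⟨Nat.prime_two⟩
  refine Nat.le_of_dvd D_pos (index_dvd_of_le ?_)
  rw [sq, closure_le]
  rintro _ ⟨x, rfl⟩
  exact Frattini.pow_mem_frattini hP x

/-- `D` is submultiplicative along a normal subgroup. -/
theorem D_le_mul (K : Subgroup P) [K.Normal] : D P ≤ D (P ⧸ K) * D K := by
  have h1 : (sq P ⊔ K).index = D (P ⧸ K) := by
    rw [D, ← map_sq_eq (QuotientGroup.mk' K) (QuotientGroup.mk'_surjective K), index_map,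
      QuotientGroup.ker_mk', MonoidHom.range_eq_top.mpr (QuotientGroup.mk'_surjective K), index_top,
      mul_one]
  have h2 : (sq P).relIndex (sq P ⊔ K) ≤ D K := by
    rw [relIndex_sup_left]
    refine Nat.le_of_dvd D_pos (index_dvd_of_le ?_)
    rw [sq, closure_le]
    rintro _ ⟨x, rfl⟩
    show ((x ^ 2 : K) : P) ∈ sq P
    rw [Subgroup.coe_pow]
    exact sq_mem _
  rw [D, ← relIndex_mul_index (le_sup_left : sq P ≤ sq P ⊔ K), h1, mul_comm]
  exact Nat.mul_le_mul_left _ h2

theorem D_cyclic [IsCyclic P] : D P ≤ 2 := by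
  obtain ⟨a, ha⟩ := IsCyclic.exists_generator (α := P)
  have hle : zpowers (a ^ 2) ≤ sq P := zpowers_le.mpr (sq_mem a)
  have h1 : D P ≤ (zpowers (a ^ 2)).index :=
    Nat.le_of_dvd (Nat.pos_of_ne_zero index_ne_zero_of_finite) (index_dvd_of_le hle)
  have h2 := (zpowers (a ^ 2)).card_mul_index
  rw [Nat.card_zpowers, orderOf_pow, ← orderOf_eq_card_of_forall_mem_zpowers ha] at h2
  have h3 : (orderOf a).gcd 2 ≤ 2 := Nat.gcd_le_right _ two_pos
  have h4 : orderOf a / (orderOf a).gcd 2 * (orderOf a).gcd 2 = orderOf a :=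
    Nat.div_mul_cancel (Nat.gcd_dvd_left _ _)
  have h5 : 0 < orderOf a / (orderOf a).gcd 2 :=
    Nat.div_pos (Nat.le_of_dvd (orderOf_pos a) (Nat.gcd_dvd_left _ _))
      (Nat.gcd_pos_of_pos_right _ two_pos)
  have := Nat.eq_of_mul_eq_mul_left h5 (h2.trans h4.symm)
  omega

theorem D_comm (hc : ∀ a b : P, a * b = b * a) : D P ≤ Nat.card {x : P // x ^ 2 = 1} := by
  let f : P →* P :=
    { toFun := fun x => x ^ 2
      map_one' := one_pow _
      map_mul' := fun x y => Commute.mul_pow (hc x y) 2 }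
  have h1 : f.range ≤ sq P := by rintro _ ⟨x, rfl⟩; exact sq_mem x
  have h2 : D P ≤ f.range.index :=
    Nat.le_of_dvd (Nat.pos_of_ne_zero index_ne_zero_of_finite) (index_dvd_of_le h1)
  have h3 := f.range.card_mul_index
  rw [← index_ker f, ← f.ker.card_mul_index, mul_comm (Nat.card f.ker)] at h3
  have h4 : f.range.index = Nat.card f.ker :=
    Nat.eq_of_mul_eq_mul_left (Nat.pos_of_ne_zero index_ne_zero_of_finite) h3
  refine h2.trans (h4.le.trans (Nat.card_le_card_of_injective
    (fun x : f.ker => (⟨x.1, x.2⟩ : {x : P // x ^ 2 = 1})) fun x y h => ?_))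
  exact Subtype.ext (congrArg (fun z : {x : P // x ^ 2 = 1} => (z : P)) h)

end Squares

section Action

variable {V : Type u} [CommGroup V] {P : Type v} [Group P]

/-- Invariance of a subgroup under an action. -/
def Inv (φ : P →* MulAut V) (W : Subgroup V) : Prop := ∀ g : P, ∀ w ∈ W, φ g w ∈ W

theorem map_eq_of_inv {φ : P →* MulAut V} {W : Subgroup V} (hW : Inv φ W) (g : P) :
    W.map ((φ g : V ≃* V) : V →* V) = W := by
  refine le_antisymm ?_ fun w hw => ⟨φ g⁻¹ w, hW g⁻¹ w hw, ?_⟩
  · rintro _ ⟨w, hw, rfl⟩; exact hW g w hw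
  · show φ g (φ g⁻¹ w) = w
    rw [← MulAut.mul_apply, ← map_mul, mul_inv_cancel, map_one, MulAut.one_apply]

/-- The action on an invariant subgroup. -/
def restr (φ : P →* MulAut V) (W : Subgroup V) (hW : Inv φ W) : P →* MulAut W where
  toFun g :=
    { toFun := fun w => ⟨φ g w, hW g w w.2⟩
      invFun := fun w => ⟨φ g⁻¹ w, hW g⁻¹ w w.2⟩
      left_inv := fun w => Subtype.ext (by
        show φ g⁻¹ (φ g (w : V)) = (w : V)
        rw [← MulAut.mul_apply, ← map_mul, inv_mul_cancel, map_one, MulAut.one_apply])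
      right_inv := fun w => Subtype.ext (by
        show φ g (φ g⁻¹ (w : V)) = (w : V)
        rw [← MulAut.mul_apply, ← map_mul, mul_inv_cancel, map_one, MulAut.one_apply])
      map_mul' := fun a b => Subtype.ext (map_mul (φ g) (a : V) (b : V)) }
  map_one' := by ext w; show φ 1 w = (w : V); rw [map_one]; rfl
  map_mul' g h := by ext w; show φ (g * h) w = φ g (φ h w); rw [map_mul]; rfl

/-- The action on the quotient by an invariant subgroup. -/
def quot (φ : P →* MulAut V) (W : Subgroup V) (hW : Inv φ W) : P →* MulAut (V ⧸ W) where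
  toFun g := QuotientGroup.congr W W (φ g) (map_eq_of_inv hW g)
  map_one' := by
    ext q
    induction q using QuotientGroup.induction_on with
    | H v => show ((φ 1 v : V) : V ⧸ W) = v; rw [map_one]; rfl
  map_mul' g h := by
    ext q
    induction q using QuotientGroup.induction_on with
    | H v => show ((φ (g * h) v : V) : V ⧸ W) = (φ g (φ h v) : V); rw [map_mul]; rfl

variable [Finite V]

/-- A 2-element acting trivially on both factors of a series acts trivially, in odd order. -/
theorem stab_trivial (hodd : Odd (Nat.card V)) (a : MulAut V) {k : ℕ} (ha : a ^ 2 ^ k = 1)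
    (W : Subgroup V) (hW : ∀ w ∈ W, a w = w) (hq : ∀ v, v⁻¹ * a v ∈ W) : a = 1 := by
  ext v
  have hit : ∀ i : ℕ, (a ^ i) v = v * (v⁻¹ * a v) ^ i := by
    intro i
    induction i with
    | zero => simp
    | succ i ih =>
      rw [pow_succ', MulAut.mul_apply, ih, map_mul, map_pow, hW _ (hq v)]
      rw [pow_succ' (v⁻¹ * a v) i, ← mul_assoc, ← mul_assoc, mul_inv_cancel, one_mul]
  have h := hit (2 ^ k)
  rw [ha, MulAut.one_apply, left_eq_mul] at h
  have h1 : v⁻¹ * a v = 1 := orderOf_eq_one_iff.mp (Nat.eq_one_of_dvd_coprimes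
    ((Nat.coprime_two_left.mpr hodd).pow_left k) (orderOf_dvd_of_pow_eq_one h)
    (_root_.orderOf_dvd_natCard _))
  rw [MulAut.one_apply]
  exact (inv_mul_eq_one.mp h1).symm

variable [Finite P]

theorem faithful_series (hP : IsPGroup 2 P) (hodd : Odd (Nat.card V)) {φ : P →* MulAut V}
    (hφ : Function.Injective φ) {W : Subgroup V} (hW : Inv φ W) {g : P}
    (h1 : restr φ W hW g = 1) (h2 : quot φ W hW g = 1) : g = 1 := by
  obtain ⟨k, hk⟩ := hP g
  refine hφ ((stab_trivial hodd (φ g) (k := k) (by rw [← map_pow, hk, map_one]) W ?_ ?_).trans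
    (map_one φ).symm)
  · exact fun w hw => congrArg Subtype.val (DFunLike.congr_fun h1 (⟨w, hw⟩ : W))
  · intro v
    have h3 : ((φ g v : V) : V ⧸ W) = (v : V ⧸ W) := DFunLike.congr_fun h2 (v : V ⧸ W)
    exact QuotientGroup.eq.mp h3.symm

end Action

/-- The bound proved by induction. -/
def Bd (n d : ℕ) : Prop := 2 * d ≤ n ∨ (n = 3 ∧ d ≤ 2) ∨ (n = 1 ∧ d ≤ 1)

theorem bd_mul {s t a b : ℕ} (hs : 1 < s) (ht : 1 < t) (hs2 : Odd s) (ht2 : Odd t)
    (h1 : Bd s a) (h2 : Bd t b) : 2 * (a * b) ≤ s * t := by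
  have hs3 : 3 ≤ s := by rcases hs2 with ⟨i, rfl⟩; omega
  have ht3 : 3 ≤ t := by rcases ht2 with ⟨i, rfl⟩; omega
  rcases h1 with h1 | ⟨rfl, h1⟩ | ⟨rfl, -⟩
  · rcases h2 with h2 | ⟨rfl, h2⟩ | ⟨rfl, -⟩
    · nlinarith
    · nlinarith
    · omega
  · rcases h2 with h2 | ⟨rfl, h2⟩ | ⟨rfl, -⟩
    · nlinarith
    · nlinarith
    · omega
  · omega

theorem units_sq_le (k : ℕ) : Nat.card {x : (ZMod (2 ^ k))ˣ // x ^ 2 = 1} ≤ 4 := by
  rcases Nat.lt_or_ge k 2 with hk | hk
  · refine (Finite.card_subtype_le _).trans ?_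
    rw [Nat.card_eq_fintype_card, ZMod.card_units_eq_totient]
    interval_cases k <;> decide
  · let S : Finset (ZMod (2 ^ k)) := {1, -1, 1 + 2 ^ (k - 1), 2 ^ (k - 1) - 1}
    have hmem : ∀ x : {x : (ZMod (2 ^ k))ˣ // x ^ 2 = 1}, ((x.1 : ZMod (2 ^ k))) ∈ S := by
      rintro ⟨x, hx⟩
      set r : ℤ := ((x : ZMod (2 ^ k)).val : ℤ)
      have hr : (r : ZMod (2 ^ k)) = (x : ZMod (2 ^ k)) := by
        rw [Int.cast_natCast, ZMod.natCast_zmod_val]
      have hd : ((2 ^ k : ℕ) : ℤ) ∣ (r - 1) * (r + 1) := by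
        rw [← ZMod.intCast_zmod_eq_zero_iff_dvd]
        push_cast
        rw [hr]
        have : (x : ZMod (2 ^ k)) * x = 1 := by
          rw [← Units.val_mul, ← _root_.pow_two, hx, Units.val_one]
        linear_combination this
      rcases CfsgLib.TwoGroups.CyclicMax.sq_one_exponent hk (by exact_mod_cast hd) with h | h | h | h <;>
        simp [S, ← hr, h]
    have := Nat.card_le_card_of_injective
      (fun x : {x : (ZMod (2 ^ k))ˣ // x ^ 2 = 1} => (⟨_, hmem x⟩ : S))
      (fun x y h => Subtype.ext (Units.ext (congrArg (fun z : S => (z : ZMod (2 ^ k))) h)))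
    exact this.trans ((Nat.card_eq_finsetCard S).trans_le (Finset.card_le_four))

/-- Main bound: `2 D(P) ≤ |V|`, except `|V| = 3`. -/
theorem bound : ∀ (n : ℕ) (V : Type u) [CommGroup V] [Finite V] (P : Type v) [Group P] [Finite P]
    (φ : P →* MulAut V), Nat.card V = n → IsPGroup 2 P → Odd n → Function.Injective φ → Bd n (D P) := by
  intro n
  induction n using Nat.strong_induction_on with
  | _ n ih =>
  intro V _ _ P _ _ φ hn hP hodd hφ
  classical
  haveI : Fact (Nat.Prime 2) := ⟨Nat.prime_two⟩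
  by_cases hn1 : n = 1
  · haveI : Subsingleton V := (Nat.card_eq_one_iff_unique.mp (hn.trans hn1)).1
    haveI : Subsingleton (MulAut V) := ⟨fun a b => MulEquiv.ext fun x => Subsingleton.elim _ _⟩
    haveI : Subsingleton P := hφ.subsingleton
    exact Or.inr (Or.inr ⟨hn1, D_eq_one.le⟩)
  by_cases hn3 : n = 3
  · haveI : Fact (Nat.Prime 3) := ⟨Nat.prime_three⟩
    haveI : IsCyclic V := isCyclic_of_prime_card (p := 3) (hn.trans hn3)
    refine Or.inr (Or.inl ⟨hn3, D_le_card.trans ((Nat.card_le_card_of_injective φ hφ).trans_eq ?_)⟩)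
    rw [IsCyclic.card_mulAut, hn, hn3]
    decide
  have hn5 : 5 ≤ n := by rcases hodd with ⟨i, rfl⟩; omega
  left
  have hcoddV : Odd (Nat.card V) := hn ▸ hodd
  have hoddsub : ∀ W : Subgroup V, Odd (Nat.card W) := fun W =>
    hcoddV.of_dvd_nat (card_subgroup_dvd_card W)
  have hlt1 : ∀ W : Subgroup V, W ≠ ⊥ → 1 < Nat.card W := fun W hW =>
    (one_lt_card_iff_ne_bot W).mpr hW
  have hcardlt : ∀ W : Subgroup V, W ≠ ⊤ → Nat.card W < n := fun W hW =>
    lt_of_le_of_ne (hn ▸ card_le_card_group W) fun h => hW (eq_top_of_card_eq _ (h.trans hn.symm))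
  by_cases hred : ∃ W : Subgroup V, W ≠ ⊥ ∧ W ≠ ⊤ ∧ Inv φ W
  · obtain ⟨W, hW0, hW1, hW⟩ := hred
    set K := (restr φ W hW).ker with hK
    have hbW : Bd (Nat.card W) (D (P ⧸ K)) :=
      ih _ (hcardlt W hW1) W (P ⧸ K) (QuotientGroup.kerLift (restr φ W hW)) rfl (hP.to_quotient K)
        (hoddsub W) (QuotientGroup.kerLift_injective _)
    have hqlt : Nat.card (V ⧸ W) < n := by
      have := W.card_mul_index
      rw [index_eq_card, hn] at this
      have := hlt1 W hW0
      have : 0 < Nat.card (V ⧸ W) := Nat.card_pos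
      nlinarith
    have hqodd : Odd (Nat.card (V ⧸ W)) := hcoddV.of_dvd_nat (card_quotient_dvd_card W)
    have hinj : Function.Injective ((quot φ W hW).comp K.subtype) := by
      rw [injective_iff_map_eq_one]
      exact fun x hx => Subtype.ext (faithful_series hP hcoddV hφ hW x.2 hx)
    have hbQ : Bd (Nat.card (V ⧸ W)) (D K) :=
      ih _ hqlt (V ⧸ W) K _ rfl (hP.to_subgroup K) hqodd hinj
    have hq1 : 1 < Nat.card (V ⧸ W) := by
      rw [← index_eq_card]
      exact Nat.one_lt_iff_ne_zero_and_ne_one.mpr ⟨index_ne_zero_of_finite, fun h => hW1 (index_eq_one.mp h)⟩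
    have h1 := bd_mul (hlt1 W hW0) hq1 (hoddsub W) hqodd hbW hbQ
    calc 2 * D P ≤ 2 * (D (P ⧸ K) * D K) := Nat.mul_le_mul_left 2 (D_le_mul K)
      _ ≤ Nat.card W * Nat.card (V ⧸ W) := h1
      _ = n := by rw [← hn, ← index_eq_card, card_mul_index]
  push Not at hred
  have hirr : ∀ W : Subgroup V, Inv φ W → W = ⊥ ∨ W = ⊤ := fun W hW => by
    by_contra! h; exact hred W h.1 h.2 hW
  by_cases himp : ∃ M : Subgroup P, IsCoatom M ∧
      ∃ W : Subgroup V, W ≠ ⊥ ∧ W ≠ ⊤ ∧ Inv (φ.comp M.subtype) W
  · -- an imprimitive action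
    obtain ⟨M, hM, hWex⟩ := himp
    haveI := Frattini.normal_of_isCoatom hP hM
    have hMidx : M.index = 2 := Frattini.index_of_isCoatom hP hM
    set ψ := φ.comp M.subtype with hψ
    obtain ⟨W, ⟨hW0, hW1, hW⟩, hWmin⟩ := ({W : Subgroup V | W ≠ ⊥ ∧ W ≠ ⊤ ∧ Inv ψ W}).toFinite.exists_minimalFor
      (fun W : Subgroup V => Nat.card W) _ hWex
    obtain ⟨g, hg⟩ : ∃ g : P, g ∉ M := by
      by_contra! h; exact hM.1 (eq_top_iff.mpr fun x _ => h x)
    set W' := W.map ((φ g : V ≃* V) : V →* V) with hW'def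
    have hcardW' : Nat.card W' = Nat.card W := card_map_of_injective (φ g).injective
    have hgg : ∀ w ∈ W, φ g (φ g w) ∈ W := fun w hw => by
      rw [← MulAut.mul_apply, ← map_mul]
      exact hW ⟨g * g, mul_self_mem_of_index_two hMidx g⟩ w hw
    have hW' : Inv ψ W' := by
      rintro m _ ⟨w, hw, rfl⟩
      have hm : g⁻¹ * m * g ∈ M := by
        simpa using (inferInstance : M.Normal).conj_mem m m.2 g⁻¹
      refine ⟨φ (g⁻¹ * m * g) w, hW ⟨_, hm⟩ w hw, ?_⟩
      show φ g (φ (g⁻¹ * m * g) w) = φ m (φ g w)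
      rw [← MulAut.mul_apply, ← map_mul, ← MulAut.mul_apply, ← map_mul]
      congr 2
      group
    have hP' : ∀ x : P, x ∈ M ∨ g⁻¹ * x ∈ M := fun x => by
      by_cases hx : x ∈ M
      · exact Or.inl hx
      · refine Or.inr ((mul_mem_iff_of_index_two hMidx).mpr ?_)
        simp [hg, hx]
    have hinvP : ∀ U : Subgroup V, Inv ψ U → (∀ u ∈ U, φ g u ∈ U) → Inv φ U := by
      intro U hU hgU x u hu
      rcases hP' x with hx | hx
      · exact hU ⟨x, hx⟩ u hu
      · have h1 := hgU _ (hU ⟨_, hx⟩ u hu)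
        rwa [MonoidHom.comp_apply, ← MulAut.mul_apply, ← map_mul, Subgroup.coe_subtype,
          mul_inv_cancel_left] at h1
    have hinter : W ⊓ W' = ⊥ := by
      by_contra hne
      have hinv : Inv ψ (W ⊓ W') := fun m w hw => ⟨hW m w hw.1, hW' m w hw.2⟩
      have hle := hWmin (j := W ⊓ W') ⟨hne, fun h => hW1 (top_le_iff.mp (h ▸ inf_le_left)), hinv⟩
        (card_le_of_le inf_le_left)
      have heq : W ≤ W' := inf_eq_left.mp (eq_of_le_of_card_ge inf_le_left hle)
      have heq' : W = W' := eq_of_le_of_card_ge heq hcardW'.le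
      rcases hirr W (hinvP W hW fun u hu => heq' ▸ ⟨u, hu, rfl⟩) with h | h
      · exact hW0 h
      · exact hW1 h
    have hsup : W ⊔ W' = ⊤ := by
      refine (hirr _ (hinvP _ ?_ ?_)).resolve_left fun h => hW0 (le_bot_iff.mp (h ▸ le_sup_left))
      · intro m w hw
        obtain ⟨a, ha, b, hb, rfl⟩ := mem_sup.mp hw
        rw [map_mul]
        exact mul_mem (mem_sup_left (hW m a ha)) (mem_sup_right (hW' m b hb))
      · intro w hw
        obtain ⟨a, ha, b, ⟨c, hc, rfl⟩, rfl⟩ := mem_sup.mp hw
        rw [map_mul]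
        exact mul_mem (mem_sup_right ⟨a, ha, rfl⟩) (mem_sup_left (hgg c hc))
    have hnss : n = Nat.card W * Nat.card W := by
      rw [← hn]
      conv_rhs => arg 2; rw [← hcardW']
      exact ((isComplement'_of_disjoint_and_mul_eq_univ (disjoint_iff.mpr hinter)
        (by rw [← mul_normal, hsup]; rfl)).card_mul).symm
    set s := Nat.card W with hs
    have hs3 : 3 ≤ s := by
      have := hlt1 W hW0
      rcases hoddsub W with ⟨i, hi⟩
      omega
    set K := (restr ψ W hW).ker with hK
    have hbW : Bd s (D (M ⧸ K)) := ih _ (hcardlt W hW1) W (M ⧸ K) (QuotientGroup.kerLift _) rfl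
      ((hP.to_subgroup M).to_quotient K) (hoddsub W) (QuotientGroup.kerLift_injective _)
    have hψinj : Function.Injective ψ := hφ.comp M.subtype_injective
    have hfix : ∀ x : M, (∀ w ∈ W, ψ x w = w) → (∀ w ∈ W', ψ x w = w) → x = 1 := by
      intro x h1 h2
      refine hψinj ?_
      rw [map_one]
      ext v
      obtain ⟨a, ha, b, hb, rfl⟩ := mem_sup.mp (hsup ▸ mem_top v : v ∈ W ⊔ W')
      rw [map_mul, h1 a ha, h2 b hb, MulAut.one_apply]
    have hKinj : Function.Injective ((restr ψ W' hW').comp K.subtype) := by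
      rw [injective_iff_map_eq_one]
      intro x hx
      refine Subtype.ext (hfix x (fun w hw => ?_) fun w hw => ?_)
      · exact congrArg Subtype.val (DFunLike.congr_fun (MonoidHom.mem_ker.mp x.2) (⟨w, hw⟩ : W))
      · exact congrArg Subtype.val (DFunLike.congr_fun hx (⟨w, hw⟩ : W'))
    have hbW' : Bd s (D K) := hcardW' ▸ ih _ (hcardW'.symm ▸ hcardlt W hW1) W' K _ rfl
      ((hP.to_subgroup M).to_subgroup K) (hoddsub W') hKinj
    have hDP : D P ≤ 2 * (D (M ⧸ K) * D K) := by
      refine (D_le_mul M).trans (Nat.mul_le_mul ?_ (D_le_mul K))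
      exact D_le_card.trans (index_eq_card M ▸ hMidx.le)
    by_cases hs' : s = 3
    · -- |V| = 9
      suffices D P ≤ 4 by rw [hnss, hs']; omega
      haveI : Fact (Nat.Prime 3) := ⟨Nat.prime_three⟩
      haveI : IsCyclic W := isCyclic_of_prime_card (p := 3) hs'
      haveI : IsCyclic W' := isCyclic_of_prime_card (p := 3) (hcardW'.trans hs')
      have hsqne : sq P ≠ ⊥ ∨ Nat.card P ≤ 4 := by
        rcases ne_or_eq (sq P) ⊥ with h | h
        · exact Or.inl h
        right
        have hx2 : ∀ x : P, x * x = 1 := fun x => by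
          have := sq_mem x; rwa [h, mem_bot, pow_two] at this
        have hcomm : ∀ x y : P, x * y = y * x := fun x y => by
          calc x * y = (x * y)⁻¹ := eq_inv_of_mul_eq_one_left (hx2 (x * y))
            _ = y * x := by rw [mul_inv_rev, inv_eq_of_mul_eq_one_right (hx2 y),
              inv_eq_of_mul_eq_one_right (hx2 x)]
        have hMinj : Function.Injective (restr ψ W hW) := by
          rw [injective_iff_map_eq_one]
          intro x hx
          have h1 : ∀ w ∈ W, ψ x w = w := fun w hw =>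
            congrArg Subtype.val (DFunLike.congr_fun hx (⟨w, hw⟩ : W))
          refine hfix x h1 ?_
          rintro _ ⟨w, hw, rfl⟩
          show φ x (φ g w) = φ g w
          rw [← MulAut.mul_apply, ← map_mul, hcomm, map_mul, MulAut.mul_apply]
          exact congrArg _ (h1 w hw)
        have h2 := Nat.card_le_card_of_injective _ hMinj
        rw [IsCyclic.card_mulAut, ← hs, hs', Nat.totient_prime Nat.prime_three] at h2
        rw [← card_mul_index M, hMidx]; omega
      have hM4 : Nat.card M ≤ 4 := by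
        rw [← card_mul_index K, mul_comm]
        refine (Nat.mul_le_mul ?_ ?_ : _ ≤ 2 * 2)
        · rw [hK, index_ker]
          refine (card_le_card_group _).trans_eq ?_
          rw [IsCyclic.card_mulAut, ← hs, hs']; decide
        · refine (Nat.card_le_card_of_injective _ hKinj).trans_eq ?_
          rw [IsCyclic.card_mulAut, hcardW', hs']; decide
      have hP8 : Nat.card P ≤ 8 := by rw [← card_mul_index M, hMidx]; omega
      rcases hsqne with h | h
      · have h1 := (sq P).card_mul_index
        have h2 : 2 ≤ Nat.card (sq P) := (one_lt_card_iff_ne_bot _).mpr h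
        show (sq P).index ≤ 4
        nlinarith
      · exact D_le_card.trans h
    · have h1 : 2 * D (M ⧸ K) ≤ s := hbW.resolve_right fun h => h.elim (fun h => hs' h.1) fun h => by omega
      have h2 : 2 * D K ≤ s := hbW'.resolve_right fun h => h.elim (fun h => hs' h.1) fun h => by omega
      rw [hnss]
      nlinarith [Nat.mul_le_mul h1 h2]
  -- a primitive action: every abelian normal subgroup is cyclic
  push Not at himp
  have hne : ∀ (M : Subgroup P), IsCoatom M → ∀ W : Subgroup V, Inv (φ.comp M.subtype) W → W = ⊥ ∨ W = ⊤ := by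
    intro M hM W hW
    by_contra! h
    exact himp M hM W h.1 h.2 hW
  obtain ⟨A, hAn, hAc, hAcent⟩ := CfsgLib.FrobRealize.Quaternion.exists_self_centralizing (p := 2) hP
  have hVne : (⊤ : Subgroup V) ≠ ⊥ := fun h => by
    have := congrArg (fun H : Subgroup V => Nat.card H) h
    simp only [card_top, card_bot, hn] at this
    omega
  have hsqinv : ∀ (e : P), e * e = 1 → ∀ v, φ e (φ e v) = v := fun e he v => by
    rw [← MulAut.mul_apply, ← map_mul, he, map_one, MulAut.one_apply]
  have hord2 : ∀ v : V, v * v = 1 → v = 1 := fun v hv => by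
    rw [← orderOf_eq_one_iff]
    exact Nat.eq_one_of_dvd_coprimes (Nat.coprime_two_left.mpr hcoddV)
      (orderOf_dvd_of_pow_eq_one (by rw [_root_.pow_two, hv])) (_root_.orderOf_dvd_natCard v)
  have hAcyc : IsCyclic A := by
    refine CfsgLib.FrobRealize.EvenSquare.isCyclic_of_few_roots _ A rfl (hP.to_subgroup A)
      (Or.inr fun u v => Subtype.ext (hAc _ u.2 _ v.2)) ?_
    by_contra! hmany
    let E : Subgroup P :=
      { carrier := {e | e ∈ A ∧ e * e = 1}
        one_mem' := ⟨one_mem _, one_mul 1⟩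
        mul_mem' := fun {a b} ha hb => ⟨mul_mem ha.1 hb.1, by
          rw [mul_assoc, ← mul_assoc b, hAc b hb.1 a ha.1, mul_assoc a b b, hb.2, mul_one, ha.2]⟩
        inv_mem' := fun {a} ha => ⟨inv_mem ha.1, by rw [← mul_inv_rev, ha.2, inv_one]⟩ }
    have hE : 2 < Nat.card E := by
      refine lt_of_lt_of_le hmany (Nat.card_le_card_of_injective
        (fun x : {x : A // x ^ 2 = 1} => (⟨(x.1 : P), x.1.2, by
          rw [← _root_.pow_two, ← Subgroup.coe_pow, x.2]; rfl⟩ : E)) fun x y h => ?_)
      exact Subtype.ext (Subtype.ext (congrArg (fun z : E => (z : P)) h))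
    have hEconj : ∀ g : P, ∀ e ∈ E, g * e * g⁻¹ ∈ E := fun g e he => ⟨hAn.conj_mem e he.1 g, by
      rw [show g * e * g⁻¹ * (g * e * g⁻¹) = g * (e * e) * g⁻¹ by group, he.2]; group⟩
    have hEcomm : ∀ a ∈ E, ∀ b ∈ E, ∀ v, φ a (φ b v) = φ b (φ a v) := fun a ha b hb v => by
      rw [← MulAut.mul_apply, ← map_mul, hAc a ha.1 b hb.1, map_mul, MulAut.mul_apply]
    let Fx : Subgroup P → Subgroup V := fun K =>
      { carrier := {v | ∀ k ∈ K, φ k v = v}
        one_mem' := fun k _ => map_one _
        mul_mem' := fun {a b} ha hb k hk => by rw [map_mul, ha k hk, hb k hk]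
        inv_mem' := fun {a} ha k hk => by rw [map_inv, ha k hk] }
    obtain ⟨K, ⟨hKE, hKne⟩, hKmax⟩ := ({K : Subgroup P | K ≤ E ∧ Fx K ≠ ⊥}).toFinite.exists_maximal
      ⟨⊥, bot_le, fun h => hVne (eq_bot_iff.mpr fun v _ =>
        h ▸ (fun k hk => by rw [mem_bot.mp hk, map_one, MulAut.one_apply] : v ∈ Fx ⊥))⟩
    have hinv : ∀ e ∈ E, e ∉ K → ∀ u ∈ Fx K, φ e u = u⁻¹ := by
      intro e he heK u hu
      have hmem : u * φ e u ∈ Fx (K ⊔ zpowers e) := by
        intro k hk
        have hle : K ⊔ zpowers e ≤ (MulAction.stabilizer (MulAut V) (u * φ e u)).comap φ := by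
          refine sup_le (fun k hk => ?_) (zpowers_le.mpr ?_)
          · show φ k (u * φ e u) = u * φ e u
            rw [map_mul, hu k hk, hEcomm k (hKE hk) e he, hu k hk]
          · show φ e (u * φ e u) = u * φ e u
            rw [map_mul, hsqinv e he.2, mul_comm]
        exact hle hk
      by_contra hne'
      have h1 : u * φ e u ≠ 1 := fun h => hne' (eq_inv_of_mul_eq_one_right h)
      have h2 := hKmax ⟨sup_le hKE (zpowers_le.mpr he), fun h => h1 (mem_bot.mp (h ▸ hmem))⟩ le_sup_left
      exact heK (h2 (mem_sup_right (mem_zpowers e)))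
    obtain ⟨u0, hu0, hu01⟩ : ∃ u ∈ Fx K, u ≠ 1 := by
      by_contra! h; exact hKne (eq_bot_iff.mpr fun v hv => mem_bot.mpr (h v hv))
    let N : Subgroup P := normalizer (K : Set P)
    by_cases hNtop : N = ⊤
    · -- K is normal
      have hKnorm : ∀ g : P, ∀ k ∈ K, g * k * g⁻¹ ∈ K := fun g k hk =>
        (mem_normalizer_iff.mp (hNtop ▸ mem_top g : g ∈ N) k).mp hk
      have hUtop : Fx K = ⊤ := by
        refine (hirr (Fx K) ?_).resolve_left hKne
        intro g u hu k hk
        have := hu _ (hKnorm g⁻¹ k hk)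
        rw [inv_inv, map_mul, map_mul, MulAut.mul_apply, MulAut.mul_apply] at this
        have h2 := congrArg (φ g) this
        rwa [← MulAut.mul_apply, ← map_mul, mul_inv_cancel, map_one, MulAut.one_apply] at h2
      have hKbot : ∀ k ∈ K, k = 1 := fun k hk => hφ (MulEquiv.ext fun v => by
        rw [map_one, MulAut.one_apply]; exact (hUtop ▸ mem_top v : v ∈ Fx K) k hk)
      have hE2 : Nat.card E ≤ 2 := by
        by_contra! h3
        obtain ⟨a, b, ha1, hb1, hab⟩ : ∃ a b : E, a ≠ 1 ∧ b ≠ 1 ∧ a ≠ b := by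
          haveI : Fintype E := Fintype.ofFinite _
          rw [Nat.card_eq_fintype_card, ← Finset.card_univ, Finset.two_lt_card] at h3
          obtain ⟨a, -, b, -, c, -, hab, hac, hbc⟩ := h3
          by_cases ha : a = 1
          · exact ⟨b, c, fun h => hab (ha.trans h.symm), fun h => hac (ha.trans h.symm), hbc⟩
          by_cases hb : b = 1
          · exact ⟨a, c, ha, fun h => hbc (hb.trans h.symm), hac⟩
          exact ⟨a, b, ha, hb, hab⟩
        refine hab (Subtype.ext (hφ (MulEquiv.ext fun v => ?_)))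
        have hv : v ∈ Fx K := hUtop ▸ mem_top v
        rw [hinv a a.2 (fun h => ha1 (Subtype.ext (hKbot _ h))) v hv,
          hinv b b.2 (fun h => hb1 (Subtype.ext (hKbot _ h))) v hv]
      omega
    obtain ⟨M, hM, hNM⟩ := (eq_top_or_exists_le_coatom N).resolve_left hNtop
    obtain ⟨g, hg⟩ : ∃ g : P, g ∉ M := by
      by_contra! h; exact hM.1 (eq_top_iff.mpr fun x _ => h x)
    haveI : Fintype E := Fintype.ofFinite _
    let χ : E → ℤ := fun e => if g⁻¹ * (e : P) * g ∈ K then 1 else -1
    let π : V →* V :=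
      { toFun := fun v => ∏ e : E, (φ e v) ^ χ e
        map_one' := by simp
        map_mul' := fun a b => by
          rw [← Finset.prod_mul_distrib]; exact Finset.prod_congr rfl fun e _ => by rw [map_mul, mul_zpow] }
    have hπU' : π (φ g u0) = φ g u0 ^ Nat.card E := by
      show ∏ e : E, (φ e (φ g u0)) ^ χ e = _
      rw [Nat.card_eq_fintype_card, ← Finset.card_univ, ← Finset.prod_const]
      refine Finset.prod_congr rfl fun e _ => ?_
      have hc : φ e (φ g u0) = φ g (φ (g⁻¹ * e * g) u0) := by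
        rw [← MulAut.mul_apply, ← map_mul, ← MulAut.mul_apply, ← map_mul]
        congr 2; group
      rw [hc]
      by_cases h : g⁻¹ * (e : P) * g ∈ K
      · simp only [χ, if_pos h, zpow_one]; rw [hu0 _ h]
      · simp only [χ, if_neg h]
        rw [hinv _ (by simpa using hEconj g⁻¹ e e.2) h u0 hu0, map_inv, zpow_neg_one, inv_inv]
    have hπM : ∀ m ∈ M, ∀ u ∈ Fx K, π (φ m u) = 1 := by
      intro m hm u hu
      let χ' : E → ℤ := fun e => if m⁻¹ * (e : P) * m ∈ K then 1 else -1
      have hval : ∀ e : E, φ e (φ m u) = φ m u ^ χ' e := by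
        intro e
        have hc : φ e (φ m u) = φ m (φ (m⁻¹ * e * m) u) := by
          rw [← MulAut.mul_apply, ← map_mul, ← MulAut.mul_apply, ← map_mul]
          congr 2; group
        rw [hc]
        by_cases h : m⁻¹ * (e : P) * m ∈ K
        · simp only [χ', if_pos h, zpow_one]; rw [hu _ h]
        · simp only [χ', if_neg h]
          rw [hinv _ (by simpa using hEconj m⁻¹ e e.2) h u hu, map_inv, zpow_neg_one]
      obtain ⟨e0, he0⟩ : ∃ e0 : E, χ' e0 * χ e0 = -1 := by
        by_contra! hall
        refine hg ?_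
        have hsame : ∀ e : E, m⁻¹ * (e : P) * m ∈ K ↔ g⁻¹ * (e : P) * g ∈ K := by
          intro e
          have := hall e
          simp only [χ', χ] at this
          split_ifs at this with h1 h2 h2 <;> first | tauto | simp at this
        have : m⁻¹ * g ∈ N := by
          refine mem_normalizer_iff.mpr fun x => ⟨fun hx => ?_, fun hx => ?_⟩
          · have hxE : g * x * g⁻¹ ∈ E := hEconj g x (hKE hx)
            have := (hsame ⟨_, hxE⟩).mpr (by simpa [mul_assoc] using hx)
            simpa [mul_assoc] using this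
          · have hxE : g * x * g⁻¹ ∈ E := by
              have h1 := hEconj m _ (hKE hx)
              rwa [show m * (m⁻¹ * g * x * (m⁻¹ * g)⁻¹) * m⁻¹ = g * x * g⁻¹ by group] at h1
            have := (hsame ⟨_, hxE⟩).mp (by simpa [mul_assoc] using hx)
            simpa [mul_assoc] using this
        have := mul_mem hm (hNM this)
        rwa [mul_inv_cancel_left] at this
      have hhom : ∀ (h : P) (e e' : E), (if h⁻¹ * ((e * e' : E) : P) * h ∈ K then (1 : ℤ) else -1) =
          (if h⁻¹ * (e : P) * h ∈ K then (1 : ℤ) else -1) *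
            (if h⁻¹ * (e' : P) * h ∈ K then (1 : ℤ) else -1) := by
        intro h e e'
        have hmem : ∀ f : E, h⁻¹ * (f : P) * h ∈ E := fun f => by simpa using hEconj h⁻¹ f f.2
        rw [Subgroup.coe_mul, show h⁻¹ * ((e : P) * e') * h = (h⁻¹ * e * h) * (h⁻¹ * e' * h) by group]
        by_cases h1 : h⁻¹ * (e : P) * h ∈ K
        · by_cases h2 : h⁻¹ * (e' : P) * h ∈ K
          · simp [h1, h2, mul_mem h1 h2]
          · simp [h1, h2, (mul_mem_cancel_left h1).not.mpr h2]
        · by_cases h2 : h⁻¹ * (e' : P) * h ∈ K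
          · simp [h1, h2, (mul_mem_cancel_right h2).not.mpr h1]
          · have hin : h⁻¹ * (e : P) * h * (h⁻¹ * (e' : P) * h) ∈ K := by
              by_contra h3
              have := hinv _ (mul_mem (hmem e) (hmem e')) h3 u0 hu0
              rw [map_mul, MulAut.mul_apply, hinv _ (hmem e') h2 u0 hu0, map_inv,
                hinv _ (hmem e) h1 u0 hu0, inv_inv] at this
              exact hu01 (hord2 u0 (by conv_lhs => arg 1; rw [this]
                                       exact inv_mul_cancel u0))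
            simp [h1, h2, hin]
      have hsum : ∑ e : E, χ' e * χ e = 0 := by
        have h := Fintype.sum_equiv (Equiv.mulLeft e0) (fun e : E => χ' (e0 * e) * χ (e0 * e))
          (fun e => χ' e * χ e) (fun e => rfl)
        rw [← h]
        have hflip : ∀ e : E, χ' (e0 * e) * χ (e0 * e) = -(χ' e * χ e) := fun e => by
          simp only [χ', χ] at he0 ⊢
          rw [hhom m e0 e, hhom g e0 e, mul_mul_mul_comm, he0, neg_one_mul]
        rw [Finset.sum_congr rfl fun e _ => hflip e, Finset.sum_neg_distrib]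
        have h' := h.symm
        rw [Finset.sum_congr rfl fun e _ => hflip e, Finset.sum_neg_distrib] at h'
        omega
      show ∏ e : E, (φ e (φ m u)) ^ χ e = 1
      rw [Finset.prod_congr rfl fun e _ => by rw [hval e, ← zpow_mul]]
      have hps : ∀ s : Finset E, ∏ e ∈ s, φ m u ^ (χ' e * χ e) = φ m u ^ ∑ e ∈ s, χ' e * χ e := by
        intro s
        induction s using Finset.induction_on with
        | empty => simp
        | insert a s ha ih' => rw [Finset.prod_insert ha, Finset.sum_insert ha, ih', zpow_add]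
      rw [hps, hsum, zpow_zero]
    let S : Subgroup V := closure {v | ∃ m ∈ M, ∃ u ∈ Fx K, v = φ m u}
    rcases hne M hM S (by
      intro x v hv
      have hle : S ≤ S.comap ((φ x : V ≃* V) : V →* V) := (closure_le _).mpr (by
        rintro _ ⟨m, hm, u, hu, rfl⟩
        exact subset_closure ⟨x * m, mul_mem x.2 hm, u, hu, by rw [map_mul]; rfl⟩)
      exact hle hv) with hS | hS
    · have hu : u0 ∈ S := subset_closure ⟨1, one_mem _, u0, hu0, by rw [map_one, MulAut.one_apply]⟩
      rw [hS, mem_bot] at hu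
      exact hu01 hu
    · have hker : S ≤ π.ker := (closure_le _).mpr (by
        rintro _ ⟨m, hm, u, hu, rfl⟩; exact hπM m hm u hu)
      have h1 : φ g u0 ^ Nat.card E = 1 := hπU' ▸ hker (hS ▸ mem_top _)
      have hEp : IsPGroup 2 E := hP.to_subgroup E
      obtain ⟨i, hi⟩ := hEp.exists_card_eq
      refine hu01 ((φ g).map_eq_one_iff.mp (orderOf_eq_one_iff.mp (Nat.eq_one_of_dvd_coprimes
        ((Nat.coprime_two_left.mpr hcoddV).pow_left i) (hi ▸ orderOf_dvd_of_pow_eq_one h1)
        (_root_.orderOf_dvd_natCard _))))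
  -- arithmetic
  haveI := hAn
  haveI := hAcyc
  let f : P →* MulAut A := MulAut.conjNormal
  have hker : f.ker = A := by
    ext x
    constructor
    · intro hx
      refine hAcent x fun a ha => mul_inv_eq_iff_eq_mul.mp ?_
      exact congrArg Subtype.val (DFunLike.congr_fun (MonoidHom.mem_ker.mp hx) (⟨a, ha⟩ : A))
    · intro hx
      rw [MonoidHom.mem_ker]
      ext a
      show x * (a : P) * x⁻¹ = a
      rw [hAc x hx a a.2, mul_inv_cancel_right]
  obtain ⟨k, hk⟩ := (hP.to_subgroup A).exists_card_eq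
  have hinjq := QuotientGroup.kerLift_injective f
  have hD4 : D (P ⧸ f.ker) ≤ 4 := by
    let e : MulAut A ≃* (ZMod (2 ^ k))ˣ := hk ▸ IsCyclic.mulAutMulEquiv A
    refine (D_comm fun a b => hinjq (e.injective ?_)).trans ?_
    · rw [map_mul, map_mul, map_mul, map_mul, mul_comm]
    · refine le_trans (Nat.card_le_card_of_injective
        (fun x : {x : P ⧸ f.ker // x ^ 2 = 1} => (⟨e (QuotientGroup.kerLift f x.1), by
          rw [← map_pow, ← map_pow, x.2, map_one, map_one]⟩ : {x : (ZMod (2 ^ k))ˣ // x ^ 2 = 1}))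
        fun x y h => Subtype.ext (hinjq (e.injective (congrArg Subtype.val h)))) (units_sq_le k)
  have hqcard : Nat.card (P ⧸ A) ≤ (2 ^ k).totient := by
    rw [← index_eq_card, ← hker, index_ker]
    refine (card_le_card_group _).trans_eq ?_
    rw [IsCyclic.card_mulAut, hk]
  have hDPq : D P ≤ D (P ⧸ A) * 2 := (D_le_mul A).trans (Nat.mul_le_mul_left _ D_cyclic)
  have hDq4 : D (P ⧸ A) ≤ 4 := by
    have h' : ∀ (B C : Subgroup P) [B.Normal] [C.Normal], B = C → D (P ⧸ B) = D (P ⧸ C) := by
      intro B C _ _ h; subst h; rfl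
    rw [← h' f.ker A hker]; exact hD4
  rcases Nat.lt_or_ge n 16 with hn16 | hn16
  swap
  · omega
  -- small orders
  by_cases hcycV : IsCyclic V
  · have hPc : ∀ a b : P, a * b = b * a := fun a b => hφ (by
      apply (IsCyclic.mulAutMulEquiv V).injective
      rw [map_mul, map_mul, map_mul, map_mul, mul_comm])
    have hAtop : ∀ x : P, x ∈ A := fun x => hAcent x fun a _ => hPc x a
    haveI : Subsingleton (P ⧸ A) := (Nat.card_eq_one_iff_unique.mp (by
      rw [← index_eq_card, index_eq_one, eq_top_iff]; exact fun x _ => hAtop x)).1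
    have := (D_eq_one (P := P ⧸ A))
    omega
  obtain ⟨q, hq, hqn⟩ := Nat.exists_prime_and_dvd hn1
  haveI : Fact q.Prime := ⟨hq⟩
  have hVq : IsPGroup q V := by
    let T : Subgroup V := (powMonoidHom q : V →* V).ker
    have hT : T = ⊤ := by
      refine (hirr T fun x v hv => ?_).resolve_left fun h => ?_
      · rw [MonoidHom.mem_ker, powMonoidHom_apply] at hv ⊢
        rw [← map_pow, hv, map_one]
      · obtain ⟨v, hv⟩ := exists_prime_orderOf_dvd_card' (G := V) q (hn ▸ hqn)
        have : v ∈ T := by rw [MonoidHom.mem_ker, powMonoidHom_apply, ← hv, pow_orderOf_eq_one]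
        rw [h, mem_bot] at this
        rw [this, orderOf_one] at hv
        exact hq.ne_one hv.symm
    exact fun v => ⟨1, by
      rw [pow_one]
      exact (hT ▸ mem_top v : v ∈ T)⟩
  obtain ⟨j, hj⟩ := hVq.exists_card_eq
  rw [hn] at hj
  have hj2 : 2 ≤ j := by
    by_contra! h
    interval_cases j
    · simp at hj; omega
    · exact hcycV (isCyclic_of_prime_card (p := q) (hn.trans (hj.trans (pow_one q))))
  have hq3 : q = 3 ∧ j = 2 := by
    have hq2 : q ≠ 2 := by
      rintro rfl
      rw [hj, Nat.odd_iff] at hodd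
      have := dvd_pow_self 2 (show j ≠ 0 by omega)
      omega
    have : q ^ 2 ≤ n := hj ▸ Nat.pow_le_pow_right hq.pos hj2
    have hq3' : q = 3 := by
      have := hq.two_le
      by_contra hne'
      have : 4 ^ 2 ≤ q ^ 2 := Nat.pow_le_pow_left (by omega) 2
      omega
    subst hq3'
    refine ⟨rfl, ?_⟩
    by_contra hne'
    have : 3 ^ 3 ≤ n := hj ▸ Nat.pow_le_pow_right (by norm_num) (by omega)
    omega
  obtain ⟨rfl, rfl⟩ := hq3
  have hn9 : n = 9 := by rw [hj]; norm_num
  -- |P| ≤ 16
  obtain ⟨v0, hv0⟩ := exists_prime_orderOf_dvd_card' (G := V) 3 (hn ▸ hqn)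
  let H : Subgroup P := (MulAction.stabilizer (MulAut V) v0).comap φ
  have hH2 : Nat.card H ≤ 2 := by
    have hT : Inv (φ.comp H.subtype) (zpowers v0) := by
      intro h w hw
      obtain ⟨i, rfl⟩ := mem_zpowers_iff.mp hw
      rw [map_zpow, show (φ.comp H.subtype) h v0 = v0 from h.2]
      exact zpow_mem (mem_zpowers v0) i
    have hinj : Function.Injective (quot (φ.comp H.subtype) (zpowers v0) hT) := by
      rw [injective_iff_map_eq_one]
      intro x hx
      refine faithful_series (hP.to_subgroup H) hcoddV (hφ.comp H.subtype_injective) hT ?_ hx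
      ext ⟨w, hw⟩
      obtain ⟨i, rfl⟩ := mem_zpowers_iff.mp hw
      show (φ.comp H.subtype) x (v0 ^ i) = v0 ^ i
      rw [map_zpow, show (φ.comp H.subtype) x v0 = v0 from x.2]
    have h3 : Nat.card (V ⧸ zpowers v0) = 3 := by
      have := (zpowers v0).card_mul_index
      rw [Nat.card_zpowers, hv0, index_eq_card, hn, hn9] at this
      omega
    haveI : IsCyclic (V ⧸ zpowers v0) := isCyclic_of_prime_card (p := 3) h3
    refine (Nat.card_le_card_of_injective _ hinj).trans_eq ?_
    rw [IsCyclic.card_mulAut, h3]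
    decide
  have hHidx : H.index ≤ 8 := by
    have h1 : H.index ≤ Nat.card {v : V // v ≠ 1} := by
      rw [index_eq_card]
      refine Nat.card_le_card_of_injective
        (Quotient.lift (fun x : P => (⟨φ x v0, fun h => by
          rw [(φ x).map_eq_one_iff] at h; rw [h, orderOf_one] at hv0; omega⟩ : {v : V // v ≠ 1})) ?_) ?_
      · intro a b hab
        replace hab := QuotientGroup.leftRel_apply.mp hab
        refine Subtype.ext ?_
        show φ a v0 = φ b v0
        conv_rhs => rw [show b = a * (a⁻¹ * b) by group, map_mul, MulAut.mul_apply,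
          show φ (a⁻¹ * b) v0 = v0 from hab]
      · intro a b h
        induction a using Quotient.inductionOn with | _ a =>
        induction b using Quotient.inductionOn with | _ b =>
        refine Quotient.sound (QuotientGroup.leftRel_apply.mpr ?_)
        show φ (a⁻¹ * b) v0 = v0
        have h' : φ a v0 = φ b v0 := congrArg Subtype.val h
        rw [map_mul, MulAut.mul_apply, ← h', ← MulAut.mul_apply, ← map_mul, inv_mul_cancel, map_one,
          MulAut.one_apply]
    haveI : Fintype V := Fintype.ofFinite V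
    rw [Nat.card_eq_fintype_card (α := {v : V // v ≠ 1}), Fintype.card_subtype_compl,
      Fintype.card_subtype_eq, ← Nat.card_eq_fintype_card, hn, hn9] at h1
    exact h1
  have hP16 : Nat.card P ≤ 16 := by
    rw [← card_mul_index H]
    exact (Nat.mul_le_mul hH2 hHidx).trans (by norm_num)
  have hq2 : Nat.card (P ⧸ A) ≤ 2 := by
    rcases Nat.lt_or_ge k 3 with hk3 | hk3
    · refine hqcard.trans ?_
      interval_cases k <;> decide
    · have h8 : 2 ^ 3 ≤ 2 ^ k := Nat.pow_le_pow_right (by norm_num) hk3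
      have := A.card_mul_index
      rw [index_eq_card, hk] at this
      nlinarith
  have := D_le_card (P := P ⧸ A)
  omega

end CfsgLib.PGroup.TwoActionBound
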