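import Mathlib

/-! Two primes in `[m/2, m]` whose difference is at least four: there are at least three primes in
`(n, 2n]` for large `n`, by the Erdős central binomial coefficient argument. -/

set_option autoImplicit false

namespace CfsgLib.PGroup.TwoPrimes

open Nat Finset

theorem centralBinom_le_of_few_primes (n : ℕ) (hn : 2 < n)
    (hfew : ((range (2 * n + 1)).filter fun p : ℕ => p.Prime ∧ n < p).card ≤ 2) :
    centralBinom n ≤ (2 * n) ^ (sqrt (2 * n) + 2) * 4 ^ (2 * n / 3) := by
  have n2 : 1 ≤ 2 * n := by omega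
  let f : ℕ → ℕ := fun x => x ^ n.centralBinom.factorization x
  have hle : ∀ p, f p ≤ 2 * n := fun p => pow_factorization_choose_le (by omega)
  let S := (range (2 * n + 1)).filter Nat.Prime
  have e1 : centralBinom n = ∏ p ∈ S, f p := by
    rw [prod_filter_of_ne]
    · exact n.prod_pow_factorization_centralBinom.symm
    · intro p _ h
      contrapose h; dsimp only [f]
      rw [factorization_eq_zero_of_not_prime n.centralBinom h, _root_.pow_zero]
  let A := (range (2 * n + 1)).filter fun p : ℕ => p.Prime ∧ (p ≤ sqrt (2 * n) ∨ n < p)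
  let B := (range (2 * n + 1)).filter fun p : ℕ => p.Prime ∧ sqrt (2 * n) < p ∧ p ≤ 2 * n / 3
  have hA : A.card ≤ sqrt (2 * n) + 2 := by
    calc A.card ≤ (Icc 1 (sqrt (2 * n)) ∪
          ((range (2 * n + 1)).filter fun p : ℕ => p.Prime ∧ n < p)).card := by
          refine card_le_card fun p hp => ?_
          obtain ⟨h1, h2, h3⟩ := mem_filter.1 hp
          rcases h3 with h3 | h3
          · exact mem_union_left _ (mem_Icc.2 ⟨h2.one_lt.le, h3⟩)
          · exact mem_union_right _ (mem_filter.2 ⟨h1, h2, h3⟩)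
      _ ≤ (Icc 1 (sqrt (2 * n))).card + _ := card_union_le _ _
      _ ≤ sqrt (2 * n) + 2 := by rw [Nat.card_Icc]; omega
  have hAB : Disjoint A B := by
    rw [disjoint_left]
    intro p hp hp'
    obtain ⟨-, -, h⟩ := mem_filter.1 hp
    obtain ⟨-, -, h', h''⟩ := mem_filter.1 hp'
    omega
  have e2 : ∏ p ∈ S, f p = ∏ p ∈ A ∪ B, f p := by
    refine (prod_subset ?_ ?_).symm
    · intro p hp
      rcases mem_union.1 hp with h | h <;> exact mem_filter.2 ⟨(mem_filter.1 h).1, (mem_filter.1 h).2.1⟩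
    · intro p hp hnp
      obtain ⟨h1, h2⟩ := mem_filter.1 hp
      have : ¬ (p ≤ sqrt (2 * n) ∨ n < p) := fun h =>
        hnp (mem_union_left _ (mem_filter.2 ⟨h1, h2, h⟩))
      have h4 : ¬ p ≤ 2 * n / 3 := fun h =>
        hnp (mem_union_right _ (mem_filter.2 ⟨h1, h2, by omega, h⟩))
      show p ^ _ = 1
      rw [factorization_centralBinom_of_two_mul_self_lt_three_mul hn (by omega) (by omega),
        _root_.pow_zero]
  rw [e1, e2, prod_union hAB]
  apply mul_le_mul'
  · refine (prod_le_prod' fun p _ => hle p).trans ?_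
    rw [prod_const]
    exact pow_right_mono₀ n2 hA
  · refine le_trans ?_ (primorial_le_four_pow (2 * n / 3))
    refine (prod_le_prod' (g := fun p => p) fun p hp => ?_).trans ?_
    · obtain ⟨-, h2, h3, -⟩ := mem_filter.1 hp
      refine (pow_right_mono₀ h2.one_lt.le ?_).trans (pow_one p).le
      exact Nat.factorization_choose_le_one (sqrt_lt'.mp h3)
    · refine prod_le_prod_of_subset_of_one_le' ?_ ?_
      · intro p hp
        obtain ⟨-, h2, -, h4⟩ := mem_filter.1 hp
        exact mem_filter.2 ⟨mem_range.2 (by omega), h2⟩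
      · exact fun p hp _ => (mem_filter.1 hp).2.one_lt.le

theorem eight_mul_le_two_pow : ∀ k : ℕ, 7 ≤ k → 8 * k ≤ 2 ^ (k - 1) := by
  intro k hk
  induction k, hk using Nat.le_induction with
  | base => norm_num
  | succ k hk ih =>
    rw [show k + 1 - 1 = (k - 1) + 1 by omega, pow_succ]
    omega

theorem main_inequality {n : ℕ} (hn : 2048 ≤ n) :
    n * ((2 * n) ^ (sqrt (2 * n) + 2) * 4 ^ (2 * n / 3)) ≤ 4 ^ n := by
  set s := sqrt (2 * n)
  have hs : 64 ≤ s := Nat.le_sqrt.2 (by omega)
  set j := Nat.log 2 s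
  have hj : 6 ≤ j := Nat.le_log_of_pow_le (by norm_num) (by norm_num; omega)
  have h2j : 2 ^ j ≤ s := Nat.pow_log_le_self 2 (by omega)
  have hsj : s < 2 ^ (j + 1) := Nat.lt_pow_succ_log_self (by norm_num) s
  have hjk : 8 * (j + 1) ≤ 2 ^ j := by simpa using eight_mul_le_two_pow (j + 1) (by omega)
  have h2n : 2 * n ≤ 4 ^ (j + 1) := by
    have h1 : 2 * n < (s + 1) * (s + 1) := Nat.lt_succ_sqrt (2 * n)
    have h2 : (s + 1) * (s + 1) ≤ 2 ^ (j + 1) * 2 ^ (j + 1) := Nat.mul_le_mul (by omega) (by omega)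
    have h3 : (4 : ℕ) ^ (j + 1) = 2 ^ (j + 1) * 2 ^ (j + 1) := by rw [← mul_pow]; norm_num
    omega
  have key : (j + 1) * (s + 3) + 2 * n / 3 ≤ n := by
    have h1 : s * s ≤ 2 * n := Nat.sqrt_le (2 * n)
    have h2 : 8 * ((j + 1) * (s + 3)) ≤ s * (s + 3) := by
      rw [← mul_assoc]; exact Nat.mul_le_mul_right _ (by omega)
    have h3 : 64 * s ≤ s * s := Nat.mul_le_mul_right s hs
    rw [mul_add s s 3] at h2
    omega
  calc n * ((2 * n) ^ (s + 2) * 4 ^ (2 * n / 3))
      ≤ 4 ^ (j + 1) * ((4 ^ (j + 1)) ^ (s + 2) * 4 ^ (2 * n / 3)) := by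
        gcongr; omega
    _ = 4 ^ ((j + 1) * (s + 3) + 2 * n / 3) := by
        rw [← pow_mul, ← pow_add, ← pow_add]; congr 1; ring
    _ ≤ 4 ^ n := pow_le_pow_right₀ (by norm_num) key

/-- At least three primes in `(n, 2n]`. -/
theorem three_primes (n : ℕ) (hn : 2048 ≤ n) :
    ∃ a b c : ℕ, a.Prime ∧ b.Prime ∧ c.Prime ∧ n < a ∧ a < b ∧ b < c ∧ c ≤ 2 * n := by
  by_cases h : ((range (2 * n + 1)).filter fun p : ℕ => p.Prime ∧ n < p).card ≤ 2
  · exfalso
    have h1 := Nat.four_pow_lt_mul_centralBinom n (by omega)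
    have h2 := centralBinom_le_of_few_primes n (by omega) h
    have h3 := (Nat.mul_le_mul_left n h2).trans (main_inequality hn)
    omega
  · obtain ⟨a, ha, b, hb, c, hc, hab, hac, hbc⟩ := two_lt_card.1 (not_le.1 h)
    simp only [mem_filter, mem_range] at ha hb hc
    rcases lt_trichotomy a b with h1 | h1 | h1
    · rcases lt_trichotomy b c with h2 | h2 | h2
      · exact ⟨a, b, c, ha.2.1, hb.2.1, hc.2.1, ha.2.2, h1, h2, by omega⟩
      · exact absurd h2 hbc
      · rcases lt_trichotomy a c with h3 | h3 | h3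
        · exact ⟨a, c, b, ha.2.1, hc.2.1, hb.2.1, ha.2.2, h3, h2, by omega⟩
        · exact absurd h3 hac
        · exact ⟨c, a, b, hc.2.1, ha.2.1, hb.2.1, hc.2.2, h3, h1, by omega⟩
    · exact absurd h1 hab
    · rcases lt_trichotomy a c with h2 | h2 | h2
      · exact ⟨b, a, c, hb.2.1, ha.2.1, hc.2.1, hb.2.2, h1, h2, by omega⟩
      · exact absurd h2 hac
      · rcases lt_trichotomy b c with h3 | h3 | h3
        · exact ⟨b, c, a, hb.2.1, hc.2.1, ha.2.1, hb.2.2, h3, h2, by omega⟩
        · exact absurd h3 hbc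
        · exact ⟨c, b, a, hc.2.1, hb.2.1, ha.2.1, hc.2.2, h3, h1, by omega⟩

/-- The condition on a pair of primes used for two-element generation. -/
def Good (m p q : ℕ) : Prop :=
  p.Prime ∧ q.Prime ∧ m ≤ 2 * p ∧ p + 4 ≤ q ∧ q ≤ m ∧ (q + 3 ≤ m ∨ m < 2 * p)

theorem exists_good (m : ℕ) (hm : 11 ≤ m) (h15 : m ≠ 15) (h16 : m ≠ 16) :
    ∃ p q, Good m p q := by
  rcases le_or_gt 4098 m with h | h
  · obtain ⟨a, b, c, ha, hb, hc, hna, hab, hbc, hc2⟩ := three_primes (m / 2) (by omega)
    have hae := ha.eq_two_or_odd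
    have hbe := hb.eq_two_or_odd
    have hce := hc.eq_two_or_odd
    exact ⟨a, c, ha, hc, by omega, by omega, by omega, Or.inr (by omega)⟩
  · have step : ∀ p q : ℕ, p.Prime → q.Prime → p + 4 ≤ q → q ≤ m → m < 2 * p →
        ∃ p q, Good m p q := fun p q h1 h2 h3 h4 h5 =>
      ⟨p, q, h1, h2, by omega, h3, h4, Or.inr h5⟩
    rcases lt_or_ge m 15 with h1 | h1
    · exact ⟨7, 11, by norm_num, by norm_num, by omega, le_rfl, by omega, by omega⟩
    rcases lt_or_ge m 26 with h2 | h2
    · exact step 13 17 (by norm_num) (by norm_num) le_rfl (by omega) (by omega)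
    rcases lt_or_ge m 38 with h3 | h3
    · exact step 19 23 (by norm_num) (by norm_num) le_rfl (by omega) (by omega)
    rcases lt_or_ge m 62 with h4 | h4
    · exact step 31 37 (by norm_num) (by norm_num) (by omega) (by omega) (by omega)
    rcases lt_or_ge m 106 with h5 | h5
    · exact step 53 61 (by norm_num) (by norm_num) (by omega) (by omega) (by omega)
    rcases lt_or_ge m 194 with h6 | h6
    · exact step 97 103 (by norm_num) (by norm_num) (by omega) (by omega) (by omega)
    rcases lt_or_ge m 362 with h7 | h7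
    · exact step 181 191 (by norm_num) (by norm_num) (by omega) (by omega) (by omega)
    rcases lt_or_ge m 698 with h8 | h8
    · exact step 349 359 (by norm_num) (by norm_num) (by omega) (by omega) (by omega)
    rcases lt_or_ge m 1366 with h9 | h9
    · exact step 683 691 (by norm_num) (by norm_num) (by omega) (by omega) (by omega)
    rcases lt_or_ge m 2654 with h10 | h10
    · exact step 1327 1361 (by norm_num) (by norm_num) (by omega) (by omega) (by omega)
    · exact step 2633 2647 (by norm_num) (by norm_num) (by omega) (by omega) (by omega)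

end CfsgLib.PGroup.TwoPrimes
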