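import Cfsg.Agent.Lib.PGroup.TwistedModule
import Cfsg.Agent.Lib.Involution.U34Sylow
import Mathlib.GroupTheory.Perm.Cycle.Type
import Mathlib.RingTheory.IntegralDomain

set_option autoImplicit false

/-!
The trace cocycle of the Hermitian space of dimension three over the field with sixteen elements.
-/

namespace CfsgLib.PGroup.U34Datum

open Matrix Polynomial TwistedAlgebra

variable {F : Type*} [Field F] [Fintype F]

section
variable (hF : Fintype.card F = 16)
include hF

lemma pow16 (x : F) : x ^ 16 = x := by rw [← hF]; exact FiniteField.pow_card x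

lemma add_self (x : F) : x + x = 0 := by
  have : Fact (Fintype.card F = 16) := ⟨hF⟩
  exact CfsgLib.Involution.U34Sylow.add_self x

lemma two0 : (2 : F) = 0 := by rw [← one_add_one_eq_two]; exact add_self hF 1

lemma add_sq' (x y : F) : (x + y) ^ 2 = x ^ 2 + y ^ 2 := by
  linear_combination (x * y) * two0 hF

lemma add4 (x y : F) : (x + y) ^ 4 = x ^ 4 + y ^ 4 := by
  rw [show 4 = 2 * 2 from rfl, pow_mul, pow_mul, pow_mul, add_sq' hF, add_sq' hF]

omit hF in
/-- The trace to the prime field. -/
def tr (z : F) : F := z + z ^ 2 + z ^ 4 + z ^ 8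

lemma tr_add (x y : F) : tr (x + y) = tr x + tr y := by
  simp only [tr]
  rw [show (x + y) ^ 8 = ((x + y) ^ 4) ^ 2 by ring, add4 hF, add_sq' hF, add_sq' hF]
  ring

lemma tr_pow_four (x : F) : tr (x ^ 4) = tr x := by
  simp only [tr, ← pow_mul]
  norm_num
  rw [pow16 hF, show x ^ 32 = (x ^ 16) ^ 2 by ring, pow16 hF]
  ring

lemma tr_zero_or_one (x : F) : tr x = 0 ∨ tr x = 1 := by
  have h : tr x * (tr x - 1) = 0 := by
    have h1 : tr x ^ 2 = tr x := by
      simp only [tr]
      rw [add_sq' hF, add_sq' hF, add_sq' hF, ← pow_mul, ← pow_mul, ← pow_mul]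
      norm_num
      rw [pow16 hF]
      ring
    linear_combination h1
  rcases mul_eq_zero.1 h with h1 | h1
  · exact Or.inl h1
  · exact Or.inr (sub_eq_zero.1 h1)

lemma exists_tr : ∃ z : F, tr z ≠ 0 := by
  by_contra! h
  have h1 : (X + X ^ 2 + X ^ 4 + X ^ 8 : F[X]) = 0 := by
    refine Polynomial.eq_zero_of_natDegree_lt_card_of_eval_eq_zero _
      Function.injective_id (fun z => by simpa [tr] using h z) ?_
    exact lt_of_le_of_lt (show _ ≤ 8 by compute_degree) (by omega)
  have := congrArg (Polynomial.coeff · 1) h1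
  simp [coeff_X, coeff_X_pow] at this

lemma exists_theta : ∃ θ : F, θ + θ ^ 4 ≠ 0 := by
  by_contra! h
  have h1 : (X + X ^ 4 : F[X]) = 0 := by
    refine Polynomial.eq_zero_of_natDegree_lt_card_of_eval_eq_zero _
      Function.injective_id (fun z => by simpa using h z) ?_
    exact lt_of_le_of_lt (show _ ≤ 4 by compute_degree) (by omega)
  have := congrArg (Polynomial.coeff · 1) h1
  simp [coeff_X, coeff_X_pow] at this

lemma exists_omega : ∃ ω : F, ω ^ 5 = 1 ∧ ω ≠ 1 := by
  classical
  have : Fact (Nat.Prime 5) := ⟨Nat.prime_five⟩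
  obtain ⟨u, hu⟩ := exists_prime_orderOf_dvd_card 5
    (show 5 ∣ Fintype.card Fˣ by rw [Fintype.card_units, hF]; norm_num)
  refine ⟨u, by rw [← Units.val_pow_eq_pow_val, ← hu, pow_orderOf_eq_one, Units.val_one], fun h => ?_⟩
  rw [Units.val_eq_one.1 h, orderOf_one] at hu
  exact absurd hu (by norm_num)

end

/-- The sign of a field element. -/
noncomputable def sgn (z : F) : ℤ := by classical exact if tr z = 0 then 1 else -1

lemma sgn_add (hF : Fintype.card F = 16) (x y : F) : sgn (x + y) = sgn x * sgn y := by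
  unfold sgn
  rw [tr_add hF]
  rcases tr_zero_or_one hF x with h | h <;> rcases tr_zero_or_one hF y with h' | h' <;>
    simp [h, h', one_add_one_eq_two, two0 hF]

lemma herm_add_left (u v w : Fin 3 → F) :
    Cfsg.hermForm 3 F 4 (u + v) w = Cfsg.hermForm 3 F 4 u w + Cfsg.hermForm 3 F 4 v w := by
  simp [Cfsg.hermForm, add_mul, Finset.sum_add_distrib]

lemma herm_add_right (hF : Fintype.card F = 16) (u v w : Fin 3 → F) :
    Cfsg.hermForm 3 F 4 u (v + w) = Cfsg.hermForm 3 F 4 u v + Cfsg.hermForm 3 F 4 u w := by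
  simp [Cfsg.hermForm, add4 hF, mul_add, Finset.sum_add_distrib]

lemma herm_smul (c : F) (u v : Fin 3 → F) :
    Cfsg.hermForm 3 F 4 (c • u) (c • v) = c ^ 5 * Cfsg.hermForm 3 F 4 u v := by
  simp only [Cfsg.hermForm, Pi.smul_apply, smul_eq_mul, mul_pow, Finset.mul_sum]
  exact Finset.sum_congr rfl fun i _ => by ring

lemma herm_swap (hF : Fintype.card F = 16) (u v : Fin 3 → F) :
    Cfsg.hermForm 3 F 4 v u = Cfsg.hermForm 3 F 4 u v ^ 4 := by
  simp only [Cfsg.hermForm, Fin.sum_univ_three, add4 hF, mul_pow, ← pow_mul]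
  norm_num [pow16 hF]
  ring

/-- The parameters: a trace twist and a norm-one scalar. -/
structure Params (F : Type*) [Field F] [Fintype F] where
  card : Fintype.card F = 16
  θ : F
  hθ : θ + θ ^ 4 ≠ 0
  ω : F
  hω5 : ω ^ 5 = 1
  hω : ω ≠ 1

/-- Parameters exist. -/
noncomputable def params (hF : Fintype.card F = 16) : Params F where
  card := hF
  θ := (exists_theta hF).choose
  hθ := (exists_theta hF).choose_spec
  ω := (exists_omega hF).choose
  hω5 := (exists_omega hF).choose_spec.1
  hω := (exists_omega hF).choose_spec.2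

variable (P : Params F)

/-- The sign cocycle. -/
noncomputable def sgnCocycle : Sgn (Fin 3 → F) where
  char2 v := funext fun i => add_self P.card (v i)
  ε u v := sgn (P.θ * Cfsg.hermForm 3 F 4 u v)
  pm a b := by unfold sgn; split_ifs <;> simp
  add_left a b c := by rw [herm_add_left, mul_add, sgn_add P.card]
  add_right a b c := by rw [herm_add_right P.card, mul_add, sgn_add P.card]
  nondeg v hv := by
    classical
    obtain ⟨i, hi⟩ := Function.ne_iff.1 hv
    obtain ⟨z₀, hz₀⟩ := exists_tr P.card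
    set α := P.θ + P.θ ^ 4
    refine ⟨Pi.single i ((z₀ / (α * v i)) ^ 4), fun h => hz₀ ?_⟩
    set H := Cfsg.hermForm 3 F 4 v (Pi.single i ((z₀ / (α * v i)) ^ 4)) with hH
    have hHv : H = v i * (z₀ / (α * v i)) := by
      rw [hH, Cfsg.hermForm, Finset.sum_eq_single i]
      · rw [Pi.single_eq_same, ← pow_mul, show 4 * 4 = 16 from rfl, pow16 P.card]
      · intro b _ hb; simp [hb]
      · simp
    have htr : tr z₀ = tr (P.θ * H) + tr (P.θ * H ^ 4) := by
      have h1 : tr (P.θ * H ^ 4) = tr (P.θ ^ 4 * H) := by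
        rw [← tr_pow_four P.card (P.θ * H ^ 4), mul_pow, ← pow_mul, show 4 * 4 = 16 from rfl,
          pow16 P.card]
      rw [h1, ← tr_add P.card, ← add_mul, hHv]
      congr 1
      rw [← mul_assoc, mul_div_assoc', mul_div_cancel_left₀ _ (mul_ne_zero P.hθ hi)]
    rw [herm_swap P.card v, ← hH] at h
    unfold sgn at h
    rcases tr_zero_or_one P.card (P.θ * H) with h1 | h1 <;>
      rcases tr_zero_or_one P.card (P.θ * H ^ 4) with h2 | h2 <;>
      simp [h1, h2, one_add_one_eq_two, two0 P.card] at h htr <;> exact htr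

lemma omega_ne_zero : P.ω ≠ 0 := fun h => by simpa [h] using P.hω5

/-- Multiplication by the scalar. -/
noncomputable def lamPerm : Equiv.Perm (Fin 3 → F) :=
  (LinearEquiv.smulOfNeZero F (Fin 3 → F) P.ω (omega_ne_zero P)).toEquiv

lemma lamPerm_apply (v : Fin 3 → F) : lamPerm P v = P.ω • v := rfl

lemma lamPerm_pow (n : ℕ) (v : Fin 3 → F) : (lamPerm P ^ n) v = P.ω ^ n • v := by
  induction n generalizing v with
  | zero => simp
  | succ n ih => rw [pow_succ, Equiv.Perm.mul_apply, ih, lamPerm_apply, smul_smul, pow_succ]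

lemma orderOf_lamPerm : orderOf (lamPerm P) = 5 := by
  have : Fact (Nat.Prime 5) := ⟨Nat.prime_five⟩
  refine orderOf_eq_prime (Equiv.ext fun v => ?_) fun h => P.hω ?_
  · rw [lamPerm_pow, P.hω5, one_smul]; rfl
  · simpa [lamPerm_apply] using congrFun (Equiv.congr_fun h (fun _ => (1 : F))) 0

/-- The datum. -/
noncomputable def datum : Datum (Fin 3 → F) where
  toSgn := sgnCocycle P
  card_eq := by simp [P.card]
  lam := lamPerm P
  lam_good := ⟨fun u v => smul_add P.ω u v, fun u v => by
    show sgn (P.θ * Cfsg.hermForm 3 F 4 (P.ω • u) (P.ω • v)) = _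
    rw [herm_smul, P.hω5, one_mul]
    rfl⟩
  card_lam := by rw [Nat.card_zpowers, orderOf_lamPerm]
  lam_fpf x hx hne v hv := by
    obtain ⟨n, rfl⟩ := mem_powers_iff_mem_zpowers.2 hx
    simp only at hne hv
    rw [lamPerm_pow] at hv
    by_contra hv0
    refine hne (Equiv.ext fun w => ?_)
    rw [lamPerm_pow, smul_left_injective F hv0 (hv.trans (one_smul F v).symm), one_smul]
    rfl

/-- The natural permutation representation. -/
noncomputable def rho : Cfsg.SU 3 F 4 →* Equiv.Perm (Fin 3 → F) where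
  toFun g := (Matrix.SpecialLinearGroup.toLin' g.1).toEquiv
  map_one' := Equiv.ext fun v => by simp
  map_mul' a b := Equiv.ext fun v => by simp

omit [Fintype F] in
lemma rho_apply (g : Cfsg.SU 3 F 4) (v : Fin 3 → F) :
    rho g v = (g.1.1 : Matrix (Fin 3) (Fin 3) F) *ᵥ v := rfl

omit [Fintype F] in
lemma rho_injective : Function.Injective (rho (F := F)) := fun a b h =>
  Subtype.ext (Subtype.ext (Matrix.toLin'.injective (LinearMap.ext fun v => Equiv.congr_fun h v)))

lemma goodC (g : Cfsg.SU 3 F 4) : (datum P).GoodC (rho g) :=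
  ⟨⟨fun u v => Matrix.mulVec_add _ u v, fun u v => by
    show sgn (P.θ * Cfsg.hermForm 3 F 4 (rho g u) (rho g v)) = sgn (P.θ * Cfsg.hermForm 3 F 4 u v)
    rw [show Cfsg.hermForm 3 F 4 (rho g u) (rho g v) = Cfsg.hermForm 3 F 4 u v from g.2 u v]⟩,
   Equiv.ext fun v => Matrix.mulVec_smul _ P.ω v⟩

/-- An element of order thirteen has no nonzero fixed vector. -/
lemma fixed_eq_zero (hF : Fintype.card F = 16) {g : Cfsg.SU 3 F 4} (hg : g ^ 13 = 1) (hne : g ≠ 1)
    {v : Fin 3 → F} (hv : rho g v = v) : v = 0 := by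
  classical
  have : Fact (Nat.Prime 13) := ⟨by norm_num⟩
  by_contra hv0
  set f : (Fin 3 → F) →ₗ[F] (Fin 3 → F) := Matrix.toLin' (g.1.1 : Matrix (Fin 3) (Fin 3) F)
  have hf : ∀ u, f u = rho g u := fun u => Matrix.toLin'_apply _ u
  set C := LinearMap.range (f - 1)
  have hW : v ∈ LinearMap.ker (f - 1) := by simp [hf, hv]
  have hWpos : 1 ≤ Module.finrank F (LinearMap.ker (f - 1)) :=
    Submodule.one_le_finrank_iff.2 fun h => hv0 (by simpa [h] using hW)
  have hsum := LinearMap.finrank_range_add_finrank_ker (f - 1)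
  rw [Module.finrank_fin_fun] at hsum
  have hCinv : ∀ c, rho g c ∈ C ↔ c ∈ C := by
    intro c
    have h1 : ∀ u, (f - 1) u ∈ C := fun u => LinearMap.mem_range_self _ u
    have h2 := h1 c
    simp only [LinearMap.sub_apply, Module.End.one_apply, hf] at h2
    constructor
    · intro h3; simpa using sub_mem h3 h2
    · intro h3; simpa using add_mem h2 h3
  set σ : Equiv.Perm C := (rho g).subtypePerm hCinv
  have hσ : σ ^ 13 = 1 := by
    rw [Equiv.Perm.subtypePerm_pow]
    refine Equiv.ext fun c => Subtype.ext ?_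
    show (rho g ^ 13) (c : Fin 3 → F) = c
    rw [← map_pow, hg, map_one]
    rfl
  have hfix : ∀ c : C, σ c = c → c = 0 := by
    rintro ⟨c, u, rfl⟩ hc
    have hc' : rho g ((f - 1) u) = (f - 1) u := congrArg Subtype.val hc
    have key : ∀ n : ℕ, (rho g ^ n) u = u + n • (f - 1) u := by
      intro n
      induction n with
      | zero => simp
      | succ n ih =>
        rw [pow_succ', Equiv.Perm.mul_apply, ih, ← hf, map_add, map_nsmul, hf, hf, hc', succ_nsmul']
        simp only [LinearMap.sub_apply, Module.End.one_apply, hf]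
        abel
    have h13 := key 13
    rw [← map_pow, hg, map_one] at h13
    refine Subtype.ext ?_
    show (f - 1) u = 0
    have h2 : ∀ w : Fin 3 → F, w + w = 0 := fun w => funext fun i => add_self hF (w i)
    have h14 : 13 • (f - 1) u = (f - 1) u := by
      rw [show (13 : ℕ) = 2 * 6 + 1 from rfl, add_nsmul, mul_nsmul', two_nsmul, h2, one_nsmul,
        zero_add]
    rw [h14] at h13
    exact left_eq_add.1 h13
  let e : Function.End C := ⇑σ
  have hend : ∀ k : ℕ, e ^ k = ⇑(σ ^ k) := by
    intro k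
    induction k with
    | zero => rfl
    | succ k ih => rw [pow_succ, ih, pow_succ]; rfl
  have hmod := Equiv.Perm.card_fixedPoints_modEq (p := 13) (n := 1) (f := e)
    ((hend _).trans (by rw [pow_one, hσ]; rfl))
  rw [← Nat.card_eq_fintype_card, ← Nat.card_eq_fintype_card,
    show Nat.card (Function.fixedPoints (e : C → C)) = 1 from Nat.card_eq_one_iff_exists.2 ⟨⟨0, Subtype.ext (by
      show rho g 0 = 0
      rw [← hf, map_zero])⟩, fun c => Subtype.ext (hfix c.1 c.2)⟩,
    Module.natCard_eq_pow_finrank (K := F), Nat.card_eq_fintype_card (α := F), hF] at hmod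
  have hr : Module.finrank F C ≤ 2 := by
    show Module.finrank F (LinearMap.range (f - 1)) ≤ 2
    omega
  interval_cases hrv : Module.finrank F C
  · refine hne (rho_injective (Equiv.ext fun u => ?_))
    have hC : C = ⊥ := Submodule.finrank_eq_zero.1 hrv
    have h1 : (f - 1) u = 0 := (Submodule.mem_bot F).1 (hC ▸ LinearMap.mem_range_self _ u)
    simpa [hf, sub_eq_zero] using h1
  · exact absurd hmod (by decide)
  · exact absurd hmod (by decide)

/-- Elements of order thirteen are rotations of the datum. -/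
theorem rot {g : Cfsg.SU 3 F 4} (hg : orderOf g = 13) : (datum P).Rot (rho g) := by
  refine ⟨goodC P g, by rw [orderOf_injective rho rho_injective, hg], fun x hx y hy hne v hv => ?_⟩
  obtain ⟨n, rfl⟩ := mem_powers_iff_mem_zpowers.2 hx
  obtain ⟨k, rfl⟩ := mem_powers_iff_mem_zpowers.2 hy
  simp only at hne hv ⊢
  by_cases hk : g ^ k = 1
  · rw [← map_pow, hk, map_one, mul_one] at hne hv
    exact (datum P).lam_fpf _ (pow_mem (Subgroup.mem_zpowers _) n) hne v hv
  have h13 : (g ^ k) ^ 13 = 1 := by rw [← pow_mul, mul_comm, pow_mul, ← hg, pow_orderOf_eq_one, one_pow]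
  rw [Equiv.Perm.mul_apply, ← map_pow, show (datum P).lam = lamPerm P from rfl, lamPerm_pow] at hv
  by_contra hv0
  set h := g ^ k
  set c := P.ω ^ n
  have hc5 : c ^ 5 = 1 := by rw [← pow_mul, mul_comm, pow_mul, P.hω5, one_pow]
  have hpow : ∀ j : ℕ, c ^ j • (rho h ^ j) v = v := by
    intro j
    induction j with
    | zero => simp
    | succ j ih =>
      have hlin : ∀ (d : F) w, rho h (d • w) = d • rho h w := fun d w => Matrix.mulVec_smul _ d w
      rw [pow_succ c, pow_succ' (rho h), Equiv.Perm.mul_apply, mul_comm, mul_smul, ← hlin, ih, hv]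
  have hc1 : c ^ 13 = 1 := by
    have h1 := hpow 13
    rw [← map_pow, h13, map_one] at h1
    exact smul_left_injective F hv0 ((show c ^ 13 • v = v from h1).trans (one_smul F v).symm)
  have hc : c = 1 := by
    have h1 : c ^ 13 = (c ^ 5) ^ 2 * c ^ 3 := by ring
    rw [hc5, one_pow, one_mul, hc1] at h1
    calc c = c ^ 6 / c ^ 5 := by rw [hc5, div_one, show c ^ 6 = (c ^ 5) * c by ring, hc5, one_mul]
      _ = 1 := by rw [show c ^ 6 = (c ^ 3) ^ 2 by ring, ← h1, hc5]; norm_num
  rw [hc, one_smul] at hv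
  exact hv0 (fixed_eq_zero P.card h13 hk hv)

end CfsgLib.PGroup.U34Datum
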