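import Cfsg.Agent.Lib.PGroup.U34Datum

set_option autoImplicit false

/-!
Elements of orders ten and fifteen in the special unitary group of dimension three over sixteen
elements.
-/

namespace CfsgLib.PGroup.U34Elements

open Matrix CfsgLib.PGroup.U34Datum

variable {F : Type*} [Field F] [Fintype F] (hF : Fintype.card F = 16)

lemma herm3 (u v : Fin 3 → F) : Cfsg.hermForm 3 F 4 u v = u 0 * v 0 ^ 4 + u 1 * v 1 ^ 4 + u 2 * v 2 ^ 4 := by
  simp [Cfsg.hermForm, Fin.sum_univ_three]

/-- A unitary element from its matrix. -/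
noncomputable def mk (M : Matrix (Fin 3) (Fin 3) F) (hd : M.det = 1)
    (hp : ∀ u v, Cfsg.hermForm 3 F 4 (M *ᵥ u) (M *ᵥ v) = Cfsg.hermForm 3 F 4 u v) :
    Cfsg.SU 3 F 4 := ⟨⟨M, hd⟩, hp⟩

omit [Fintype F] in
lemma orderOf_mk (M : Matrix (Fin 3) (Fin 3) F) (hd) (hp) : orderOf (mk M hd hp) = orderOf M := by
  refine (orderOf_injective ((Cfsg.slToMat 3 F).comp (Cfsg.SU 3 F 4).subtype) ?_ (mk M hd hp)).symm
  exact fun x y h => Subtype.ext (Subtype.ext h)

omit [Fintype F] in
lemma commute_mk {M N : Matrix (Fin 3) (Fin 3) F} {hd hp hd' hp'} (h : M * N = N * M) :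
    Commute (mk M hd hp) (mk N hd' hp') := Subtype.ext (Subtype.ext h)

include hF

lemma exists_ten_fifteen :
    (∃ x : Cfsg.SU 3 F 4, orderOf x = 5 * 2) ∧ ∃ x : Cfsg.SU 3 F 4, orderOf x = 5 * 3 := by
  have : Fact (Nat.Prime 5) := ⟨Nat.prime_five⟩
  have : Fact (Nat.Prime 3) := ⟨Nat.prime_three⟩
  have : Fact (Nat.Prime 2) := ⟨Nat.prime_two⟩
  have h2 := two0 hF
  obtain ⟨ω, hω5, hω⟩ := exists_omega hF
  obtain ⟨θ, hθ⟩ := exists_theta hF
  set s := θ + θ ^ 4 with hs
  have hs4 : s ^ 4 = s := by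
    rw [hs, add4 hF, ← pow_mul, show 4 * 4 = 16 from rfl, pow16 hF, add_comm]
  set a := θ / s with ha
  have ht : a + a ^ 4 = 1 := by
    rw [ha, div_pow, hs4, ← add_div, ← hs, div_self hθ]
  set b := (1 + a ^ 5) ^ 2 with hb
  have hc : (1 + a ^ 5) ^ 4 = 1 + a ^ 5 := by
    rw [add4 hF, one_pow, ← pow_mul, show 5 * 4 = 16 + 4 from rfl, pow_add, pow16 hF]; ring
  have hn : a ^ 5 + b ^ 5 = 1 := by
    rw [hb, ← pow_mul, show 2 * 5 = 4 + 4 + 2 from rfl, pow_add, pow_add, hc,
      show (1 + a ^ 5) * (1 + a ^ 5) * (1 + a ^ 5) ^ 2 = (1 + a ^ 5) ^ 4 by ring, hc]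
    linear_combination a ^ 5 * h2
  have hb16 := pow16 hF b
  have ha16 := pow16 hF a
  let d : Cfsg.SU 3 F 4 := mk !![ω, 0, 0; 0, ω, 0; 0, 0, ω ^ 3]
    (by simp [det_fin_three]; linear_combination hω5)
    (fun u v => by
      simp [herm3, mulVec, dotProduct, Fin.sum_univ_three, mul_pow]
      linear_combination (u 0 * v 0 ^ 4 + u 1 * v 1 ^ 4 + (ω ^ 10 + ω ^ 5 + 1) * u 2 * v 2 ^ 4) * hω5)
  let t : Cfsg.SU 3 F 4 := mk !![0, 1, 0; 1, 0, 0; 0, 0, 1]
    (by simp [det_fin_three]; linear_combination -h2)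
    (fun u v => by simp [herm3, mulVec, dotProduct, Fin.sum_univ_three]; ring)
  let r : Cfsg.SU 3 F 4 := mk !![a, b, 0; b ^ 4, a ^ 4, 0; 0, 0, 1]
    (by simp [det_fin_three]; linear_combination hn - b ^ 5 * h2)
    (fun u v => by
      simp [herm3, mulVec, dotProduct, Fin.sum_univ_three, mul_pow, add4 hF, ← pow_mul, ha16, hb16]
      linear_combination (u 0 * v 0 ^ 4 + u 1 * v 1 ^ 4) * hn +
        (a * b ^ 4 * u 0 * v 1 ^ 4 + a ^ 4 * b * u 1 * v 0 ^ 4) * h2)
  have hd : orderOf d = 5 := by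
    rw [orderOf_mk]
    refine orderOf_eq_prime ?_ fun h => hω ?_
    · ext i j
      fin_cases i <;> fin_cases j <;>
        simp [pow_succ, Matrix.mul_apply, Fin.sum_univ_three] <;>
        first | linear_combination hω5 | linear_combination (ω ^ 10 + ω ^ 5 + 1) * hω5
    · simpa using congrFun (congrFun h 0) 0
  have ht2 : orderOf t = 2 := by
    rw [orderOf_mk]
    refine orderOf_eq_prime ?_ fun h => ?_
    · ext i j
      fin_cases i <;> fin_cases j <;> simp [pow_succ, Matrix.mul_apply, Fin.sum_univ_three]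
    · simpa using congrFun (congrFun h 0) 1
  have hr : orderOf r = 3 := by
    rw [orderOf_mk]
    refine orderOf_eq_prime ?_ fun h => ?_
    · have hM : (!![a, b, 0; b ^ 4, a ^ 4, 0; 0, 0, 1] : Matrix (Fin 3) (Fin 3) F) *
          !![a, b, 0; b ^ 4, a ^ 4, 0; 0, 0, 1] = !![a ^ 4, b, 0; b ^ 4, a, 0; 0, 0, 1] := by
        ext i j
        fin_cases i <;> fin_cases j <;> simp [Matrix.mul_apply, Fin.sum_univ_three] <;>
          first
            | linear_combination hn + (-a - 1) * ht + a ^ 2 * h2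
            | linear_combination hn + (a ^ 4 - 2 * a + 1) * ht + (a ^ 2 - 2 * a + 1) * h2
            | linear_combination b * ht
            | linear_combination b ^ 4 * ht
      have hM3 : (!![a, b, 0; b ^ 4, a ^ 4, 0; 0, 0, 1] : Matrix (Fin 3) (Fin 3) F) *
          !![a ^ 4, b, 0; b ^ 4, a, 0; 0, 0, 1] = 1 := by
        ext i j
        fin_cases i <;> fin_cases j <;> simp [Matrix.mul_apply, Fin.sum_univ_three] <;>
          first
            | linear_combination hn
            | linear_combination a * b * h2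
            | linear_combination a ^ 4 * b ^ 4 * h2
      rw [pow_succ', pow_two, hM, hM3]
    · have ha1 : a = 1 := by simpa using congrFun (congrFun h 0) 0
      rw [ha1, one_pow, one_add_one_eq_two, h2] at ht
      exact zero_ne_one ht
  have c1 : Commute d t := commute_mk (by
    ext i j
    fin_cases i <;> fin_cases j <;> simp [Matrix.mul_apply, Fin.sum_univ_three])
  have c2 : Commute d r := commute_mk (by
    ext i j
    fin_cases i <;> fin_cases j <;> simp [Matrix.mul_apply, Fin.sum_univ_three, mul_comm])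
  exact ⟨⟨d * t, by rw [c1.orderOf_mul_eq_mul_orderOf_of_coprime (by rw [hd, ht2]; norm_num), hd, ht2]⟩,
    ⟨d * r, by rw [c2.orderOf_mul_eq_mul_orderOf_of_coprime (by rw [hd, hr]; norm_num), hd, hr]⟩⟩

end CfsgLib.PGroup.U34Elements
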