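import Cfsg.Agent.Lib.Classical.SLBasic
import Mathlib

/-!
The upper unitriangular subgroup of `SL_n` over a finite field: generation, normalizer, centralizers of the
radicals of the minimal parabolic subgroups, and the diagonal subgroup.
-/

set_option autoImplicit false
set_option linter.style.haveILetI false

namespace CfsgLib.PGroup.UnitriangularSL

open Matrix

variable {F : Type*} [Field F] {n : ℕ}

/-- `M` vanishes below the `d`-th superdiagonal. -/
def Deep (d : ℕ) (M : Matrix (Fin n) (Fin n) F) : Prop :=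
  ∀ a b : Fin n, (b : ℕ) < (a : ℕ) + d → M a b = 0

theorem Deep.mono {d e : ℕ} (h : e ≤ d) {M : Matrix (Fin n) (Fin n) F} (hM : Deep d M) : Deep e M :=
  fun a b hab => hM a b (by omega)

theorem Deep.add {d : ℕ} {M N : Matrix (Fin n) (Fin n) F} (hM : Deep d M) (hN : Deep d N) : Deep d (M + N) :=
  fun a b hab => by rw [Matrix.add_apply, hM a b hab, hN a b hab, add_zero]

theorem Deep.mul {d e : ℕ} {M N : Matrix (Fin n) (Fin n) F} (hM : Deep d M) (hN : Deep e N) :
    Deep (d + e) (M * N) := fun a b hab => by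
  rw [Matrix.mul_apply]
  refine Finset.sum_eq_zero fun c _ => ?_
  rcases Nat.lt_or_ge (c : ℕ) ((a : ℕ) + d) with h | h
  · rw [hM a c h, zero_mul]
  · rw [hN c b (by omega), mul_zero]

theorem Deep.pow {M : Matrix (Fin n) (Fin n) F} (hM : Deep 1 M) : ∀ m, Deep m (M ^ m)
  | 0 => fun a b hab => by
      rw [pow_zero, Matrix.one_apply_ne]
      intro h
      subst h
      omega
  | m + 1 => by rw [pow_succ]; exact (Deep.pow hM m).mul hM

theorem Deep.eq_zero {d : ℕ} (hd : n ≤ d) {M : Matrix (Fin n) (Fin n) F} (hM : Deep d M) : M = 0 := by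
  ext a b
  exact hM a b (by omega)

theorem mul_single' (M : Matrix (Fin n) (Fin n) F) (i j : Fin n) (c : F) (a b : Fin n) :
    (M * Matrix.single i j c) a b = if b = j then M a i * c else 0 := by
  rcases eq_or_ne b j with rfl | h
  · simp
  · simp [h]

theorem single_mul' (M : Matrix (Fin n) (Fin n) F) (i j : Fin n) (c : F) (a b : Fin n) :
    (Matrix.single i j c * M) a b = if a = i then c * M j b else 0 := by
  rcases eq_or_ne a i with rfl | h
  · simp
  · simp [h]

theorem deep_single {d : ℕ} {i j : Fin n} (h : (i : ℕ) + d ≤ j) (c : F) : Deep d (Matrix.single i j c) := by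
  intro a b hab
  rw [Matrix.single_apply, if_neg]
  rintro ⟨rfl, rfl⟩
  omega

local notation "SLn" => Matrix.SpecialLinearGroup (Fin n) F

theorem mul_sub_one (A B : SLn) :
    ((A * B : SLn) : Matrix (Fin n) (Fin n) F) - 1 =
      ((A : Matrix (Fin n) (Fin n) F) - 1) * ((B : Matrix (Fin n) (Fin n) F) - 1)
        + (((A : Matrix (Fin n) (Fin n) F) - 1) + ((B : Matrix (Fin n) (Fin n) F) - 1)) := by
  rw [Matrix.SpecialLinearGroup.coe_mul]
  noncomm_ring

variable [Fintype F]

variable (F n) in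
/-- The upper unitriangular subgroup. -/
def U : Subgroup SLn :=
  subgroupOfIdempotent {A : SLn | Deep 1 ((A : Matrix (Fin n) (Fin n) F) - 1)}
    ⟨1, fun a b _ => by simp⟩
    (by
      refine Set.Subset.antisymm ?_ fun A hA => ⟨A, hA, 1, fun a b _ => by simp, mul_one A⟩
      rintro _ ⟨A, hA, B, hB, rfl⟩
      show Deep 1 (((A * B : SLn) : Matrix (Fin n) (Fin n) F) - 1)
      rw [mul_sub_one]
      exact ((hA.mul hB).mono (by omega)).add (hA.add hB))

theorem mem_U {A : SLn} : A ∈ U F n ↔ Deep 1 ((A : Matrix (Fin n) (Fin n) F) - 1) := Iff.rfl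

theorem U_entry_mul {A B : SLn} (hA : A ∈ U F n) (hB : B ∈ U F n) {i j : Fin n} (hij : (j : ℕ) = i + 1) :
    (A * B : SLn).1 i j = A.1 i j + B.1 i j := by
  have h := congrArg (fun M : Matrix (Fin n) (Fin n) F => M i j) (mul_sub_one A B)
  have h2 := (hA.mul hB) i j (by omega)
  have hne : i ≠ j := fun e => by subst e; omega
  simp only [Matrix.add_apply, h2, zero_add, Matrix.sub_apply, Matrix.one_apply_ne hne, sub_zero] at h
  exact h

/-- The radical of the `k`-th minimal parabolic subgroup. -/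
def UK (k k' : Fin n) (hk : (k' : ℕ) = k + 1) : Subgroup SLn where
  carrier := {A | A ∈ U F n ∧ A.1 k k' = 0}
  mul_mem' hA hB := ⟨mul_mem hA.1 hB.1, by rw [U_entry_mul hA.1 hB.1 hk, hA.2, hB.2, add_zero]⟩
  one_mem' := ⟨one_mem _, Matrix.one_apply_ne (fun e => by subst e; omega)⟩
  inv_mem' {A} hA := ⟨inv_mem hA.1, by
    have h := U_entry_mul hA.1 (inv_mem hA.1) hk
    rw [mul_inv_cancel, hA.2, zero_add] at h
    rw [← h]
    exact Matrix.one_apply_ne (fun e => by subst e; omega)⟩

theorem mem_UK {k k' : Fin n} {hk : (k' : ℕ) = k + 1} {A : SLn} :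
    A ∈ UK k k' hk ↔ A ∈ U F n ∧ A.1 k k' = 0 := Iff.rfl

theorem UK_conj {k k' : Fin n} {hk : (k' : ℕ) = k + 1} {A B : SLn} (hA : A ∈ U F n) (hB : B ∈ UK k k' hk) :
    A * B * A⁻¹ ∈ UK k k' hk := by
  refine ⟨mul_mem (mul_mem hA hB.1) (inv_mem hA), ?_⟩
  rw [U_entry_mul (mul_mem hA hB.1) (inv_mem hA) hk, U_entry_mul hA hB.1 hk, hB.2, add_zero]
  have h := U_entry_mul hA (inv_mem hA) hk
  rw [mul_inv_cancel] at h
  rw [← h]
  exact Matrix.one_apply_ne (fun e => by subst e; omega)

/-- The root element. -/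
abbrev X {i j : Fin n} (h : i ≠ j) (c : F) : SLn := Matrix.SpecialLinearGroup.transvection h c

theorem X_coe {i j : Fin n} (h : i ≠ j) (c : F) :
    (X h c : SLn).1 = 1 + Matrix.single i j c := Matrix.SpecialLinearGroup.transvection_coe h c

theorem X_mem_U {i j : Fin n} (h : i < j) (c : F) : X h.ne c ∈ U F n := by
  rw [mem_U, X_coe, add_sub_cancel_left]
  exact deep_single (by omega) c

theorem X_mem_UK {k k' : Fin n} {hk : (k' : ℕ) = k + 1} {i j : Fin n} (h : i < j) (hne : i ≠ k ∨ j ≠ k') (c : F) :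
    X h.ne c ∈ UK k k' hk := by
  refine ⟨X_mem_U h c, ?_⟩
  rw [X_coe, Matrix.add_apply, Matrix.one_apply_ne (fun e => by subst e; omega), zero_add, Matrix.single_apply,
    if_neg]
  rintro ⟨rfl, rfl⟩
  tauto

theorem U_isPGroup (p : ℕ) [Fact p.Prime] [CharP F p] : IsPGroup p (U F n) := by
  intro A
  refine ⟨n, Subtype.ext (Subtype.ext ?_)⟩
  rw [Subgroup.coe_pow, Matrix.SpecialLinearGroup.coe_pow]
  show ((A : SLn) : Matrix (Fin n) (Fin n) F) ^ p ^ n = 1
  rcases Nat.eq_zero_or_pos n with hn | hn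
  · subst hn; exact Subsingleton.elim _ _
  haveI : Nonempty (Fin n) := ⟨⟨0, hn⟩⟩
  haveI : CharP (Matrix (Fin n) (Fin n) F) p := inferInstance
  set N := ((A : SLn) : Matrix (Fin n) (Fin n) F) - 1
  rw [show ((A : SLn) : Matrix (Fin n) (Fin n) F) = 1 + N from (add_sub_cancel _ _).symm,
    add_pow_char_pow_of_commute p n (Commute.one_left N), one_pow,
    ((Deep.pow (show Deep 1 N from A.2) (p ^ n)).eq_zero (Nat.lt_pow_self (Fact.out : p.Prime).one_lt).le),
    add_zero]

/-- The root elements above the diagonal generate `U`. -/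
theorem U_le_of_roots (H : Subgroup SLn) (h : ∀ (i j : Fin n) (hij : i < j) (c : F), X hij.ne c ∈ H) :
    U F n ≤ H := by
  suffices ∀ m d : ℕ, n ≤ d + m → 1 ≤ d → ∀ A : SLn, Deep d (A.1 - 1) → A ∈ H from
    fun A hA => this n 1 (by omega) le_rfl A hA
  intro m
  induction m with
  | zero =>
    intro d hd _ A hA
    have : A = 1 := Subtype.ext (sub_eq_zero.1 (hA.eq_zero (by omega)))
    exact this ▸ H.one_mem
  | succ m ih =>
    intro d hd hd1
    classical
    suffices ∀ (s : Finset (Fin n)) (A : SLn), Deep d (A.1 - 1) →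
        (∀ a ∉ s, ∀ b : Fin n, (b : ℕ) = a + d → A.1 a b = 0) → A ∈ H from
      fun A hA => this Finset.univ A hA fun a ha => absurd (Finset.mem_univ a) ha
    intro s
    induction s using Finset.induction_on with
    | empty =>
      intro A hA hA'
      refine ih (d + 1) (by omega) (by omega) A fun a b hab => ?_
      rcases Nat.lt_or_ge (b : ℕ) ((a : ℕ) + d) with hlt | hge
      · exact hA a b hlt
      · have hbe : (b : ℕ) = a + d := by omega
        rw [Matrix.sub_apply, hA' a (Finset.notMem_empty a) b hbe, Matrix.one_apply_ne (fun e => by subst e; omega),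
          sub_zero]
    | insert a₀ s ha₀ ihs =>
      intro A hA hA'
      by_cases hex : (a₀ : ℕ) + d < n
      swap
      · refine ihs A hA fun a ha b hb => ?_
        rcases eq_or_ne a a₀ with rfl | hne
        · omega
        · exact hA' a (by simp [ha, hne]) b hb
      set b₀ : Fin n := ⟨(a₀ : ℕ) + d, hex⟩
      have hlt : a₀ < b₀ := Fin.lt_def.2 (show (a₀ : ℕ) < (a₀ : ℕ) + d by omega)
      set c := A.1 a₀ b₀
      have key : (A * X hlt.ne (-c)).1 - 1 =
          (A.1 - 1) * Matrix.single a₀ b₀ (-c) + ((A.1 - 1) + Matrix.single a₀ b₀ (-c)) := by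
        rw [mul_sub_one, X_coe, add_sub_cancel_left]
      have hA2 : Deep d ((A * X hlt.ne (-c)).1 - 1) := by
        rw [key]
        exact ((hA.mul (deep_single (d := 0) (by omega) _)).mono le_rfl).add (hA.add (deep_single le_rfl _))
      have hmem := ihs (A * X hlt.ne (-c)) hA2 (by
        intro a ha b hb
        have hne : a ≠ b := fun e => by subst e; omega
        have h1 := congrArg (fun M : Matrix (Fin n) (Fin n) F => M a b) key
        simp only [Matrix.add_apply, Matrix.sub_apply, Matrix.one_apply_ne hne, sub_zero] at h1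
        rw [h1, (hA.mul (deep_single (d := d) le_rfl (-c))) a b (by omega), zero_add, Matrix.single_apply]
        rcases eq_or_ne a a₀ with rfl | hne'
        · have : b = b₀ := Fin.ext hb
          subst this
          rw [if_pos ⟨rfl, rfl⟩, add_neg_cancel]
        · rw [if_neg (fun e => hne' e.1.symm), add_zero]
          exact hA' a (by simp [ha, hne']) b hb)
      have := H.mul_mem hmem (H.inv_mem (h a₀ b₀ hlt (-c)))
      rwa [mul_inv_cancel_right] at this

/-- Commuting with a root element. -/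
theorem of_commute_X {A : SLn} {i j : Fin n} (h : i ≠ j) (hc : Commute A (X h (1 : F))) :
    (∀ a, a ≠ i → A.1 a i = 0) ∧ (∀ b, b ≠ j → A.1 j b = 0) ∧ A.1 i i = A.1 j j := by
  have h1 : A.1 * (1 + Matrix.single i j (1 : F)) = (1 + Matrix.single i j (1 : F)) * A.1 := by
    rw [← X_coe h]
    exact congrArg Subtype.val hc.eq
  rw [mul_add, add_mul, mul_one, one_mul, add_right_inj] at h1
  have h2 : ∀ a b, (if b = j then A.1 a i else 0) = (if a = i then A.1 j b else 0) := fun a b => by
    have := congrArg (fun M : Matrix (Fin n) (Fin n) F => M a b) h1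
    simpa [mul_single', single_mul'] using this
  refine ⟨fun a ha => ?_, fun b hb => ?_, ?_⟩
  · have := h2 a j
    rwa [if_pos rfl, if_neg ha] at this
  · have := h2 i b
    rwa [if_neg hb, if_pos rfl, eq_comm] at this
  · have := h2 i j
    rwa [if_pos rfl, if_pos rfl] at this

/-- The conjugate of an element of the normalizer of `U` is upper triangular. -/
theorem upper_of_normalizes {A : SLn} (hA : ∀ u ∈ U F n, A * u * A⁻¹ ∈ U F n) :
    ∀ a b : Fin n, b < a → A.1 a b = 0 := by
  have hinv : A.1 * (A⁻¹ : SLn).1 = 1 := by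
    rw [← Matrix.SpecialLinearGroup.coe_mul, mul_inv_cancel]; rfl
  have hinv' : (A⁻¹ : SLn).1 * A.1 = 1 := by
    rw [← Matrix.SpecialLinearGroup.coe_mul, inv_mul_cancel]; rfl
  have hone : ∀ i j : Fin n, i < j → Deep 1 (A.1 * Matrix.single i j 1 * (A⁻¹ : SLn).1) := fun i j hij => by
    have h := hA _ (X_mem_U hij (1 : F))
    rw [mem_U] at h
    rwa [Matrix.SpecialLinearGroup.coe_mul, Matrix.SpecialLinearGroup.coe_mul, X_coe, mul_add, mul_one, add_mul,
      hinv, add_sub_cancel_left] at h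
  have hdeep : ∀ m : ℕ, ∀ i j : Fin n, (j : ℕ) = i + (m + 1) →
      Deep (m + 1) (A.1 * Matrix.single i j 1 * (A⁻¹ : SLn).1) := by
    intro m
    induction m with
    | zero => intro i j hj; exact hone i j (Fin.lt_def.2 (by omega))
    | succ m ih =>
      intro i j hj
      set l : Fin n := ⟨(i : ℕ) + (m + 1), by omega⟩
      have := (ih i l rfl).mul (hone l j (Fin.lt_def.2 (show (i : ℕ) + (m + 1) < j by omega)))
      rwa [show A.1 * Matrix.single i l 1 * (A⁻¹ : SLn).1 * (A.1 * Matrix.single l j 1 * (A⁻¹ : SLn).1) =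
        A.1 * (Matrix.single i l 1 * ((A⁻¹ : SLn).1 * A.1) * Matrix.single l j 1) * (A⁻¹ : SLn).1 by
          noncomm_ring, hinv', mul_one, Matrix.single_mul_single_same, mul_one] at this
  intro a i hia
  set L : Fin n := ⟨n - 1, by omega⟩
  have hiL : i < L := Fin.lt_def.2 (show (i : ℕ) < n - 1 by omega)
  obtain ⟨b, hb⟩ : ∃ b, (A⁻¹ : SLn).1 L b ≠ 0 := by
    by_contra hall
    push Not at hall
    have := congrArg (fun M : Matrix (Fin n) (Fin n) F => M L L) hinv'
    rw [Matrix.mul_apply, Finset.sum_eq_zero (fun c _ => by rw [hall c, zero_mul]), Matrix.one_apply_eq] at this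
    exact zero_ne_one this
  have h := hdeep (n - 2 - i) i L (show n - 1 = _ by omega) a b (by omega)
  rw [Matrix.mul_apply, Finset.sum_eq_single L] at h
  · rw [mul_single', if_pos rfl, mul_one] at h
    exact (mul_eq_zero.1 h).resolve_right hb
  · intro c _ hc
    rw [mul_single', if_neg hc, zero_mul]
  · simp

theorem X_inv {i j : Fin n} (h : i ≠ j) (c : F) : (X h c : SLn)⁻¹ = X h (-c) :=
  Matrix.SpecialLinearGroup.transvection_inv h c

/-- Entries of a lower root conjugate. -/
theorem conj_lower_entry {k k' : Fin n} (hne : k' ≠ k) (t : F) {u : SLn} (hk : u.1 k k = 1) (hk' : u.1 k' k' = 1)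
    (a b : Fin n) :
    (X hne t * u * (X hne t)⁻¹).1 a b - (1 : Matrix (Fin n) (Fin n) F) a b =
      (u.1 a b - (1 : Matrix (Fin n) (Fin n) F) a b)
      + (if a = k' then t * (u.1 k b - (1 : Matrix (Fin n) (Fin n) F) k b) else 0)
      - (if b = k then (u.1 a k' - (1 : Matrix (Fin n) (Fin n) F) a k') * t else 0)
      - (if a = k' ∧ b = k then t * u.1 k k' * t else 0) := by
  have hsq : Matrix.single k' k t * Matrix.single k' k (-t) = 0 :=
    Matrix.single_mul_single_of_ne _ _ _ _ hne.symm _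
  have h : (X hne t * u * (X hne t)⁻¹).1 - 1 = (u.1 - 1) + Matrix.single k' k t * (u.1 - 1)
      + (u.1 - 1) * Matrix.single k' k (-t) + Matrix.single k' k t * (u.1 - 1) * Matrix.single k' k (-t) := by
    rw [X_inv, Matrix.SpecialLinearGroup.coe_mul, Matrix.SpecialLinearGroup.coe_mul, X_coe, X_coe]
    have hneg : Matrix.single k' k (-t) = -Matrix.single k' k t := (Matrix.single_neg _ _ _).symm
    rw [hneg] at hsq ⊢
    have hsq' : Matrix.single k' k t * Matrix.single k' k t = 0 := by simpa using hsq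
    noncomm_ring [hsq']
  have h1 := congrArg (fun M : Matrix (Fin n) (Fin n) F => M a b) h
  simp only [Matrix.sub_apply, Matrix.add_apply, single_mul', mul_single'] at h1
  rw [h1]
  by_cases ha : a = k' <;> by_cases hb : b = k <;>
    simp [ha, hb, Matrix.one_apply_ne hne.symm, hk, hk'] <;> ring

theorem U_diag {u : SLn} (hu : u ∈ U F n) (a : Fin n) : u.1 a a = 1 :=
  sub_eq_zero.1 (by simpa using hu a a (by omega))

theorem U_below {u : SLn} (hu : u ∈ U F n) {a b : Fin n} (h : b < a) : u.1 a b = 0 := by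
  simpa [Matrix.one_apply_ne h.ne'] using hu a b (by omega)

/-- The lower root subgroup normalizes the radical. -/
theorem UK_conj_lower {k k' : Fin n} {hk : (k' : ℕ) = k + 1} (hne : k' ≠ k) (t : F) {u : SLn}
    (hu : u ∈ UK k k' hk) : X hne t * u * (X hne t)⁻¹ ∈ UK k k' hk := by
  have hne' : k < k' := Fin.lt_def.2 (by omega)
  refine ⟨fun a b hab => ?_, ?_⟩
  · rw [Matrix.sub_apply, conj_lower_entry hne t (U_diag hu.1 k) (U_diag hu.1 k'), hu.2]
    have e0 : u.1 a b - (1 : Matrix (Fin n) (Fin n) F) a b = 0 := hu.1 a b hab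
    rw [e0, zero_add]
    have e1 : a = k' → u.1 k b - (1 : Matrix (Fin n) (Fin n) F) k b = 0 := by
      rintro rfl
      rcases eq_or_ne b a with rfl | hb
      · rw [hu.2, Matrix.one_apply_ne hne.symm, sub_zero]
      · exact hu.1 k b (by have := Fin.val_ne_of_ne hb; omega)
    have e2 : b = k → u.1 a k' - (1 : Matrix (Fin n) (Fin n) F) a k' = 0 := by
      rintro rfl
      rcases eq_or_ne a b with rfl | ha
      · rw [hu.2, Matrix.one_apply_ne hne.symm, sub_zero]
      · exact hu.1 a k' (by have := Fin.val_ne_of_ne ha; omega)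
    by_cases ha : a = k' <;> by_cases hb : b = k <;> simp [ha, hb, e1, e2] <;>
      simp_all
  · have h := conj_lower_entry hne t (U_diag hu.1 k) (U_diag hu.1 k') k k'
    rw [Matrix.one_apply_ne hne.symm, sub_zero, hu.2, if_neg hne.symm, if_neg hne, if_neg (fun e => hne.symm e.1)] at h
    simpa using h

theorem UK_of_conj_lower {k k' : Fin n} {hk : (k' : ℕ) = k + 1} (hne : k' ≠ k) {u : SLn} (hu : u ∈ U F n)
    (h : (X hne (1 : F))⁻¹ * u * X hne (1 : F) ∈ U F n) : u ∈ UK k k' hk := by
  refine ⟨hu, ?_⟩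
  have e := conj_lower_entry hne (-1 : F) (U_diag hu k) (U_diag hu k') k' k
  rw [← X_inv, inv_inv] at e
  rw [U_below h (Fin.lt_def.2 (by omega)), Matrix.one_apply_ne hne, U_below hu (Fin.lt_def.2 (by omega : (k : ℕ) < k'))] at e
  simp [U_diag hu k, U_diag hu k'] at e
  exact e

/-- What commutes with the radical. -/
theorem commute_UK (hn : 3 ≤ n) {k k' : Fin n} {hk : (k' : ℕ) = k + 1} {A : SLn}
    (hA : ∀ u ∈ UK k k' hk, Commute A u) :
    ∃ z ∈ Subgroup.center SLn, ∃ u ∈ UK k k' hk, A = z * u := by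
  set o : Fin n := ⟨0, by omega⟩
  set L : Fin n := ⟨n - 1, by omega⟩
  have key : ∀ i j : Fin n, i < j → (i ≠ k ∨ j ≠ k') →
      (∀ a, a ≠ i → A.1 a i = 0) ∧ (∀ b, b ≠ j → A.1 j b = 0) ∧ A.1 i i = A.1 j j :=
    fun i j hij hne => of_commute_X hij.ne (hA _ (X_mem_UK hij hne 1))
  have hoff : ∀ a b : Fin n, a ≠ b → A.1 a b ≠ 0 →
      ((b : ℕ) = n - 1 ∨ b = k ∧ (k' : ℕ) = n - 1) ∧ ((a : ℕ) = 0 ∨ a = k' ∧ (k : ℕ) = 0) := by
    intro a b hab hne0
    constructor
    · by_contra hc
      push Not at hc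
      have hbL : b < L := Fin.lt_def.2 (show (b : ℕ) < n - 1 by have := b.2; omega)
      refine hne0 ((key b L hbL ?_).1 a hab)
      by_contra hh
      push Not at hh
      exact hc.2 hh.1 (congrArg Fin.val hh.2).symm
    · by_contra hc
      push Not at hc
      have hao : o < a := Fin.lt_def.2 (show 0 < (a : ℕ) by omega)
      refine hne0 ((key o a hao ?_).2.1 b (Ne.symm hab))
      by_contra hh
      push Not at hh
      exact hc.2 hh.2 (congrArg Fin.val hh.1).symm
  have hdiag : ∀ a : Fin n, A.1 a a = A.1 o o := by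
    intro a
    rcases eq_or_ne a o with rfl | hao
    · rfl
    have hlt : o < a := Fin.lt_def.2 (show 0 < (a : ℕ) from Nat.pos_of_ne_zero fun e => hao (Fin.ext e))
    by_cases hex : o = k ∧ a = k'
    · obtain ⟨h1, h2⟩ := hex
      have hv1 : (o : ℕ) = k := congrArg Fin.val h1
      have hv2 : (a : ℕ) = k' := congrArg Fin.val h2
      have hv3 : (o : ℕ) = 0 := rfl
      have hv4 : (L : ℕ) = n - 1 := rfl
      have hoL : o < L := Fin.lt_def.2 (show 0 < n - 1 by omega)
      have haL : a < L := Fin.lt_def.2 (by omega)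
      rw [(key o L hoL (Or.inr fun e => by have := congrArg Fin.val e; omega)).2.2,
        (key a L haL (Or.inl fun e => by have := congrArg Fin.val e; omega)).2.2]
    · exact (key o a hlt (by tauto)).2.2.symm
  have hup : ∀ a b : Fin n, b < a → A.1 a b = 0 := fun a b hba => by
    by_contra hne
    have := hoff a b hba.ne' hne
    rcases this with ⟨h1 | ⟨rfl, h1⟩, h2 | ⟨rfl, h2⟩⟩ <;> omega
  have hkk : A.1 k k' = 0 := by
    by_contra hne
    have := hoff k k' (fun e => by subst e; omega) hne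
    rcases this with ⟨h1 | ⟨h0, h1⟩, h2 | ⟨h0', h2⟩⟩ <;>
      first
      | omega
      | (have := congrArg Fin.val h0; omega)
      | (have := congrArg Fin.val h0'; omega)
  set r := A.1 o o
  have hdet : r ^ n = 1 := by
    have h := A.2
    rw [Matrix.det_of_upperTriangular (fun a b hab => hup a b hab)] at h
    simpa [hdiag] using h
  have hr0 : r ≠ 0 := fun h0 => by rw [h0, zero_pow (by omega)] at hdet; exact zero_ne_one hdet
  have hdetr : (Matrix.scalar (Fin n) r).det = 1 := by simpa using hdet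
  let z : SLn := ⟨Matrix.scalar (Fin n) r, hdetr⟩
  have hz : z ∈ Subgroup.center SLn :=
    Matrix.SpecialLinearGroup.mem_center_iff.2 ⟨r, by simpa using hdet, rfl⟩
  have hdetu : (r⁻¹ • A.1).det = 1 := by rw [Matrix.det_smul, A.2, mul_one, Fintype.card_fin, inv_pow, hdet, inv_one]
  refine ⟨z, hz, ⟨r⁻¹ • A.1, hdetu⟩, ⟨fun a b hab => ?_, ?_⟩, ?_⟩
  · show r⁻¹ * A.1 a b - (1 : Matrix (Fin n) (Fin n) F) a b = 0
    rcases eq_or_ne a b with rfl | hne
    · rw [hdiag, inv_mul_cancel₀ hr0, Matrix.one_apply_eq, sub_self]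
    · rw [hup a b (Fin.lt_def.2 (by have := Fin.val_ne_of_ne hne; omega)), mul_zero, Matrix.one_apply_ne hne, sub_zero]
  · show r⁻¹ * A.1 k k' = 0
    rw [hkk, mul_zero]
  · refine Subtype.ext ?_
    show A.1 = Matrix.scalar (Fin n) r * (r⁻¹ • A.1)
    rw [Matrix.scalar_apply, ← Matrix.smul_one_eq_diagonal, smul_mul_assoc, one_mul, smul_smul, mul_inv_cancel₀ hr0,
      one_smul]

/-- The centre of `U`. -/
theorem commute_U {A : SLn} (hAU : A ∈ U F n) (hA : ∀ u ∈ U F n, Commute A u) {o L : Fin n} (ho : (o : ℕ) = 0)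
    (hL : (L : ℕ) + 1 = n) (hoL : o < L) : A = X hoL.ne (A.1 o L) := by
  refine Subtype.ext (Matrix.ext fun a b => ?_)
  rw [X_coe, Matrix.add_apply, Matrix.single_apply]
  rcases eq_or_ne a b with rfl | hab
  · rw [U_diag hAU, Matrix.one_apply_eq, if_neg (fun e => hoL.ne (e.1.trans e.2.symm)), add_zero]
  rw [Matrix.one_apply_ne hab, zero_add]
  split_ifs with h
  · rw [h.1, h.2]
  rcases eq_or_ne b L with rfl | hb
  · have hao : o < a := Fin.lt_def.2 (by
      have : (a : ℕ) ≠ o := fun e => h ⟨(Fin.ext e).symm, rfl⟩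
      omega)
    exact (of_commute_X hao.ne (hA _ (X_mem_U hao 1))).2.1 b hab.symm
  · have hbL : b < L := Fin.lt_def.2 (by have := Fin.val_ne_of_ne hb; omega)
    exact (of_commute_X hbL.ne (hA _ (X_mem_U hbL 1))).1 a hab

theorem diag_prod {d : Fin n → Fˣ} (hd : ∏ a, d a = 1) : (Matrix.diagonal fun a => (d a : F)).det = 1 := by
  rw [Matrix.det_diagonal, ← Units.coe_prod, hd, Units.val_one]

/-- The diagonal element of `SL_n` with given entries. -/
def D (d : Fin n → Fˣ) (hd : ∏ a, d a = 1) : SLn := ⟨Matrix.diagonal fun a => (d a : F), diag_prod hd⟩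

/-- The torus is generated by the neighbouring tori. -/
theorem D_mem (H : Subgroup SLn)
    (h : ∀ (k k' : Fin n) (_ : (k' : ℕ) = k + 1) (hne : k ≠ k') (c : F) (hc : c ≠ 0),
      Matrix.SpecialLinearGroup.diag2n hne c hc ∈ H) :
    ∀ (d : Fin n → Fˣ) (hd : ∏ a, d a = 1), D d hd ∈ H := by
  suffices ∀ (m : ℕ) (d : Fin n → Fˣ) (hd : ∏ a, d a = 1), (∀ a : Fin n, m ≤ a → d a = 1) → D d hd ∈ H from
    fun d hd => this n d hd fun a ha => absurd a.2 (by omega)
  intro m
  induction m with
  | zero =>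
    intro d hd h0
    have : D d hd = 1 := Subtype.ext (by
      show Matrix.diagonal (fun a => (d a : F)) = 1
      simp [fun a => h0 a (Nat.zero_le _)])
    exact this ▸ H.one_mem
  | succ m ih =>
    intro d hd h0
    by_cases hm : m < n
    swap
    · exact ih d hd fun a ha => absurd a.2 (by omega)
    set b : Fin n := ⟨m, hm⟩
    rcases Nat.eq_zero_or_pos m with rfl | hm0
    · refine ih d hd fun a _ => ?_
      rcases eq_or_ne a b with rfl | hab
      · rwa [Finset.prod_eq_single b (fun c _ hc => h0 c (by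
          have : (c : ℕ) ≠ 0 := fun e => hc (Fin.ext e)
          omega)) (by simp)] at hd
      · exact h0 a (by have : (a : ℕ) ≠ 0 := fun e => hab (Fin.ext e); omega)
    set a : Fin n := ⟨m - 1, by omega⟩
    have hab : a ≠ b := fun e => by have := congrArg Fin.val e; simp [a, b] at this; omega
    set e : Fin n → Fˣ := fun c => if c = a then d b else if c = b then (d b)⁻¹ else 1
    have he : ∏ c, e c = 1 := by
      rw [← Finset.mul_prod_erase _ _ (Finset.mem_univ a),
        ← Finset.mul_prod_erase _ _ (Finset.mem_erase.2 ⟨hab.symm, Finset.mem_univ b⟩)]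
      rw [Finset.prod_eq_one fun c hc => by
        simp only [Finset.mem_erase] at hc
        simp [e, hc.1, hc.2.1]]
      simp [e, hab.symm]
    have hde : ∏ c, d c * e c = 1 := by rw [Finset.prod_mul_distrib, hd, he, one_mul]
    have hrec := ih (fun c => d c * e c) hde fun c hc => by
      have hca : c ≠ a := fun ee => by subst ee; simp [a] at hc; omega
      rcases eq_or_ne c b with rfl | hcb
      · simp [e, hab.symm]
      · have : (c : ℕ) ≠ m := fun ee => hcb (Fin.ext ee)
        simp [e, hca, hcb, h0 c (by omega)]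
    have heq : D (fun c => d c * e c) hde = D d hd * Matrix.SpecialLinearGroup.diag2n hab (d b : F) (Units.ne_zero _) := by
      refine Subtype.ext ?_
      show Matrix.diagonal _ = Matrix.diagonal _ * Matrix.diagonal _
      rw [Matrix.diagonal_mul_diagonal]
      congr 1
      funext c
      simp only [e, Units.val_mul]
      split_ifs <;> simp
    rw [heq] at hrec
    exact (H.mul_mem_cancel_right (h a b (show m = m - 1 + 1 by omega) hab _ _)).1 hrec

theorem upper_eq {A : SLn} (hA : ∀ a b : Fin n, b < a → A.1 a b = 0) :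
    ∃ (d : Fin n → Fˣ) (hd : ∏ a, d a = 1), ∃ u ∈ U F n, A = D d hd * u := by
  have hdet : ∏ a, A.1 a a = 1 := by
    rw [← Matrix.det_of_upperTriangular (fun a b hab => hA a b hab)]
    exact A.2
  have h0 : ∀ a, A.1 a a ≠ 0 := fun a h => by
    have := Finset.prod_eq_zero (f := fun a => A.1 a a) (Finset.mem_univ a) h
    exact zero_ne_one (this.symm.trans hdet)
  set d : Fin n → Fˣ := fun a => Units.mk0 _ (h0 a)
  have hd : ∏ a, d a = 1 := Units.ext (by rw [Units.coe_prod]; exact hdet)
  refine ⟨d, hd, (D d hd)⁻¹ * A, ?_, (mul_inv_cancel_left _ _).symm⟩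
  intro a b hab
  have h1 : ((D d hd).1 * ((D d hd)⁻¹ * A : SLn).1) a b = A.1 a b := by
    rw [← Matrix.SpecialLinearGroup.coe_mul, mul_inv_cancel_left]
  rw [show (D d hd).1 = Matrix.diagonal (fun c => (d c : F)) from rfl, Matrix.diagonal_mul] at h1
  rcases eq_or_ne a b with rfl | hne
  · rw [Matrix.sub_apply, Matrix.one_apply_eq, sub_eq_zero]
    exact mul_left_cancel₀ (h0 a) (h1.trans (mul_one _).symm)
  · rw [Matrix.sub_apply, Matrix.one_apply_ne hne, sub_zero]
    rw [hA a b (Fin.lt_def.2 (by have := Fin.val_ne_of_ne hne; omega))] at h1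
    exact (mul_eq_zero.1 h1).resolve_left (d a).ne_zero

/-- The diagonal elements scale the root elements. -/
theorem D_conj_X (d : Fin n → Fˣ) (hd : ∏ a, d a = 1) {i j : Fin n} (h : i ≠ j) (c : F) :
    D d hd * X h c * (D d hd)⁻¹ = X h ((d i : F) * c * ((d j)⁻¹ : Fˣ)) := by
  rw [mul_inv_eq_iff_eq_mul]
  refine Subtype.ext (Matrix.ext fun a b => ?_)
  rw [Matrix.SpecialLinearGroup.coe_mul, Matrix.SpecialLinearGroup.coe_mul, X_coe, X_coe]
  rw [show (D d hd).1 = Matrix.diagonal (fun a => (d a : F)) from rfl]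
  rw [Matrix.diagonal_mul, Matrix.mul_diagonal, Matrix.add_apply, Matrix.add_apply, Matrix.single_apply,
    Matrix.single_apply]
  by_cases hij : i = a ∧ j = b
  · obtain ⟨rfl, rfl⟩ := hij
    simp [h, mul_assoc]
  · rw [if_neg hij, if_neg hij]
    rcases eq_or_ne a b with rfl | hab
    · simp [mul_comm]
    · simp [hab]

theorem move_row {a i j : Fin n} (hai : a ≠ i) (haj : a ≠ j) (hij : i ≠ j) (c : F) :
    ∃ g : SLn, g * X haj c * g⁻¹ = X hij c := by
  refine ⟨X hai.symm (1 : F) * X hai (-1) * X hai.symm 1, ?_⟩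
  rw [mul_inv_eq_iff_eq_mul]
  refine Subtype.ext ?_
  simp only [Matrix.SpecialLinearGroup.coe_mul, X_coe, mul_add, add_mul, one_mul, mul_one,
    Matrix.single_mul_single_same, Matrix.single_mul_single_of_ne _ _ _ _ hai,
    Matrix.single_mul_single_of_ne _ _ _ _ hai.symm, Matrix.single_mul_single_of_ne _ _ _ _ haj.symm,
    Matrix.single_mul_single_of_ne _ _ _ _ hij.symm, mul_neg, neg_mul, ← Matrix.single_neg, one_mul, mul_one,
    add_zero, zero_add, mul_zero, zero_mul, neg_zero]
  abel

theorem move_col {i b j : Fin n} (hib : i ≠ b) (hbj : b ≠ j) (hij : i ≠ j) (c : F) :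
    ∃ g : SLn, g * X hib c * g⁻¹ = X hij c := by
  refine ⟨X hbj (-1 : F) * X hbj.symm 1 * X hbj (-1), ?_⟩
  rw [mul_inv_eq_iff_eq_mul]
  refine Subtype.ext ?_
  simp only [Matrix.SpecialLinearGroup.coe_mul, X_coe, mul_add, add_mul, one_mul, mul_one,
    Matrix.single_mul_single_same, Matrix.single_mul_single_of_ne _ _ _ _ hbj,
    Matrix.single_mul_single_of_ne _ _ _ _ hbj.symm, Matrix.single_mul_single_of_ne _ _ _ _ hib.symm,
    Matrix.single_mul_single_of_ne _ _ _ _ hij.symm, mul_neg, neg_mul, ← Matrix.single_neg, one_mul, mul_one,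
    add_zero, zero_add, mul_zero, zero_mul, neg_zero, neg_neg]
  abel

theorem diag2n_mem (H : Subgroup SLn) {k k' : Fin n} (hne : k ≠ k')
    (h1 : ∀ c : F, X hne c ∈ H) (h2 : ∀ c : F, X hne.symm c ∈ H) (c : F) (hc : c ≠ 0) :
    Matrix.SpecialLinearGroup.diag2n hne c hc ∈ H := by
  rw [← CfsgLib.Classical.slEmbed_diag2 hne hc, Matrix.diag2_decompose c hc]
  simp only [map_mul, CfsgLib.Classical.slEmbed_transvection hne]
  refine mul_mem (mul_mem (mul_mem (mul_mem (mul_mem ?_ ?_) ?_) ?_) ?_) ?_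
  all_goals first | exact h1 _ | exact h2 _

end CfsgLib.PGroup.UnitriangularSL
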